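import Mathlib.GroupTheory.Sylow
import Mathlib.GroupTheory.Nilpotent
import Mathlib.GroupTheory.Solvable
import Mathlib.GroupTheory.IsSubnormal
import Mathlib.GroupTheory.QuotientGroup.Finite
import Mathlib.GroupTheory.GroupAction.ConjAct
import Cfsg.Prelude.Def_Solvable
import Cfsg.Prelude.Def_OddOrderLocal

/-!
Basic glue for finite groups: pointwise conjugation, orders of joins, the p-core, the p'-core,
the π-core and the Fitting subgroup.
-/

set_option autoImplicit false
set_option linter.style.haveILetI false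

open scoped Pointwise

namespace CfsgLib.Solv

variable {G : Type*} [Group G] {G' : Type*} [Group G']

/-! ### Conjugation and normalizers -/

theorem conj_smul_eq_map (g : G) (H : Subgroup G) :
    MulAut.conj g • H = H.map (MulAut.conj g).toMonoidHom := rfl

theorem mem_map_conj_iff {g x : G} {H : Subgroup G} :
    x ∈ H.map (MulAut.conj g).toMonoidHom ↔ g⁻¹ * x * g ∈ H := by
  rw [Subgroup.mem_map_equiv]
  simp [MulAut.conj_symm_apply]

theorem mem_conj_smul_iff {g x : G} {H : Subgroup G} :
    x ∈ MulAut.conj g • H ↔ g⁻¹ * x * g ∈ H :=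
  mem_map_conj_iff

theorem card_conj_smul (g : G) (H : Subgroup G) :
    Nat.card (MulAut.conj g • H : Subgroup G) = Nat.card H :=
  (Nat.card_congr (Subgroup.equivSMul (MulAut.conj g) H).toEquiv).symm

theorem index_conj_smul (g : G) (H : Subgroup G) :
    (MulAut.conj g • H : Subgroup G).index = H.index :=
  Subgroup.index_map_equiv (H := H) (MulAut.conj g)

theorem le_normalizer_iff_forall_conj_mem {A K : Subgroup G} :
    A ≤ Subgroup.normalizer (K : Set G) ↔ ∀ a ∈ A, ∀ k ∈ K, a * k * a⁻¹ ∈ K := by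
  refine ⟨fun h a ha k hk => (Subgroup.mem_normalizer_iff.1 (h ha) k).1 hk, fun h a ha => ?_⟩
  refine Subgroup.mem_normalizer_iff.2 fun k => ⟨h a ha k, fun hk => ?_⟩
  simpa [mul_assoc] using h a⁻¹ (inv_mem ha) _ hk

theorem conj_smul_eq_self_of_mem_normalizer {g : G} {H : Subgroup G}
    (hg : g ∈ Subgroup.normalizer (H : Set G)) : MulAut.conj g • H = H := by
  ext x
  rw [mem_conj_smul_iff]
  simpa using Subgroup.mem_normalizer_iff''.1 hg x |>.symm

theorem mem_normalizer_of_conj_smul_eq {g : G} {H : Subgroup G}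
    (hg : MulAut.conj g • H = H) : g ∈ Subgroup.normalizer (H : Set G) := by
  refine Subgroup.mem_normalizer_iff''.2 fun x => ?_
  rw [← mem_conj_smul_iff, hg]

theorem normal_of_forall_conj_smul_eq {H : Subgroup G} (h : ∀ g : G, MulAut.conj g • H = H) :
    H.Normal :=
  Subgroup.normalizer_eq_top_iff.1 (eq_top_iff.2 fun g _ => mem_normalizer_of_conj_smul_eq (h g))

/-- The image in `G` of a characteristic subgroup of a normal subgroup is normal. -/
theorem normal_map_subtype_of_characteristic {N : Subgroup G} [N.Normal] (K : Subgroup N)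
    [K.Characteristic] : (K.map N.subtype).Normal :=
  inferInstance

/-! ### Orders -/

theorem card_sup_mul_card_inf (H N : Subgroup G) [N.Normal] :
    Nat.card (H ⊔ N : Subgroup G) * Nat.card (H ⊓ N : Subgroup G) = Nat.card H * Nat.card N := by
  rw [← Subgroup.relIndex_bot_left, ← Subgroup.relIndex_bot_left, ← Subgroup.relIndex_bot_left,
    ← Subgroup.relIndex_bot_left,
    ← Subgroup.relIndex_mul_relIndex ⊥ N (H ⊔ N) bot_le le_sup_right,
    ← Subgroup.relIndex_mul_relIndex ⊥ (H ⊓ N) H bot_le inf_le_left,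
    Subgroup.relIndex_sup_right, Subgroup.inf_relIndex_left]
  ring

theorem card_sup_dvd_mul (H N : Subgroup G) [N.Normal] :
    Nat.card (H ⊔ N : Subgroup G) ∣ Nat.card H * Nat.card N :=
  Dvd.intro _ (card_sup_mul_card_inf H N)

theorem card_map_mk' (N : Subgroup G) [N.Normal] (H : Subgroup G) :
    Nat.card (H.map (QuotientGroup.mk' N)) * Nat.card (H ⊓ N : Subgroup G) = Nat.card H := by
  rw [← Subgroup.relIndex_ker, QuotientGroup.ker_mk', ← Subgroup.inf_relIndex_left,
    ← Subgroup.relIndex_bot_left, ← Subgroup.relIndex_bot_left, mul_comm,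
    Subgroup.relIndex_mul_relIndex ⊥ (H ⊓ N) H bot_le inf_le_left]

theorem card_quotient_lt [Finite G] {N : Subgroup G} [N.Normal] (hN : N ≠ ⊥) :
    Nat.card (G ⧸ N) < Nat.card G := by
  have h1 : 1 < Nat.card N := N.one_lt_card_iff_ne_bot.2 hN
  rw [N.card_eq_card_quotient_mul_card_subgroup]
  exact lt_mul_of_one_lt_right Nat.card_pos h1

theorem card_lt_of_ne_top [Finite G] {H : Subgroup G} (hH : H ≠ ⊤) :
    Nat.card H < Nat.card G :=
  lt_of_le_of_ne (Nat.le_of_dvd Nat.card_pos H.card_subgroup_dvd_card)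
    fun h => hH (H.eq_top_of_card_eq h)

theorem card_map_subtype (N : Subgroup G) (K : Subgroup N) :
    Nat.card (K.map N.subtype) = Nat.card K :=
  Subgroup.card_map_of_injective N.subtype_injective

theorem card_subgroupOf {H K : Subgroup G} (h : H ≤ K) :
    Nat.card (H.subgroupOf K) = Nat.card H :=
  Nat.card_congr (Subgroup.subgroupOfEquivOfLe h).toEquiv

theorem relIndex_mul_card {H K : Subgroup G} (h : H ≤ K) :
    Nat.card H * H.relIndex K = Nat.card K := by
  rw [← Subgroup.relIndex_bot_left, ← Subgroup.relIndex_bot_left,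
    Subgroup.relIndex_mul_relIndex ⊥ H K bot_le h]

/-! ### The largest normal subgroup with a property closed under joins -/

theorem normal_and_prop_sSup [Finite G] (P : Subgroup G → Prop) (hbot : P ⊥)
    (hsup : ∀ M N : Subgroup G, M.Normal → N.Normal → P M → P N → P (M ⊔ N)) :
    (sSup {N : Subgroup G | N.Normal ∧ P N}).Normal ∧ P (sSup {N : Subgroup G | N.Normal ∧ P N}) := by
  obtain ⟨M, hM⟩ := (Set.toFinite {N : Subgroup G | N.Normal ∧ P N}).exists_maximal
    ⟨⊥, inferInstance, hbot⟩
  obtain ⟨hMn, hMP⟩ := hM.1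
  have : sSup {N : Subgroup G | N.Normal ∧ P N} = M := by
    refine le_antisymm (sSup_le fun N hN => ?_) (le_sSup ⟨hMn, hMP⟩)
    haveI := hMn
    haveI := hN.1
    exact le_sup_right.trans (hM.2 (show (M ⊔ N).Normal ∧ P (M ⊔ N) from
      ⟨inferInstance, hsup M N hMn hN.1 hMP hN.2⟩) le_sup_left)
  rw [this]
  exact ⟨hMn, hMP⟩

/-! ### Sets of primes -/

/-- Every prime divisor of `n` lies in `π`. -/
def PiNat (π : Set ℕ) (n : ℕ) : Prop := ∀ p : ℕ, p.Prime → p ∣ n → p ∈ π

theorem PiNat.one (π : Set ℕ) : PiNat π 1 :=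
  fun _ hp h => absurd (Nat.le_of_dvd one_pos h) (not_le.2 hp.one_lt)

theorem PiNat.mul {π : Set ℕ} {m n : ℕ} (hm : PiNat π m) (hn : PiNat π n) : PiNat π (m * n) :=
  fun p hp h => ((Nat.Prime.dvd_mul hp).1 h).elim (hm p hp) (hn p hp)

theorem PiNat.of_dvd {π : Set ℕ} {m n : ℕ} (hn : PiNat π n) (h : m ∣ n) : PiNat π m :=
  fun p hp hpm => hn p hp (hpm.trans h)

theorem PiNat.mono {π ρ : Set ℕ} {n : ℕ} (hn : PiNat π n) (h : π ⊆ ρ) : PiNat ρ n :=
  fun p hp hpn => h (hn p hp hpn)

theorem PiNat.coprime {π : Set ℕ} {m n : ℕ} (hm : PiNat π m) (hn : PiNat πᶜ n) :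
    m.Coprime n :=
  Nat.coprime_of_dvd fun p hp hpm hpn => hn p hp hpn (hm p hp hpm)

theorem PiNat.of_isPGroup [Finite G] {π : Set ℕ} {p : ℕ} [hp : Fact p.Prime] {P : Subgroup G}
    (hP : IsPGroup p P) (hpπ : p ∈ π) : PiNat π (Nat.card P) := by
  obtain ⟨n, hn⟩ := IsPGroup.iff_card.1 hP
  intro q hq h
  rw [hn] at h
  rwa [(Nat.prime_dvd_prime_iff_eq hq hp.1).1 (hq.dvd_of_dvd_pow h)]

/-! ### The π-core -/

variable (π : Set ℕ) (p : ℕ)

theorem piNat_card_piCore [Finite G] : PiNat π (Nat.card (Cfsg.piCore π G)) :=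
  (normal_and_prop_sSup (fun N : Subgroup G => PiNat π (Nat.card N))
    (by rw [Subgroup.card_bot]; exact PiNat.one π)
    fun M N _ hN hM' hN' => haveI := hN; (hM'.mul hN').of_dvd (card_sup_dvd_mul M N)).2

variable {π p}

theorem le_piCore {N : Subgroup G} [hN : N.Normal] (h : PiNat π (Nat.card N)) :
    N ≤ Cfsg.piCore π G :=
  le_sSup ⟨hN, h⟩

theorem map_sSup_normal_le {f : G →* G'} (hf : Function.Surjective f) {P : Subgroup G → Prop}
    {Q : Subgroup G' → Prop} (h : ∀ N : Subgroup G, N.Normal → P N → Q (N.map f)) :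
    (sSup {N : Subgroup G | N.Normal ∧ P N}).map f ≤ sSup {N : Subgroup G' | N.Normal ∧ Q N} := by
  rw [Subgroup.map_le_iff_le_comap, sSup_le_iff]
  rintro N ⟨hN, hP⟩
  rw [← Subgroup.map_le_iff_le_comap]
  exact le_sSup ⟨hN.map f hf, h N hN hP⟩

theorem map_piCore_le {f : G →* G'} (hf : Function.Surjective f) :
    (Cfsg.piCore π G).map f ≤ Cfsg.piCore π G' :=
  map_sSup_normal_le hf fun N _ (h : PiNat π (Nat.card N)) => h.of_dvd (N.card_map_dvd f)

theorem map_piCore_equiv (e : G ≃* G') :
    (Cfsg.piCore π G).map e.toMonoidHom = Cfsg.piCore π G' := by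
  refine le_antisymm (map_piCore_le e.surjective) fun x hx => ?_
  exact ⟨e.symm x, map_piCore_le (f := e.symm.toMonoidHom) e.symm.surjective ⟨x, hx, rfl⟩,
    e.apply_symm_apply x⟩

theorem piCore_characteristic : (Cfsg.piCore π G).Characteristic :=
  Subgroup.characteristic_iff_map_eq.2 fun e => map_piCore_equiv e

/-! ### The p-core -/

theorem le_pCore {N : Subgroup G} [hN : N.Normal] (h : IsPGroup p N) : N ≤ Cfsg.pCore p G :=
  le_sSup ⟨hN, h⟩

variable (p) (G)

theorem pCore_normal : (Cfsg.pCore p G).Normal :=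
  Subgroup.sSup_normal _ fun _ h => h.1

theorem pCore_isPGroup [Finite G] : IsPGroup p (Cfsg.pCore p G) :=
  (normal_and_prop_sSup (fun N : Subgroup G => IsPGroup p N) IsPGroup.of_bot
    fun _ _ _ hN hM' hN' => haveI := hN; hM'.to_sup_of_normal_right hN').2

variable {p} {G}

theorem pCore_le_sylow [Finite G] [Fact p.Prime] (P : Sylow p G) : Cfsg.pCore p G ≤ P :=
  haveI := pCore_normal G p
  (pCore_isPGroup G p).le_sylow_of_normal P

theorem pCore_eq_iInf_sylow [Finite G] [Fact p.Prime] :
    Cfsg.pCore p G = ⨅ P : Sylow p G, (P : Subgroup G) := by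
  refine le_antisymm (le_iInf fun P => pCore_le_sylow P) ?_
  haveI : (⨅ P : Sylow p G, (P : Subgroup G)).Normal := by
    refine ⟨fun x hx g => ?_⟩
    rw [Subgroup.mem_iInf] at hx ⊢
    intro P
    have := hx (g⁻¹ • P)
    rw [Sylow.coe_subgroup_smul, mem_conj_smul_iff] at this
    simpa [mul_assoc] using this
  exact le_pCore ((Classical.arbitrary (Sylow p G)).2.to_le (iInf_le _ _))

theorem map_pCore_le {f : G →* G'} (hf : Function.Surjective f) :
    (Cfsg.pCore p G).map f ≤ Cfsg.pCore p G' :=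
  map_sSup_normal_le hf fun _ _ h => h.map f

theorem map_pCore_equiv (e : G ≃* G') :
    (Cfsg.pCore p G).map e.toMonoidHom = Cfsg.pCore p G' := by
  refine le_antisymm (map_pCore_le e.surjective) fun x hx => ?_
  exact ⟨e.symm x, map_pCore_le (f := e.symm.toMonoidHom) e.symm.surjective ⟨x, hx, rfl⟩,
    e.apply_symm_apply x⟩

theorem pCore_characteristic : (Cfsg.pCore p G).Characteristic :=
  Subgroup.characteristic_iff_map_eq.2 fun e => map_pCore_equiv e

/-- `O_p(N) ≤ O_p(G)` for normal `N`. -/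
theorem map_pCore_subtype_le [Finite G] (N : Subgroup G) [N.Normal] :
    (Cfsg.pCore p N).map N.subtype ≤ Cfsg.pCore p G :=
  haveI : (Cfsg.pCore p N).Characteristic := pCore_characteristic
  haveI := normal_map_subtype_of_characteristic (Cfsg.pCore p N)
  le_pCore ((pCore_isPGroup N p).map _)

theorem map_pCore_subtype_eq_inf [Finite G] (N : Subgroup G) [N.Normal] :
    (Cfsg.pCore p N).map N.subtype = Cfsg.pCore p G ⊓ N := by
  refine le_antisymm (le_inf (map_pCore_subtype_le N) (Subgroup.map_subtype_le _)) ?_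
  haveI := pCore_normal G p
  haveI : ((Cfsg.pCore p G).subgroupOf N).Normal := Subgroup.normal_subgroupOf
  rw [← Subgroup.subgroupOf_map_subtype]
  exact Subgroup.map_mono
    (le_pCore ((pCore_isPGroup G p).comap_of_injective _ N.subtype_injective))

/-! ### The p'-core -/

theorem le_pPrimeCore {N : Subgroup G} [hN : N.Normal] (h : (Nat.card N).Coprime p) :
    N ≤ Cfsg.pPrimeCore p G :=
  le_sSup ⟨hN, h⟩

variable (p) (G)

theorem pPrimeCore_normal : (Cfsg.pPrimeCore p G).Normal :=
  Subgroup.sSup_normal _ fun _ h => h.1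

theorem pPrimeCore_coprime [Finite G] : (Nat.card (Cfsg.pPrimeCore p G)).Coprime p :=
  (normal_and_prop_sSup (fun N : Subgroup G => (Nat.card N).Coprime p)
    (by rw [Subgroup.card_bot]; exact Nat.coprime_one_left p)
    fun M N _ hN hM' hN' => haveI := hN;
      Nat.Coprime.of_dvd_left (card_sup_dvd_mul M N) (Nat.Coprime.mul_left hM' hN')).2

variable {p} {G}

theorem not_dvd_card_pPrimeCore [Finite G] [hp : Fact p.Prime] :
    ¬ p ∣ Nat.card (Cfsg.pPrimeCore p G) :=
  hp.1.coprime_iff_not_dvd.1 (pPrimeCore_coprime G p).symm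

theorem map_pPrimeCore_le {f : G →* G'} (hf : Function.Surjective f) :
    (Cfsg.pPrimeCore p G).map f ≤ Cfsg.pPrimeCore p G' :=
  map_sSup_normal_le hf fun N _ h => h.of_dvd_left (N.card_map_dvd f)

theorem map_pPrimeCore_equiv (e : G ≃* G') :
    (Cfsg.pPrimeCore p G).map e.toMonoidHom = Cfsg.pPrimeCore p G' := by
  refine le_antisymm (map_pPrimeCore_le e.surjective) fun x hx => ?_
  exact ⟨e.symm x, map_pPrimeCore_le (f := e.symm.toMonoidHom) e.symm.surjective ⟨x, hx, rfl⟩,
    e.apply_symm_apply x⟩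

theorem pPrimeCore_characteristic : (Cfsg.pPrimeCore p G).Characteristic :=
  Subgroup.characteristic_iff_map_eq.2 fun e => map_pPrimeCore_equiv e

theorem map_pPrimeCore_subtype_eq_inf [Finite G] (N : Subgroup G) [N.Normal] :
    (Cfsg.pPrimeCore p N).map N.subtype = Cfsg.pPrimeCore p G ⊓ N := by
  refine le_antisymm (le_inf ?_ (Subgroup.map_subtype_le _)) ?_
  · haveI : (Cfsg.pPrimeCore p N).Characteristic := pPrimeCore_characteristic
    haveI := normal_map_subtype_of_characteristic (Cfsg.pPrimeCore p N)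
    exact le_pPrimeCore (by rw [card_map_subtype]; exact pPrimeCore_coprime N p)
  · haveI := pPrimeCore_normal G p
    haveI : ((Cfsg.pPrimeCore p G).subgroupOf N).Normal := Subgroup.normal_subgroupOf
    rw [← Subgroup.subgroupOf_map_subtype]
    refine Subgroup.map_mono (le_pPrimeCore ?_)
    rw [← Subgroup.inf_subgroupOf_right, card_subgroupOf inf_le_right]
    exact (pPrimeCore_coprime G p).of_dvd_left (Subgroup.card_dvd_of_le inf_le_left)

theorem pCore_inf_pPrimeCore [Finite G] [hp : Fact p.Prime] :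
    Cfsg.pCore p G ⊓ Cfsg.pPrimeCore p G = ⊥ := by
  refine Subgroup.inf_eq_bot_of_coprime ?_
  obtain ⟨n, hn⟩ := IsPGroup.iff_card.1 (pCore_isPGroup G p)
  rw [hn]
  exact (pPrimeCore_coprime G p).symm.pow_left n

theorem pPrimeCore_quotient_self [Finite G] [Fact p.Prime] [(Cfsg.pPrimeCore p G).Normal] :
    Cfsg.pPrimeCore p (G ⧸ Cfsg.pPrimeCore p G) = ⊥ := by
  set M := Cfsg.pPrimeCore p G
  haveI := pPrimeCore_normal (G ⧸ M) p
  set K := (Cfsg.pPrimeCore p (G ⧸ M)).comap (QuotientGroup.mk' M)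
  have hMK : M ≤ K := QuotientGroup.le_comap_mk' M _
  have h : Nat.card K = Nat.card (Cfsg.pPrimeCore p (G ⧸ M)) * Nat.card M := by
    have := card_map_mk' M K
    rw [Subgroup.map_comap_eq_self_of_surjective (QuotientGroup.mk'_surjective M),
      inf_eq_right.2 hMK] at this
    exact this.symm
  have hle : K ≤ M := le_pPrimeCore
    (by rw [h]; exact Nat.Coprime.mul_left (pPrimeCore_coprime _ p) (pPrimeCore_coprime G p))
  rw [← Subgroup.map_comap_eq_self_of_surjective (QuotientGroup.mk'_surjective M)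
    (Cfsg.pPrimeCore p (G ⧸ M)), Subgroup.map_eq_bot_iff, QuotientGroup.ker_mk']
  exact hle

theorem pCore_quotient_self [Finite G] [(Cfsg.pCore p G).Normal] :
    Cfsg.pCore p (G ⧸ Cfsg.pCore p G) = ⊥ := by
  set M := Cfsg.pCore p G
  haveI := pCore_normal (G ⧸ M) p
  set K := (Cfsg.pCore p (G ⧸ M)).comap (QuotientGroup.mk' M)
  have hK : IsPGroup p K :=
    (pCore_isPGroup (G ⧸ M) p).comap_of_ker_isPGroup _
      (by rw [QuotientGroup.ker_mk']; exact pCore_isPGroup G p)
  have hle : K ≤ M := le_pCore hK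
  rw [← Subgroup.map_comap_eq_self_of_surjective (QuotientGroup.mk'_surjective M)
    (Cfsg.pCore p (G ⧸ M)), Subgroup.map_eq_bot_iff, QuotientGroup.ker_mk']
  exact hle

/-! ### The Fitting subgroup -/

variable (G)

theorem fittingSubgroup_normal : (Cfsg.fittingSubgroup G).Normal :=
  Subgroup.sSup_normal _ fun _ h => h.1

variable {G}

theorem le_fittingSubgroup {N : Subgroup G} [hN : N.Normal] (h : Group.IsNilpotent N) :
    N ≤ Cfsg.fittingSubgroup G :=
  le_sSup ⟨hN, h⟩

/-- A finite group is generated by its Sylow subgroups. -/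
theorem iSup_sylow_eq_top [Finite G] :
    (⨆ q : Nat.Primes, ⨆ P : Sylow (q : ℕ) G, (P : Subgroup G)) = ⊤ := by
  refine Subgroup.eq_top_of_card_eq _ ?_
  refine Nat.dvd_antisymm (Subgroup.card_subgroup_dvd_card _) ?_
  rw [Nat.dvd_iff_prime_pow_dvd_dvd]
  intro q k hq hdvd
  haveI := Fact.mk hq
  obtain ⟨P⟩ : Nonempty (Sylow q G) := inferInstance
  exact (P.pow_dvd_card_of_pow_dvd_card hdvd).trans (Subgroup.card_dvd_of_le
    (le_iSup_of_le ⟨q, hq⟩ (le_iSup (fun P : Sylow q G => (P : Subgroup G)) P)))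

theorem iSup_pCore_isNilpotent [Finite G] :
    Group.IsNilpotent (⨆ q : Nat.Primes, Cfsg.pCore (q : ℕ) G : Subgroup G) := by
  set F : Subgroup G := ⨆ q : Nat.Primes, Cfsg.pCore (q : ℕ) G with hF
  refine ((Group.isNilpotent_of_finite_tfae (G := F)).out 0 3).2 ?_
  intro p hp P
  haveI := pCore_normal G p
  haveI := pPrimeCore_normal G p
  have hle : Cfsg.pCore p G ≤ F :=
    le_iSup (fun q : Nat.Primes => Cfsg.pCore (q : ℕ) G) ⟨p, hp.1⟩
  have hF' : F ≤ Cfsg.pCore p G ⊔ Cfsg.pPrimeCore p G := by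
    refine iSup_le fun q => ?_
    by_cases hq : (q : ℕ) = p
    · rw [hq]; exact le_sup_left
    · haveI := Fact.mk q.2
      haveI := pCore_normal G (q : ℕ)
      obtain ⟨n, hn⟩ := IsPGroup.iff_card.1 (pCore_isPGroup G (q : ℕ))
      exact le_sup_of_le_right (le_pPrimeCore
        (by rw [hn]; exact ((Nat.coprime_primes q.2 hp.1).2 hq).pow_left n))
  have hd := (Subgroup.card_dvd_of_le hF').trans (card_sup_dvd_mul _ _)
  have hPd : Nat.card P ∣ Nat.card (Cfsg.pCore p G) := by
    obtain ⟨n, hn⟩ := IsPGroup.iff_card.1 P.2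
    refine ((?_ : (Nat.card P).Coprime (Nat.card (Cfsg.pPrimeCore p G))).dvd_of_dvd_mul_right)
      ((Subgroup.card_subgroup_dvd_card _).trans hd)
    rw [hn]; exact (pPrimeCore_coprime G p).symm.pow_left n
  have hsub : (Cfsg.pCore p G).subgroupOf F ≤ P :=
    ((pCore_isPGroup G p).comap_of_injective _ F.subtype_injective).le_sylow_of_normal P
  have heq : (Cfsg.pCore p G).subgroupOf F = P := by
    refine Subgroup.eq_of_le_of_card_ge hsub ?_
    rw [card_subgroupOf hle]
    exact Nat.le_of_dvd Nat.card_pos hPd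
  rw [← heq]
  exact Subgroup.normal_subgroupOf

theorem fittingSubgroup_eq_iSup_pCore [Finite G] :
    Cfsg.fittingSubgroup G = ⨆ q : Nat.Primes, Cfsg.pCore (q : ℕ) G := by
  refine le_antisymm (sSup_le ?_) (iSup_le fun q => ?_)
  · rintro N ⟨hN, hnil⟩
    haveI := hN
    have h := congrArg (Subgroup.map N.subtype) (iSup_sylow_eq_top (G := N))
    rw [← MonoidHom.range_eq_map, Subgroup.range_subtype] at h
    rw [← h]
    simp only [Subgroup.map_iSup, iSup_le_iff]
    intro q P
    haveI := Fact.mk q.2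
    haveI := hnil
    haveI : (P : Subgroup N).Characteristic := P.characteristic_of_normal inferInstance
    exact le_iSup_of_le q (le_pCore (P.2.map _))
  · haveI := pCore_normal G (q : ℕ)
    haveI := Fact.mk q.2
    exact le_fittingSubgroup (pCore_isPGroup G (q : ℕ)).isNilpotent

theorem fittingSubgroup_isNilpotent [Finite G] :
    Group.IsNilpotent (Cfsg.fittingSubgroup G) := by
  rw [fittingSubgroup_eq_iSup_pCore]
  exact iSup_pCore_isNilpotent

theorem isNilpotent_sup_of_normal [Finite G] (M N : Subgroup G) [M.Normal] [N.Normal]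
    (hM : Group.IsNilpotent M) (hN : Group.IsNilpotent N) : Group.IsNilpotent (M ⊔ N : Subgroup G) :=
  haveI := fittingSubgroup_isNilpotent (G := G)
  Group.nilpotent_of_mulEquiv
    (Subgroup.subgroupOfEquivOfLe (sup_le (le_fittingSubgroup hM) (le_fittingSubgroup hN)))

theorem pCore_le_fittingSubgroup [Finite G] [Fact p.Prime] :
    Cfsg.pCore p G ≤ Cfsg.fittingSubgroup G :=
  haveI := pCore_normal G p
  le_fittingSubgroup (pCore_isPGroup G p).isNilpotent

theorem center_le_fittingSubgroup : Subgroup.center G ≤ Cfsg.fittingSubgroup G :=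
  le_fittingSubgroup (by
    open scoped IsMulCommutative in
    exact (inferInstance : Group.IsNilpotent (Subgroup.center G)))

theorem map_fittingSubgroup_le {f : G →* G'} (hf : Function.Surjective f) :
    (Cfsg.fittingSubgroup G).map f ≤ Cfsg.fittingSubgroup G' :=
  map_sSup_normal_le hf fun N _ h =>
    haveI := h
    Group.nilpotent_of_surjective (f.subgroupMap N) (f.subgroupMap_surjective N)

theorem map_fittingSubgroup_equiv (e : G ≃* G') :
    (Cfsg.fittingSubgroup G).map e.toMonoidHom = Cfsg.fittingSubgroup G' := by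
  refine le_antisymm (map_fittingSubgroup_le e.surjective) fun x hx => ?_
  exact ⟨e.symm x, map_fittingSubgroup_le (f := e.symm.toMonoidHom) e.symm.surjective ⟨x, hx, rfl⟩,
    e.apply_symm_apply x⟩

theorem fittingSubgroup_characteristic : (Cfsg.fittingSubgroup G).Characteristic :=
  Subgroup.characteristic_iff_map_eq.2 fun e => map_fittingSubgroup_equiv e

theorem map_fittingSubgroup_subtype_eq_inf [Finite G] (N : Subgroup G) [N.Normal] :
    (Cfsg.fittingSubgroup N).map N.subtype = Cfsg.fittingSubgroup G ⊓ N := by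
  refine le_antisymm (le_inf ?_ (Subgroup.map_subtype_le _)) ?_
  · haveI : (Cfsg.fittingSubgroup N).Characteristic := fittingSubgroup_characteristic
    haveI := normal_map_subtype_of_characteristic (Cfsg.fittingSubgroup N)
    haveI := fittingSubgroup_isNilpotent (G := N)
    exact le_fittingSubgroup (Group.nilpotent_of_mulEquiv
      ((Cfsg.fittingSubgroup N).equivMapOfInjective N.subtype N.subtype_injective))
  · haveI := fittingSubgroup_normal G
    haveI : ((Cfsg.fittingSubgroup G).subgroupOf N).Normal := Subgroup.normal_subgroupOf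
    rw [← Subgroup.subgroupOf_map_subtype]
    refine Subgroup.map_mono (le_fittingSubgroup ?_)
    haveI := fittingSubgroup_isNilpotent (G := G)
    rw [← Subgroup.inf_subgroupOf_right]
    haveI : Group.IsNilpotent ((Cfsg.fittingSubgroup G ⊓ N).subgroupOf (Cfsg.fittingSubgroup G)) :=
      inferInstance
    exact Group.nilpotent_of_mulEquiv
      ((Subgroup.subgroupOfEquivOfLe (inf_le_left : Cfsg.fittingSubgroup G ⊓ N ≤ _)).trans
        (Subgroup.subgroupOfEquivOfLe (inf_le_right : Cfsg.fittingSubgroup G ⊓ N ≤ N)).symm)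

/-! ### Subnormal subgroups in the radicals -/

theorem nilpotent_subnormal_le_fittingSubgroup [Finite G] {H : Subgroup G} (hH : H.IsSubnormal)
    (hnil : Group.IsNilpotent H) : H ≤ Cfsg.fittingSubgroup G := by
  suffices key : ∀ K : Subgroup G, K.IsSubnormal →
      (Cfsg.fittingSubgroup K).map K.subtype ≤ Cfsg.fittingSubgroup G by
    refine le_trans ?_ (key H hH)
    have : (⊤ : Subgroup H) ≤ Cfsg.fittingSubgroup H :=
      le_fittingSubgroup (Group.isNilpotent_top.2 hnil)
    simpa [← MonoidHom.range_eq_map] using Subgroup.map_mono (f := H.subtype) this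
  intro K hK
  induction hK with
  | top => exact map_fittingSubgroup_le (f := (⊤ : Subgroup G).subtype) fun x => ⟨⟨x, trivial⟩, rfl⟩
  | step A B h_le _ hN ih =>
    refine le_trans ?_ ih
    haveI := hN
    have h1 := (map_fittingSubgroup_subtype_eq_inf (A.subgroupOf B)).trans_le inf_le_left
    refine le_trans (le_of_eq ?_) (Subgroup.map_mono (f := B.subtype) h1)
    rw [← map_fittingSubgroup_equiv (Subgroup.subgroupOfEquivOfLe h_le), Subgroup.map_map,
      Subgroup.map_map]
    rfl

theorem piNat_subnormal_le_piCore [Finite G] {π : Set ℕ} {H : Subgroup G} (hH : H.IsSubnormal)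
    (hπ : PiNat π (Nat.card H)) : H ≤ Cfsg.piCore π G := by
  suffices key : ∀ K : Subgroup G, K.IsSubnormal →
      (Cfsg.piCore π K).map K.subtype ≤ Cfsg.piCore π G by
    refine le_trans ?_ (key H hH)
    have : (⊤ : Subgroup H) ≤ Cfsg.piCore π H := le_piCore (by rwa [Subgroup.card_top])
    simpa [← MonoidHom.range_eq_map] using Subgroup.map_mono (f := H.subtype) this
  intro K hK
  induction hK with
  | top => exact map_piCore_le (f := (⊤ : Subgroup G).subtype) fun x => ⟨⟨x, trivial⟩, rfl⟩
  | step A B h_le _ hN ih =>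
    refine le_trans ?_ ih
    haveI := hN
    haveI : (Cfsg.piCore π A).Characteristic := piCore_characteristic
    haveI : ((Cfsg.piCore π A).map (Subgroup.subgroupOfEquivOfLe h_le).symm.toMonoidHom).Characteristic := by
      rw [map_piCore_equiv]; exact piCore_characteristic
    have hnorm := normal_map_subtype_of_characteristic
      ((Cfsg.piCore π A).map (Subgroup.subgroupOfEquivOfLe h_le).symm.toMonoidHom)
    have h1 := le_piCore (π := π) (hN := hnorm) (by
      rw [card_map_subtype, Subgroup.card_map_of_injective (MulEquiv.injective _)]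
      exact piNat_card_piCore π)
    refine le_trans (le_of_eq ?_) (Subgroup.map_mono (f := B.subtype) h1)
    rw [Subgroup.map_map, Subgroup.map_map]
    rfl

end CfsgLib.Solv
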