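import Cfsg.Agent.Solv.CoprimeAction

/-!
Invariant Sylow and Hall subgroups under coprime action.
-/

set_option autoImplicit false
set_option linter.style.haveILetI false
set_option linter.deprecated false

open scoped Pointwise

namespace CfsgLib.Solv

variable {G : Type*} [Group G]

/-- `G` acting on its subgroups by conjugation. -/
@[reducible] def conjActionOnSubgroups (G : Type*) [Group G] : MulAction G (Subgroup G) :=
  MulAction.compHom (Subgroup G) (MulAut.conj : G →* MulAut G)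

theorem conj_smul_le_of_le_normalizer {A K H : Subgroup G}
    (hAK : A ≤ Subgroup.normalizer (K : Set G)) (hH : H ≤ K) {a : G} (ha : a ∈ A) :
    MulAut.conj a • H ≤ K := by
  intro x hx
  rw [mem_conj_smul_iff] at hx
  exact (Subgroup.mem_normalizer_iff''.1 (hAK ha) x).2 (hH hx)

theorem subgroupOf_isPiHall [Finite G] {π : Set ℕ} {H K : Subgroup G}
    (h : H ≤ K) (hH : PiNat π (Nat.card H)) (hHi : PiNat πᶜ (H.relIndex K)) :
    PiNat π (Nat.card (H.subgroupOf K)) ∧ PiNat πᶜ (H.subgroupOf K).index :=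
  ⟨by rwa [card_subgroupOf h], hHi⟩

theorem map_subgroupOf_conj {H K : Subgroup G} (h : H ≤ K) (k : K) :
    (MulAut.conj k • H.subgroupOf K).map K.subtype = MulAut.conj (k : G) • H := by
  rw [conj_smul_eq_map, Subgroup.map_map, conj_smul_eq_map]
  conv_rhs => rw [← Subgroup.map_subgroupOf_eq_of_le h, Subgroup.map_map]
  rfl

/-- A family of `K`-conjugate subgroups of `K` that is stable under `A` has an `A`-invariant
member. -/
theorem exists_invariant_of_conjugate [Finite G] {A K : Subgroup G}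
    (hAK : A ≤ Subgroup.normalizer (K : Set G)) (hcop : (Nat.card A).Coprime (Nat.card K))
    (hs : Group.IsSolvable A ∨ Group.IsSolvable K) {H : Subgroup G}
    (h : ∀ a ∈ A, ∃ k ∈ K, MulAut.conj k • H = MulAut.conj a • H) :
    ∃ k ∈ K, A ≤ Subgroup.normalizer ((MulAut.conj k • H : Subgroup G) : Set G) := by
  letI := conjActionOnSubgroups G
  obtain ⟨k, hk, hfix⟩ := exists_fixed_in_orbit hAK hcop hs H (fun a ha => h a ha)
  exact ⟨k, hk, fun a ha => mem_normalizer_of_conj_smul_eq (hfix a ha)⟩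

/-- `A`-invariant subgroups conjugate under `K` are conjugate under `C_K(A)`. -/
theorem exists_centralizing_conj [Finite G] {A K : Subgroup G}
    (hAK : A ≤ Subgroup.normalizer (K : Set G)) (hcop : (Nat.card A).Coprime (Nat.card K))
    (hs : Group.IsSolvable A ∨ Group.IsSolvable K) {H₁ H₂ : Subgroup G}
    (h₁ : A ≤ Subgroup.normalizer (H₁ : Set G)) (h₂ : A ≤ Subgroup.normalizer (H₂ : Set G))
    {k : G} (hk : k ∈ K) (hkH : MulAut.conj k • H₁ = H₂) :
    ∃ c ∈ K ⊓ Subgroup.centralizer (A : Set G), MulAut.conj c • H₁ = H₂ := by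
  letI := conjActionOnSubgroups G
  exact exists_centralizing_smul_eq hAK hcop hs
    (fun a ha => conj_smul_eq_self_of_mem_normalizer (h₁ ha))
    (fun a ha => conj_smul_eq_self_of_mem_normalizer (h₂ ha)) hk hkH

variable {p : ℕ}

theorem exists_conj_eq_sylow [Finite G] [Fact p.Prime] {K : Subgroup G} (P : Sylow p K)
    {R : Subgroup G} (hR : R ≤ K) (hc : Nat.card R = Nat.card P) :
    ∃ k ∈ K, MulAut.conj k • (P : Subgroup K).map K.subtype = R := by
  obtain ⟨n, hn⟩ := IsPGroup.iff_card.1 P.2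
  have hRp : IsPGroup p (R.subgroupOf K) :=
    IsPGroup.of_card (n := n) (by rw [card_subgroupOf hR, hc, hn])
  obtain ⟨Q, hQ⟩ := hRp.exists_le_sylow
  have hQe : R.subgroupOf K = Q := Subgroup.eq_of_le_of_card_ge hQ
    (by rw [card_subgroupOf hR, hc, Q.card_eq_multiplicity, P.card_eq_multiplicity])
  obtain ⟨k, hk⟩ := MulAction.exists_smul_eq K P Q
  refine ⟨k, k.2, ?_⟩
  have h2 := map_subgroupOf_conj (Subgroup.map_subtype_le (P : Subgroup K)) k
  rw [Subgroup.subgroupOf, Subgroup.comap_map_eq_self_of_injective K.subtype_injective] at h2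
  rw [← h2, ← Sylow.coe_subgroup_smul, hk, ← hQe, Subgroup.map_subgroupOf_eq_of_le hR]

theorem exists_invariant_sylow [Finite G] [Fact p.Prime] {A K : Subgroup G}
    (hAK : A ≤ Subgroup.normalizer (K : Set G)) (hcop : (Nat.card A).Coprime (Nat.card K))
    (hs : Group.IsSolvable A ∨ Group.IsSolvable K) :
    ∃ P : Sylow p K, A ≤ Subgroup.normalizer ((P : Subgroup K).map K.subtype : Set G) := by
  obtain ⟨P⟩ : Nonempty (Sylow p K) := inferInstance
  obtain ⟨k, hk, hN⟩ := exists_invariant_of_conjugate hAK hcop hs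
    (H := (P : Subgroup K).map K.subtype) (fun a ha => exists_conj_eq_sylow P
      (conj_smul_le_of_le_normalizer hAK (Subgroup.map_subtype_le _) ha)
      (by rw [card_conj_smul, card_map_subtype]))
  refine ⟨(⟨k, hk⟩ : K) • P, ?_⟩
  rw [Sylow.coe_subgroup_smul]
  convert hN using 3
  rw [conj_smul_eq_map, Subgroup.map_map, conj_smul_eq_map, Subgroup.map_map]
  rfl

theorem invariant_sylow_conj [Finite G] [Fact p.Prime] {A K : Subgroup G}
    (hAK : A ≤ Subgroup.normalizer (K : Set G)) (hcop : (Nat.card A).Coprime (Nat.card K))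
    (hs : Group.IsSolvable A ∨ Group.IsSolvable K) (P Q : Sylow p K)
    (hP : A ≤ Subgroup.normalizer ((P : Subgroup K).map K.subtype : Set G))
    (hQ : A ≤ Subgroup.normalizer ((Q : Subgroup K).map K.subtype : Set G)) :
    ∃ c : K, (c : G) ∈ Subgroup.centralizer (A : Set G) ∧ c • P = Q := by
  obtain ⟨k, hk⟩ := MulAction.exists_smul_eq K P Q
  have hconj : ∀ c : K, ((c • P : Sylow p K) : Subgroup K).map K.subtype =
      MulAut.conj (c : G) • (P : Subgroup K).map K.subtype := by
    intro c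
    rw [Sylow.coe_subgroup_smul, conj_smul_eq_map, Subgroup.map_map, conj_smul_eq_map,
      Subgroup.map_map]
    rfl
  obtain ⟨c, hc, hcPQ⟩ := exists_centralizing_conj hAK hcop hs hP hQ k.2
    (by rw [← hconj, hk])
  obtain ⟨hcK, hcC⟩ := Subgroup.mem_inf.1 hc
  refine ⟨⟨c, hcK⟩, hcC, Sylow.ext (Subgroup.map_injective K.subtype_injective ?_)⟩
  rw [hconj, hcPQ]

/-- A `p`-subgroup that is Sylow in its normalizer is a Sylow subgroup. -/
theorem exists_sylow_eq_of_normalizer [Finite G] [Fact p.Prime] {U : Subgroup G}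
    (hU : IsPGroup p U)
    (hN : ∀ R : Subgroup G, IsPGroup p R → U ≤ R → R ≤ Subgroup.normalizer (U : Set G) → R = U) :
    ∃ P : Sylow p G, (P : Subgroup G) = U := by
  obtain ⟨P, hUP⟩ := hU.exists_le_sylow
  refine ⟨P, ?_⟩
  by_contra hne
  have hlt : U.subgroupOf P < ⊤ := by
    rw [lt_top_iff_ne_top, Ne, Subgroup.subgroupOf_eq_top]
    exact fun h => hne (le_antisymm h hUP)
  haveI := P.2.isNilpotent
  have h2 := normalizerCondition_of_isNilpotent (G := P) _ hlt
  refine h2.ne' ?_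
  apply le_antisymm ?_ Subgroup.le_normalizer
  intro x hx
  have hxU : (x : G) ∈ Subgroup.normalizer (U : Set G) := by
    rw [Subgroup.mem_normalizer_iff]
    intro u
    constructor
    · intro hu
      simpa [Subgroup.mem_subgroupOf] using
        (Subgroup.mem_normalizer_iff.1 hx ⟨u, hUP hu⟩).1 hu
    · intro hu
      have huP : u ∈ (P : Subgroup G) := by
        have h3 : (x : G)⁻¹ * ((x : G) * u * (x : G)⁻¹) * (x : G) ∈ (P : Subgroup G) :=
          mul_mem (mul_mem (inv_mem x.2) (hUP hu)) x.2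
        simpa [mul_assoc] using h3
      exact (Subgroup.mem_normalizer_iff.1 hx ⟨u, huP⟩).2 hu
  have := hN ((P : Subgroup G) ⊓ Subgroup.normalizer (U : Set G)) (P.2.to_le inf_le_left)
    (le_inf hUP Subgroup.le_normalizer) inf_le_right
  show (x : G) ∈ U
  exact this.le (Subgroup.mem_inf.2 ⟨x.2, hxU⟩)

theorem exists_invariant_sylow_ge [Finite G] [Fact p.Prime] {A K : Subgroup G}
    (hAK : A ≤ Subgroup.normalizer (K : Set G)) (hcop : (Nat.card A).Coprime (Nat.card K))
    (hs : Group.IsSolvable A ∨ Group.IsSolvable K) {U : Subgroup G} (hUK : U ≤ K)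
    (hU : IsPGroup p U) (hUA : A ≤ Subgroup.normalizer (U : Set G)) :
    ∃ P : Sylow p K, U ≤ (P : Subgroup K).map K.subtype ∧
      A ≤ Subgroup.normalizer ((P : Subgroup K).map K.subtype : Set G) := by
  obtain ⟨M, hM⟩ := (Set.toFinite {M : Subgroup G | U ≤ M ∧ M ≤ K ∧ IsPGroup p M ∧
    A ≤ Subgroup.normalizer (M : Set G)}).exists_maximal ⟨U, le_rfl, hUK, hU, hUA⟩
  obtain ⟨hUM, hMK, hMp, hMA⟩ := hM.1
  set N := K ⊓ Subgroup.normalizer (M : Set G) with hN
  have hNK : N ≤ K := inf_le_left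
  have hAN : A ≤ Subgroup.normalizer (N : Set G) :=
    le_normalizer_inf_of_le hAK (hMA.trans Subgroup.le_normalizer)
  obtain ⟨Q, hQA⟩ := exists_invariant_sylow (p := p) hAN
    (hcop.of_dvd_right (Subgroup.card_dvd_of_le hNK))
    (hs.imp_right fun (h : Group.IsSolvable K) => haveI := h; isSolvable_of_le hNK)
  have hMN : M ≤ N := le_inf hMK Subgroup.le_normalizer
  haveI : (M.subgroupOf N).Normal := Subgroup.normal_subgroupOf_of_le_normalizer inf_le_right
  have hMQ : M.subgroupOf N ≤ Q :=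
    IsPGroup.le_sylow_of_normal (N := M.subgroupOf N)
      (hMp.comap_of_injective N.subtype N.subtype_injective) Q
  have hQle : M ≤ (Q : Subgroup N).map N.subtype :=
    (Subgroup.map_subgroupOf_eq_of_le hMN).ge.trans (Subgroup.map_mono hMQ)
  have hQM : (Q : Subgroup N).map N.subtype = M :=
    le_antisymm (hM.2 ⟨hUM.trans hQle, (Subgroup.map_subtype_le _).trans hNK, Q.2.map _, hQA⟩
      hQle) hQle
  obtain ⟨P, hP⟩ := exists_sylow_eq_of_normalizer (G := K) (U := M.subgroupOf K)
    (hMp.comap_of_injective K.subtype K.subtype_injective) (by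
      intro R hR hle hRN
      have hRN' : R.map K.subtype ≤ N := by
        refine le_inf (Subgroup.map_subtype_le R) ?_
        rw [le_normalizer_iff_forall_conj_mem]
        rintro _ ⟨r, hr, rfl⟩ m hm
        exact (Subgroup.mem_normalizer_iff.1 (hRN hr) ⟨m, hMK hm⟩).1 hm
      have h1 : M ≤ R.map K.subtype :=
        (Subgroup.map_subgroupOf_eq_of_le hMK).ge.trans (Subgroup.map_mono hle)
      have h2 : (Q : Subgroup N) ≤ (R.map K.subtype).subgroupOf N := by
        intro x hx
        exact h1 (hQM.le ⟨x, hx, rfl⟩)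
      have h3 := Q.3 ((hR.map K.subtype).comap_of_injective N.subtype N.subtype_injective) h2
      refine le_antisymm ?_ hle
      intro r hr
      refine hQM.le ⟨⟨(r : G), hRN' ⟨r, hr, rfl⟩⟩, ?_, rfl⟩
      exact h3.le ⟨r, hr, rfl⟩)
  refine ⟨P, ?_, ?_⟩
  · rw [hP, Subgroup.map_subgroupOf_eq_of_le hMK]; exact hUM
  · rw [hP, Subgroup.map_subgroupOf_eq_of_le hMK]; exact hMA

/-! ### Invariant Hall subgroups -/

theorem relIndex_normal_dvd_index [Finite G] (T K : Subgroup G) [K.Normal] :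
    T.relIndex K ∣ T.index := by
  have h1 := card_sup_mul_card_inf T K
  have h2 := relIndex_mul_card (le_sup_left : T ≤ T ⊔ K)
  have h3 := relIndex_mul_card (inf_le_right : T ⊓ K ≤ K)
  rw [Subgroup.inf_relIndex_right] at h3
  have h4 : T.relIndex (T ⊔ K) = T.relIndex K := by
    rw [← h2, ← h3] at h1
    apply Nat.eq_of_mul_eq_mul_left (Nat.mul_pos (Nat.card_pos (α := T))
      (Nat.card_pos (α := (T ⊓ K : Subgroup G))))
    calc _ = Nat.card T * T.relIndex (T ⊔ K) * Nat.card (T ⊓ K : Subgroup G) := by ring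
      _ = _ := by rw [h1]; ring
  exact h4 ▸ Subgroup.relIndex_dvd_index_of_le le_sup_left

theorem primeFactors_piNat (n : ℕ) (π : Set ℕ) : PiNat (π ∪ {q | q ∣ n}) n :=
  fun _ _ h => Or.inr h

theorem piSolvable_of_normal [Finite G] {π : Set ℕ} (K : Subgroup G) [K.Normal]
    (hK : Group.IsSolvable K) (hidx : PiNat π K.index) : PiSolvable π G := by
  intro N _ hN
  set q := QuotientGroup.mk' N
  haveI : Nontrivial (G ⧸ N) := QuotientGroup.nontrivial_iff.2 hN
  by_cases hKN : K ≤ N
  · refine ⟨⊤, inferInstance, top_ne_bot, Or.inl ?_⟩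
    rw [Subgroup.card_top]
    exact hidx.of_dvd (Subgroup.index_dvd_of_le hKN)
  · haveI : (K.map q).Normal := ‹K.Normal›.map q (QuotientGroup.mk'_surjective N)
    obtain ⟨M, hM, hMle⟩ := exists_isMinimalNormal_le (K.map q)
      (by rwa [Ne, Subgroup.map_eq_bot_iff, QuotientGroup.ker_mk'])
    haveI : Group.IsSolvable (K.map q) :=
      Group.isSolvable_of_surjective (q.subgroupMap_surjective K)
    haveI hMs : Group.IsSolvable M := isSolvable_of_le hMle
    obtain ⟨r, hr, -, hMr⟩ := exists_prime_exponent_of_minimal_solvable hM hMs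
    haveI := Fact.mk hr
    by_cases h : r ∈ π
    · exact ⟨M, hM.1, hM.2.1, Or.inl (PiNat.of_isPGroup hMr h)⟩
    · exact ⟨M, hM.1, hM.2.1, Or.inr ⟨PiNat.of_isPGroup hMr h, hMs⟩⟩

/-- In `A ⊔ K`, a Hall subgroup for `π ∪ π(A)` containing `A` and a given `A`-invariant π-subgroup
yields an `A`-invariant Hall π-subgroup of `K`. -/
theorem exists_invariant_hall_ge [Finite G] {A K : Subgroup G}
    (hAK : A ≤ Subgroup.normalizer (K : Set G)) (hcop : (Nat.card A).Coprime (Nat.card K))
    (hK : Group.IsSolvable K) (π : Set ℕ) {U : Subgroup G} (hUK : U ≤ K)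
    (hUA : A ≤ Subgroup.normalizer (U : Set G)) (hU : PiNat π (Nat.card U)) :
    ∃ H : Subgroup G, H ≤ K ∧ PiNat π (Nat.card H) ∧ PiNat πᶜ (H.relIndex K) ∧
      A ≤ Subgroup.normalizer (H : Set G) ∧ U ≤ H := by
  set L := A ⊔ K with hL
  set ρ : Set ℕ := π ∪ {q | q ∣ Nat.card A} with hρ
  have hKL : K ≤ L := le_sup_right
  have hAL : A ≤ L := le_sup_left
  have hLN : L ≤ Subgroup.normalizer (K : Set G) := sup_le hAK Subgroup.le_normalizer
  haveI : (K.subgroupOf L).Normal := Subgroup.normal_subgroupOf_of_le_normalizer hLN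
  have hLcard : Nat.card L = Nat.card A * Nat.card K := card_sup_of_le_normalizer hAK hcop
  have hidx : (K.subgroupOf L).index = Nat.card A := by
    have h1 := (K.subgroupOf L).card_mul_index
    rw [card_subgroupOf hKL, hLcard, mul_comm (Nat.card A)] at h1
    exact Nat.eq_of_mul_eq_mul_left Nat.card_pos h1
  have hsep : PiSolvable ρ L :=
    piSolvable_of_normal (K.subgroupOf L)
      (haveI := hK; isSolvable_of_mulEquiv (G := K) (Subgroup.subgroupOfEquivOfLe hKL).symm)
      (hidx ▸ primeFactors_piNat _ _)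
  have hUL : A ⊔ U ≤ L := sup_le hAL (hUK.trans hKL)
  obtain ⟨T₀, hT₀, hT₀i, hUT⟩ := exists_hall_ge hsep (U := (A ⊔ U).subgroupOf L) (by
    rw [card_subgroupOf hUL, card_sup_of_le_normalizer hUA
      (hcop.of_dvd_right (Subgroup.card_dvd_of_le hUK))]
    exact (primeFactors_piNat _ _).mul (hU.mono Set.subset_union_left))
  set T := T₀.map L.subtype with hT
  have hle : A ⊔ U ≤ T :=
    (Subgroup.map_subgroupOf_eq_of_le hUL).ge.trans (Subgroup.map_mono hUT)
  refine ⟨T ⊓ K, inf_le_right, ?_, ?_, ?_, le_inf (le_sup_right.trans hle) hUK⟩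
  · have h1 : PiNat ρ (Nat.card (T ⊓ K : Subgroup G)) := by
      refine hT₀.of_dvd ?_
      rw [← card_map_subtype L T₀]
      exact Subgroup.card_dvd_of_le inf_le_left
    intro r hr hd
    rcases h1 r hr hd with h | h
    · exact h
    · exact absurd (Nat.dvd_gcd h (hd.trans (Subgroup.card_dvd_of_le inf_le_right)))
        (by rw [hcop]; exact hr.not_dvd_one)
  · rw [Subgroup.inf_relIndex_right]
    refine PiNat.mono (hT₀i.of_dvd ?_) (Set.compl_subset_compl.2 Set.subset_union_left)
    have h1 : T.relIndex K = (T.subgroupOf L).relIndex (K.subgroupOf L) :=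
      (Subgroup.relIndex_subgroupOf hKL).symm
    rw [h1, hT, Subgroup.subgroupOf, Subgroup.comap_map_eq_self_of_injective L.subtype_injective]
    exact relIndex_normal_dvd_index T₀ (K.subgroupOf L)
  · exact le_normalizer_inf_of_le ((le_sup_left.trans hle).trans Subgroup.le_normalizer) hAK

theorem invariant_hall_conj [Finite G] {A K : Subgroup G}
    (hAK : A ≤ Subgroup.normalizer (K : Set G)) (hcop : (Nat.card A).Coprime (Nat.card K))
    (hK : Group.IsSolvable K) {π : Set ℕ} {H₁ H₂ : Subgroup G} (h₁ : H₁ ≤ K)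
    (hp₁ : PiNat π (Nat.card H₁)) (hi₁ : PiNat πᶜ (H₁.relIndex K))
    (hA₁ : A ≤ Subgroup.normalizer (H₁ : Set G)) (h₂ : H₂ ≤ K)
    (hp₂ : PiNat π (Nat.card H₂)) (hi₂ : PiNat πᶜ (H₂.relIndex K))
    (hA₂ : A ≤ Subgroup.normalizer (H₂ : Set G)) :
    ∃ c ∈ K ⊓ Subgroup.centralizer (A : Set G), MulAut.conj c • H₁ = H₂ := by
  haveI := hK
  obtain ⟨a1, b1⟩ := subgroupOf_isPiHall h₁ hp₁ hi₁
  obtain ⟨a2, b2⟩ := subgroupOf_isPiHall h₂ hp₂ hi₂
  obtain ⟨k, hk⟩ := hall_conj (PiSolvable.of_isSolvable (G := K) π) a1 b1 a2 b2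
  have hk' := congrArg (Subgroup.map K.subtype) hk
  rw [map_subgroupOf_conj h₁, Subgroup.map_subgroupOf_eq_of_le h₂] at hk'
  exact exists_centralizing_conj hAK hcop (Or.inr hK) hA₁ hA₂ k.2 hk'

end CfsgLib.Solv
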