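import Cfsg.Prelude.Def_Transfer
import Cfsg.Prelude.Def_Solvable
import Mathlib.GroupTheory.Transfer
import Mathlib.GroupTheory.Focal
import Cfsg.Agent.Inv.Transfer
import Cfsg.Agent.Solv.Basic
import Cfsg.Agent.Perm.PComp

/-!
Normal `p`-complements: basic API, the residual under control of fusion, Frobenius' criterion.
-/

set_option autoImplicit false
set_option linter.style.haveILetI false
set_option linter.deprecated false

open scoped commutatorElement Pointwise

namespace CfsgLib.Solv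

variable {G : Type*} [Group G] {p : ℕ}

theorem not_dvd_card_pResidual_of_normal [Finite G] [hp : Fact p.Prime] {N : Subgroup G} [N.Normal]
    (h1 : ¬ p ∣ Nat.card N) (h2 : ∃ m, N.index = p ^ m) :
    Cfsg.pResidual p G = N := by
  apply le_antisymm
  · rw [Cfsg.pResidual, Subgroup.closure_le]
    intro x hx
    obtain ⟨m, hm⟩ := h2
    have h : orderOf (x : G ⧸ N) = 1 := by
      refine Nat.eq_one_of_dvd_coprimes (Nat.Coprime.pow_right m hx)
        (orderOf_map_dvd (QuotientGroup.mk' N) x) ?_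
      rw [← hm]
      exact orderOf_dvd_natCard _
    exact (QuotientGroup.eq_one_iff x).1 (orderOf_eq_one_iff.1 h)
  · intro x hx
    refine CfsgLib.Inv.mem_pResidual (Nat.Coprime.symm (hp.out.coprime_iff_not_dvd.2 fun h => h1 ?_))
    exact h.trans (Subgroup.orderOf_dvd_natCard _ hx)

theorem exists_index_pResidual [Finite G] [Fact p.Prime] :
    ∃ m, (Cfsg.pResidual p G).index = p ^ m := by
  haveI := CfsgLib.Inv.pResidual_normal p G
  exact IsPGroup.iff_card.1 (CfsgLib.Inv.isPGroup_quot_pResidual (G := G) (p := p))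

/-- A normal `p`-complement exists iff `O^p` has order prime to `p`. -/
theorem hnpc_iff [Finite G] [Fact p.Prime] :
    Cfsg.HasNormalPComplement p G ↔ ¬ p ∣ Nat.card (Cfsg.pResidual p G) := by
  constructor
  · intro h
    obtain ⟨N, hN, h1, h2⟩ := CfsgLib.Perm.exists_of_hasNormalPComplement h
    rw [not_dvd_card_pResidual_of_normal h1 h2]
    exact h1
  · intro h
    haveI := CfsgLib.Inv.pResidual_normal p G
    exact CfsgLib.Perm.hasNormalPComplement_of _ h exists_index_pResidual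

theorem hnpc_mem_iff [Finite G] [hp : Fact p.Prime] (h : Cfsg.HasNormalPComplement p G) {x : G} :
    x ∈ Cfsg.pResidual p G ↔ Nat.Coprime (orderOf x) p := by
  refine ⟨fun hx => Nat.Coprime.symm (hp.out.coprime_iff_not_dvd.2 fun hd => hnpc_iff.1 h ?_),
    CfsgLib.Inv.mem_pResidual⟩
  exact hd.trans (Subgroup.orderOf_dvd_natCard _ hx)

theorem sylow_inf_eq_bot_of_not_dvd [Finite G] [hp : Fact p.Prime] {P N : Subgroup G}
    (hP : IsPGroup p P) (hN : ¬ p ∣ Nat.card N) : P ⊓ N = ⊥ := by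
  obtain ⟨k, hk⟩ := IsPGroup.iff_card.1 hP
  refine Subgroup.inf_eq_bot_of_coprime ?_
  rw [hk]
  exact (hp.out.coprime_iff_not_dvd.2 hN).pow_left k

/-- `P O^p(G) = G`. -/
theorem sylow_sup_pResidual [Finite G] [hp : Fact p.Prime] (P : Sylow p G) :
    (P : Subgroup G) ⊔ Cfsg.pResidual p G = ⊤ := by
  obtain ⟨m, hm⟩ := exists_index_pResidual (G := G) (p := p)
  rw [← Subgroup.index_eq_one]
  refine Nat.eq_one_of_dvd_coprimes ?_ (Subgroup.index_dvd_of_le le_sup_left)
    (Subgroup.index_dvd_of_le le_sup_right)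
  rw [hm]
  exact Nat.Coprime.pow_right m (Nat.Coprime.symm (hp.out.coprime_iff_not_dvd.2 P.not_dvd_index))

/-- A subgroup containing no nontrivial elements of a Sylow subgroup, if normal, has order prime to `p`. -/
theorem not_dvd_card_of_inf_sylow_eq_bot [Finite G] [hp : Fact p.Prime] (P : Sylow p G)
    {N : Subgroup G} [N.Normal] (h : (P : Subgroup G) ⊓ N = ⊥) : ¬ p ∣ Nat.card N := by
  intro hd
  obtain ⟨x, hx⟩ := exists_prime_orderOf_dvd_card' (G := N) p hd
  have hxp : IsPGroup p (Subgroup.zpowers (x : G)) :=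
    IsPGroup.of_card (n := 1) (by rw [Nat.card_zpowers, Subgroup.orderOf_coe, hx, pow_one])
  obtain ⟨Q, hQ⟩ := hxp.exists_le_sylow
  obtain ⟨g, rfl⟩ := MulAction.exists_smul_eq G P Q
  have hm : g⁻¹ * (x : G) * g ∈ (P : Subgroup G) ⊓ N := by
    refine Subgroup.mem_inf.2 ⟨?_, ?_⟩
    · have := hQ (Subgroup.mem_zpowers (x : G))
      rw [Sylow.coe_subgroup_smul] at this
      have h2 := mem_conj_smul_iff.1 this
      simpa using h2
    · simpa using Subgroup.Normal.conj_mem ‹N.Normal› _ x.2 g⁻¹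
  rw [h, Subgroup.mem_bot] at hm
  have hx1 : (x : G) = 1 := by
    have := congrArg (fun y => g * y * g⁻¹) hm
    simpa [mul_assoc] using this
  have : orderOf x = 1 := by rw [← Subgroup.orderOf_coe, hx1, orderOf_one]
  exact hp.out.ne_one (hx ▸ this)

theorem hnpc_iff_inf [Finite G] [Fact p.Prime] (P : Sylow p G) :
    Cfsg.HasNormalPComplement p G ↔ (P : Subgroup G) ⊓ Cfsg.pResidual p G = ⊥ := by
  haveI := CfsgLib.Inv.pResidual_normal p G
  rw [hnpc_iff]
  exact ⟨sylow_inf_eq_bot_of_not_dvd P.2, not_dvd_card_of_inf_sylow_eq_bot P⟩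

theorem isComplement'_pResidual [Finite G] [Fact p.Prime] (h : Cfsg.HasNormalPComplement p G)
    (P : Sylow p G) : (Cfsg.pResidual p G).IsComplement' (P : Subgroup G) := by
  haveI := CfsgLib.Inv.pResidual_normal p G
  refine Subgroup.isComplement'_of_disjoint_and_mul_eq_univ ?_ ?_
  · rw [disjoint_iff, inf_comm]; exact (hnpc_iff_inf P).1 h
  · rw [← Subgroup.normal_mul, sup_comm, sylow_sup_pResidual P]; rfl

theorem pResidual_subgroup_le (H : Subgroup G) :
    (Cfsg.pResidual p H).map H.subtype ≤ Cfsg.pResidual p G :=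
  CfsgLib.Inv.pResidual_map_le p _

theorem hnpc_subgroup [Finite G] [Fact p.Prime] (h : Cfsg.HasNormalPComplement p G)
    (H : Subgroup G) : Cfsg.HasNormalPComplement p H := by
  rw [hnpc_iff] at h ⊢
  rw [← card_map_subtype H (Cfsg.pResidual p H)]
  exact fun hd => h (hd.trans (Subgroup.card_dvd_of_le (pResidual_subgroup_le H)))

theorem map_pResidual_of_surjective [Finite G] [hp : Fact p.Prime] {G' : Type*} [Group G']
    {f : G →* G'} (hf : Function.Surjective f) :
    (Cfsg.pResidual p G).map f = Cfsg.pResidual p G' := by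
  haveI : Finite G' := Finite.of_surjective f hf
  refine le_antisymm (CfsgLib.Inv.pResidual_map_le p f) ?_
  haveI := CfsgLib.Inv.pResidual_normal p G
  haveI : ((Cfsg.pResidual p G).map f).Normal :=
    Subgroup.Normal.map inferInstance f hf
  obtain ⟨m, hm⟩ := exists_index_pResidual (G := G) (p := p)
  rw [Cfsg.pResidual, Subgroup.closure_le]
  intro y hy
  obtain ⟨j, -, hj⟩ := (Nat.dvd_prime_pow hp.out).1
    (hm ▸ Subgroup.index_map_dvd (Cfsg.pResidual p G) (f := f) hf)
  have h : orderOf (y : G' ⧸ (Cfsg.pResidual p G).map f) = 1 := by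
    refine Nat.eq_one_of_dvd_coprimes (Nat.Coprime.pow_right j hy)
      (orderOf_map_dvd (QuotientGroup.mk' _) y) ?_
    rw [← hj]
    exact orderOf_dvd_natCard _
  exact (QuotientGroup.eq_one_iff y).1 (orderOf_eq_one_iff.1 h)

theorem hnpc_of_surjective [Finite G] [Fact p.Prime] {G' : Type*} [Group G'] {f : G →* G'}
    (hf : Function.Surjective f) (h : Cfsg.HasNormalPComplement p G) :
    Cfsg.HasNormalPComplement p G' := by
  haveI : Finite G' := Finite.of_surjective f hf
  rw [hnpc_iff] at h ⊢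
  rw [← map_pResidual_of_surjective (p := p) hf]
  exact fun hd => h (hd.trans (Subgroup.card_map_dvd _ f))

theorem hnpc_mulEquiv [Finite G] [Fact p.Prime] {G' : Type*} [Group G'] (e : G ≃* G')
    (h : Cfsg.HasNormalPComplement p G) : Cfsg.HasNormalPComplement p G' :=
  hnpc_of_surjective (f := e.toMonoidHom) e.surjective h

theorem hnpc_of_isPGroup [Finite G] [hp : Fact p.Prime] (h : IsPGroup p G) :
    Cfsg.HasNormalPComplement p G := by
  obtain ⟨k, hk⟩ := IsPGroup.iff_card.1 h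
  refine CfsgLib.Perm.hasNormalPComplement_of ⊥ ?_ ⟨k, by rw [Subgroup.index_bot, hk]⟩
  rw [Subgroup.card_bot]
  exact hp.out.not_dvd_one

theorem hnpc_of_not_dvd [Finite G] [Fact p.Prime] (h : ¬ p ∣ Nat.card G) :
    Cfsg.HasNormalPComplement p G :=
  CfsgLib.Perm.hasNormalPComplement_of ⊤ (by rwa [Subgroup.card_top]) ⟨0, by simp⟩

/-- `x` normalising the `p`-subgroup `Q`, of order prime to `p`, centralises it. -/
theorem mem_centralizer_of_hnpc [Finite G] [Fact p.Prime] (h : Cfsg.HasNormalPComplement p G)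
    {Q : Subgroup G} (hQ : IsPGroup p Q) {g : G} (hg : g ∈ Subgroup.normalizer (Q : Set G))
    (hc : Nat.Coprime (orderOf g) p) : g ∈ Subgroup.centralizer (Q : Set G) := by
  haveI := CfsgLib.Inv.pResidual_normal p G
  have hbot := sylow_inf_eq_bot_of_not_dvd hQ (hnpc_iff.1 h)
  rw [Subgroup.mem_centralizer_iff]
  intro q hq
  have h1 : g * q * g⁻¹ * q⁻¹ ∈ Q ⊓ Cfsg.pResidual p G := by
    refine Subgroup.mem_inf.2 ⟨mul_mem ((Subgroup.mem_normalizer_iff.1 hg q).1 hq) (inv_mem hq), ?_⟩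
    have hgK : g ∈ Cfsg.pResidual p G := CfsgLib.Inv.mem_pResidual hc
    have := mul_mem hgK (Subgroup.Normal.conj_mem ‹_› _ (inv_mem hgK) q)
    simpa [mul_assoc] using this
  rw [hbot, Subgroup.mem_bot, mul_inv_eq_one, mul_inv_eq_iff_eq_mul] at h1
  exact h1.symm

theorem isNilpotent_bot_of_eq_commutator {Q : Type*} [Group Q] [Group.IsNilpotent Q]
    {W : Subgroup Q} (h : W ≤ ⁅W, (⊤ : Subgroup Q)⁆) : W = ⊥ := by
  obtain ⟨n, hn⟩ := Subgroup.nilpotent_iff_lowerCentralSeries.1 (inferInstance : Group.IsNilpotent Q)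
  rw [eq_bot_iff, ← hn]
  clear hn
  induction n with
  | zero => exact le_top
  | succ n ih => exact h.trans (Subgroup.commutator_mono ih le_top)

/-- A homomorphism from `O^p(G)` to a `p`-group is trivial. -/
theorem hom_pResidual_eq_one [Finite G] {A : Type*} [Group A] (hA : IsPGroup p A)
    (ψ : Cfsg.pResidual p G →* A) (k : Cfsg.pResidual p G) : ψ k = 1 := by
  have h : Cfsg.pResidual p G ≤ ψ.ker.map (Cfsg.pResidual p G).subtype := by
    conv_lhs => rw [Cfsg.pResidual]
    rw [Subgroup.closure_le]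
    intro y hy
    have hy' : y ∈ Cfsg.pResidual p G := CfsgLib.Inv.mem_pResidual hy
    refine ⟨⟨y, hy'⟩, ?_, rfl⟩
    obtain ⟨a, ha⟩ := hA (ψ ⟨y, hy'⟩)
    rw [SetLike.mem_coe, MonoidHom.mem_ker, ← orderOf_eq_one_iff]
    refine Nat.eq_one_of_dvd_coprimes (Nat.Coprime.pow_right a hy) ?_ (orderOf_dvd_of_pow_eq_one ha)
    exact (orderOf_map_dvd ψ _).trans (dvd_of_eq (Subgroup.orderOf_coe _).symm)
  obtain ⟨k', hk', he⟩ := h k.2
  rw [show k = k' from Subtype.ext he.symm]
  exact hk'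

theorem relIndex_eq_index_of_sup_eq_top [Finite G] (V K : Subgroup G) [K.Normal] (h : V ⊔ K = ⊤) :
    V.relIndex K = V.index := by
  have h1 := card_sup_mul_card_inf V K
  rw [h, Subgroup.card_top, ← V.card_mul_index,
    ← relIndex_mul_card (inf_le_right : V ⊓ K ≤ K), Subgroup.inf_relIndex_right] at h1
  have h2 : (Nat.card V * Nat.card (V ⊓ K : Subgroup G)) * V.index =
      (Nat.card V * Nat.card (V ⊓ K : Subgroup G)) * V.relIndex K := by
    rw [mul_right_comm, h1]; ring
  exact (Nat.eq_of_mul_eq_mul_left (Nat.mul_pos Nat.card_pos Nat.card_pos) h2).symm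

set_option maxHeartbeats 1000000 in
/-- If `V ≥ P` controls fusion in the Sylow subgroup `P`, then `P ∩ O^p(G) = P ∩ O^p(V)`. -/
theorem inf_pResidual_eq_of_control [Finite G] [hp : Fact p.Prime] (P : Sylow p G) (V : Subgroup G)
    (hPV : (P : Subgroup G) ≤ V)
    (hctrl : ∀ x ∈ P, ∀ g : G, g * x * g⁻¹ ∈ P → ∃ v ∈ V, v * x * v⁻¹ = g * x * g⁻¹) :
    (P : Subgroup G) ⊓ Cfsg.pResidual p G =
      (P : Subgroup G) ⊓ (Cfsg.pResidual p V).map V.subtype := by
  refine le_antisymm ?_ (inf_le_inf_left _ (pResidual_subgroup_le V))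
  set K := Cfsg.pResidual p G with hK
  haveI hKn : K.Normal := CfsgLib.Inv.pResidual_normal p G
  set R := Cfsg.pResidual p V with hR
  haveI hRn : R.Normal := CfsgLib.Inv.pResidual_normal p V
  have hRW : R ≤ K.subgroupOf V :=
    fun x hx => pResidual_subgroup_le V (Subgroup.mem_map_of_mem V.subtype hx)
  set W := K.subgroupOf V with hW
  set M := R ⊔ ⁅W, (⊤ : Subgroup V)⁆ with hM
  haveI hMn : M.Normal := by rw [hM]; infer_instance
  have hMW : M ≤ W := by
    rw [hM]; exact sup_le hRW (Subgroup.commutator_le_left _ _)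
  suffices hWM : W ≤ M by
    intro x hx
    obtain ⟨hxP, hxK⟩ := Subgroup.mem_inf.1 hx
    refine Subgroup.mem_inf.2 ⟨hxP, ⟨⟨x, hPV hxP⟩, ?_, rfl⟩⟩
    have hWbot : W.map (QuotientGroup.mk' R) = ⊥ := by
      haveI := (CfsgLib.Inv.isPGroup_quot_pResidual (G := V) (p := p)).isNilpotent
      refine isNilpotent_bot_of_eq_commutator ((Subgroup.map_mono hWM).trans ?_)
      rw [hM, Subgroup.map_sup, QuotientGroup.map_mk'_self, bot_sup_eq, Subgroup.map_commutator,
        Subgroup.map_top_of_surjective _ (QuotientGroup.mk'_surjective R)]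
    have h1 : QuotientGroup.mk' R ⟨x, hPV hxP⟩ ∈ W.map (QuotientGroup.mk' R) :=
      Subgroup.mem_map_of_mem _ (show (⟨x, hPV hxP⟩ : V) ∈ W from hxK)
    rw [hWbot, Subgroup.mem_bot] at h1
    exact (QuotientGroup.eq_one_iff _).1 h1
  set π := QuotientGroup.mk' M with hπ
  have hcent : ∀ w ∈ W, ∀ v : V, π (v * w * v⁻¹) = π w := by
    intro w hw v
    have h2 : ⁅w, v⁆ ∈ M :=
      (le_sup_right : ⁅W, (⊤ : Subgroup V)⁆ ≤ M) (Subgroup.commutator_mem_commutator hw (Subgroup.mem_top v))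
    have h3 : π ⁅w, v⁆ = 1 := (QuotientGroup.eq_one_iff _).2 h2
    rw [commutatorElement_def, map_mul, map_mul, map_mul, map_inv, map_inv, mul_inv_eq_one,
      mul_inv_eq_iff_eq_mul] at h3
    rw [map_mul, map_mul, map_inv, ← h3, mul_inv_cancel_right]
  let A := W.map π
  letI : CommGroup A :=
    { (inferInstance : Group A) with
      mul_comm := fun a b => by
        obtain ⟨a, w, hw, rfl⟩ := a
        obtain ⟨b, w', -, rfl⟩ := b
        apply Subtype.ext
        show π w * π w' = π w' * π w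
        have := hcent w hw w'
        rw [map_mul, map_mul, map_inv, mul_inv_eq_iff_eq_mul] at this
        exact this.symm }
  have hA : IsPGroup p A := by
    refine IsPGroup.to_subgroup ?_ _
    intro q
    obtain ⟨x, rfl⟩ := QuotientGroup.mk_surjective q
    obtain ⟨a, ha⟩ := CfsgLib.Inv.exists_pow_mem_pResidual (p := p) x
    exact ⟨a, (QuotientGroup.eq_one_iff (x ^ p ^ a)).2 (le_sup_left (a := R) ha)⟩
  let H : Subgroup K := V.subgroupOf K
  let ι : H →* V :=
    { toFun := fun h => ⟨((h : K) : G), h.2⟩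
      map_one' := rfl
      map_mul' := fun _ _ => rfl }
  let ϕ : H →* A :=
    (π.comp ι).codRestrict A fun h => ⟨ι h, (h : K).2, rfl⟩
  let ψ := MonoidHom.transfer ϕ
  have hψ : ∀ k : K, ψ k = 1 := hom_pResidual_eq_one hA ψ
  have hidx : Nat.Coprime p H.index := by
    refine hp.out.coprime_iff_not_dvd.2 fun hd => P.not_dvd_index ?_
    refine dvd_trans ?_ (Subgroup.index_dvd_of_le hPV)
    rw [← relIndex_eq_index_of_sup_eq_top V K
      (top_le_iff.1 ((sylow_sup_pResidual P).ge.trans (sup_le_sup_right hPV _)))]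
    exact hd
  have main : ∀ x : G, ∀ hxP : x ∈ P, ∀ hxK : x ∈ K, (⟨x, hPV hxP⟩ : V) ∈ M := by
    intro x hxP hxK
    have hxH : (⟨x, hxK⟩ : K) ∈ H := hPV hxP
    have h1 : ψ ⟨x, hxK⟩ = ϕ ⟨⟨x, hxK⟩, hxH⟩ ^ H.index := by
      refine CfsgLib.Inv.transfer_eq_pow_of_ctrl H ϕ hxH fun k g₀ h => ?_
      set y : V := ⟨(g₀ : G)⁻¹ * x ^ k * g₀, h⟩ with hy
      have hxk : x ^ k ∈ P := pow_mem hxP k
      obtain ⟨a, ha⟩ := P.2 ⟨x ^ k, hxk⟩
      have hya : IsPGroup p (Subgroup.zpowers y) := by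
        obtain ⟨j, -, hj⟩ := (Nat.dvd_prime_pow hp.out).1 (orderOf_dvd_of_pow_eq_one (n := p ^ a)
          (show (⟨x ^ k, hxk⟩ : P) ^ p ^ a = 1 from ha))
        refine IsPGroup.of_card (n := j) ?_
        rw [Nat.card_zpowers, ← Subgroup.orderOf_coe, hy, ← hj, ← Subgroup.orderOf_coe]
        simpa using MulEquiv.orderOf_eq (MulAut.conj (g₀ : G)⁻¹) (x ^ k)
      obtain ⟨S, hS⟩ := hya.exists_le_sylow
      obtain ⟨v, rfl⟩ := MulAction.exists_smul_eq V (P.subtype hPV) S
      have h2 := hS (Subgroup.mem_zpowers y)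
      rw [Sylow.coe_subgroup_smul] at h2
      have h3 : (v : G)⁻¹ * (y : G) * (v : G) ∈ (P : Subgroup G) := by
        have := mem_conj_smul_iff.1 h2
        simpa [Sylow.coe_subtype, Subgroup.mem_subgroupOf] using this
      obtain ⟨u, hu, hue⟩ := hctrl (x ^ k) hxk ((v : G)⁻¹ * (g₀ : G)⁻¹)
        (by show _ ∈ (P : Subgroup G); simpa [hy, mul_assoc] using h3)
      apply Subtype.ext
      show π (ι ⟨g₀⁻¹ * ⟨x, hxK⟩ ^ k * g₀, h⟩) = (π ⟨x, hPV hxP⟩) ^ k
      have e : ι ⟨g₀⁻¹ * ⟨x, hxK⟩ ^ k * g₀, h⟩ =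
          (v * ⟨u, hu⟩) * (⟨x, hPV hxP⟩ ^ k) * (v * ⟨u, hu⟩)⁻¹ := by
        apply Subtype.ext
        show (g₀ : G)⁻¹ * x ^ k * g₀ = (v * u) * x ^ k * ((v : G) * u)⁻¹
        have e2 : (v : G) * (u * x ^ k * u⁻¹) * (v : G)⁻¹ = (g₀ : G)⁻¹ * x ^ k * g₀ := by
          rw [hue]; group
        rw [← e2]; group
      rw [e, ← map_pow]
      exact hcent _ (pow_mem (show (⟨x, hPV hxP⟩ : V) ∈ W from hxK) k) _
    rw [hψ] at h1
    obtain ⟨a, ha⟩ := hA (ϕ ⟨⟨x, hxK⟩, hxH⟩)
    have : ϕ ⟨⟨x, hxK⟩, hxH⟩ = 1 := orderOf_eq_one_iff.1 (Nat.eq_one_of_dvd_coprimes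
      (Nat.Coprime.pow_left a hidx) (orderOf_dvd_of_pow_eq_one ha)
      (orderOf_dvd_of_pow_eq_one h1.symm))
    exact (QuotientGroup.eq_one_iff _).1 (congrArg Subtype.val this)
  intro w hw
  have hWR : W ≤ ((P : Subgroup G).subgroupOf V ⊓ W) ⊔ R := by
    intro w hw
    have h := sylow_sup_pResidual (P.subtype hPV)
    rw [Sylow.coe_subtype] at h
    have : w ∈ ((((P : Subgroup G).subgroupOf V) : Set V) * (R : Set V)) := by
      rw [← Subgroup.mul_normal, h]; trivial
    obtain ⟨s, hs, r, hr, rfl⟩ := this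
    refine Subgroup.mul_mem_sup (Subgroup.mem_inf.2 ⟨hs, ?_⟩) hr
    have := mul_mem hw (inv_mem (hRW hr))
    simpa using this
  refine (hWR.trans (sup_le ?_ le_sup_left)) hw
  intro z hz
  exact main (z : G) (Subgroup.mem_inf.1 hz).1 (Subgroup.mem_inf.1 hz).2

/-- No fusion in a Sylow subgroup gives a normal `p`-complement. -/
theorem hnpc_of_fusion [Finite G] [Fact p.Prime] (P : Sylow p G)
    (h : ∀ x ∈ P, ∀ g : G, g * x * g⁻¹ ∈ P → ∃ s ∈ P, s * x * s⁻¹ = g * x * g⁻¹) :
    Cfsg.HasNormalPComplement p G := by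
  rw [hnpc_iff_inf P, inf_pResidual_eq_of_control P P le_rfl h]
  have : Cfsg.pResidual p (P : Subgroup G) = ⊥ :=
    not_dvd_card_pResidual_of_normal (by rw [Subgroup.card_bot]; exact (Fact.out : p.Prime).not_dvd_one)
      (by rw [Subgroup.index_bot]; exact IsPGroup.iff_card.1 P.2)
  rw [this, Subgroup.map_bot, inf_bot_eq]

/-- Frobenius' condition: `p'`-elements normalising a `p`-subgroup centralise it. -/
def FrobCond (p : ℕ) (G : Type*) [Group G] : Prop :=
  ∀ Q : Subgroup G, IsPGroup p Q → ∀ g ∈ Subgroup.normalizer (Q : Set G),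
    Nat.Coprime (orderOf g) p → g ∈ Subgroup.centralizer (Q : Set G)

theorem FrobCond.subgroup (h : FrobCond p G) (H : Subgroup G) : FrobCond p H := by
  intro Q hQ g hg hc
  rw [Subgroup.mem_centralizer_iff]
  intro q hq
  have hg' : (g : G) ∈ Subgroup.normalizer ((Q.map H.subtype : Subgroup G) : Set G) :=
    Subgroup.le_normalizer_map H.subtype (Subgroup.mem_map_of_mem _ hg)
  have := Subgroup.mem_centralizer_iff.1 (h _ (hQ.map _) (g : G) hg' (by rwa [Subgroup.orderOf_coe]))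
    (q : G) ⟨q, hq, rfl⟩
  exact Subtype.ext this

/-- An element of `H` times a Sylow subgroup of `H`: if all `p'`-elements of `H` lie in `C`
normal in `H`, then `H = S C`. -/
theorem exists_mul_of_pElements [Finite G] [Fact p.Prime] {H : Subgroup G} (S : Sylow p H)
    {C : Subgroup G} (hC : ∀ x ∈ H, Nat.Coprime (orderOf x) p → x ∈ C) {n : G} (hn : n ∈ H) :
    ∃ s : H, s ∈ S ∧ ∃ c ∈ C, c ∈ H ∧ (s : G) * c = n := by
  haveI := CfsgLib.Inv.pResidual_normal p H
  have h : (⟨n, hn⟩ : H) ∈ ((S : Subgroup H) : Set H) * (Cfsg.pResidual p H : Set H) := by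
    rw [← Subgroup.mul_normal, sylow_sup_pResidual S]; trivial
  obtain ⟨s, hs, c, hc, he⟩ := h
  refine ⟨s, hs, c, ?_, c.2, congrArg Subtype.val he⟩
  have hle : Cfsg.pResidual p H ≤ C.subgroupOf H := by
    rw [Cfsg.pResidual, Subgroup.closure_le]
    exact fun y hy => hC y y.2 (by rwa [Subgroup.orderOf_coe])
  exact hle hc

/-- Under Frobenius' condition two Sylow subgroups are conjugate under the centralizer of their
intersection. -/
theorem exists_centralizer_conj_sylow [Finite G] [hp : Fact p.Prime] (hF : FrobCond p G) :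
    ∀ P Q : Sylow p G, ∃ c ∈ Subgroup.centralizer (((P : Subgroup G) ⊓ Q : Subgroup G) : Set G),
      c • P = Q := by
  suffices ∀ n : ℕ, ∀ P Q : Sylow p G,
      Nat.card (P : Subgroup G) ≤ Nat.card ((P : Subgroup G) ⊓ Q : Subgroup G) + n →
      ∃ c ∈ Subgroup.centralizer (((P : Subgroup G) ⊓ Q : Subgroup G) : Set G), c • P = Q from
    fun P Q => this (Nat.card (P : Subgroup G)) P Q (Nat.le_add_left _ _)
  intro n
  induction n using Nat.strong_induction_on with
  | _ n ih =>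
    intro P Q hn
    by_cases hPQ : P = Q
    · exact ⟨1, one_mem _, by rw [hPQ, one_smul]⟩
    set D : Subgroup G := (P : Subgroup G) ⊓ Q with hD
    have hlt : ∀ R : Sylow p G, D ≤ R → D ≠ R → D <
        (R : Subgroup G) ⊓ Subgroup.normalizer (D : Set G) := by
      intro R hDR hne
      haveI := R.2.isNilpotent
      have h1 := Group.normalizerCondition_of_isNilpotent (D.subgroupOf (R : Subgroup G))
        (lt_top_iff_ne_top.2 fun h => hne (le_antisymm hDR (Subgroup.subgroupOf_eq_top.1 h)))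
      obtain ⟨x, hx, hxD⟩ := SetLike.exists_of_lt h1
      refine lt_of_le_of_ne (le_inf hDR Subgroup.le_normalizer) fun h => hxD ?_
      show (x : G) ∈ D
      rw [h]
      refine Subgroup.mem_inf.2 ⟨x.2, ?_⟩
      have := Subgroup.le_normalizer_map (H := D.subgroupOf (R : Subgroup G))
        (R : Subgroup G).subtype (Subgroup.mem_map_of_mem _ hx)
      rwa [Subgroup.map_subgroupOf_eq_of_le hDR] at this
    have hDP : D ≠ P := fun h => hPQ (Sylow.ext (le_antisymm (h ▸ inf_le_right)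
      (P.is_maximal' Q.2 (h ▸ inf_le_right)).le))
    have hDQ : D ≠ Q := fun h => hPQ (Sylow.ext (le_antisymm
      (Q.is_maximal' P.2 (h ▸ inf_le_left)).le (h ▸ inf_le_left)))
    set N := Subgroup.normalizer (D : Set G) with hN
    have hS : ∀ R : Sylow p G, ∃ S : Sylow p N, ((R : Subgroup G) ⊓ N).subgroupOf N ≤ S := fun R =>
      IsPGroup.exists_le_sylow ((R.2.to_le inf_le_left).comap_subtype (K := N))
    obtain ⟨S, hS1⟩ := hS P
    obtain ⟨T, hT1⟩ := hS Q
    obtain ⟨m, hm⟩ := MulAction.exists_smul_eq N T S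
    have hDp : IsPGroup p D := P.2.to_le inf_le_left
    obtain ⟨s, hs, c, hcC, hcN, hsc⟩ := exists_mul_of_pElements S
      (C := Subgroup.centralizer (D : Set G)) (fun x hx hxc => hF D hDp x hx hxc) m.2
    have hm' : (⟨c, hcN⟩ : N) • T = S := by
      have h1 : s • ((⟨c, hcN⟩ : N) • T) = S := by
        rw [← mul_smul, show s * ⟨c, hcN⟩ = m from Subtype.ext hsc, hm]
      have h2 : s • S = S := Sylow.smul_eq_iff_mem_normalizer.2 (Subgroup.le_normalizer hs)
      exact MulAction.injective s (h1.trans h2.symm)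
    obtain ⟨R, hR⟩ := (S.2.map N.subtype).exists_le_sylow
    have hPR : (P : Subgroup G) ⊓ N ≤ (P : Subgroup G) ⊓ R := le_inf inf_le_left fun x hx =>
      hR ⟨⟨x, (Subgroup.mem_inf.1 hx).2⟩, hS1 hx, rfl⟩
    have hQR : ∀ x ∈ (Q : Subgroup G) ⊓ N, c * x * c⁻¹ ∈ (R : Subgroup G) := by
      intro x hx
      have : (⟨c, hcN⟩ : N) * ⟨x, (Subgroup.mem_inf.1 hx).2⟩ * (⟨c, hcN⟩ : N)⁻¹ ∈ (S : Subgroup N) := by
        rw [← hm', Sylow.coe_subgroup_smul, mem_conj_smul_iff]
        have hxT : (⟨x, (Subgroup.mem_inf.1 hx).2⟩ : N) ∈ (T : Subgroup N) := hT1 hx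
        convert hxT using 1
        group
      exact hR ⟨_, this, rfl⟩
    have hcard : ∀ {A B : Subgroup G}, A < B → Nat.card A < Nat.card B := fun {A B} h =>
      lt_of_le_of_ne (Subgroup.card_le_of_le h.le) fun he =>
        h.ne (Subgroup.eq_of_le_of_card_ge h.le he.ge)
    have h1 : D < (P : Subgroup G) ⊓ R := lt_of_lt_of_le (hlt P inf_le_left hDP) hPR
    obtain ⟨a, ha, haR⟩ := ih (Nat.card (P : Subgroup G) - Nat.card ((P : Subgroup G) ⊓ R : Subgroup G))
      (by have := hcard h1; have := hn; have := Subgroup.card_le_of_le (inf_le_left : (P : Subgroup G) ⊓ R ≤ P); omega) P R (by omega)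
    have h2 : D < ((c⁻¹ • R : Sylow p G) : Subgroup G) ⊓ Q := by
      refine lt_of_lt_of_le (hlt Q inf_le_right hDQ) (le_inf (fun x hx => ?_) inf_le_left)
      rw [Sylow.coe_subgroup_smul, mem_conj_smul_iff, inv_inv]
      exact hQR x hx
    have hcR : Nat.card ((c⁻¹ • R : Sylow p G) : Subgroup G) = Nat.card (P : Subgroup G) :=
      Sylow.card_eq_multiplicity _ |>.trans (Sylow.card_eq_multiplicity P).symm
    obtain ⟨b, hb, hbQ⟩ := ih
      (Nat.card (P : Subgroup G) - Nat.card (((c⁻¹ • R : Sylow p G) : Subgroup G) ⊓ Q : Subgroup G))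
      (by
        have := hcard h2; have := hn; have := hcR
        have := Subgroup.card_le_of_le (inf_le_left :
          ((c⁻¹ • R : Sylow p G) : Subgroup G) ⊓ Q ≤ ((c⁻¹ • R : Sylow p G) : Subgroup G))
        omega) (c⁻¹ • R) Q (by omega)
    refine ⟨b * c⁻¹ * a, mul_mem (mul_mem ?_ (inv_mem hcC)) ?_, by rw [mul_smul, mul_smul, haR, hbQ]⟩
    · exact Subgroup.centralizer_le h2.le hb
    · exact Subgroup.centralizer_le h1.le ha

/-- Frobenius: the condition implies that a Sylow subgroup controls its fusion. -/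
theorem fusion_of_frobCond [Finite G] [hp : Fact p.Prime] (hF : FrobCond p G) (P : Sylow p G)
    {x : G} (hx : x ∈ P) {g : G} (hg : g * x * g⁻¹ ∈ P) :
    ∃ s ∈ P, s * x * s⁻¹ = g * x * g⁻¹ := by
  have hxD : x ∈ (P : Subgroup G) ⊓ (g⁻¹ • P : Sylow p G) := by
    refine Subgroup.mem_inf.2 ⟨hx, ?_⟩
    rw [Sylow.coe_subgroup_smul, mem_conj_smul_iff, inv_inv]
    exact hg
  obtain ⟨c, hc, hcP⟩ := exists_centralizer_conj_sylow hF P (g⁻¹ • P)
  have hgc : g * c ∈ Subgroup.normalizer ((P : Subgroup G) : Set G) := by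
    exact Sylow.smul_eq_iff_mem_normalizer.1 (by rw [mul_smul, hcP, smul_inv_smul])
  obtain ⟨s, hs, c', hc', -, he⟩ := exists_mul_of_pElements
    (P.subtype Subgroup.le_normalizer) (C := Subgroup.centralizer ((P : Subgroup G) : Set G))
    (fun y hy hyc => hF _ P.2 y hy hyc) hgc
  have hs' : (s : G) ∈ P := hs
  refine ⟨s, hs', ?_⟩
  have e1 : c * x * c⁻¹ = x := by
    rw [← Subgroup.mem_centralizer_iff.1 hc x hxD, mul_inv_cancel_right]
  have e2 : c' * x * c'⁻¹ = x := by
    rw [← Subgroup.mem_centralizer_iff.1 hc' x hx, mul_inv_cancel_right]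
  calc (s : G) * x * (s : G)⁻¹ = (s * c') * x * ((s : G) * c')⁻¹ := by
        conv_lhs => rw [← e2]
        group
    _ = g * (c * x * c⁻¹) * g⁻¹ := by rw [he]; group
    _ = g * x * g⁻¹ := by rw [e1]

/-- Frobenius' normal `p`-complement criterion. -/
theorem hnpc_iff_frobCond [Finite G] [Fact p.Prime] :
    Cfsg.HasNormalPComplement p G ↔ FrobCond p G :=
  ⟨fun h _ hQ _ hg hc => mem_centralizer_of_hnpc h hQ hg hc, fun h =>
    hnpc_of_fusion default fun _ hx _ hg => fusion_of_frobCond h _ hx hg⟩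

/-- Burnside: fusion of normal subsets (here: elements of an abelian Sylow) lives in `N(P)`. -/
theorem exists_normalizer_conj_of_abelian_sylow [Finite G] [Fact p.Prime] (P : Sylow p G)
    (hP : IsMulCommutative (P : Subgroup G)) {x : G} (hx : x ∈ P) {g : G} (hg : g * x * g⁻¹ ∈ P) :
    ∃ n ∈ Subgroup.normalizer ((P : Subgroup G) : Set G), n * x * n⁻¹ = g * x * g⁻¹ := by
  obtain ⟨n, hn, he⟩ := Sylow.conj_eq_normalizer_conj_of_mem P x g⁻¹ hx (by simpa using hg)
  exact ⟨n⁻¹, inv_mem hn, by simpa using he.symm⟩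

/-- Control of fusion gives the focal subgroup. -/
theorem commutator_inf_eq_of_control [Finite G] [Fact p.Prime] (P : Sylow p G) (V : Subgroup G)
    (hPV : (P : Subgroup G) ≤ V)
    (hctrl : ∀ x ∈ P, ∀ g : G, g * x * g⁻¹ ∈ P → ∃ v ∈ V, v * x * v⁻¹ = g * x * g⁻¹) :
    commutator G ⊓ (P : Subgroup G) = ⁅V, V⁆ ⊓ (P : Subgroup G) := by
  refine le_antisymm (le_inf ?_ inf_le_right)
    (inf_le_inf_right _ (Subgroup.commutator_mono le_top le_top))
  rw [Subgroup.commutator_inf_eq_focalSubgroup, Subgroup.focalSubgroup_def, Subgroup.closure_le]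
  rintro _ ⟨hg, x, hx, u, rfl⟩
  have hxi : u * x⁻¹ * u⁻¹ ∈ (P : Subgroup G) := by
    have := mul_mem (inv_mem hx) hg
    simpa [commutatorElement_def, mul_assoc] using this
  obtain ⟨v, hv, he⟩ := hctrl x⁻¹ (inv_mem hx) u hxi
  have : ⁅x, u⁆ = ⁅x, v⁆ := by
    simp only [commutatorElement_def]
    calc x * u * x⁻¹ * u⁻¹ = x * (u * x⁻¹ * u⁻¹) := by group
      _ = x * (v * x⁻¹ * v⁻¹) := by rw [he]
      _ = _ := by group
  rw [SetLike.mem_coe, this]
  exact Subgroup.commutator_mem_commutator (hPV hx) hv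

end CfsgLib.Solv
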