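import Cfsg.Agent.Solv.Schur
import Cfsg.Prelude.Def_Local

/-!
Hall subgroups: existence, conjugacy and dominance in groups all of whose composition factors are
π-groups or solvable π'-groups (in particular in solvable groups).
-/

set_option autoImplicit false
set_option linter.style.haveILetI false
set_option linter.deprecated false

open scoped Pointwise

namespace CfsgLib.Solv

variable {G : Type*} [Group G]

/-- Transport of solvability along an equality of orders is not possible; along an isomorphism it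
is. -/
theorem isSolvable_of_mulEquiv {H : Type*} [Group H] (e : G ≃* H) [Group.IsSolvable G] :
    Group.IsSolvable H :=
  Group.isSolvable_of_surjective (f := e.toMonoidHom) e.surjective

theorem isSolvable_of_le {H K : Subgroup G} (h : H ≤ K) [Group.IsSolvable K] :
    Group.IsSolvable H :=
  Group.isSolvable_of_isSolvable_injective (f := Subgroup.inclusion h)
    (Subgroup.inclusion_injective h)

theorem card_sup_of_coprime {X M : Subgroup G} [M.Normal]
    (h : (Nat.card X).Coprime (Nat.card M)) :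
    Nat.card (X ⊔ M : Subgroup G) = Nat.card X * Nat.card M := by
  have := card_sup_mul_card_inf X M
  rwa [Subgroup.inf_eq_bot_of_coprime h, Subgroup.card_bot, mul_one] at this

/-- Dedekind's rule. -/
theorem inf_sup_of_le {X M Y : Subgroup G} [M.Normal] (hMY : M ≤ Y) :
    (X ⊓ Y) ⊔ M = (X ⊔ M) ⊓ Y := by
  refine le_antisymm (le_inf (sup_le_sup_right inf_le_left M) (sup_le inf_le_right hMY)) ?_
  intro z hz
  obtain ⟨hz1, hz2⟩ := Subgroup.mem_inf.1 hz
  obtain ⟨x, hx, m, hm, rfl⟩ := Subgroup.mem_sup_of_normal_right.1 hz1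
  refine Subgroup.mem_sup_of_normal_right.2 ⟨x, Subgroup.mem_inf.2 ⟨hx, ?_⟩, m, hm, rfl⟩
  simpa using mul_mem hz2 (inv_mem (hMY hm))

theorem coprime_card_inf_sup [Finite G] {X M Y : Subgroup G} [M.Normal] (hMY : M ≤ Y)
    (hY : Y ≤ X ⊔ M) : (X ⊓ Y) ⊔ M = Y := by
  rw [inf_sup_of_le hMY, inf_eq_right.2 hY]

/-- Two subgroups of order coprime to that of a normal subgroup `M` with the same product with `M`
are conjugate in that product, if `M` or one of them is solvable. -/
theorem conj_complement_in_sup [Finite G] {M : Subgroup G} [M.Normal] {X Y : Subgroup G}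
    (hXY : X ⊔ M = Y ⊔ M) (hX : (Nat.card X).Coprime (Nat.card M))
    (hY : (Nat.card Y).Coprime (Nat.card M))
    (hs : Group.IsSolvable M ∨ Group.IsSolvable X) :
    ∃ g ∈ X ⊔ M, MulAut.conj g • X = Y := by
  set L := X ⊔ M with hL
  have hXL : X ≤ L := le_sup_left
  have hML : M ≤ L := le_sup_right
  have hYL : Y ≤ L := hXY ▸ le_sup_left
  have hcard : Nat.card Y = Nat.card X := by
    have h1 := card_sup_of_coprime hY
    rw [← hXY, card_sup_of_coprime hX] at h1
    exact (Nat.eq_of_mul_eq_mul_right Nat.card_pos h1).symm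
  have hidx : (M.subgroupOf L).index = Nat.card X := by
    have h1 := (M.subgroupOf L).card_mul_index
    rw [card_subgroupOf hML, card_sup_of_coprime hX, mul_comm (Nat.card X)] at h1
    exact Nat.eq_of_mul_eq_mul_left Nat.card_pos h1
  obtain ⟨g, hg⟩ := schur_zassenhaus_conj (M.subgroupOf L) (X.subgroupOf L) (Y.subgroupOf L)
    (by rw [hidx, card_subgroupOf hML]; exact hX.symm)
    (hs.imp (fun (h : Group.IsSolvable M) => haveI := h; isSolvable_of_mulEquiv (G := M) (Subgroup.subgroupOfEquivOfLe hML).symm)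
      (fun (h : Group.IsSolvable X) => haveI := h; isSolvable_of_mulEquiv (G := X) (Subgroup.subgroupOfEquivOfLe hXL).symm))
    (by rw [hidx, card_subgroupOf hXL]) (by rw [hidx, card_subgroupOf hYL, hcard])
  refine ⟨g, g.2, ?_⟩
  have h := congrArg (Subgroup.map L.subtype) hg
  rw [conj_smul_eq_map, Subgroup.map_map, Subgroup.map_subgroupOf_eq_of_le hYL] at h
  rw [← h, conj_smul_eq_map]
  conv_lhs => rw [← Subgroup.map_subgroupOf_eq_of_le hXL, Subgroup.map_map]
  rfl

/-- Every nontrivial quotient of `G` has a nontrivial normal subgroup which is a π-group or a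
solvable π'-group. -/
def PiSolvable (π : Set ℕ) (G : Type*) [Group G] : Prop :=
  ∀ (N : Subgroup G) [N.Normal], N ≠ ⊤ → ∃ M : Subgroup (G ⧸ N), M.Normal ∧ M ≠ ⊥ ∧
    (PiNat π (Nat.card M) ∨ (PiNat πᶜ (Nat.card M) ∧ Group.IsSolvable M))

theorem piNat_of_pow {π : Set ℕ} {p k : ℕ} (hp : p.Prime) (h : p ∈ π) : PiNat π (p ^ k) :=
  fun q hq hd => by rwa [(Nat.prime_dvd_prime_iff_eq hq hp).1 (hq.dvd_of_dvd_pow hd)]

theorem PiSolvable.of_isSolvable [Finite G] [Group.IsSolvable G] (π : Set ℕ) :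
    PiSolvable π G := by
  intro N _ hN
  haveI : Nontrivial (G ⧸ N) := QuotientGroup.nontrivial_iff.2 hN
  obtain ⟨M, p, hp, hM, -, -, hMp⟩ := exists_minimal_normal_pGroup (G := G ⧸ N)
  haveI := Fact.mk hp
  by_cases h : p ∈ π
  · exact ⟨M, hM.1, hM.2.1, Or.inl (PiNat.of_isPGroup hMp h)⟩
  · exact ⟨M, hM.1, hM.2.1, Or.inr ⟨PiNat.of_isPGroup hMp h, inferInstance⟩⟩

theorem PiSolvable.quotient {π : Set ℕ} (h : PiSolvable π G) (K : Subgroup G) [K.Normal] :
    PiSolvable π (G ⧸ K) := by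
  intro N _ hN
  set f := (QuotientGroup.mk' N).comp (QuotientGroup.mk' K) with hf
  have hsurj : Function.Surjective f :=
    (QuotientGroup.mk'_surjective N).comp (QuotientGroup.mk'_surjective K)
  have hker : f.ker ≠ ⊤ := by
    intro hk
    apply hN
    rw [eq_top_iff]
    intro x _
    obtain ⟨y, rfl⟩ := QuotientGroup.mk'_surjective K x
    have : y ∈ f.ker := hk ▸ Subgroup.mem_top y
    exact (QuotientGroup.eq_one_iff _).1 this
  obtain ⟨M, hMn, hMb, hM⟩ := h f.ker hker
  set e := QuotientGroup.quotientKerEquivOfSurjective f hsurj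
  refine ⟨M.map e.toMonoidHom, hMn.map _ e.surjective, ?_, ?_⟩
  · rwa [Ne, Subgroup.map_eq_bot_iff_of_injective _ (f := e.toMonoidHom) e.injective]
  · rw [Subgroup.card_map_of_injective (f := e.toMonoidHom) e.injective]
    exact hM.imp id fun (h : _ ∧ Group.IsSolvable M) =>
      ⟨h.1, haveI : Group.IsSolvable M := h.2; isSolvable_of_mulEquiv (e.subgroupMap M)⟩

theorem PiSolvable.exists_normal {π : Set ℕ} (h : PiSolvable π G) [Nontrivial G] :
    ∃ M : Subgroup G, M.Normal ∧ M ≠ ⊥ ∧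
      (PiNat π (Nat.card M) ∨ (PiNat πᶜ (Nat.card M) ∧ Group.IsSolvable M)) := by
  obtain ⟨M, hMn, hMb, hM⟩ := h ⊥ bot_ne_top
  refine ⟨M.map QuotientGroup.quotientBot.toMonoidHom,
    hMn.map _ QuotientGroup.quotientBot.surjective, ?_, ?_⟩
  · rwa [Ne, Subgroup.map_eq_bot_iff_of_injective _
      (f := QuotientGroup.quotientBot.toMonoidHom) QuotientGroup.quotientBot.injective]
  · rw [Subgroup.card_map_of_injective (f := QuotientGroup.quotientBot.toMonoidHom)
      QuotientGroup.quotientBot.injective]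
    exact hM.imp id fun (h : _ ∧ Group.IsSolvable M) =>
      ⟨h.1, haveI : Group.IsSolvable M := h.2; isSolvable_of_mulEquiv (QuotientGroup.quotientBot.subgroupMap M)⟩

/-- A `p`-soluble group is `p'`-solvable in the sense of `PiSolvable`. -/
theorem PiSolvable.of_isPSolvable [Finite G] {p : ℕ} [hp : Fact p.Prime]
    (h : Cfsg.IsPSolvable p G) : PiSolvable ({p}ᶜ : Set ℕ) G := by
  obtain ⟨n, H, h0, hl, hmono, hnorm, hfac⟩ := h
  intro N _ hN
  set q := QuotientGroup.mk' N
  have hex : ∃ i, (H i).map q ≠ ⊥ := by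
    refine ⟨Fin.last n, ?_⟩
    rw [hl, Subgroup.map_top_of_surjective _ (QuotientGroup.mk'_surjective N)]
    haveI : Nontrivial (G ⧸ N) := QuotientGroup.nontrivial_iff.2 hN
    exact top_ne_bot
  obtain ⟨i, hi⟩ := (Set.toFinite {i | (H i).map q ≠ ⊥}).exists_minimal hex
  have hi0 : i ≠ 0 := fun h => hi.1 (by rw [h, h0, Subgroup.map_bot])
  obtain ⟨j, rfl⟩ := Fin.exists_succ_eq.2 hi0
  have hj : (H j.castSucc).map q = ⊥ := by
    by_contra hne
    exact absurd (hi.2 hne (Fin.castSucc_lt_succ (i := j)).le) (not_le.2 Fin.castSucc_lt_succ)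
  have hle : H j.castSucc ≤ N := by
    rw [Subgroup.map_eq_bot_iff, QuotientGroup.ker_mk'] at hj; exact hj
  set M := (H j.succ).map q with hM
  have hcard : Nat.card M ∣ (H j.castSucc).relIndex (H j.succ) := by
    rw [hM, ← Subgroup.relIndex_ker, QuotientGroup.ker_mk']
    exact Subgroup.relIndex_dvd_of_le_left _ hle
  refine ⟨M, (hnorm j.succ).map q (QuotientGroup.mk'_surjective N), hi.1, ?_⟩
  rcases hfac j with ⟨m, hm⟩ | hcop
  · right
    rw [hm] at hcard
    obtain ⟨k, -, hk⟩ := (Nat.dvd_prime_pow hp.1).1 hcard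
    refine ⟨?_, ?_⟩
    · rw [hk]; exact piNat_of_pow hp.1 (by simp)
    · haveI := (IsPGroup.of_card hk).isNilpotent
      infer_instance
  · left
    intro r hr hd
    simp only [Set.mem_compl_iff, Set.mem_singleton_iff]
    rintro rfl
    exact hr.not_dvd_one (hcop ▸ Nat.dvd_gcd (hd.trans hcard) dvd_rfl)

theorem hall_aux (π : Set ℕ) : ∀ n : ℕ, ∀ (G : Type*) [Group G] [Finite G], Nat.card G = n →
    PiSolvable π G →
    ∃ H : Subgroup G, PiNat π (Nat.card H) ∧ PiNat πᶜ H.index ∧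
      ∀ U : Subgroup G, PiNat π (Nat.card U) → ∃ g : G, U ≤ MulAut.conj g • H := by
  intro n
  induction n using Nat.strongRecOn with
  | ind n ih => ?_
  intro G _ _ hG hsep
  rcases subsingleton_or_nontrivial G with hss | hnt
  · refine ⟨⊤, ?_, ?_, fun U _ => ⟨1, fun x _ => ?_⟩⟩
    · rw [Subgroup.card_top, Nat.card_of_subsingleton (1 : G)]; exact PiNat.one π
    · rw [Subgroup.index_top]; exact PiNat.one _
    · rw [mem_conj_smul_iff]; trivial
  obtain ⟨M, hMn, hMb, hM⟩ := hsep.exists_normal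
  haveI := hMn
  set q := QuotientGroup.mk' M with hq
  have hqs := QuotientGroup.mk'_surjective M
  obtain ⟨H₀, hH₀, hH₀i, hdom⟩ :=
    ih _ (hG ▸ card_quotient_lt hMb) (G ⧸ M) rfl (hsep.quotient M)
  set L := H₀.comap q with hL
  have hML : M ≤ L := QuotientGroup.le_comap_mk' M _
  have hLmap : L.map q = H₀ := Subgroup.map_comap_eq_self_of_surjective hqs _
  have hLcard : Nat.card L = Nat.card H₀ * Nat.card M := by
    have := card_map_mk' M L
    rw [hLmap, inf_eq_right.2 hML] at this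
    exact this.symm
  have hLidx : L.index = H₀.index := Subgroup.index_comap_of_surjective _ hqs
  have hU' : ∀ U : Subgroup G, PiNat π (Nat.card U) → ∃ g : G, U ≤ MulAut.conj g • L := by
    intro U hU
    obtain ⟨g, hg⟩ := hdom (U.map q) (hU.of_dvd (U.card_map_dvd q))
    obtain ⟨g, rfl⟩ := hqs g
    refine ⟨g, fun x hx => ?_⟩
    rw [mem_conj_smul_iff, hL, Subgroup.mem_comap, map_mul, map_mul, map_inv]
    exact mem_conj_smul_iff.1 (hg ⟨x, hx, rfl⟩)
  rcases hM with hM | ⟨hM, hMs⟩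
  · exact ⟨L, hLcard ▸ hH₀.mul hM, hLidx ▸ hH₀i, hU'⟩
  haveI := hMs
  have hcop : (Nat.card (M.subgroupOf L)).Coprime (M.subgroupOf L).index := by
    have h1 := (M.subgroupOf L).card_mul_index
    rw [card_subgroupOf hML, hLcard, mul_comm (Nat.card H₀)] at h1
    rw [Nat.eq_of_mul_eq_mul_left Nat.card_pos h1, card_subgroupOf hML]
    exact (hH₀.coprime hM).symm
  obtain ⟨H₁, hH₁⟩ := Subgroup.exists_right_complement'_of_coprime hcop
  set H := H₁.map L.subtype with hH
  have hHL : H ≤ L := Subgroup.map_subtype_le H₁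
  have hHc : Nat.card H = Nat.card H₀ := by
    have h1 := hH₁.card_mul_card
    rw [card_subgroupOf hML, hLcard, mul_comm (Nat.card H₀)] at h1
    rw [hH, card_map_subtype]
    exact Nat.eq_of_mul_eq_mul_left Nat.card_pos h1
  have hHM : H ⊔ M = L := by
    refine Subgroup.eq_of_le_of_card_ge (sup_le hHL hML) ?_
    rw [card_sup_of_coprime (hHc ▸ hH₀.coprime hM), hHc, hLcard]
  refine ⟨H, hHc ▸ hH₀, ?_, ?_⟩
  · rw [← Subgroup.relIndex_mul_index hHL, hLidx]
    refine PiNat.mul (hM.of_dvd ?_) hH₀i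
    apply dvd_of_eq
    have h1 := relIndex_mul_card hHL
    rw [hLcard, hHc] at h1
    exact Nat.eq_of_mul_eq_mul_left Nat.card_pos h1
  intro U hU
  obtain ⟨g, hg⟩ := hU' U hU
  set H' := MulAut.conj g • H with hH'
  have hH'M : H' ⊔ M = MulAut.conj g • L := by
    rw [← hHM, Subgroup.smul_sup, hH',
      conj_smul_eq_self_of_mem_normalizer (by rw [Subgroup.normalizer_eq_top]; trivial :
        g ∈ Subgroup.normalizer (M : Set G))]
  have hY : (H' ⊓ (U ⊔ M)) ⊔ M = U ⊔ M :=
    coprime_card_inf_sup le_sup_right (sup_le (hH'M ▸ hg) le_sup_right)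
  have hc1 : (Nat.card (H' ⊓ (U ⊔ M) : Subgroup G)).Coprime (Nat.card M) :=
    ((hH₀.of_dvd (dvd_of_eq (by rw [hH', card_conj_smul, hHc]))).coprime hM).of_dvd_left
      (Subgroup.card_dvd_of_le inf_le_left)
  obtain ⟨x, -, hx⟩ := conj_complement_in_sup hY hc1 (hU.coprime hM) (Or.inl hMs)
  refine ⟨x * g, ?_⟩
  rw [map_mul, mul_smul, ← hH', ← hx]
  exact Subgroup.pointwise_smul_le_pointwise_smul_iff.2 inf_le_left

variable {π : Set ℕ}

theorem exists_hall [Finite G] (h : PiSolvable π G) :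
    ∃ H : Subgroup G, PiNat π (Nat.card H) ∧ PiNat πᶜ H.index := by
  obtain ⟨H, h1, h2, -⟩ := hall_aux π _ G rfl h
  exact ⟨H, h1, h2⟩

/-- A π-subgroup contains, up to order, no more than a Hall π-subgroup. -/
theorem card_dvd_card_hall {H U : Subgroup G} (hH : PiNat πᶜ H.index)
    (hU : PiNat π (Nat.card U)) : Nat.card U ∣ Nat.card H :=
  (hU.coprime hH).dvd_of_dvd_mul_right (H.card_mul_index.symm ▸ U.card_subgroup_dvd_card)

theorem hall_card_eq {H K : Subgroup G} (hH : PiNat π (Nat.card H)) (hHi : PiNat πᶜ H.index)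
    (hK : PiNat π (Nat.card K)) (hKi : PiNat πᶜ K.index) : Nat.card H = Nat.card K :=
  Nat.dvd_antisymm (card_dvd_card_hall hKi hH) (card_dvd_card_hall hHi hK)

theorem hall_le_conj [Finite G] (h : PiSolvable π G) {H : Subgroup G}
    (hH : PiNat π (Nat.card H)) (hHi : PiNat πᶜ H.index) {U : Subgroup G}
    (hU : PiNat π (Nat.card U)) : ∃ g : G, U ≤ MulAut.conj g • H := by
  obtain ⟨H₀, h1, h2, hdom⟩ := hall_aux π _ G rfl h
  obtain ⟨a, ha⟩ := hdom H hH
  have hHe : H = MulAut.conj a • H₀ :=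
    Subgroup.eq_of_le_of_card_ge ha (by rw [card_conj_smul, hall_card_eq hH hHi h1 h2])
  obtain ⟨b, hb⟩ := hdom U hU
  refine ⟨b * a⁻¹, ?_⟩
  rwa [hHe, smul_smul, ← map_mul, mul_assoc, inv_mul_cancel, mul_one]

theorem hall_conj [Finite G] (h : PiSolvable π G) {H K : Subgroup G}
    (hH : PiNat π (Nat.card H)) (hHi : PiNat πᶜ H.index) (hK : PiNat π (Nat.card K))
    (hKi : PiNat πᶜ K.index) : ∃ g : G, MulAut.conj g • H = K := by
  obtain ⟨g, hg⟩ := hall_le_conj h hH hHi hK
  exact ⟨g, (Subgroup.eq_of_le_of_card_ge hg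
    (by rw [card_conj_smul, hall_card_eq hH hHi hK hKi])).symm⟩

theorem exists_hall_ge [Finite G] (h : PiSolvable π G) {U : Subgroup G}
    (hU : PiNat π (Nat.card U)) :
    ∃ H : Subgroup G, PiNat π (Nat.card H) ∧ PiNat πᶜ H.index ∧ U ≤ H := by
  obtain ⟨H, h1, h2, hdom⟩ := hall_aux π _ G rfl h
  obtain ⟨g, hg⟩ := hdom U hU
  exact ⟨MulAut.conj g • H, by rwa [card_conj_smul], by rwa [index_conj_smul], hg⟩

/-! ### Hall subgroups given by orders -/

theorem piNat_primeFactors {m : ℕ} (hm : m ≠ 0) : PiNat {q | q ∣ m} m ∧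
    ∀ n : ℕ, n.Coprime m → PiNat {q | q ∣ m}ᶜ n :=
  ⟨fun _ _ h => h, fun _ hn _ hq hqn hqm => hq.not_dvd_one (hn ▸ Nat.dvd_gcd hqn hqm)⟩

theorem hall_card_eq_of_mul [Finite G] {m n : ℕ} (hG : Nat.card G = m * n) (hmn : m.Coprime n)
    {H : Subgroup G} (hH : PiNat {q | q ∣ m} (Nat.card H)) (hHi : PiNat {q | q ∣ m}ᶜ H.index) :
    Nat.card H = m := by
  have hn : n ≠ 0 := fun h => (Nat.card_pos (α := G)).ne' (by rw [hG, h, mul_zero])
  have hm : m ≠ 0 := fun h => (Nat.card_pos (α := G)).ne' (by rw [hG, h, zero_mul])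
  refine Nat.dvd_antisymm ?_ ?_
  · exact (hH.coprime ((piNat_primeFactors hm).2 n hmn.symm)).dvd_of_dvd_mul_right
      (hG ▸ H.card_subgroup_dvd_card)
  · exact ((piNat_primeFactors hm).1.coprime hHi).dvd_of_dvd_mul_right
      (by rw [H.card_mul_index, hG]; exact Dvd.intro n rfl)

theorem piNat_of_card_eq [Finite G] {m n : ℕ} (hG : Nat.card G = m * n) (hmn : m.Coprime n)
    {H : Subgroup G} (hH : Nat.card H = m) :
    PiNat {q | q ∣ m} (Nat.card H) ∧ PiNat {q | q ∣ m}ᶜ H.index := by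
  have hm : m ≠ 0 := fun h => (Nat.card_pos (α := H)).ne' (hH.trans h)
  have h1 := H.card_mul_index
  rw [hH, hG] at h1
  rw [Nat.eq_of_mul_eq_mul_left (Nat.pos_of_ne_zero hm) h1, hH]
  exact ⟨(piNat_primeFactors hm).1, (piNat_primeFactors hm).2 n hmn.symm⟩

end CfsgLib.Solv
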