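import Mathlib.GroupTheory.Frattini
import Cfsg.Agent.Solv.Hall

/-!
Coprime action, internal form: subgroups `A`, `K` of a finite group with `A` normalizing `K`.
-/

set_option autoImplicit false
set_option linter.style.haveILetI false
set_option linter.deprecated false

open scoped Pointwise commutatorElement

namespace CfsgLib.Solv

variable {G : Type*} [Group G]

theorem le_normalizer_inf_of_le {A K L : Subgroup G} (hK : A ≤ Subgroup.normalizer (K : Set G))
    (hL : A ≤ Subgroup.normalizer (L : Set G)) :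
    A ≤ Subgroup.normalizer ((K ⊓ L : Subgroup G) : Set G) := by
  rw [le_normalizer_iff_forall_conj_mem] at *
  intro a ha x hx
  exact Subgroup.mem_inf.2 ⟨hK a ha x (Subgroup.mem_inf.1 hx).1, hL a ha x (Subgroup.mem_inf.1 hx).2⟩

/-- An element normalizing `A` that also lies in a subgroup `K` normalized by `A` with
`A ⊓ K = ⊥` centralizes `A`. -/
theorem mem_centralizer_of_mem_normalizer {A K : Subgroup G}
    (hAK : A ≤ Subgroup.normalizer (K : Set G)) (hd : A ⊓ K = ⊥) {c : G} (hc : c ∈ K)
    (hcN : c ∈ Subgroup.normalizer (A : Set G)) : c ∈ Subgroup.centralizer (A : Set G) := by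
  rw [Subgroup.mem_centralizer_iff]
  intro a ha
  have h1 : a * (c * a⁻¹ * c⁻¹) ∈ A :=
    mul_mem ha ((Subgroup.mem_normalizer_iff.1 hcN _).1 (inv_mem ha))
  have h2 : (a * c * a⁻¹) * c⁻¹ ∈ K :=
    mul_mem (le_normalizer_iff_forall_conj_mem.1 hAK a ha c hc) (inv_mem hc)
  have h3 : a * c * a⁻¹ * c⁻¹ ∈ A ⊓ K :=
    Subgroup.mem_inf.2 ⟨by simpa [mul_assoc] using h1, h2⟩
  rw [hd, Subgroup.mem_bot] at h3
  rw [mul_inv_eq_one, mul_inv_eq_iff_eq_mul] at h3
  exact h3

/-- `conj_complement_in_sup` with `M` only normalized by the two subgroups. -/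
theorem conj_complement_in_sup' [Finite G] {M X Y : Subgroup G}
    (hXM : X ≤ Subgroup.normalizer (M : Set G)) (hYM : Y ≤ Subgroup.normalizer (M : Set G))
    (hXY : X ⊔ M = Y ⊔ M) (hX : (Nat.card X).Coprime (Nat.card M))
    (hY : (Nat.card Y).Coprime (Nat.card M))
    (hs : Group.IsSolvable M ∨ Group.IsSolvable X) :
    ∃ g ∈ X ⊔ M, MulAut.conj g • X = Y := by
  set L := Subgroup.normalizer (M : Set G) with hL
  have hML : M ≤ L := Subgroup.le_normalizer
  haveI : (M.subgroupOf L).Normal := Subgroup.normal_in_normalizer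
  obtain ⟨g, hg, hgXY⟩ := conj_complement_in_sup (M := M.subgroupOf L) (X := X.subgroupOf L)
    (Y := Y.subgroupOf L)
    (by rw [← Subgroup.subgroupOf_sup hXM hML, ← Subgroup.subgroupOf_sup hYM hML, hXY])
    (by rwa [card_subgroupOf hXM, card_subgroupOf hML])
    (by rwa [card_subgroupOf hYM, card_subgroupOf hML])
    (hs.imp (fun (h : Group.IsSolvable M) => haveI := h;
        isSolvable_of_mulEquiv (G := M) (Subgroup.subgroupOfEquivOfLe hML).symm)
      (fun (h : Group.IsSolvable X) => haveI := h;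
        isSolvable_of_mulEquiv (G := X) (Subgroup.subgroupOfEquivOfLe hXM).symm))
  refine ⟨g, ?_, ?_⟩
  · rw [← Subgroup.subgroupOf_sup hXM hML] at hg
    exact hg
  · have h := congrArg (Subgroup.map L.subtype) hgXY
    rw [conj_smul_eq_map, Subgroup.map_map, Subgroup.map_subgroupOf_eq_of_le hYM] at h
    rw [← h, conj_smul_eq_map]
    conv_lhs => rw [← Subgroup.map_subgroupOf_eq_of_le hXM, Subgroup.map_map]
    rfl

theorem card_sup_of_le_normalizer {X M : Subgroup G} (hXM : X ≤ Subgroup.normalizer (M : Set G))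
    (h : (Nat.card X).Coprime (Nat.card M)) :
    Nat.card (X ⊔ M : Subgroup G) = Nat.card X * Nat.card M := by
  set L := Subgroup.normalizer (M : Set G) with hL
  have hML : M ≤ L := Subgroup.le_normalizer
  haveI : (M.subgroupOf L).Normal := Subgroup.normal_in_normalizer
  have := card_sup_of_coprime (X := X.subgroupOf L) (M := M.subgroupOf L)
    (by rwa [card_subgroupOf hXM, card_subgroupOf hML])
  rwa [← Subgroup.subgroupOf_sup hXM hML, card_subgroupOf (sup_le hXM hML), card_subgroupOf hXM,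
    card_subgroupOf hML] at this

theorem exists_mul_of_mem_sup {X M : Subgroup G} (hXM : X ≤ Subgroup.normalizer (M : Set G))
    {g : G} (hg : g ∈ X ⊔ M) : ∃ m ∈ M, ∃ x ∈ X, g = m * x := by
  rw [← SetLike.mem_coe, Subgroup.coe_mul_of_left_le_normalizer_right X M hXM] at hg
  obtain ⟨x, hx, m, hm, rfl⟩ := hg
  exact ⟨x * m * x⁻¹, le_normalizer_iff_forall_conj_mem.1 hXM x hx m hm, x, hx, by simp⟩

/-- A coset of an `A`-invariant subgroup `D` of coprime order that is fixed by `A` contains an
element centralizing `A`. -/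
theorem exists_centralizing_in_coset [Finite G] {A K D : Subgroup G}
    (hAK : A ≤ Subgroup.normalizer (K : Set G)) (hd : A ⊓ K = ⊥) (hDK : D ≤ K)
    (hAD : A ≤ Subgroup.normalizer (D : Set G)) (hcop : (Nat.card A).Coprime (Nat.card D))
    (hs : Group.IsSolvable A ∨ Group.IsSolvable D) {x : G} (hx : x ∈ K)
    (hfix : ∀ a ∈ A, x⁻¹ * a * x * a⁻¹ ∈ D) :
    ∃ d ∈ D, x * d ∈ Subgroup.centralizer (A : Set G) := by
  set B := MulAut.conj x⁻¹ • A with hB
  have hBle : B ≤ A ⊔ D := by
    intro b hb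
    rw [hB, mem_conj_smul_iff, inv_inv] at hb
    have h := hfix _ hb
    have h2 : b = (x⁻¹ * (x * b * x⁻¹) * x * (x * b * x⁻¹)⁻¹) * (x * b * x⁻¹) := by group
    rw [h2]
    exact mul_mem (Subgroup.mem_sup_right h) (Subgroup.mem_sup_left hb)
  have hBN : B ≤ Subgroup.normalizer (D : Set G) := hBle.trans (sup_le hAD Subgroup.le_normalizer)
  have hBc : (Nat.card B).Coprime (Nat.card D) := by rwa [hB, card_conj_smul]
  have hsup : A ⊔ D = B ⊔ D := by
    refine (Subgroup.eq_of_le_of_card_ge (sup_le hBle le_sup_right) ?_).symm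
    rw [card_sup_of_le_normalizer hAD hcop, card_sup_of_le_normalizer hBN hBc, hB, card_conj_smul]
  obtain ⟨g, hg, hgB⟩ := conj_complement_in_sup' hAD hBN hsup hcop hBc hs.symm
  obtain ⟨d, hdD, a, ha, rfl⟩ := exists_mul_of_mem_sup hAD hg
  have hdB : MulAut.conj d • A = B := by
    rwa [map_mul, mul_smul,
      conj_smul_eq_self_of_mem_normalizer (Subgroup.le_normalizer ha)] at hgB
  refine ⟨d, hdD, mem_centralizer_of_mem_normalizer hAK hd (mul_mem hx (hDK hdD))
    (mem_normalizer_of_conj_smul_eq ?_)⟩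
  rw [map_mul, mul_smul, hdB, hB, smul_smul, ← map_mul, mul_inv_cancel, map_one, one_smul]

theorem inf_eq_bot_of_coprime_card {A K : Subgroup G}
    (h : (Nat.card A).Coprime (Nat.card K)) : A ⊓ K = ⊥ :=
  Subgroup.inf_eq_bot_of_coprime h

/-- Glauberman's lemma, subgroup form: a subgroup of `AK` covering `AK/K` contains a `K`-conjugate
of `A`. -/
theorem exists_conj_le_of_covering [Finite G] {A K S : Subgroup G}
    (hAK : A ≤ Subgroup.normalizer (K : Set G)) (hcop : (Nat.card A).Coprime (Nat.card K))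
    (hs : Group.IsSolvable A ∨ Group.IsSolvable K) (hS : S ≤ A ⊔ K) (hcov : A ≤ S ⊔ K) :
    ∃ k ∈ K, MulAut.conj k • A ≤ S := by
  have hSN : S ≤ Subgroup.normalizer (K : Set G) := hS.trans (sup_le hAK Subgroup.le_normalizer)
  set R := S ⊓ K with hR
  have hSR : S ≤ Subgroup.normalizer (R : Set G) :=
    le_normalizer_inf_of_le Subgroup.le_normalizer hSN
  have hsup : S ⊔ K = A ⊔ K := le_antisymm (sup_le hS le_sup_right) (sup_le hcov le_sup_right)
  have hcard : Nat.card S = Nat.card A * Nat.card R := by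
    have h1 := Subgroup.relIndex_sup_right (G := Subgroup.normalizer (K : Set G))
      (H := S.subgroupOf _) (K := K.subgroupOf _)
    rw [← Subgroup.subgroupOf_sup hSN Subgroup.le_normalizer,
      Subgroup.relIndex_subgroupOf (sup_le hSN Subgroup.le_normalizer),
      Subgroup.relIndex_subgroupOf hSN, hsup] at h1
    have h2 := relIndex_mul_card (le_sup_right : K ≤ A ⊔ K)
    rw [h1, card_sup_of_le_normalizer hAK hcop, mul_comm (Nat.card A)] at h2
    have h3 := relIndex_mul_card (inf_le_left : S ⊓ K ≤ S)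
    rw [Subgroup.inf_relIndex_left, Nat.eq_of_mul_eq_mul_left Nat.card_pos h2] at h3
    rw [← h3, mul_comm]
  haveI : (R.subgroupOf S).Normal := Subgroup.normal_subgroupOf_of_le_normalizer hSR
  have hRcop : (Nat.card A).Coprime (Nat.card R) :=
    hcop.of_dvd_right (Subgroup.card_dvd_of_le inf_le_right)
  have hidx : (R.subgroupOf S).index = Nat.card A := by
    have h1 := (R.subgroupOf S).card_mul_index
    rw [card_subgroupOf inf_le_left, hcard, mul_comm (Nat.card A)] at h1
    exact Nat.eq_of_mul_eq_mul_left Nat.card_pos h1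
  obtain ⟨B₀, hB₀⟩ := Subgroup.exists_right_complement'_of_coprime (N := R.subgroupOf S)
    (by rw [hidx, card_subgroupOf inf_le_left]; exact hRcop.symm)
  set B := B₀.map S.subtype with hB
  have hBS : B ≤ S := Subgroup.map_subtype_le B₀
  have hBcard : Nat.card B = Nat.card A := by
    rw [hB, card_map_subtype, ← hB₀.symm.index_eq_card, hidx]
  have hBK : B ⊔ K = A ⊔ K := by
    refine Subgroup.eq_of_le_of_card_ge (sup_le (hBS.trans hS) le_sup_right) ?_
    rw [card_sup_of_le_normalizer (hBS.trans hSN) (hBcard ▸ hcop), hBcard,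
      card_sup_of_le_normalizer hAK hcop]
  obtain ⟨g, hg, hgB⟩ := conj_complement_in_sup' hAK (hBS.trans hSN) hBK.symm hcop
    (hBcard ▸ hcop) hs.symm
  obtain ⟨k, hk, a, ha, rfl⟩ := exists_mul_of_mem_sup hAK hg
  rw [map_mul, mul_smul, conj_smul_eq_self_of_mem_normalizer (Subgroup.le_normalizer ha)] at hgB
  exact ⟨k, hk, hgB.trans_le hBS⟩

/-- Glauberman's lemma: if `G` acts on `X` and each element of `A` moves `x` inside its `K`-orbit,
then that orbit contains a fixed point of `A`. -/
theorem exists_fixed_in_orbit [Finite G] {X : Type*} [MulAction G X] {A K : Subgroup G}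
    (hAK : A ≤ Subgroup.normalizer (K : Set G)) (hcop : (Nat.card A).Coprime (Nat.card K))
    (hs : Group.IsSolvable A ∨ Group.IsSolvable K) (x : X)
    (h : ∀ a ∈ A, ∃ k ∈ K, k • x = a • x) : ∃ k ∈ K, ∀ a ∈ A, a • k • x = k • x := by
  obtain ⟨k, hk, hkS⟩ := exists_conj_le_of_covering (S := MulAction.stabilizer G x ⊓ (A ⊔ K)) hAK
    hcop hs inf_le_right (by
      intro a ha
      obtain ⟨k, hk, hka⟩ := h a ha
      have h1 : k⁻¹ * a ∈ MulAction.stabilizer G x ⊓ (A ⊔ K) := by
        refine Subgroup.mem_inf.2 ⟨?_, mul_mem (Subgroup.mem_sup_right (inv_mem hk))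
          (Subgroup.mem_sup_left ha)⟩
        rw [MulAction.mem_stabilizer_iff, mul_smul, ← hka, inv_smul_smul]
      rw [show a = k * (k⁻¹ * a) by simp]
      exact mul_mem (Subgroup.mem_sup_right hk) (Subgroup.mem_sup_left h1))
  refine ⟨k⁻¹, inv_mem hk, fun a ha => ?_⟩
  have h1 : k * a * k⁻¹ ∈ MulAction.stabilizer G x :=
    (Subgroup.mem_inf.1 (hkS (mem_conj_smul_iff.2 (by simpa [mul_assoc] using ha)))).1
  rw [MulAction.mem_stabilizer_iff, mul_smul, mul_smul] at h1
  conv_rhs => rw [← h1]
  rw [inv_smul_smul]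

/-- Fixed points of `A` in one orbit of `K` are moved to one another by `C_K(A)`. -/
theorem exists_centralizing_smul_eq [Finite G] {X : Type*} [MulAction G X] {A K : Subgroup G}
    (hAK : A ≤ Subgroup.normalizer (K : Set G)) (hcop : (Nat.card A).Coprime (Nat.card K))
    (hs : Group.IsSolvable A ∨ Group.IsSolvable K) {x y : X} (hx : ∀ a ∈ A, a • x = x)
    (hy : ∀ a ∈ A, a • y = y) {k : G} (hk : k ∈ K) (hxy : k • x = y) :
    ∃ c ∈ K ⊓ Subgroup.centralizer (A : Set G), c • x = y := by
  have hAx : A ≤ MulAction.stabilizer G x := fun a ha => MulAction.mem_stabilizer_iff.2 (hx a ha)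
  obtain ⟨d, hd, hc⟩ := exists_centralizing_in_coset (D := MulAction.stabilizer G x ⊓ K) hAK
    (inf_eq_bot_of_coprime_card hcop) inf_le_right
    (le_normalizer_inf_of_le (hAx.trans Subgroup.le_normalizer) hAK)
    (hcop.of_dvd_right (Subgroup.card_dvd_of_le inf_le_right))
    (hs.imp_right fun (h : Group.IsSolvable K) => haveI := h; isSolvable_of_le inf_le_right)
    hk (fun a ha => by
      refine Subgroup.mem_inf.2 ⟨?_, ?_⟩
      · rw [MulAction.mem_stabilizer_iff]
        simp only [mul_smul]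
        rw [hx _ (inv_mem ha), hxy, hy _ ha, ← hxy, inv_smul_smul]
      · simpa [mul_assoc] using
          mul_mem (inv_mem hk) (le_normalizer_iff_forall_conj_mem.1 hAK a ha k hk))
  refine ⟨k * d, Subgroup.mem_inf.2 ⟨mul_mem hk (Subgroup.mem_inf.1 hd).2, hc⟩, ?_⟩
  rw [mul_smul, MulAction.mem_stabilizer_iff.1 (Subgroup.mem_inf.1 hd).1, hxy]

/-! ### Commutators -/

theorem commutator_le_of_le_normalizer {A K : Subgroup G}
    (hAK : A ≤ Subgroup.normalizer (K : Set G)) : ⁅K, A⁆ ≤ K := by
  rw [Subgroup.commutator_le]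
  intro k hk a ha
  have := mul_mem hk (le_normalizer_iff_forall_conj_mem.1 hAK a ha _ (inv_mem hk))
  simpa [commutatorElement_def, mul_assoc] using this

theorem left_le_normalizer_commutator (K A : Subgroup G) :
    K ≤ Subgroup.normalizer ((⁅K, A⁆ : Subgroup G) : Set G) := by
  rw [le_normalizer_iff_forall_conj_mem]
  intro x hx c hc
  induction hc using Subgroup.closure_induction with
  | mem g hg =>
    obtain ⟨k, hk, a, ha, rfl⟩ := hg
    have h : x * ⁅k, a⁆ * x⁻¹ = ⁅x * k, a⁆ * ⁅x, a⁆⁻¹ := by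
      simp only [commutatorElement_def]; group
    rw [h]
    exact mul_mem (Subgroup.commutator_mem_commutator (mul_mem hx hk) ha)
      (inv_mem (Subgroup.commutator_mem_commutator hx ha))
  | one => simp
  | mul u v _ _ hu hv => simpa [mul_assoc] using mul_mem hu hv
  | inv u _ hu => simpa [mul_assoc] using inv_mem hu

theorem right_le_normalizer_commutator (K A : Subgroup G) :
    A ≤ Subgroup.normalizer ((⁅K, A⁆ : Subgroup G) : Set G) := by
  rw [Subgroup.commutator_comm]
  exact left_le_normalizer_commutator A K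

theorem commutator_sup_inf_centralizer [Finite G] {A K : Subgroup G}
    (hAK : A ≤ Subgroup.normalizer (K : Set G)) (hcop : (Nat.card A).Coprime (Nat.card K))
    (hs : Group.IsSolvable A ∨ Group.IsSolvable K) :
    ∀ k ∈ K, ∃ x ∈ ⁅K, A⁆, ∃ c ∈ K ⊓ Subgroup.centralizer (A : Set G), k = x * c := by
  intro k hk
  have hD : ⁅K, A⁆ ≤ K := commutator_le_of_le_normalizer hAK
  obtain ⟨d, hd, hc⟩ := exists_centralizing_in_coset (D := ⁅K, A⁆) hAK
    (inf_eq_bot_of_coprime_card hcop) hD (right_le_normalizer_commutator K A)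
    (hcop.of_dvd_right (Subgroup.card_dvd_of_le hD))
    (hs.imp_right fun (h : Group.IsSolvable K) => haveI := h; isSolvable_of_le hD) hk
    (fun a ha => by
      simpa [commutatorElement_def] using Subgroup.commutator_mem_commutator (inv_mem hk) ha)
  refine ⟨k * d⁻¹ * k⁻¹,
    le_normalizer_iff_forall_conj_mem.1 (left_le_normalizer_commutator K A) k hk _ (inv_mem hd),
    k * d, Subgroup.mem_inf.2 ⟨mul_mem hk (hD hd), hc⟩, by group⟩

theorem commutator_commutator_right [Finite G] {A K : Subgroup G}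
    (hAK : A ≤ Subgroup.normalizer (K : Set G)) (hcop : (Nat.card A).Coprime (Nat.card K))
    (hs : Group.IsSolvable A ∨ Group.IsSolvable K) : ⁅⁅K, A⁆, A⁆ = ⁅K, A⁆ := by
  refine le_antisymm (Subgroup.commutator_mono (commutator_le_of_le_normalizer hAK) le_rfl) ?_
  rw [Subgroup.commutator_le]
  intro k hk a ha
  obtain ⟨x, hx, c, hc, rfl⟩ := commutator_sup_inf_centralizer hAK hcop hs k hk
  have hca := Subgroup.mem_centralizer_iff.1 (Subgroup.mem_inf.1 hc).2 a ha
  have h : ⁅x * c, a⁆ = ⁅x, a⁆ := by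
    have h1 : c * a * c⁻¹ = a := by rw [← hca, mul_inv_cancel_right]
    calc ⁅x * c, a⁆ = x * (c * a * c⁻¹) * x⁻¹ * a⁻¹ := by
          simp [commutatorElement_def, mul_assoc]
      _ = ⁅x, a⁆ := by rw [h1, commutatorElement_def]
  rw [h]
  exact Subgroup.commutator_mem_commutator hx ha

/-- If `A` acts trivially modulo a nilpotent normal Frattini part of `K`, it acts trivially. -/
theorem le_centralizer_of_trivial_on_frattini_quotient [Finite G] {A K : Subgroup G}
    (hcop : (Nat.card A).Coprime (Nat.card (frattini K)))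
    (htriv : ∀ a ∈ A, ∀ k ∈ K, ⁅a, k⁆ ∈ (frattini K).map K.subtype) :
    A ≤ Subgroup.centralizer (K : Set G) := by
  set F := (frattini K).map K.subtype with hF
  have hFK : F ≤ K := Subgroup.map_subtype_le _
  haveI : Group.IsNilpotent (frattini K) := frattini_nilpotent
  haveI hFs : Group.IsSolvable F :=
    isSolvable_of_mulEquiv ((frattini K).equivMapOfInjective K.subtype K.subtype_injective)
  have hAF : A ≤ Subgroup.normalizer (F : Set G) := by
    rw [le_normalizer_iff_forall_conj_mem]
    intro a ha f hf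
    have := mul_mem (htriv a ha f (hFK hf)) hf
    simpa [commutatorElement_def, mul_assoc] using this
  have hcopF : (Nat.card A).Coprime (Nat.card F) := by rwa [hF, card_map_subtype]
  have hd : A ⊓ F = ⊥ := inf_eq_bot_of_coprime_card hcopF
  set C := (Subgroup.centralizer (A : Set G)).subgroupOf K with hC
  suffices hCF : C ⊔ frattini K = ⊤ by
    have hCt := frattini_nongenerating hCF
    intro a ha
    rw [Subgroup.mem_centralizer_iff]
    intro k hk
    have hkC : (⟨k, hk⟩ : K) ∈ C := hCt ▸ Subgroup.mem_top _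
    exact (Subgroup.mem_centralizer_iff.1 hkC a ha).symm
  rw [eq_top_iff]
  intro k _
  -- the coset `k F` contains a centralizing element
  set B := MulAut.conj (k : G)⁻¹ • A with hB
  obtain ⟨d, hdF, hc⟩ : ∃ d ∈ F, (k : G) * d ∈ Subgroup.normalizer (A : Set G) := by
    have hBle : B ≤ A ⊔ F := by
      intro b hb
      rw [hB, mem_conj_smul_iff, inv_inv] at hb
      have h := htriv _ hb (k : G)⁻¹ (inv_mem k.2)
      have h2 : b = ⁅(k : G) * b * (k : G)⁻¹, (k : G)⁻¹⁆⁻¹ * ((k : G) * b * (k : G)⁻¹) := by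
        simp only [commutatorElement_def]; group
      rw [h2]
      exact mul_mem (Subgroup.mem_sup_right (inv_mem h)) (Subgroup.mem_sup_left hb)
    have hBN : B ≤ Subgroup.normalizer (F : Set G) :=
      hBle.trans (sup_le hAF Subgroup.le_normalizer)
    have hBc : (Nat.card B).Coprime (Nat.card F) := by rwa [hB, card_conj_smul]
    have hsup : A ⊔ F = B ⊔ F := by
      refine (Subgroup.eq_of_le_of_card_ge (sup_le hBle le_sup_right) ?_).symm
      rw [card_sup_of_le_normalizer hAF hcopF, card_sup_of_le_normalizer hBN hBc, hB,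
        card_conj_smul]
    obtain ⟨g, hg, hgB⟩ := conj_complement_in_sup' hAF hBN hsup hcopF hBc (Or.inl hFs)
    obtain ⟨d, hdD, a, ha, rfl⟩ := exists_mul_of_mem_sup hAF hg
    rw [map_mul, mul_smul, conj_smul_eq_self_of_mem_normalizer (Subgroup.le_normalizer ha)] at hgB
    refine ⟨d, hdD, mem_normalizer_of_conj_smul_eq ?_⟩
    rw [map_mul, mul_smul, hgB, hB, smul_smul, ← map_mul, mul_inv_cancel, map_one, one_smul]
  have hkd : (k : G) * d ∈ K := mul_mem k.2 (hFK hdF)
  have hcent : (k : G) * d ∈ Subgroup.centralizer (A : Set G) := by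
    rw [Subgroup.mem_centralizer_iff]
    intro a ha
    have h1 : ⁅a, (k : G) * d⁆ ∈ A ⊓ F := Subgroup.mem_inf.2 ⟨by
      have := mul_mem ha ((Subgroup.mem_normalizer_iff.1 hc _).1 (inv_mem ha))
      simpa [commutatorElement_def, mul_assoc] using this, htriv a ha _ hkd⟩
    rw [hd, Subgroup.mem_bot] at h1
    exact commutatorElement_eq_one_iff_mul_comm.1 h1
  obtain ⟨d', hd', rfl⟩ := hdF
  rw [show k = (k * d') * d'⁻¹ by simp]
  exact mul_mem (Subgroup.mem_sup_left (show k * d' ∈ C from hcent))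
    (Subgroup.mem_sup_right (inv_mem hd'))

/-- Thompson's `P × Q` lemma. -/
theorem thompson_pq [Finite G] {p : ℕ} [Fact p.Prime] {P Q : Subgroup G} (hP : IsPGroup p P)
    (hQ : (Nat.card Q).Coprime p) (hPQ : P ≤ Subgroup.centralizer (Q : Set G)) :
    ∀ U : Subgroup G, IsPGroup p U → P ≤ Subgroup.normalizer (U : Set G) →
      Q ≤ Subgroup.normalizer (U : Set G) →
      U ⊓ Subgroup.centralizer (P : Set G) ≤ Subgroup.centralizer (Q : Set G) →
      Q ≤ Subgroup.centralizer (U : Set G) := by
  intro U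
  induction U using WellFoundedLT.induction with
  | _ U ih => ?_
  intro hU hPU hQU hC
  rcases eq_or_ne U ⊥ with rfl | hne
  · intro x _
    rw [Subgroup.mem_centralizer_iff]
    intro y hy
    rw [show y = 1 from Subgroup.mem_bot.1 hy]; simp
  obtain ⟨n, hn⟩ := IsPGroup.iff_card.1 hU
  have hcop : (Nat.card Q).Coprime (Nat.card U) := hn ▸ hQ.pow_right n
  set V := ⁅U, P⁆ with hV
  have hVU : V ≤ U := commutator_le_of_le_normalizer hPU
  have hlt : V < U := by
    refine lt_of_le_of_ne hVU fun hVU' => hne ?_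
    have hW : IsPGroup p (P ⊔ U : Subgroup G) :=
      hP.to_sup_of_normal_right' hU hPU
    haveI := hW.isNilpotent
    obtain ⟨m, hm⟩ := (Subgroup.isNilpotent_iff_lowerCentralSeries (S := P ⊔ U)).1 hW.isNilpotent
    suffices ∀ m, U ≤ (P ⊔ U).lowerCentralSeries m from le_bot_iff.1 (hm ▸ this m)
    intro m
    induction m with
    | zero => exact le_sup_right
    | succ m ihm =>
      rw [Subgroup.lowerCentralSeries_succ]
      calc U = ⁅U, P⁆ := (hV ▸ hVU').symm
        _ ≤ ⁅(P ⊔ U).lowerCentralSeries m, P ⊔ U⁆ :=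
          Subgroup.commutator_mono ihm le_sup_left
  have hQP : Q ≤ Subgroup.centralizer (P : Set G) := Subgroup.le_centralizer_iff.1 hPQ
  have hQV : Q ≤ Subgroup.normalizer (V : Set G) := by
    rw [le_normalizer_iff_forall_conj_mem]
    intro q hq v hv
    induction hv using Subgroup.closure_induction with
    | mem g hg =>
      obtain ⟨u, hu, x, hx, rfl⟩ := hg
      have hxq : q * x * q⁻¹ = x := by
        rw [← Subgroup.mem_centralizer_iff.1 (hQP hq) x hx, mul_inv_cancel_right]
      have h : q * ⁅u, x⁆ * q⁻¹ = ⁅q * u * q⁻¹, x⁆ := by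
        conv_rhs => rw [← hxq]
        simp only [commutatorElement_def]; group
      rw [h]
      exact Subgroup.commutator_mem_commutator (le_normalizer_iff_forall_conj_mem.1 hQU q hq u hu) hx
    | one => simp
    | mul u v _ _ hu hv => simpa [mul_assoc] using mul_mem hu hv
    | inv u _ hu => simpa [mul_assoc] using inv_mem hu
  have hQcV := ih V hlt (hU.to_le hVU) (right_le_normalizer_commutator U P) hQV
    (le_trans (inf_le_inf_right _ hVU) hC)
  have h1 : ⁅⁅U, P⁆, Q⁆ = ⊥ := by
    rw [Subgroup.commutator_eq_bot_iff_le_centralizer]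
    exact Subgroup.le_centralizer_iff.1 hQcV
  have h2 : ⁅⁅P, Q⁆, U⁆ = ⊥ := by
    rw [Subgroup.commutator_eq_bot_iff_le_centralizer.2 hPQ, Subgroup.commutator_bot_left]
  have h3 : ⁅⁅Q, U⁆, P⁆ = ⊥ :=
    Subgroup.commutator_commutator_eq_bot_of_rotate h1 h2
  have h4 : ⁅U, Q⁆ ≤ U ⊓ Subgroup.centralizer (P : Set G) := by
    refine le_inf (commutator_le_of_le_normalizer hQU) ?_
    rw [Subgroup.commutator_comm, ← Subgroup.commutator_eq_bot_iff_le_centralizer]
    exact h3
  have h5 := commutator_commutator_right hQU hcop (Or.inr (by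
    haveI := hU.isNilpotent; infer_instance))
  have h6 : ⁅U, Q⁆ = ⊥ := by
    rw [← h5, Subgroup.commutator_eq_bot_iff_le_centralizer]
    exact h4.trans hC
  exact Subgroup.le_centralizer_iff.1 (Subgroup.commutator_eq_bot_iff_le_centralizer.1 h6)

end CfsgLib.Solv
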