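import Mathlib.GroupTheory.SpecificGroups.Cyclic
import Mathlib.Algebra.BigOperators.Group.Finset.Basic
import Mathlib.Data.ZMod.Basic
import Cfsg.Agent.Solv.CoprimeSylow

/-!
Coprime action on abelian groups and generation by centralizers of an abelian group of operators.
-/

set_option autoImplicit false
set_option linter.style.haveILetI false
set_option linter.deprecated false

open scoped Pointwise commutatorElement

namespace CfsgLib.Solv

variable {G : Type*} [Group G]

theorem abelian_fixed_inf_commutator [Finite G] {A V : Subgroup G} (hV : IsMulCommutative V)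
    (hAV : A ≤ Subgroup.normalizer (V : Set G)) (hcop : (Nat.card A).Coprime (Nat.card V)) :
    (V ⊓ Subgroup.centralizer (A : Set G)) ⊓ ⁅V, A⁆ = ⊥ := by
  classical
  open scoped IsMulCommutative in
  haveI := Fintype.ofFinite A
  let c : A → V →* V := fun a =>
    { toFun := fun v => ⟨(a : G) * v * (a : G)⁻¹,
        le_normalizer_iff_forall_conj_mem.1 hAV a a.2 v v.2⟩
      map_one' := Subtype.ext (by simp)
      map_mul' := fun x y => Subtype.ext (by simp [mul_assoc]) }
  let φ : V →* V :=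
    { toFun := fun v => ∏ a : A, c a v
      map_one' := by simp
      map_mul' := fun x y => by simp [Finset.prod_mul_distrib] }
  have hker : ⁅V, A⁆ ≤ (φ.ker).map V.subtype := by
    rw [Subgroup.commutator_le]
    intro v hv a ha
    refine ⟨⟨v, hv⟩ * (c ⟨a, ha⟩ ⟨v, hv⟩)⁻¹, ?_, ?_⟩
    · show φ (⟨v, hv⟩ * (c ⟨a, ha⟩ ⟨v, hv⟩)⁻¹) = 1
      rw [map_mul, map_inv, mul_inv_eq_one]
      show ∏ b : A, c b ⟨v, hv⟩ = ∏ b : A, c b (c ⟨a, ha⟩ ⟨v, hv⟩)
      refine (Fintype.prod_equiv (Equiv.mulRight (⟨a, ha⟩ : A)) _ _ fun b => ?_).symm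
      exact Subtype.ext (by simp [c, mul_assoc])
    · simp [c, commutatorElement_def, mul_assoc]
  rw [eq_bot_iff]
  intro x hx
  obtain ⟨hx1, hx2⟩ := Subgroup.mem_inf.1 hx
  obtain ⟨hxV, hxC⟩ := Subgroup.mem_inf.1 hx1
  obtain ⟨y, hy, rfl⟩ := hker hx2
  have hfix : ∀ a : A, c a y = y := fun a => Subtype.ext (by
    show (a : G) * y * (a : G)⁻¹ = y
    have h := Subgroup.mem_centralizer_iff.1 hxC a a.2
    simp only [Subgroup.coe_subtype] at h
    rw [h, mul_inv_cancel_right])
  have h1 : y ^ Nat.card A = 1 := by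
    have h2 : ∏ a : A, c a y = 1 := hy
    simp only [hfix, Finset.prod_const, Finset.card_univ] at h2
    rwa [Nat.card_eq_fintype_card]
  have h2 : orderOf y = 1 := Nat.eq_one_of_dvd_coprimes hcop (orderOf_dvd_of_pow_eq_one h1)
    (orderOf_dvd_natCard y)
  rw [orderOf_eq_one_iff] at h2
  simp [h2]

theorem abelian_fixed_sup_commutator [Finite G] {A V : Subgroup G} (hV : IsMulCommutative V)
    (hAV : A ≤ Subgroup.normalizer (V : Set G)) (hcop : (Nat.card A).Coprime (Nat.card V)) :
    (V ⊓ Subgroup.centralizer (A : Set G)) ⊔ ⁅V, A⁆ = V := by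
  have hs : Group.IsSolvable V := Group.isSolvable_of_comm fun a b => hV.is_comm.comm a b
  refine le_antisymm (sup_le inf_le_left (commutator_le_of_le_normalizer hAV)) ?_
  intro v hv
  obtain ⟨x, hx, c, hc, rfl⟩ := commutator_sup_inf_centralizer hAV hcop (Or.inr hs) v hv
  exact mul_mem (Subgroup.mem_sup_right hx) (Subgroup.mem_sup_left hc)

/-- A finite abelian group with at most `q` solutions of `x ^ q = 1` for each prime `q` is
cyclic. -/
theorem isCyclic_of_card_prime_roots_le {A : Type*} [CommGroup A] [Finite A]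
    (h : ∀ q : ℕ, q.Prime → Nat.card (powMonoidHom q : A →* A).ker ≤ q) : IsCyclic A := by
  classical
  haveI := Fintype.ofFinite A
  have hker : ∀ n : ℕ, 0 < n → Nat.card (powMonoidHom n : A →* A).ker ≤ n := by
    intro n
    induction n using induction_on_primes with
    | zero => intro h0; exact absurd h0 (lt_irrefl 0)
    | one => intro _; simp
    | prime_mul q m hq ih =>
      intro hpos
      set f : (powMonoidHom (q * m) : A →* A).ker →* (powMonoidHom m : A →* A).ker :=
        { toFun := fun x => ⟨(x : A) ^ q, by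
            show ((x : A) ^ q) ^ m = 1
            rw [← pow_mul]; exact x.2⟩
          map_one' := Subtype.ext (one_pow q)
          map_mul' := fun x y => Subtype.ext (mul_pow (x : A) (y : A) q) }
      have h1 : Nat.card f.ker * f.ker.index = Nat.card (powMonoidHom (q * m) : A →* A).ker :=
        f.ker.card_mul_index
      rw [← h1, Subgroup.index_ker]
      refine Nat.mul_le_mul ?_ ((Subgroup.card_le_card_group f.range).trans
        (ih (Nat.pos_of_mul_pos_left hpos)))
      refine le_trans ?_ (h q hq)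
      refine Nat.card_le_card_of_injective (fun x => ⟨((x.1 : A)), ?_⟩) ?_
      · exact congrArg Subtype.val x.2
      · intro x y hxy
        exact Subtype.ext (Subtype.ext (congrArg (fun z => (z.1 : A)) hxy))
  refine isCyclic_of_card_pow_eq_one_le fun n hn => ?_
  refine le_trans (le_of_eq ?_) (hker n hn)
  rw [Nat.card_eq_fintype_card]
  exact (Fintype.card_of_subtype _ (fun x => by simp [MonoidHom.mem_ker])).symm

/-- Two independent elements of prime exponent in a finite noncyclic abelian group. -/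
theorem exists_pair_of_not_isCyclic {A : Type*} [CommGroup A] [Finite A] (hA : ¬ IsCyclic A) :
    ∃ q : ℕ, q.Prime ∧ q ∣ Nat.card A ∧ ∃ u v : A, u ^ q = 1 ∧ v ^ q = 1 ∧ v ≠ 1 ∧
      u ∉ Subgroup.zpowers v := by
  by_contra hcon
  apply hA
  refine isCyclic_of_card_prime_roots_le fun q hq => ?_
  set W := (powMonoidHom q : A →* A).ker
  by_contra hlt
  have hne : W ≠ ⊥ := fun h => hlt (by rw [h, Subgroup.card_bot]; exact hq.one_lt.le)
  obtain ⟨v, hv, hv1⟩ := W.bot_or_exists_ne_one.resolve_left hne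
  have hvo : orderOf v = q := orderOf_eq_prime (hp := Fact.mk hq) hv hv1
  have : ¬ W ≤ Subgroup.zpowers v := fun h => hlt
    ((Subgroup.card_le_of_le h).trans (by rw [Nat.card_zpowers, hvo]))
  obtain ⟨u, hu, huv⟩ := SetLike.not_le_iff_exists.1 this
  exact hcon ⟨q, hq, hvo ▸ orderOf_dvd_natCard v, u, v, hu, hv, hv1, huv⟩

/-- The averaging identity behind generation by centralizers. -/
theorem prod_lines_mul_prod_axis {V : Type*} [CommGroup V] {q : ℕ} [Fact q.Prime]
    (f : ZMod q → ZMod q → V) :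
    (∏ i : ZMod q, ∏ j : ZMod q, f j (i * j)) * ∏ k : ZMod q, f 0 k =
      f 0 0 ^ q * ∏ j : ZMod q, ∏ k : ZMod q, f j k := by
  classical
  rw [Finset.prod_comm, ← Finset.mul_prod_erase Finset.univ _ (Finset.mem_univ (0 : ZMod q)),
    ← Finset.mul_prod_erase Finset.univ (fun j => ∏ k, f j k) (Finset.mem_univ (0 : ZMod q))]
  have h : ∀ j ∈ Finset.univ.erase (0 : ZMod q), ∏ i : ZMod q, f j (i * j) = ∏ k, f j k := by
    intro j hj
    exact Fintype.prod_equiv (Equiv.mulRight₀ j (Finset.mem_erase.1 hj).1) _ _ fun i => rfl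
  rw [Finset.prod_congr rfl h]
  simp only [mul_zero, Finset.prod_const, Finset.card_univ, ZMod.card]
  rw [mul_assoc, mul_comm (∏ j ∈ Finset.univ.erase 0, ∏ k, f j k)]

set_option maxHeartbeats 1000000 in
/-- If two commuting coprime operators of exponent `q` modulo the kernel act on a solvable group
`K`, then `K` is generated by the centralizers of the `q + 1` lines. -/
theorem le_of_centralizers_pair [Finite G] {q : ℕ} [hq : Fact q.Prime] {A : Subgroup G}
    [IsMulCommutative A] {u v : G} (hu : u ∈ A) (hv : v ∈ A) {W : Subgroup G} :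
    ∀ K : Subgroup G, Group.IsSolvable K → A ≤ Subgroup.normalizer (K : Set G) →
      (Nat.card A).Coprime (Nat.card K) → q.Coprime (Nat.card K) →
      (∀ x ∈ K, u ^ q * x = x * u ^ q) → (∀ x ∈ K, v ^ q * x = x * v ^ q) →
      (∀ i : ℕ, K ⊓ Subgroup.centralizer {u * v ^ i} ≤ W) →
      K ⊓ Subgroup.centralizer {v} ≤ W → K ≤ W := by
  intro K
  induction K using WellFoundedLT.induction with
  | _ K ih => ?_
  intro hKs hAK hcop hqK hu' hv' hW hWv
  rcases eq_or_ne K ⊥ with rfl | hne
  · exact bot_le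
  haveI := hKs
  haveI : Nontrivial K := K.nontrivial_iff_ne_bot.2 hne
  set D := ⁅K, K⁆ with hD
  have hmapc : (commutator K).map K.subtype = D := Subgroup.map_subtype_commutator K
  have hDK : D < K := by
    have h := (Subgroup.map_lt_map_iff_of_injective K.subtype_injective).2
      (IsSolvable.commutator_lt_top_of_nontrivial K)
    rwa [hmapc, ← MonoidHom.range_eq_map, Subgroup.range_subtype] at h
  have hAD : A ≤ Subgroup.normalizer (D : Set G) := by
    rw [le_normalizer_iff_forall_conj_mem]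
    intro a ha d hd
    have h : ∀ c, c ∈ K → MulAut.conj a c ∈ K := fun c hc =>
      le_normalizer_iff_forall_conj_mem.1 hAK a ha c hc
    have h2 : D.map (MulAut.conj a).toMonoidHom ≤ D := by
      rw [hD, Subgroup.map_commutator]
      exact Subgroup.commutator_mono (Subgroup.map_le_iff_le_comap.2 h)
        (Subgroup.map_le_iff_le_comap.2 h)
    exact h2 ⟨d, hd, rfl⟩
  have hDW : D ≤ W :=
    ih D hDK (isSolvable_of_le hDK.le) hAD
      (Nat.Coprime.coprime_dvd_right (Subgroup.card_dvd_of_le hDK.le) hcop)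
      (Nat.Coprime.coprime_dvd_right (Subgroup.card_dvd_of_le hDK.le) hqK)
      (fun x hx => hu' x (hDK.le hx)) (fun x hx => hv' x (hDK.le hx))
      (fun i => (inf_le_inf_right _ hDK.le).trans (hW i))
      ((inf_le_inf_right _ hDK.le).trans hWv)
  intro x hx
  -- conjugates of `x`
  have hmem : ∀ m n : ℕ, u ^ m * v ^ n ∈ A := fun m n => mul_mem (pow_mem hu m) (pow_mem hv n)
  let g : ℕ → ℕ → K := fun m n => ⟨(u ^ m * v ^ n) * x * (u ^ m * v ^ n)⁻¹,
    le_normalizer_iff_forall_conj_mem.1 hAK _ (hmem m n) x hx⟩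
  have hgmod : ∀ m n : ℕ, g m n = g (m % q) (n % q) := by
    intro m n
    refine Subtype.ext ?_
    have hcomm : ∀ a ∈ A, ∀ b ∈ A, a * b = b * a := fun a ha b hb =>
      congrArg Subtype.val ((IsMulCommutative.is_comm (M := A)).comm ⟨a, ha⟩ ⟨b, hb⟩)
    have e1 : u ^ m * v ^ n =
        (u ^ (m % q) * v ^ (n % q)) * ((u ^ q) ^ (m / q) * (v ^ q) ^ (n / q)) := by
      conv_lhs => rw [← Nat.mod_add_div m q, ← Nat.mod_add_div n q]
      rw [pow_add, pow_add, pow_mul, pow_mul, mul_assoc, mul_assoc]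
      congr 1
      rw [← mul_assoc, hcomm _ (pow_mem (pow_mem hu q) _) _ (pow_mem hv _), mul_assoc]
    have e2 : Commute ((u ^ q) ^ (m / q) * (v ^ q) ^ (n / q)) x :=
      (Commute.pow_left (hu' x hx) _).mul_left (Commute.pow_left (hv' x hx) _)
    show u ^ m * v ^ n * x * (u ^ m * v ^ n)⁻¹ = _
    rw [e1, mul_inv_rev, mul_assoc (u ^ (m % q) * v ^ (n % q)), e2.eq]
    simp [g, mul_assoc]
  -- the abelian quotient
  let π : K →* Abelianization K := Abelianization.of
  let f : ZMod q → ZMod q → Abelianization K := fun j k => π (g j.val k.val)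
  have hf : ∀ m n : ℕ, π (g m n) = f (m : ZMod q) (n : ZMod q) := by
    intro m n
    simp only [f, ZMod.val_natCast]
    rw [hgmod]
  set Wi := (W.subgroupOf K).map π with hWi
  have hker : π.ker = commutator K := Abelianization.ker_of K
  -- fixed classes lie in the image of `W`
  have key : ∀ w ∈ A, K ⊓ Subgroup.centralizer {w} ≤ W → ∀ y : Abelianization K,
      (∀ z : K, π z = y → ∀ hz : w * z * w⁻¹ ∈ K, π ⟨w * z * w⁻¹, hz⟩ = y) → y ∈ Wi := by
    intro w hw hwW y hy
    obtain ⟨z, hz⟩ : ∃ z, π z = y := QuotientGroup.mk'_surjective (commutator K) y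
    have hzD : (z : G)⁻¹ * w * z * w⁻¹ ∈ D := by
      have h := hy z hz (le_normalizer_iff_forall_conj_mem.1 hAK w hw z z.2)
      have h2 : z⁻¹ * ⟨w * z * w⁻¹, le_normalizer_iff_forall_conj_mem.1 hAK w hw z z.2⟩ ∈
          π.ker := by
        rw [MonoidHom.mem_ker, map_mul, map_inv, h, ← hz]
        exact inv_mul_cancel _
      rw [← hmapc]
      rw [hker] at h2
      exact ⟨_, h2, by simp [mul_assoc]⟩
    let St : Subgroup G :=
      { carrier := {a | a ∈ A ∧ (z : G)⁻¹ * a * z * a⁻¹ ∈ D}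
        one_mem' := ⟨one_mem _, by simp⟩
        mul_mem' := fun {a b} ha hb => ⟨mul_mem ha.1 hb.1, by
          have := mul_mem ha.2 (le_normalizer_iff_forall_conj_mem.1 hAD a ha.1 _ hb.2)
          simpa [mul_assoc] using this⟩
        inv_mem' := fun {a} ha => ⟨inv_mem ha.1, by
          have := le_normalizer_iff_forall_conj_mem.1 hAD a⁻¹ (inv_mem ha.1) _ (inv_mem ha.2)
          simpa [mul_assoc] using this⟩ }
    have hSt : Subgroup.zpowers w ≤ St := Subgroup.zpowers_le.2 ⟨hw, hzD⟩
    have hwA : Subgroup.zpowers w ≤ A := Subgroup.zpowers_le.2 hw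
    have hcopK := Nat.Coprime.coprime_dvd_left (Subgroup.card_dvd_of_le hwA) hcop
    obtain ⟨d, hd, hdc⟩ := exists_centralizing_in_coset (A := Subgroup.zpowers w) (D := D)
      (hwA.trans hAK) (Subgroup.inf_eq_bot_of_coprime hcopK) hDK.le (hwA.trans hAD)
      (Nat.Coprime.coprime_dvd_right (Subgroup.card_dvd_of_le hDK.le) hcopK)
      (Or.inr (isSolvable_of_le hDK.le)) z.2 (fun a ha => (hSt ha).2)
    refine ⟨z * ⟨d, hDK.le hd⟩, hwW (Subgroup.mem_inf.2 ⟨mul_mem z.2 (hDK.le hd), ?_⟩), ?_⟩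
    · rw [Subgroup.mem_centralizer_singleton_iff]
      exact (Subgroup.mem_centralizer_iff.1 hdc w (Subgroup.mem_zpowers w)).symm
    · rw [map_mul, hz]
      have : (⟨d, hDK.le hd⟩ : K) ∈ π.ker := by
        rw [hker]
        have hd' : d ∈ (commutator K).map K.subtype := hmapc ▸ hd
        obtain ⟨e, he, hed⟩ := hd'
        have he' : e = ⟨d, hDK.le hd⟩ := Subtype.ext hed
        exact he' ▸ he
      rw [MonoidHom.mem_ker.1 this, mul_one]
  -- conjugation by `u ^ m * v ^ n` on the classes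
  have hconj : ∀ {ι : Type} (m n : ℕ) (s : Finset ι) (a b : ι → ZMod q) (z : K),
      π z = ∏ j ∈ s, f (a j) (b j) → ∀ hz : (u ^ m * v ^ n) * z * (u ^ m * v ^ n)⁻¹ ∈ K,
        π ⟨_, hz⟩ = ∏ j ∈ s, f (a j + m) (b j + n) := by
    intro ι m n s a b z hz hzK
    let c : K →* K :=
      { toFun := fun y => ⟨(u ^ m * v ^ n) * y * (u ^ m * v ^ n)⁻¹,
          le_normalizer_iff_forall_conj_mem.1 hAK _ (hmem m n) y y.2⟩
        map_one' := Subtype.ext (by simp)
        map_mul' := fun y y' => Subtype.ext (by simp [mul_assoc]) }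
    show π (c z) = _
    have h1 : π (c z) = Abelianization.map c (π z) := (Abelianization.map_of c z).symm
    rw [h1, hz, map_prod]
    refine Finset.prod_congr rfl fun j _ => ?_
    show Abelianization.map c (π (g (a j).val (b j).val)) = _
    rw [show π = Abelianization.of from rfl, Abelianization.map_of]
    have : c (g (a j).val (b j).val) = g ((a j).val + m) ((b j).val + n) := by
      refine Subtype.ext ?_
      have hcomm : (u ^ m * v ^ n) * (u ^ (a j).val * v ^ (b j).val) =
          u ^ ((a j).val + m) * v ^ ((b j).val + n) := by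
        rw [pow_add, pow_add]
        have hc : ∀ a ∈ A, ∀ b ∈ A, a * b = b * a := fun a ha b hb =>
          congrArg Subtype.val ((IsMulCommutative.is_comm (M := A)).comm ⟨a, ha⟩ ⟨b, hb⟩)
        rw [hc _ (hmem m n) _ (hmem _ _)]
        rw [mul_assoc, ← mul_assoc (v ^ (b j).val), hc _ (pow_mem hv _) _ (pow_mem hu _)]
        simp [mul_assoc]
      show (u ^ m * v ^ n) * ((u ^ (a j).val * v ^ (b j).val) * x *
        (u ^ (a j).val * v ^ (b j).val)⁻¹) * (u ^ m * v ^ n)⁻¹ = _
      simp only [g, ← hcomm, mul_inv_rev, mul_assoc]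
    rw [this]
    refine (hf _ _).trans ?_
    simp
  have hline : ∀ i : ZMod q, ∏ j : ZMod q, f j (i * j) ∈ Wi := by
    intro i
    refine key (u ^ 1 * v ^ i.val) (hmem _ _) (by simpa using hW i.val) _ fun z hz hzK => ?_
    rw [hconj 1 i.val Finset.univ (fun j => j) (fun j => i * j) z hz hzK]
    refine Fintype.prod_equiv (Equiv.addRight (1 : ZMod q)) _ _ fun j => ?_
    simp [mul_add]
  have hv1 : u ^ 0 * v ^ 1 = v := by simp
  have haxis : ∏ k : ZMod q, f 0 k ∈ Wi := by
    refine key (u ^ 0 * v ^ 1) (hmem _ _) (by rwa [hv1]) _ fun z hz hzK => ?_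
    rw [hconj 0 1 Finset.univ (fun _ => 0) (fun k => k) z hz hzK]
    refine Fintype.prod_equiv (Equiv.addRight (1 : ZMod q)) _ _ fun j => ?_
    simp
  have hall : ∏ j : ZMod q, ∏ k : ZMod q, f j k ∈ Wi := by
    refine key (u ^ 1 * v ^ 0) (hmem _ _) (by simpa using hW 0) _ fun z hz hzK => ?_
    rw [← Finset.prod_product'] at hz ⊢
    rw [hconj 1 0 _ (fun p : ZMod q × ZMod q => p.1) (fun p => p.2) z hz hzK]
    refine Finset.prod_equiv ((Equiv.addRight (1 : ZMod q)).prodCongr (Equiv.refl _)) (fun _ => by simp)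
      fun p _ => ?_
    simp
  have hxq : π ⟨x, hx⟩ ^ q ∈ Wi := by
    have h := mul_mem (mul_mem (prod_mem fun i (_ : i ∈ Finset.univ) => hline i) haxis)
      (inv_mem hall)
    rw [prod_lines_mul_prod_axis f] at h
    rw [mul_inv_cancel_right] at h
    have h00 : f 0 0 = π ⟨x, hx⟩ := by
      simp only [f]
      congr 1
      exact Subtype.ext (by simp [g])
    rwa [h00] at h
  have hxW : π ⟨x, hx⟩ ∈ Wi := by
    have hcopo : Nat.Coprime (orderOf (π ⟨x, hx⟩)) q :=
      (Nat.Coprime.coprime_dvd_right ((orderOf_map_dvd π _).trans (orderOf_dvd_natCard _)) hqK).symm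
    obtain ⟨m, hm⟩ := exists_pow_eq_self_of_coprime hcopo.symm
    rw [← hm]
    exact pow_mem hxq m
  obtain ⟨y, hy, hyx⟩ := hxW
  have hk : y⁻¹ * ⟨x, hx⟩ ∈ π.ker := by
    rw [MonoidHom.mem_ker, map_mul, map_inv, hyx]; exact inv_mul_cancel _
  rw [hker] at hk
  have hin : ((y⁻¹ * ⟨x, hx⟩ : K) : G) ∈ W := hDW (hmapc ▸ Subgroup.mem_map_of_mem K.subtype hk)
  have := mul_mem (show (y : G) ∈ W from hy) hin
  simpa using this

/-- To bound an `A`-invariant group it is enough to bound its `A`-invariant `p`-subgroups. -/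
theorem le_of_forall_invariant_pGroup [Finite G] {A K W : Subgroup G}
    (hAK : A ≤ Subgroup.normalizer (K : Set G)) (hcop : (Nat.card A).Coprime (Nat.card K))
    (hs : Group.IsSolvable A ∨ Group.IsSolvable K)
    (h : ∀ (p : ℕ) (P : Subgroup G), p.Prime → IsPGroup p P → P ≤ K →
      A ≤ Subgroup.normalizer (P : Set G) → P ≤ W) : K ≤ W := by
  rw [← Subgroup.subgroupOf_eq_top]
  refine Subgroup.eq_top_of_card_eq _ (Nat.dvd_antisymm (Subgroup.card_subgroup_dvd_card _) ?_)
  rw [Nat.dvd_iff_prime_pow_dvd_dvd]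
  intro q k hq hdvd
  haveI := Fact.mk hq
  obtain ⟨P, hP⟩ := exists_invariant_sylow (p := q) hAK hcop hs
  have hle : (P : Subgroup K) ≤ W.subgroupOf K := fun x hx =>
    h q _ hq (P.2.map K.subtype) (Subgroup.map_subtype_le _) hP ⟨x, hx, rfl⟩
  exact (P.pow_dvd_card_of_pow_dvd_card hdvd).trans (Subgroup.card_dvd_of_le hle)

theorem isSolvable_of_isMulCommutative (A : Subgroup G) [h : IsMulCommutative A] :
    Group.IsSolvable A :=
  Group.isSolvable_of_comm fun a b => h.is_comm.comm a b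

theorem commute_of_isMulCommutative {A : Subgroup G} [IsMulCommutative A] {a b : G} (ha : a ∈ A)
    (hb : b ∈ A) : a * b = b * a :=
  congrArg Subtype.val ((IsMulCommutative.is_comm (M := A)).comm ⟨a, ha⟩ ⟨b, hb⟩)

/-- `le_of_centralizers_pair` without the solvability hypothesis. -/
theorem le_of_centralizers_pair' [Finite G] {q : ℕ} [Fact q.Prime] {A K W : Subgroup G}
    [IsMulCommutative A] {u v : G} (hu : u ∈ A) (hv : v ∈ A)
    (hAK : A ≤ Subgroup.normalizer (K : Set G)) (hcop : (Nat.card A).Coprime (Nat.card K))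
    (hqK : q.Coprime (Nat.card K)) (hu' : ∀ x ∈ K, u ^ q * x = x * u ^ q)
    (hv' : ∀ x ∈ K, v ^ q * x = x * v ^ q)
    (hW : ∀ i : ℕ, K ⊓ Subgroup.centralizer {u * v ^ i} ≤ W)
    (hWv : K ⊓ Subgroup.centralizer {v} ≤ W) : K ≤ W := by
  refine le_of_forall_invariant_pGroup hAK hcop (Or.inl (isSolvable_of_isMulCommutative A))
    fun p P hp hP hPK hAP => ?_
  haveI := Fact.mk hp
  haveI := hP.isNilpotent
  exact le_of_centralizers_pair hu hv P inferInstance hAP
    (hcop.coprime_dvd_right (Subgroup.card_dvd_of_le hPK))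
    (hqK.coprime_dvd_right (Subgroup.card_dvd_of_le hPK))
    (fun x hx => hu' x (hPK hx)) (fun x hx => hv' x (hPK hx))
    (fun i => (inf_le_inf_right _ hPK).trans (hW i)) ((inf_le_inf_right _ hPK).trans hWv)

/-- A coprime abelian operator group `A` generates `K` by the centralizers of nonidentity
elements, if `A` is noncyclic. -/
theorem le_of_noncyclic_centralizers [Finite G] {A K W : Subgroup G} [IsMulCommutative A]
    (hA : ¬ IsCyclic A) (hAK : A ≤ Subgroup.normalizer (K : Set G))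
    (hcop : (Nat.card A).Coprime (Nat.card K))
    (hW : ∀ a ∈ A, a ≠ 1 → K ⊓ Subgroup.centralizer {a} ≤ W) : K ≤ W := by
  open scoped IsMulCommutative in
  obtain ⟨q, hq, hqA, u, v, hu, hv, hv1, huv⟩ := exists_pair_of_not_isCyclic hA
  haveI := Fact.mk hq
  refine le_of_centralizers_pair' u.2 v.2 hAK hcop (hcop.coprime_dvd_left hqA) ?_ ?_ ?_
    (hW v v.2 fun h => hv1 (Subtype.ext h))
  · intro x _; rw [← Subgroup.coe_pow, hu]; simp
  · intro x _; rw [← Subgroup.coe_pow, hv]; simp
  · intro i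
    refine hW _ (mul_mem u.2 (pow_mem v.2 i)) fun h => huv ?_
    have hu1 : u = (v ^ i)⁻¹ :=
      eq_inv_of_mul_eq_one_left (Subtype.ext h : u * v ^ i = 1)
    rw [hu1]
    exact inv_mem (pow_mem (Subgroup.mem_zpowers v) i)

/-- `K` is generated by the centralizers of the subgroups with cyclic quotient in `A`. -/
theorem le_of_cocyclic_centralizers [Finite G] {A K W : Subgroup G} [IsMulCommutative A]
    (hAK : A ≤ Subgroup.normalizer (K : Set G)) (hcop : (Nat.card A).Coprime (Nat.card K))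
    (hW : ∀ B : Subgroup G, B ≤ A → (∃ a ∈ A, B ⊔ Subgroup.zpowers a = A) →
      K ⊓ Subgroup.centralizer (B : Set G) ≤ W) : K ≤ W := by
  classical
  suffices h : ∀ B : Subgroup G, B ≤ A → K ⊓ Subgroup.centralizer (B : Set G) ≤ W by
    intro x hx
    exact h ⊥ bot_le (Subgroup.mem_inf.2 ⟨hx, Subgroup.mem_centralizer_iff.2 fun b hb => by
      rw [Subgroup.mem_bot.1 hb]; simp⟩)
  intro B
  induction B using WellFoundedGT.induction with
  | _ B ih => ?_
  intro hBA
  by_cases hc : ∃ a ∈ A, B ⊔ Subgroup.zpowers a = A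
  · exact hW B hBA hc
  open scoped IsMulCommutative in
  obtain ⟨q, hq, hqdvd, u', v', hu, hv, hv1, huv, hcyc⟩ :
      ∃ q : ℕ, q.Prime ∧ q ∣ Nat.card A ∧ ∃ u v : A, u ^ q ∈ B.subgroupOf A ∧
        v ^ q ∈ B.subgroupOf A ∧ v ∉ B.subgroupOf A ∧ (∀ i : ℕ, u * v ^ i ∉ B.subgroupOf A) ∧
        True := by
    have hnc : ¬ IsCyclic (A ⧸ B.subgroupOf A) := by
      intro h
      obtain ⟨g, hg⟩ := h.exists_generator
      obtain ⟨a, rfl⟩ := QuotientGroup.mk_surjective g
      refine hc ⟨a, a.2, le_antisymm (sup_le hBA (Subgroup.zpowers_le.2 a.2)) fun x hx => ?_⟩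
      obtain ⟨n, hn⟩ := Subgroup.mem_zpowers_iff.1 (hg (QuotientGroup.mk ⟨x, hx⟩))
      rw [← QuotientGroup.mk_zpow, QuotientGroup.eq] at hn
      have h2 : ((a : G) ^ n)⁻¹ * x ∈ B := by simpa [Subgroup.mem_subgroupOf] using hn
      have h3 := Subgroup.mul_mem_sup h2 (Subgroup.zpow_mem_zpowers (a : G) n)
      have h4 : x = (((a : G) ^ n)⁻¹ * x) * (a : G) ^ n := by
        rw [commute_of_isMulCommutative (hBA h2) (zpow_mem a.2 n)]; simp
      rw [h4]; exact h3
    obtain ⟨q, hq, hqd, u, v, hu, hv, hv1, huv⟩ := exists_pair_of_not_isCyclic hnc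
    obtain ⟨u, rfl⟩ := QuotientGroup.mk_surjective u
    obtain ⟨v, rfl⟩ := QuotientGroup.mk_surjective v
    refine ⟨q, hq, hqd.trans (Subgroup.card_quotient_dvd_card _), u, v, ?_, ?_, ?_, ?_, trivial⟩
    · rwa [← QuotientGroup.eq_one_iff, QuotientGroup.mk_pow]
    · rwa [← QuotientGroup.eq_one_iff, QuotientGroup.mk_pow]
    · rwa [← QuotientGroup.eq_one_iff]
    · intro i hi
      rw [← QuotientGroup.eq_one_iff, QuotientGroup.mk_mul, QuotientGroup.mk_pow] at hi
      refine huv ?_
      rw [eq_inv_of_mul_eq_one_left hi]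
      exact inv_mem (pow_mem (Subgroup.mem_zpowers _) i)
  haveI := Fact.mk hq
  set K' := K ⊓ Subgroup.centralizer (B : Set G)
  have hAK' : A ≤ Subgroup.normalizer (K' : Set G) := by
    rw [le_normalizer_iff_forall_conj_mem]
    intro a ha x hx
    obtain ⟨hxK, hxC⟩ := Subgroup.mem_inf.1 hx
    refine Subgroup.mem_inf.2 ⟨le_normalizer_iff_forall_conj_mem.1 hAK a ha x hxK, ?_⟩
    rw [Subgroup.mem_centralizer_iff]
    intro b hb
    have h1 : b * a = a * b := commute_of_isMulCommutative (hBA hb) ha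
    have h2 : b * a⁻¹ = a⁻¹ * b := commute_of_isMulCommutative (hBA hb) (inv_mem ha)
    have h3 : b * x = x * b := Subgroup.mem_centralizer_iff.1 hxC b hb
    rw [← mul_assoc, ← mul_assoc, h1, mul_assoc a b, h3, ← mul_assoc, mul_assoc (a * x), h2,
      ← mul_assoc]
  have hK'K : Nat.card K' ∣ Nat.card K := Subgroup.card_dvd_of_le inf_le_left
  have hlines : ∀ w : A, w ∉ B.subgroupOf A →
      K' ⊓ Subgroup.centralizer {(w : G)} ≤ W := by
    intro w hw x hx
    obtain ⟨hx', hxw⟩ := Subgroup.mem_inf.1 hx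
    obtain ⟨hxK, hxB⟩ := Subgroup.mem_inf.1 hx'
    have hlt : B < B ⊔ Subgroup.zpowers (w : G) := lt_of_le_of_ne le_sup_left fun h => hw
      (Subgroup.mem_subgroupOf.2 (h ▸ Subgroup.mem_sup_right (Subgroup.mem_zpowers _)))
    refine ih _ hlt (sup_le hBA (Subgroup.zpowers_le.2 w.2)) (Subgroup.mem_inf.2 ⟨hxK, ?_⟩)
    have hle : B ⊔ Subgroup.zpowers (w : G) ≤ Subgroup.centralizer {x} := by
      refine sup_le (fun b hb => ?_) (Subgroup.zpowers_le.2 ?_)
      · rw [Subgroup.mem_centralizer_singleton_iff]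
        exact Subgroup.mem_centralizer_iff.1 hxB b hb
      · rw [Subgroup.mem_centralizer_singleton_iff]
        exact (Subgroup.mem_centralizer_singleton_iff.1 hxw).symm
    rw [Subgroup.mem_centralizer_iff]
    exact fun y hy => Subgroup.mem_centralizer_singleton_iff.1 (hle hy)
  refine le_of_centralizers_pair' u'.2 v'.2 hAK' (hcop.coprime_dvd_right hK'K)
    ((hcop.coprime_dvd_left hqdvd).coprime_dvd_right hK'K) ?_ ?_
    (fun i => by simpa using hlines (u' * v' ^ i) (huv i)) (hlines v' hv1)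
  · intro x hx
    exact Subgroup.mem_centralizer_iff.1 (Subgroup.mem_inf.1 hx).2 _
      (by simpa [Subgroup.mem_subgroupOf] using hu)
  · intro x hx
    exact Subgroup.mem_centralizer_iff.1 (Subgroup.mem_inf.1 hx).2 _
      (by simpa [Subgroup.mem_subgroupOf] using hv)

/-- `[K, A]` is generated by the `[C_K(B), A]` with `A/B` cyclic. -/
theorem commutator_le_of_cocyclic [Finite G] {A K : Subgroup G} [IsMulCommutative A]
    (hAK : A ≤ Subgroup.normalizer (K : Set G)) (hcop : (Nat.card A).Coprime (Nat.card K)) :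
    ⁅K, A⁆ ≤ ⨆ B : {B : Subgroup G // B ≤ A ∧ ∃ a ∈ A, B ⊔ Subgroup.zpowers a = A},
      ⁅K ⊓ Subgroup.centralizer ((B : Subgroup G) : Set G), A⁆ := by
  set M := ⨆ B : {B : Subgroup G // B ≤ A ∧ ∃ a ∈ A, B ⊔ Subgroup.zpowers a = A},
      ⁅K ⊓ Subgroup.centralizer ((B : Subgroup G) : Set G), A⁆ with hM
  have hs : Group.IsSolvable A := isSolvable_of_isMulCommutative A
  set H := ⁅K, A⁆ with hH
  have hHK : H ≤ K := commutator_le_of_le_normalizer hAK
  have hAH : A ≤ Subgroup.normalizer (H : Set G) := right_le_normalizer_commutator K A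
  have hcopH := hcop.coprime_dvd_right (Subgroup.card_dvd_of_le hHK)
  have hnorm : ∀ X : Subgroup G, (∀ B : {B : Subgroup G // B ≤ A ∧ ∃ a ∈ A,
      B ⊔ Subgroup.zpowers a = A}, X ≤ Subgroup.normalizer
        ((⁅K ⊓ Subgroup.centralizer ((B : Subgroup G) : Set G), A⁆ : Subgroup G) : Set G)) →
      X ≤ Subgroup.normalizer (M : Set G) := by
    intro X hX
    rw [le_normalizer_iff_forall_conj_mem]
    intro x hx m hm
    have h : M ≤ M.comap (MulAut.conj x).toMonoidHom := iSup_le fun B c hc =>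
      le_iSup (fun B : {B : Subgroup G // B ≤ A ∧ ∃ a ∈ A, B ⊔ Subgroup.zpowers a = A} =>
        ⁅K ⊓ Subgroup.centralizer ((B : Subgroup G) : Set G), A⁆) B
        (le_normalizer_iff_forall_conj_mem.1 (hX B) x hx c hc)
    exact h hm
  have hAM : A ≤ Subgroup.normalizer (M : Set G) :=
    hnorm A fun B => right_le_normalizer_commutator _ A
  set C := H ⊓ Subgroup.centralizer (A : Set G) with hC
  have hCM : C ≤ Subgroup.normalizer (M : Set G) := by
    refine hnorm C fun B => le_trans ?_ (left_le_normalizer_commutator _ A)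
    exact inf_le_inf hHK (Subgroup.centralizer_le B.2.1)
  have hHMC : H ≤ M ⊔ C := by
    refine le_of_cocyclic_centralizers hAH hcopH fun B hB ha x hx => ?_
    set KB := K ⊓ Subgroup.centralizer (B : Set G)
    have hAKB : A ≤ Subgroup.normalizer ((H ⊓ Subgroup.centralizer (B : Set G) : Subgroup G) :
        Set G) := by
      rw [le_normalizer_iff_forall_conj_mem]
      intro a ha x hx
      obtain ⟨hxH, hxC⟩ := Subgroup.mem_inf.1 hx
      refine Subgroup.mem_inf.2 ⟨le_normalizer_iff_forall_conj_mem.1 hAH a ha x hxH, ?_⟩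
      rw [Subgroup.mem_centralizer_iff]
      intro b hb
      have h1 : b * a = a * b := commute_of_isMulCommutative (hB hb) ha
      have h2 : b * a⁻¹ = a⁻¹ * b := commute_of_isMulCommutative (hB hb) (inv_mem ha)
      have h3 : b * x = x * b := Subgroup.mem_centralizer_iff.1 hxC b hb
      rw [← mul_assoc, ← mul_assoc, h1, mul_assoc a b, h3, ← mul_assoc, mul_assoc (a * x), h2,
        ← mul_assoc]
    obtain ⟨y, hy, c, hc, rfl⟩ := commutator_sup_inf_centralizer hAKB
      (hcopH.coprime_dvd_right (Subgroup.card_dvd_of_le inf_le_left)) (Or.inl hs) x hx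
    refine Subgroup.mul_mem_sup ?_ (SetLike.le_def.1 (inf_le_inf_right _ inf_le_left) hc)
    exact le_iSup (fun B : {B : Subgroup G // B ≤ A ∧ ∃ a ∈ A, B ⊔ Subgroup.zpowers a = A} =>
        ⁅K ⊓ Subgroup.centralizer ((B : Subgroup G) : Set G), A⁆) ⟨B, hB, ha⟩
      (Subgroup.commutator_mono (inf_le_inf_right _ hHK) le_rfl hy)
  have : ⁅H, A⁆ ≤ M := by
    rw [Subgroup.commutator_le]
    intro h hh a ha
    obtain ⟨m, hm, c, hc, rfl⟩ := exists_mul_of_mem_sup hCM (sup_comm M C ▸ hHMC hh)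
    have hca : c * a * c⁻¹ = a := by
      rw [← Subgroup.mem_centralizer_iff.1 (Subgroup.mem_inf.1 hc).2 a ha, mul_inv_cancel_right]
    have : ⁅m * c, a⁆ = m * (a * m⁻¹ * a⁻¹) := by
      rw [commutatorElement_def, mul_inv_rev]
      calc m * c * a * (c⁻¹ * m⁻¹) * a⁻¹ = m * (c * a * c⁻¹) * m⁻¹ * a⁻¹ := by group
        _ = m * (a * m⁻¹ * a⁻¹) := by rw [hca]; group
    rw [this]
    exact mul_mem hm (le_normalizer_iff_forall_conj_mem.1 hAM a ha _ (inv_mem hm))
  rwa [hH, commutator_commutator_right hAK hcop (Or.inl hs)] at this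

end CfsgLib.Solv
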