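import Cfsg.Agent.Solv.PComplement
import Cfsg.Agent.Solv.Generation
import Cfsg.Agent.Solv.CoprimeAction
import Mathlib.GroupTheory.Perm.Cycle.Type

/-!
Applications of transfer: weakly closed subgroups, abelian Hall subgroups, small `p`-groups.
-/

set_option autoImplicit false
set_option linter.style.haveILetI false
set_option linter.deprecated false

open scoped commutatorElement Pointwise

namespace CfsgLib.Solv

variable {G : Type*} [Group G] {p : ℕ}

/-- Burnside: `N(P) ≤ C(P)` gives a normal `p`-complement. -/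
theorem hnpc_of_normalizer_le_centralizer [Finite G] [Fact p.Prime] (P : Sylow p G)
    (hP : Subgroup.normalizer ((P : Subgroup G) : Set G) ≤ Subgroup.centralizer ((P : Subgroup G) : Set G)) :
    Cfsg.HasNormalPComplement p G := by
  have hc : IsMulCommutative (P : Subgroup G) := by
    refine ⟨⟨fun a b => Subtype.ext ?_⟩⟩
    exact (Subgroup.mem_centralizer_iff.1 (hP (Subgroup.le_normalizer a.2)) b b.2).symm
  refine hnpc_of_fusion P fun x hx g hg => ?_
  obtain ⟨n, hn, he⟩ := exists_normalizer_conj_of_abelian_sylow P hc hx hg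
  refine ⟨1, one_mem _, ?_⟩
  rw [← he, ← Subgroup.mem_centralizer_iff.1 (hP hn) x hx, mul_inv_cancel_right, one_mul, inv_one,
    mul_one]

/-- A subgroup central in `P` and weakly closed in it: its normalizer controls fusion in `P`. -/
theorem control_of_weaklyClosed [Finite G] [Fact p.Prime] (P : Sylow p G) {Z : Subgroup G}
    (hZ : Z ≤ Subgroup.centralizer ((P : Subgroup G) : Set G))
    (hW : Cfsg.IsWeaklyClosed Z (P : Subgroup G)) {x : G} (hx : x ∈ P) {g : G}
    (hg : g * x * g⁻¹ ∈ P) :
    ∃ n ∈ Subgroup.normalizer (Z : Set G), n * x * n⁻¹ = g * x * g⁻¹ := by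
  set y := g * x * g⁻¹ with hy
  set C := Subgroup.centralizer ({y} : Set G) with hC
  have hZC : Z ≤ C := fun z hz => Subgroup.mem_centralizer_singleton_iff.2
    (Subgroup.mem_centralizer_iff.1 (hZ hz) y hg).symm
  have hgZC : MulAut.conj g • Z ≤ C := fun z hz => by
    rw [mem_conj_smul_iff] at hz
    refine Subgroup.mem_centralizer_singleton_iff.2 ?_
    have h := Subgroup.mem_centralizer_iff.1 (hZ hz) x hx
    have e1 : z = g * (g⁻¹ * z * g) * g⁻¹ := by group
    rw [e1, hy]
    calc g * (g⁻¹ * z * g) * g⁻¹ * (g * x * g⁻¹) = g * ((g⁻¹ * z * g) * x) * g⁻¹ := by group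
      _ = g * (x * (g⁻¹ * z * g)) * g⁻¹ := by rw [h]
      _ = _ := by group
  obtain ⟨S, hS⟩ := ((P.2.to_le hW.1).comap_subtype (K := C)).exists_le_sylow
  obtain ⟨T, hT⟩ := (((P.2.to_le hW.1).map (MulAut.conj g).toMonoidHom).comap_subtype (K := C)).exists_le_sylow
  obtain ⟨c, hc⟩ := MulAction.exists_smul_eq C T S
  obtain ⟨R, hR⟩ := (S.2.map C.subtype).exists_le_sylow
  obtain ⟨h, hh⟩ := MulAction.exists_smul_eq G R P
  have key : ∀ a : G, MulAut.conj a • Z ≤ (R : Subgroup G) → h * a ∈ Subgroup.normalizer (Z : Set G) := by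
    intro a ha
    refine mem_normalizer_of_conj_smul_eq ?_
    have hle : MulAut.conj (h * a) • Z ≤ (P : Subgroup G) := by
      rw [map_mul, mul_smul, ← hh, Sylow.coe_subgroup_smul]
      exact Subgroup.pointwise_smul_le_pointwise_smul_iff.2 ha
    have := hW.2 (h * a) (by rwa [← conj_smul_eq_map])
    rwa [← conj_smul_eq_map] at this
  have h1 : h * 1 ∈ Subgroup.normalizer (Z : Set G) := key 1 fun z hz => by
    rw [map_one, one_smul] at hz
    exact hR ⟨⟨z, hZC hz⟩, hS hz, rfl⟩
  have h2 : h * ((c : G) * g) ∈ Subgroup.normalizer (Z : Set G) := key _ fun z hz => by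
    rw [map_mul, mul_smul, mem_conj_smul_iff] at hz
    have hzC : (c : G)⁻¹ * z * c ∈ C := hgZC hz
    have hzC' : z ∈ C := by
      have := mul_mem (mul_mem c.2 hzC) (inv_mem c.2)
      simpa [mul_assoc] using this
    refine hR ⟨⟨z, hzC'⟩, ?_, rfl⟩
    rw [← hc, Sylow.coe_subgroup_smul]
    refine mem_conj_smul_iff.2 (hT ?_)
    rw [Subgroup.mem_comap, ← conj_smul_eq_map]
    exact hz
  refine ⟨(c : G) * g, ?_, ?_⟩
  · have := mul_mem (inv_mem h1) h2
    simpa [mul_assoc] using this
  · have hc' := Subgroup.mem_centralizer_singleton_iff.1 c.2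
    calc (c : G) * g * x * ((c : G) * g)⁻¹ = (c : G) * y * (c : G)⁻¹ := by rw [hy]; group
      _ = y := by rw [hc', mul_inv_cancel_right]

/-- A central element of the derived subgroup is killed by transfer to any abelian quotient. -/
theorem hom_eq_one_of_central [Finite G] {A : Type*} [CommGroup A] (H : Subgroup G) (ϕ : H →* A)
    {z : G} (hzH : z ∈ H) (hz : z ∈ Subgroup.center G) (hzc : z ∈ commutator G)
    (hco : (Nat.card H).Coprime H.index ∨ Nat.Coprime (orderOf (ϕ ⟨z, hzH⟩)) H.index) :
    ϕ ⟨z, hzH⟩ = 1 := by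
  have h := CfsgLib.Inv.transfer_eq_pow_of_ctrl H ϕ hzH fun k g₀ hk => by
    rw [← map_pow]
    refine congrArg ϕ (Subtype.ext ?_)
    show g₀⁻¹ * z ^ k * g₀ = z ^ k
    rw [mul_assoc, ← Subgroup.mem_center_iff.1 (pow_mem hz k) g₀, inv_mul_cancel_left]
  rw [MonoidHom.mem_ker.1 (Abelianization.commutator_subset_ker _ hzc)] at h
  rw [← orderOf_eq_one_iff]
  rcases hco with hco | hco
  · exact Nat.eq_one_of_dvd_coprimes hco
      ((orderOf_map_dvd ϕ _).trans (orderOf_dvd_natCard _)) (orderOf_dvd_of_pow_eq_one h.symm)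
  · exact Nat.eq_one_of_dvd_coprimes hco dvd_rfl (orderOf_dvd_of_pow_eq_one h.symm)

/-- `H ∩ G' ∩ Z(G) = 1` for an abelian Hall subgroup. -/
theorem eq_one_of_abelian_hall [Finite G] {H : Subgroup G} (hc : IsMulCommutative H)
    (hHall : (Nat.card H).Coprime H.index) {z : G} (hzH : z ∈ H) (hz : z ∈ Subgroup.center G)
    (hzc : z ∈ commutator G) : z = 1 := by
  open scoped IsMulCommutative in
  exact congrArg Subtype.val (hom_eq_one_of_central H (MonoidHom.id H) hzH hz hzc (Or.inl hHall))

theorem abelian_sylow_coprime [Finite G] [hp : Fact p.Prime] (P : Sylow p G) :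
    (Nat.card (P : Subgroup G)).Coprime (P : Subgroup G).index := by
  obtain ⟨k, hk⟩ := IsPGroup.iff_card.1 P.2
  rw [hk]
  exact (hp.out.coprime_iff_not_dvd.2 P.not_dvd_index).pow_left k

/-- If `g` normalises the `p`-group `Q` and every prime `r ∣ |g|` divides no `|Q| - p^k`, then `g`
centralises `Q`. -/
theorem mem_centralizer_of_small [Finite G] [hp : Fact p.Prime] {Q : Subgroup G}
    (hQ : IsPGroup p Q) {g : G} (hg : g ∈ Subgroup.normalizer (Q : Set G))
    (h : ∀ r : ℕ, r.Prime → r ∣ orderOf g → ∀ k : ℕ, p ^ k ∣ Nat.card Q → p ^ k < Nat.card Q →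
      ¬ r ∣ Nat.card Q - p ^ k) :
    g ∈ Subgroup.centralizer (Q : Set G) := by
  obtain ⟨n, hn⟩ : ∃ n, orderOf g = n := ⟨_, rfl⟩
  induction n using Nat.strong_induction_on generalizing g with
  | _ n ih =>
    by_cases hg1 : orderOf g = 1
    · rw [orderOf_eq_one_iff] at hg1
      rw [hg1]; exact one_mem _
    obtain ⟨r, hr, hrd⟩ := Nat.exists_prime_and_dvd hg1
    haveI := Fact.mk hr
    have hpr : g ^ r ∈ Subgroup.centralizer (Q : Set G) := by
      refine ih (orderOf (g ^ r)) ?_ (pow_mem hg r) ?_ rfl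
      · rw [orderOf_pow_of_dvd hr.ne_zero hrd, ← hn]
        exact Nat.div_lt_self (orderOf_pos g) hr.one_lt
      · exact fun s hs hsd => h s hs (hsd.trans (orderOf_pow_dvd r))
    classical
    haveI := Fintype.ofFinite Q
    let f : Function.End Q := fun q =>
      ⟨g * q * g⁻¹, (Subgroup.mem_normalizer_iff.1 hg q).1 q.2⟩
    have hf : ∀ (m : ℕ) (q : Q), ((f ^ m) q : G) = g ^ m * q * (g ^ m)⁻¹ := by
      intro m
      induction m with
      | zero => intro q; simp; rfl
      | succ m ihm =>
        intro q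
        rw [pow_succ']
        show g * ((f ^ m) q : G) * g⁻¹ = _
        rw [ihm, pow_succ']; group
    have hfr : f ^ r ^ 1 = 1 := by
      funext q
      apply Subtype.ext
      rw [pow_one, hf, ← Subgroup.mem_centralizer_iff.1 hpr q q.2, mul_inv_cancel_right]
      rfl
    have hmod := Equiv.Perm.card_fixedPoints_modEq (p := r) (n := 1) hfr
    let C : Subgroup G := Q ⊓ Subgroup.centralizer (Subgroup.zpowers g : Set G)
    have hCcard : Fintype.card (Function.fixedPoints f) = Nat.card C := by
      rw [← Nat.card_eq_fintype_card]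
      refine Nat.card_congr
        { toFun := fun q => ⟨(q.1 : G), Subgroup.mem_inf.2 ⟨q.1.2, Subgroup.mem_centralizer_iff.2 ?_⟩⟩
          invFun := fun c => ⟨⟨(c : G), (Subgroup.mem_inf.1 c.2).1⟩, ?_⟩
          left_inv := fun q => rfl
          right_inv := fun c => rfl }
      · intro z hz
        obtain ⟨i, rfl⟩ := hz
        have h1 : g * (q.1 : G) * g⁻¹ = q.1 := congrArg Subtype.val q.2
        have h2 : Commute g (q.1 : G) := mul_inv_eq_iff_eq_mul.1 h1
        exact h2.zpow_left i
      · apply Subtype.ext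
        show g * (c : G) * g⁻¹ = c
        rw [Subgroup.mem_centralizer_iff.1 (Subgroup.mem_inf.1 c.2).2 g (Subgroup.mem_zpowers g),
          mul_inv_cancel_right]
    obtain ⟨k, hk⟩ := IsPGroup.iff_card.1 (hQ.to_le (inf_le_left : C ≤ Q))
    rw [hCcard, ← Nat.card_eq_fintype_card] at hmod
    have hCQ : Nat.card C = Nat.card Q := by
      by_contra hne
      have hle := Subgroup.card_le_of_le (inf_le_left : C ≤ Q)
      refine h r hr hrd k (hk ▸ Subgroup.card_dvd_of_le inf_le_left) (hk ▸ lt_of_le_of_ne hle hne) ?_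
      rw [← hk]
      exact (Nat.modEq_iff_dvd' hle).1 hmod.symm
    have hC : C = Q := Subgroup.eq_of_le_of_card_ge inf_le_left hCQ.ge
    rw [Subgroup.mem_centralizer_iff]
    intro q hq
    exact (Subgroup.mem_centralizer_iff.1 (Subgroup.mem_inf.1 (hC ▸ hq : q ∈ C)).2 g
      (Subgroup.mem_zpowers g)).symm

/-- A Hall subgroup is complemented by a normal subgroup once `G` is `p`-nilpotent for all its primes. -/
theorem exists_normal_complement_of_hnpc [Finite G] (H : Subgroup G)
    (hHall : (Nat.card H).Coprime H.index)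
    (h : ∀ p : ℕ, p.Prime → p ∣ Nat.card H → Cfsg.HasNormalPComplement p G) :
    ∃ N : Subgroup G, N.Normal ∧ N.IsComplement' H := by
  let N : Subgroup G := Subgroup.normalClosure {x : G | (orderOf x).Coprime (Nat.card H)}
  have hco : (Nat.card N).Coprime (Nat.card H) := by
    refine Nat.coprime_of_dvd fun q hq hqN hqH => ?_
    haveI := Fact.mk hq
    haveI := CfsgLib.Inv.pResidual_normal q G
    refine hnpc_iff.1 (h q hq hqH) (hqN.trans (Subgroup.card_dvd_of_le ?_))
    exact Subgroup.normalClosure_le_normal fun x hx =>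
      CfsgLib.Inv.mem_pResidual (Nat.Coprime.coprime_dvd_right hqH hx)
  have hidx : N.index.Coprime H.index := by
    refine Nat.coprime_of_dvd fun q hq hqN hqH => ?_
    haveI := Fact.mk hq
    obtain ⟨x, hx⟩ := exists_prime_orderOf_dvd_card' (G := G ⧸ N) q hqN
    obtain ⟨y, rfl⟩ := QuotientGroup.mk_surjective x
    have h1 : y ^ Nat.card H ∈ N := by
      refine Subgroup.subset_normalClosure (Nat.Coprime.coprime_dvd_left ?_ hHall.symm)
      refine orderOf_dvd_of_pow_eq_one ?_
      rw [← pow_mul, H.card_mul_index, pow_card_eq_one']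
    have h2 : q ∣ Nat.card H := by
      rw [← hx]
      exact orderOf_dvd_of_pow_eq_one (by rw [← QuotientGroup.mk_pow, (QuotientGroup.eq_one_iff _).2 h1])
    exact hq.ne_one (Nat.eq_one_of_dvd_coprimes hHall h2 hqH)
  refine ⟨N, Subgroup.normalClosure_normal, Subgroup.isComplement'_of_coprime ?_ hco⟩
  have e := N.card_mul_index.trans H.card_mul_index.symm
  have h2 : Nat.card H = N.index := Nat.dvd_antisymm
    (hco.symm.dvd_of_dvd_mul_left ⟨H.index, e⟩)
    (hidx.dvd_of_dvd_mul_right ⟨Nat.card N, by rw [← e, mul_comm]⟩)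
  rw [h2, N.card_mul_index]

theorem hnpc_of_isNilpotent [Finite G] [hp : Fact p.Prime] [Group.IsNilpotent G] :
    Cfsg.HasNormalPComplement p G := by
  rw [hnpc_iff_frobCond]
  intro Q hQ g hg hgc
  obtain ⟨k, hk⟩ := IsPGroup.iff_card.1 hQ
  have hA : Subgroup.zpowers g ≤ Subgroup.normalizer (Q : Set G) := Subgroup.zpowers_le.2 hg
  have hcop : (Nat.card (Subgroup.zpowers g)).Coprime (Nat.card Q) := by
    rw [Nat.card_zpowers, hk]; exact Nat.Coprime.pow_right k hgc
  have hW : ⁅Q, Subgroup.zpowers g⁆ = ⊥ := by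
    refine isNilpotent_bot_of_eq_commutator ?_
    conv_lhs => rw [← commutator_commutator_right hA hcop
      (Or.inl (isSolvable_of_isMulCommutative _))]
    exact Subgroup.commutator_mono le_rfl le_top
  rw [Subgroup.mem_centralizer_iff]
  intro q hq
  have h1 : ⁅q, g⁆ ∈ (⊥ : Subgroup G) :=
    hW ▸ Subgroup.commutator_mem_commutator hq (Subgroup.mem_zpowers g)
  exact commutatorElement_eq_one_iff_mul_comm.1 (Subgroup.mem_bot.1 h1)

theorem card_inf_pResidual [Finite G] [hp : Fact p.Prime] (h : Cfsg.HasNormalPComplement p G)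
    (P : Sylow p G) {H : Subgroup G} (hPH : (P : Subgroup G) ≤ H) :
    Nat.card (P : Subgroup G) * Nat.card (H ⊓ Cfsg.pResidual p G : Subgroup G) = Nat.card H ∧
      H = (P : Subgroup G) ⊔ (H ⊓ Cfsg.pResidual p G) := by
  haveI := CfsgLib.Inv.pResidual_normal p G
  have hc := isComplement'_pResidual h P
  have hsup : H = (P : Subgroup G) ⊔ (H ⊓ Cfsg.pResidual p G) := by
    refine le_antisymm (fun x hx => ?_) (sup_le hPH inf_le_left)
    have hm : x ∈ ((P : Subgroup G) : Set G) * (Cfsg.pResidual p G : Set G) := by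
      rw [← Subgroup.mul_normal, sylow_sup_pResidual P]; trivial
    obtain ⟨s, hs, k, hk, rfl⟩ := hm
    refine Subgroup.mul_mem_sup hs (Subgroup.mem_inf.2 ⟨?_, hk⟩)
    have := mul_mem (inv_mem (hPH hs)) hx
    simpa using this
  refine ⟨?_, hsup⟩
  have h1 := card_sup_mul_card_inf H (Cfsg.pResidual p G)
  rw [top_le_iff.1 ((sylow_sup_pResidual P).ge.trans (sup_le_sup_right hPH _)), Subgroup.card_top,
    ← hc.card_mul] at h1
  refine Nat.eq_of_mul_eq_mul_left (Nat.card_pos (α := Cfsg.pResidual p G)) ?_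
  rw [← mul_assoc, h1, mul_comm]

set_option maxHeartbeats 800000 in
/-- Abelian Hall subgroups of equal order are conjugate. -/
theorem abelian_hall_conj : ∀ (n : ℕ) (G : Type*) [Group G] [Finite G] (H K : Subgroup G),
    Nat.card H = n → IsMulCommutative H → IsMulCommutative K → (Nat.card H).Coprime H.index →
    Nat.card K = Nat.card H → ∃ g : G, MulAut.conj g • H = K := by
  intro n
  induction n using Nat.strong_induction_on with
  | _ n ih =>
    intro G _ _ H K hn hH hK hHall hcard
    by_cases h1 : Nat.card H = 1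
    · refine ⟨1, ?_⟩
      rw [map_one, one_smul, Subgroup.eq_bot_of_card_eq H h1,
        Subgroup.eq_bot_of_card_eq K (hcard.trans h1)]
    obtain ⟨p, hp, hpd⟩ := Nat.exists_prime_and_dvd h1
    haveI := Fact.mk hp
    have sylow_in : ∀ {L : Subgroup G}, Nat.card L = Nat.card H →
        ∃ P : Sylow p G, (P : Subgroup G) ≤ L := by
      intro L hL
      obtain ⟨P0⟩ := (inferInstance : Nonempty (Sylow p L))
      refine ⟨(P0.2.map L.subtype).toSylow ?_, ?_⟩
      · rw [Subgroup.index_map_subtype]
        refine fun hd => (hp.dvd_mul.1 hd).elim P0.not_dvd_index fun hd2 => ?_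
        refine hp.ne_one (Nat.eq_one_of_dvd_coprimes hHall hpd (hd2.trans (dvd_of_eq ?_)))
        have e := L.card_mul_index.trans H.card_mul_index.symm
        rw [hL] at e
        exact Nat.eq_of_mul_eq_mul_left Nat.card_pos e
      · exact Subgroup.map_subtype_le _
    obtain ⟨P, hPH⟩ := sylow_in rfl
    obtain ⟨Q, hQK⟩ := sylow_in hcard
    obtain ⟨a, rfl⟩ := MulAction.exists_smul_eq G Q P
    set K1 := MulAut.conj a • K with hK1
    have hPK : ((a • Q : Sylow p G) : Subgroup G) ≤ K1 := by
      rw [Sylow.coe_subgroup_smul]; exact Subgroup.pointwise_smul_le_pointwise_smul_iff.2 hQK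
    have hK1c : IsMulCommutative K1 := by
      refine ⟨⟨fun x y => Subtype.ext ?_⟩⟩
      have hx := mem_conj_smul_iff.1 x.2
      have hy := mem_conj_smul_iff.1 y.2
      have h2 := commute_of_isMulCommutative hx hy
      have h3 := congrArg (fun z => a * z * a⁻¹) h2
      simpa [mul_assoc] using h3
    set P1 : Sylow p G := a • Q
    set C := Subgroup.centralizer ((P1 : Subgroup G) : Set G) with hC
    have hleC : ∀ {L : Subgroup G}, (P1 : Subgroup G) ≤ L → IsMulCommutative L → L ≤ C := by
      intro L hPL hL x hx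
      exact Subgroup.mem_centralizer_iff.2 fun y hy => commute_of_isMulCommutative (hPL hy) hx
    have hHC := hleC hPH hH
    have hKC := hleC hPK hK1c
    have hPC : (P1 : Subgroup G) ≤ C := hPH.trans hHC
    have hnC : Cfsg.HasNormalPComplement p C := by
      refine hnpc_of_normalizer_le_centralizer (P1.subtype hPC) fun x _ => ?_
      rw [Sylow.coe_subtype, Subgroup.mem_centralizer_iff]
      intro y hy
      exact Subtype.ext (Subgroup.mem_centralizer_iff.1 x.2 y hy)
    set N := Cfsg.pResidual p C with hN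
    have hcH := card_inf_pResidual hnC (P1.subtype hPC) (H := H.subgroupOf C) fun x hx => hPH hx
    have hcK := card_inf_pResidual hnC (P1.subtype hPC) (H := K1.subgroupOf C) fun x hx => hPK hx
    have hK1card : Nat.card K1 = Nat.card H := (card_conj_smul a K).trans hcard
    rw [card_subgroupOf hHC] at hcH
    rw [card_subgroupOf hKC, hK1card] at hcK
    have hPcard : 1 < Nat.card ((P1.subtype hPC : Sylow p C) : Subgroup C) := by
      refine lt_of_lt_of_le hp.one_lt (Nat.le_of_dvd Nat.card_pos ?_)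
      rw [Sylow.coe_subtype, card_subgroupOf hPC]
      have h2 : p ∣ Nat.card (P1 : Subgroup G) * (P1 : Subgroup G).index := by
        rw [Subgroup.card_mul_index]; exact hpd.trans (Subgroup.card_subgroup_dvd_card H)
      exact (hp.dvd_mul.1 h2).resolve_right P1.not_dvd_index
    have hcomm : ∀ {L : Subgroup G}, IsMulCommutative L →
        IsMulCommutative (((L.subgroupOf C) ⊓ N).subgroupOf N) := by
      intro L hL
      refine ⟨⟨fun x y => Subtype.ext (Subtype.ext ?_)⟩⟩
      exact Subtype.ext (commute_of_isMulCommutative (A := L) (Subgroup.mem_inf.1 x.2).1 (Subgroup.mem_inf.1 y.2).1)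
    have hcardN : ∀ L : Subgroup C, Nat.card ((L ⊓ N).subgroupOf N) = Nat.card (L ⊓ N : Subgroup C) :=
      fun L => card_subgroupOf inf_le_right
    have hlt : Nat.card (((H.subgroupOf C) ⊓ N).subgroupOf N) < n := by
      rw [hcardN, ← hn, ← hcH.1]
      exact lt_mul_left Nat.card_pos hPcard
    have hHallN : (Nat.card (((H.subgroupOf C) ⊓ N).subgroupOf N)).Coprime
        (((H.subgroupOf C) ⊓ N).subgroupOf N).index := by
      refine Nat.Coprime.coprime_dvd_left ?_ (Nat.Coprime.coprime_dvd_right ?_ hHall)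
      · rw [hcardN, ← hcH.1]; exact dvd_mul_left _ _
      · haveI := CfsgLib.Inv.pResidual_normal p C
        show ((H.subgroupOf C) ⊓ N).relIndex N ∣ H.index
        rw [Subgroup.inf_relIndex_right,
          relIndex_eq_index_of_sup_eq_top _ _
            (top_le_iff.1 ((sylow_sup_pResidual (P1.subtype hPC)).ge.trans
              (sup_le_sup_right (fun x hx => hPH hx) _)))]
        exact Subgroup.relIndex_dvd_index_of_le hHC
    obtain ⟨m, hm⟩ := ih _ hlt N _ _ rfl (hcomm hH) (hcomm hK1c) hHallN (by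
      rw [hcardN, hcardN]
      exact Nat.eq_of_mul_eq_mul_left (by omega) (hcK.1.trans hcH.1.symm))
    refine ⟨a⁻¹ * ((m : C) : G), ?_⟩
    rw [map_mul, mul_smul, map_inv, inv_smul_eq_iff, ← hK1]
    refine Subgroup.eq_of_le_of_card_ge ?_ (by rw [card_conj_smul ((m : C) : G) H]; exact hK1card.le)
    have e : H ≤ MulAut.conj ((m : C) : G)⁻¹ • K1 := by
      intro x hx
      have hx' : (⟨x, hHC hx⟩ : C) ∈ H.subgroupOf C := hx
      rw [hcH.2] at hx'
      have hle : (P1.subtype hPC : Subgroup C) ⊔ (H.subgroupOf C ⊓ N) ≤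
          (MulAut.conj ((m : C) : G)⁻¹ • K1).subgroupOf C := by
        refine sup_le (fun y hy => ?_) (fun y hy => ?_)
        · refine mem_conj_smul_iff.2 (hPK ?_)
          have hc : (y : G) * ((m : C) : G) = ((m : C) : G) * (y : G) :=
            Subgroup.mem_centralizer_iff.1 (m : C).2 y hy
          show _ ∈ (P1 : Subgroup G)
          simp only [Subgroup.coe_subtype]
          rw [inv_inv, ← hc, mul_inv_cancel_right]
          exact hy
        · refine mem_conj_smul_iff.2 ?_
          have h3 : m * ⟨y, (Subgroup.mem_inf.1 hy).2⟩ * m⁻¹ ∈ (K1.subgroupOf C ⊓ N).subgroupOf N := by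
            rw [← hm, mem_conj_smul_iff]
            have : m⁻¹ * (m * ⟨y, (Subgroup.mem_inf.1 hy).2⟩ * m⁻¹) * m =
                ⟨y, (Subgroup.mem_inf.1 hy).2⟩ := by group
            rw [this]
            exact hy
          rw [inv_inv]
          exact (Subgroup.mem_inf.1 h3).1
      exact hle hx'
    have := Subgroup.pointwise_smul_le_pointwise_smul_iff (a := MulAut.conj ((m : C) : G)).2 e
    rwa [map_inv, smul_inv_smul] at this

end CfsgLib.Solv
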