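import Cfsg.Agent.Solv.Quadratic
import Cfsg.Agent.Solv.PComplement
import Cfsg.Agent.Solv.TransferTools
import Cfsg.Agent.Solv.CoprimeSylow
import Mathlib.GroupTheory.QuotientGroup.Basic

/-!
Preparations for the Thompson normal `p`-complement theorem.
-/

set_option autoImplicit false
set_option linter.style.haveILetI false
set_option linter.deprecated false
set_option linter.unusedSectionVars false

open scoped commutatorElement Pointwise

namespace CfsgLib.Solv

variable {G G' : Type*} [Group G] [Group G'] {p : ℕ}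

/-- The centre of a subgroup, inside the ambient group. -/
abbrev zOf (S : Subgroup G) : Subgroup G := S ⊓ Subgroup.centralizer (S : Set G)

theorem zOf_le (S : Subgroup G) : zOf S ≤ S := inf_le_left

theorem map_zOf (f : G →* G') (hf : Function.Injective f) (S : Subgroup G) :
    (zOf S).map f = zOf (S.map f) := by
  ext y
  simp only [Subgroup.mem_inf, Subgroup.mem_centralizer_iff, Subgroup.mem_map, SetLike.mem_coe]
  constructor
  · rintro ⟨x, ⟨hx, hc⟩, rfl⟩
    refine ⟨⟨x, hx, rfl⟩, ?_⟩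
    rintro _ ⟨s, hs, rfl⟩
    rw [← map_mul, ← map_mul, hc s hs]
  · rintro ⟨⟨x, hx, rfl⟩, hc⟩
    exact ⟨x, ⟨hx, fun s hs => hf (by simpa only [map_mul] using hc _ ⟨s, hs, rfl⟩)⟩, rfl⟩

theorem normalizer_le_normalizer_zOf (S : Subgroup G) :
    Subgroup.normalizer (S : Set G) ≤ Subgroup.normalizer (zOf S : Set G) := by
  intro g hg
  refine mem_normalizer_of_conj_smul_eq ?_
  have h := map_zOf (MulAut.conj g).toMonoidHom (MulAut.conj g).injective S
  rw [← conj_smul_eq_map, ← conj_smul_eq_map, conj_smul_eq_self_of_mem_normalizer hg] at h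
  exact h

theorem zOf_ne_bot [Finite G] [Fact p.Prime] {S : Subgroup G} (hS : IsPGroup p S) (hne : S ≠ ⊥) :
    zOf S ≠ ⊥ := by
  haveI : Nontrivial S := (Subgroup.nontrivial_iff_ne_bot S).2 hne
  have h := hS.center_nontrivial
  intro hb
  obtain ⟨z, hz⟩ := exists_ne (1 : Subgroup.center S)
  have hm : ((z : S) : G) ∈ zOf S :=
    ⟨(z : S).2, fun s hs => congrArg Subtype.val (Subgroup.mem_center_iff.1 z.2 ⟨s, hs⟩)⟩
  rw [hb, Subgroup.mem_bot] at hm
  exact hz (Subtype.ext (Subtype.ext hm))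

/-- A group embedding into a group with a normal `p`-complement has one. -/
theorem hnpc_of_injective [Finite G] [Finite G'] [Fact p.Prime] {f : G →* G'}
    (hf : Function.Injective f) (h : Cfsg.HasNormalPComplement p G') :
    Cfsg.HasNormalPComplement p G :=
  hnpc_mulEquiv (MonoidHom.ofInjective hf).symm (hnpc_subgroup h f.range)

theorem hnpc_of_map_le [Finite G] [Finite G'] [Fact p.Prime] {f : G →* G'}
    (hf : Function.Injective f) {K : Subgroup G} {L : Subgroup G'} (h : K.map f ≤ L)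
    (hL : Cfsg.HasNormalPComplement p L) : Cfsg.HasNormalPComplement p K :=
  hnpc_of_injective (f := (f.comp K.subtype).codRestrict L fun k => h ⟨k, k.2, rfl⟩)
    (fun _ _ e => Subtype.ext (hf (congrArg Subtype.val e))) hL

theorem hnpc_of_le [Finite G] [Fact p.Prime] {K L : Subgroup G} (h : K ≤ L)
    (hL : Cfsg.HasNormalPComplement p L) : Cfsg.HasNormalPComplement p K :=
  hnpc_of_map_le (f := MonoidHom.id G) Function.injective_id (by rwa [Subgroup.map_id]) hL

theorem hnpc_map [Finite G] [Fact p.Prime] (f : G →* G') {K : Subgroup G}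
    (h : Cfsg.HasNormalPComplement p K) : Cfsg.HasNormalPComplement p (K.map f) :=
  hnpc_of_surjective (f.subgroupMap_surjective K) h

theorem hnpc_top [Finite G] [Fact p.Prime] {K : Subgroup G} (hK : K = ⊤)
    (h : Cfsg.HasNormalPComplement p K) : Cfsg.HasNormalPComplement p G := by
  subst hK; exact hnpc_mulEquiv Subgroup.topEquiv h

/-- The hypothesis of Thompson's criterion. -/
def ThompsonHyp (p : ℕ) (S : Subgroup G) : Prop :=
  Cfsg.HasNormalPComplement p (Subgroup.normalizer (Cfsg.thompsonSubgroupOf p S : Set G)) ∧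
    Cfsg.HasNormalPComplement p (Subgroup.centralizer (zOf S : Set G))

theorem ThompsonHyp.of_normalizers [Finite G] [Fact p.Prime] {S : Subgroup G}
    (h1 : Cfsg.HasNormalPComplement p (Subgroup.normalizer (Cfsg.thompsonSubgroupOf p S : Set G)))
    (h2 : Cfsg.HasNormalPComplement p (Subgroup.normalizer (zOf S : Set G))) : ThompsonHyp p S :=
  ⟨h1, hnpc_of_le (Subgroup.centralizer_le_normalizer _) h2⟩

theorem ThompsonHyp.comap [Finite G] [Finite G'] [Fact p.Prime] {f : G →* G'}
    (hf : Function.Injective f) {S : Subgroup G} (h : ThompsonHyp p (S.map f)) :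
    ThompsonHyp p S := by
  refine ⟨hnpc_of_map_le hf (L := Subgroup.normalizer
    (Cfsg.thompsonSubgroupOf p (S.map f) : Set G')) ?_ h.1,
    hnpc_of_map_le hf (L := Subgroup.centralizer (zOf (S.map f) : Set G')) ?_ h.2⟩
  · rw [← map_thompsonSubgroupOf f S hf.injOn]
    exact Subgroup.le_normalizer_map f
  · rw [← map_zOf f hf S, Subgroup.map_le_iff_le_comap]
    intro g hg
    rw [Subgroup.mem_comap, Subgroup.mem_centralizer_iff]
    rintro _ ⟨z, hz, rfl⟩
    rw [← map_mul, ← map_mul, Subgroup.mem_centralizer_iff.1 hg z hz]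

theorem ThompsonHyp.conj [Finite G] [Fact p.Prime] (g : G) {S : Subgroup G} (h : ThompsonHyp p S) :
    ThompsonHyp p (MulAut.conj g • S) := by
  refine ThompsonHyp.comap (f := (MulAut.conj g⁻¹).toMonoidHom) (MulAut.conj g⁻¹).injective ?_
  rwa [← conj_smul_eq_map, ← mul_smul, ← map_mul, inv_mul_cancel, map_one, one_smul]

/-- A normaliser of a coprime subgroup covers the normaliser of its image. -/
theorem normalizer_map_mk'_le [Finite G] {M X : Subgroup G} [M.Normal]
    (hcop : (Nat.card X).Coprime (Nat.card M)) (hs : Group.IsSolvable X) :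
    Subgroup.normalizer (X.map (QuotientGroup.mk' M) : Set (G ⧸ M)) ≤
      (Subgroup.normalizer (X : Set G)).map (QuotientGroup.mk' M) := by
  intro y hy
  obtain ⟨g, rfl⟩ := QuotientGroup.mk'_surjective M y
  have hmap : (MulAut.conj g • X).map (QuotientGroup.mk' M) = X.map (QuotientGroup.mk' M) := by
    calc (MulAut.conj g • X).map (QuotientGroup.mk' M)
        = MulAut.conj (QuotientGroup.mk' M g) • X.map (QuotientGroup.mk' M) := by
          rw [conj_smul_eq_map, conj_smul_eq_map, Subgroup.map_map, Subgroup.map_map]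
          congr 1
      _ = _ := conj_smul_eq_self_of_mem_normalizer hy
  rw [Subgroup.map_eq_map_iff, QuotientGroup.ker_mk'] at hmap
  obtain ⟨k, hk, hle⟩ := exists_conj_le_of_covering
    (A := X) (K := M) (S := MulAut.conj g • X)
    (Subgroup.normalizer_eq_top M ▸ le_top) hcop (Or.inl hs)
    (hmap ▸ le_sup_left) (hmap ▸ le_sup_left)
  have heq : MulAut.conj k • X = MulAut.conj g • X :=
    Subgroup.eq_of_le_of_card_ge hle (by rw [card_conj_smul, card_conj_smul])
  refine ⟨k⁻¹ * g, mem_normalizer_of_conj_smul_eq ?_, ?_⟩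
  · rw [map_mul, mul_smul, ← heq, ← mul_smul, ← map_mul, inv_mul_cancel, map_one, one_smul]
  · rw [map_mul, map_inv]
    simp [(QuotientGroup.eq_one_iff k).2 hk]

theorem centralizer_map_mk'_le [Finite G] {M X : Subgroup G} [M.Normal]
    (hcop : (Nat.card X).Coprime (Nat.card M)) (hs : Group.IsSolvable X) :
    Subgroup.centralizer (X.map (QuotientGroup.mk' M) : Set (G ⧸ M)) ≤
      (Subgroup.centralizer (X : Set G)).map (QuotientGroup.mk' M) := by
  intro y hy
  obtain ⟨n, hn, rfl⟩ := normalizer_map_mk'_le hcop hs (Subgroup.centralizer_le_normalizer _ hy)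
  refine ⟨n, Subgroup.mem_centralizer_iff.2 fun x hx => ?_, rfl⟩
  have hX : ⁅n, x⁆ ∈ X := mul_mem ((Subgroup.mem_normalizer_iff.1 hn x).1 hx) (inv_mem hx)
  have hM : ⁅n, x⁆ ∈ M := by
    rw [← QuotientGroup.eq_one_iff]
    show QuotientGroup.mk' M ⁅n, x⁆ = 1
    rw [map_commutatorElement, commutatorElement_eq_one_iff_mul_comm]
    exact (Subgroup.mem_centralizer_iff.1 hy _ ⟨x, hx, rfl⟩).symm
  have h : ⁅n, x⁆ ∈ X ⊓ M := ⟨hX, hM⟩
  rw [inf_eq_bot_of_coprime_card hcop, Subgroup.mem_bot,
    commutatorElement_eq_one_iff_mul_comm] at h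
  exact h.symm

/-- Step one: passing to the quotient by a normal `p'`-subgroup. -/
theorem ThompsonHyp.quotient [Finite G] [Fact p.Prime] {S M : Subgroup G} [M.Normal]
    (hS : IsPGroup p S) (hM : ¬ p ∣ Nat.card M) (h : ThompsonHyp p S) :
    ThompsonHyp p (S.map (QuotientGroup.mk' M)) := by
  have hcop : ∀ X : Subgroup G, X ≤ S → (Nat.card X).Coprime (Nat.card M) := fun X hX => by
    obtain ⟨k, hk⟩ := (hS.to_le hX).exists_card_eq
    rw [hk]
    exact (((Fact.out : p.Prime).coprime_iff_not_dvd.2 hM).pow_left k)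
  have hsol : ∀ X : Subgroup G, X ≤ S → Group.IsSolvable X := fun X hX => by
    haveI := (hS.to_le hX).isNilpotent
    infer_instance
  have hinj : Set.InjOn (QuotientGroup.mk' M) (S : Set G) := by
    intro a (ha : a ∈ S) b (hb : b ∈ S) hab
    have h1 : a⁻¹ * b ∈ S ⊓ M := Subgroup.mem_inf.2 ⟨mul_mem (inv_mem ha) hb, QuotientGroup.eq.1 hab⟩
    rw [inf_eq_bot_of_coprime_card (hcop S le_rfl), Subgroup.mem_bot] at h1
    exact (inv_mul_eq_one.1 h1)
  refine ⟨?_, ?_⟩
  · rw [← map_thompsonSubgroupOf _ S hinj]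
    exact hnpc_of_le (normalizer_map_mk'_le (hcop _ (thompsonSubgroupOf_le S))
      (hsol _ (thompsonSubgroupOf_le S))) (hnpc_map _ h.1)
  · have hz : zOf (S.map (QuotientGroup.mk' M)) = (zOf S).map (QuotientGroup.mk' M) := by
      ext y
      simp only [Subgroup.mem_inf, Subgroup.mem_centralizer_iff, Subgroup.mem_map, SetLike.mem_coe]
      constructor
      · rintro ⟨⟨x, hx, rfl⟩, hc⟩
        refine ⟨x, ⟨hx, fun s hs => hinj (mul_mem hs hx) (mul_mem hx hs) ?_⟩, rfl⟩
        simpa only [map_mul] using hc _ ⟨s, hs, rfl⟩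
      · rintro ⟨x, ⟨hx, hc⟩, rfl⟩
        refine ⟨⟨x, hx, rfl⟩, ?_⟩
        rintro _ ⟨s, hs, rfl⟩
        rw [← map_mul, ← map_mul, hc s hs]
    rw [hz]
    exact hnpc_of_le (centralizer_map_mk'_le (hcop _ (zOf_le S)) (hsol _ (zOf_le S)))
      (hnpc_map _ h.2)

theorem hnpc_of_quotient_pprime [Finite G] [Fact p.Prime] {M : Subgroup G} [M.Normal]
    (hM : ¬ p ∣ Nat.card M) (h : Cfsg.HasNormalPComplement p (G ⧸ M)) :
    Cfsg.HasNormalPComplement p G := by
  rw [hnpc_iff] at h ⊢
  intro hdvd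
  rw [← card_map_mk' M (Cfsg.pResidual p G),
    map_pResidual_of_surjective (QuotientGroup.mk'_surjective M)] at hdvd
  rcases (Fact.out : p.Prime).dvd_mul.1 hdvd with hd | hd
  · exact h hd
  · exact hM (hd.trans (Subgroup.card_dvd_of_le inf_le_right))

/-- The number `v_p |H|`. -/
noncomputable abbrev vP (p : ℕ) (H : Subgroup G) : ℕ := (Nat.card H).factorization p

/-- Proper growth of normalisers of non-Sylow `p`-subgroups. -/
theorem vP_lt_normalizer [Finite G] [hp : Fact p.Prime] {S : Subgroup G} (hS : IsPGroup p S) {k : ℕ}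
    (hk : Nat.card S = p ^ k) (hnot : ∀ P : Sylow p G, (P : Subgroup G) ≠ S) :
    k < vP p (Subgroup.normalizer (S : Set G)) := by
  by_contra hle
  obtain ⟨P, hP⟩ := exists_sylow_eq_of_normalizer hS fun R hR hSR hRN => by
    refine (Subgroup.eq_of_le_of_card_ge hSR ?_).symm
    obtain ⟨j, hj⟩ := hR.exists_card_eq
    rw [hk, hj]
    refine Nat.pow_le_pow_right hp.out.pos ?_
    have hd := Subgroup.card_dvd_of_le hRN
    rw [hj, hp.out.pow_dvd_iff_le_factorization Nat.card_pos.ne'] at hd
    simp only [vP] at hle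
    omega
  exact hnot P hP

theorem vP_mono [Finite G] [hp : Fact p.Prime] {H K : Subgroup G} (h : H ≤ K) : vP p H ≤ vP p K :=
  (Nat.factorization_le_iff_dvd Nat.card_pos.ne' Nat.card_pos.ne').2 (Subgroup.card_dvd_of_le h) p

end CfsgLib.Solv
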