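import Cfsg.Agent.Solv.Basic

/-!
Minimal normal subgroups; solvable minimal normal subgroups are elementary abelian.
-/

set_option autoImplicit false
set_option linter.style.haveILetI false

open scoped Pointwise

namespace CfsgLib.Solv

variable {G : Type*} [Group G]

/-- `M` is a minimal normal subgroup of `G`. -/
def IsMinimalNormal (M : Subgroup G) : Prop :=
  M.Normal ∧ M ≠ ⊥ ∧ ∀ K : Subgroup G, K.Normal → K ≤ M → K = ⊥ ∨ K = M

theorem exists_isMinimalNormal_le [Finite G] (N : Subgroup G) [hNn : N.Normal] (hN : N ≠ ⊥) :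
    ∃ M : Subgroup G, IsMinimalNormal M ∧ M ≤ N := by
  obtain ⟨M, hM⟩ := (Set.toFinite {K : Subgroup G | K.Normal ∧ K ≠ ⊥ ∧ K ≤ N}).exists_minimal
    ⟨N, hNn, hN, le_rfl⟩
  obtain ⟨hMn, hMb, hMN⟩ := hM.1
  refine ⟨M, ⟨hMn, hMb, fun K hK hKM => ?_⟩, hMN⟩
  by_cases hKb : K = ⊥
  · exact Or.inl hKb
  · exact Or.inr (le_antisymm hKM (hM.2 ⟨hK, hKb, hKM.trans hMN⟩ hKM))

theorem exists_isMinimalNormal [Finite G] [Nontrivial G] : ∃ M : Subgroup G, IsMinimalNormal M := by
  obtain ⟨M, hM, -⟩ := exists_isMinimalNormal_le (⊤ : Subgroup G) (by simp)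
  exact ⟨M, hM⟩

theorem IsMinimalNormal.eq_or_inf_eq_bot {M : Subgroup G} (hM : IsMinimalNormal M)
    (N : Subgroup G) [N.Normal] : M ≤ N ∨ M ⊓ N = ⊥ := by
  haveI := hM.1
  rcases hM.2.2 (M ⊓ N) inferInstance inf_le_left with h | h
  · exact Or.inr h
  · exact Or.inl (inf_eq_left.1 h)

theorem isMulCommutative_of_minimal_solvable {M : Subgroup G} (hM : IsMinimalNormal M)
    (hs : Group.IsSolvable M) : IsMulCommutative M := by
  haveI := hM.1
  haveI : Nontrivial M := M.nontrivial_iff_ne_bot.2 hM.2.1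
  have hlt := hs.commutator_lt_top_of_nontrivial
  rcases hM.2.2 ⁅M, M⁆ inferInstance (Subgroup.commutator_le_left M M) with h | h
  · refine ⟨⟨fun a b => ?_⟩⟩
    rw [Subgroup.commutator_eq_bot_iff_le_centralizer] at h
    exact Subtype.ext (Subgroup.mem_centralizer_iff.1 (h b.2) a a.2)
  · refine absurd hlt ?_
    rw [lt_top_iff_ne_top, not_not]
    apply Subgroup.map_injective M.subtype_injective
    rw [Subgroup.map_subtype_commutator, h, ← MonoidHom.range_eq_map, Subgroup.range_subtype]

/-- A solvable minimal normal subgroup of a finite group is elementary abelian. -/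
theorem exists_prime_exponent_of_minimal_solvable [Finite G] {M : Subgroup G}
    (hM : IsMinimalNormal M) (hs : Group.IsSolvable M) :
    ∃ p : ℕ, p.Prime ∧ (∀ x ∈ M, x ^ p = 1) ∧ IsPGroup p M := by
  haveI := hM.1
  have hc := isMulCommutative_of_minimal_solvable hM hs
  have hne : Nat.card M ≠ 1 := fun h => hM.2.1 (Subgroup.card_eq_one.1 h)
  obtain ⟨p, hp, hdvd⟩ := Nat.exists_prime_and_dvd hne
  haveI := Fact.mk hp
  refine ⟨p, hp, ?_⟩
  let K : Subgroup M :=
    { carrier := {x : M | x ^ p = 1}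
      one_mem' := one_pow p
      mul_mem' := fun {a b} (ha : a ^ p = 1) (hb : b ^ p = 1) => by
        have hab : Commute a b := hc.is_comm.comm a b
        show (a * b) ^ p = 1
        rw [hab.mul_pow, ha, hb, one_mul]
      inv_mem' := fun {a} (ha : a ^ p = 1) => by
        show a⁻¹ ^ p = 1
        rw [inv_pow, ha, inv_one] }
  haveI : K.Characteristic := Subgroup.characteristic_iff_le_comap.2 fun φ x (hx : x ^ p = 1) => by
    show φ x ^ p = 1
    rw [← map_pow, hx, map_one]
  have h2 := hM.2.2 _ (normal_map_subtype_of_characteristic K) (Subgroup.map_subtype_le K)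
  obtain ⟨x, hx⟩ := exists_prime_orderOf_dvd_card' p hdvd
  have hxK : x ∈ K := (hx ▸ pow_orderOf_eq_one x : x ^ p = 1)
  rcases h2 with h | h
  · exfalso
    rw [Subgroup.map_eq_bot_iff_of_injective _ M.subtype_injective] at h
    rw [h, Subgroup.mem_bot] at hxK
    rw [hxK, orderOf_one] at hx
    exact hp.ne_one hx.symm
  · have hall : ∀ y ∈ M, y ^ p = 1 := by
      intro y hy
      rw [← h] at hy
      obtain ⟨z, hz, rfl⟩ := hy
      rw [← map_pow, show z ^ p = 1 from hz, map_one]
    refine ⟨hall, fun y => ⟨1, Subtype.ext ?_⟩⟩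
    simpa using hall y y.2

theorem exists_minimal_normal_pGroup [Finite G] [Nontrivial G] [Group.IsSolvable G] :
    ∃ (M : Subgroup G) (p : ℕ), p.Prime ∧ IsMinimalNormal M ∧ IsMulCommutative M ∧
      (∀ x ∈ M, x ^ p = 1) ∧ IsPGroup p M := by
  obtain ⟨M, hM⟩ := exists_isMinimalNormal (G := G)
  obtain ⟨p, hp, he, hP⟩ := exists_prime_exponent_of_minimal_solvable hM inferInstance
  exact ⟨M, p, hp, hM, isMulCommutative_of_minimal_solvable hM inferInstance, he, hP⟩

/-- A nilpotent normal subgroup centralizes every minimal normal subgroup. -/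
theorem le_centralizer_minimalNormal [Finite G] {F : Subgroup G} [F.Normal]
    (hF : Group.IsNilpotent F) {M : Subgroup G} (hM : IsMinimalNormal M) :
    F ≤ Subgroup.centralizer (M : Set G) := by
  haveI := hM.1
  rw [← Subgroup.commutator_eq_bot_iff_le_centralizer]
  rcases hM.2.2 ⁅F, M⁆ inferInstance (Subgroup.commutator_le_right F M) with h | h
  · exact h
  · exfalso
    refine hM.2.1 ?_
    have hMF : M ≤ F := h ▸ Subgroup.commutator_le_left F M
    have hle : ∀ n, M ≤ F.lowerCentralSeries n := by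
      intro n
      induction n with
      | zero => exact hMF
      | succ n ih =>
        calc M = ⁅F, M⁆ := h.symm
          _ = ⁅M, F⁆ := Subgroup.commutator_comm F M
          _ ≤ ⁅F.lowerCentralSeries n, F⁆ := Subgroup.commutator_mono ih le_rfl
          _ = F.lowerCentralSeries (n + 1) := (Subgroup.lowerCentralSeries_succ F n).symm
    obtain ⟨n, hn⟩ := (Subgroup.isNilpotent_iff_lowerCentralSeries (S := F)).1 hF
    exact le_bot_iff.1 (hn ▸ hle n)

end CfsgLib.Solv
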