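import Cfsg.Agent.Solv.Basic
import Mathlib.GroupTheory.Frattini

/-!
Centralizer of the Fitting subgroup of a solvable group, and basic Frattini subgroup facts.
-/

set_option autoImplicit false
set_option linter.style.haveILetI false
set_option linter.deprecated false

open scoped Pointwise commutatorElement

namespace CfsgLib.Solv

variable {G : Type*} [Group G]

/-- A solvable normal subgroup centralizing the Fitting subgroup is contained in it. -/
theorem le_fittingSubgroup_of_le_centralizer [Finite G] {C : Subgroup G} [C.Normal]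
    (hs : Group.IsSolvable C) (hC : C ≤ Subgroup.centralizer (Cfsg.fittingSubgroup G : Set G)) :
    C ≤ Cfsg.fittingSubgroup G := by
  obtain ⟨n, hn⟩ := (Group.isSolvable_def C).1 hs
  suffices h : ∀ k, k ≤ n → (derivedSeries C (n - k)).map C.subtype ≤ Cfsg.fittingSubgroup G by
    have := h n le_rfl
    rw [Nat.sub_self, derivedSeries_zero, ← MonoidHom.range_eq_map, Subgroup.range_subtype] at this
    exact this
  intro k
  induction k with
  | zero => intro _; rw [Nat.sub_zero, hn, Subgroup.map_bot]; exact bot_le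
  | succ k ih =>
    intro hk
    obtain ⟨m, hm1, hm2⟩ : ∃ m, n - (k + 1) = m ∧ n - k = m + 1 := ⟨_, rfl, by omega⟩
    have ih' := ih (by omega)
    rw [hm2, derivedSeries_succ, Subgroup.map_commutator] at ih'
    rw [hm1]
    set D := (derivedSeries C m).map C.subtype with hD
    have hDC : D ≤ C := Subgroup.map_subtype_le _
    haveI : D.Normal := by rw [hD]; infer_instance
    refine le_fittingSubgroup (hN := inferInstance) ?_
    refine _root_.isNilpotent_of_ker_le_center (Abelianization.of (G := D)) ?_
    rw [Abelianization.ker_of]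
    intro x hx
    rw [Subgroup.mem_center_iff]
    intro d
    have hxF : (x : G) ∈ Cfsg.fittingSubgroup G :=
      ih' (Subgroup.map_subtype_commutator D ▸ Subgroup.mem_map_of_mem D.subtype hx)
    exact Subtype.ext (Subgroup.mem_centralizer_iff.1 (hC (hDC d.2)) _ hxF).symm

/-- In a finite solvable group the Fitting subgroup contains its centralizer. -/
theorem centralizer_fittingSubgroup_le [Finite G] [Group.IsSolvable G] :
    Subgroup.centralizer (Cfsg.fittingSubgroup G : Set G) ≤ Cfsg.fittingSubgroup G := by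
  haveI := fittingSubgroup_normal G
  exact le_fittingSubgroup_of_le_centralizer inferInstance le_rfl

/-- If `O_{p'}(G) = 1` then `F(G) = O_p(G)`. -/
theorem fittingSubgroup_eq_pCore [Finite G] {p : ℕ} [hp : Fact p.Prime]
    (h : Cfsg.pPrimeCore p G = ⊥) : Cfsg.fittingSubgroup G = Cfsg.pCore p G := by
  rw [fittingSubgroup_eq_iSup_pCore]
  refine le_antisymm (iSup_le fun q => ?_)
    (le_iSup (fun q : Nat.Primes => Cfsg.pCore (q : ℕ) G) ⟨p, hp.out⟩)
  by_cases hq : (q : ℕ) = p
  · rw [hq]
  · haveI := Fact.mk q.2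
    haveI := pCore_normal G (q : ℕ)
    refine le_trans (le_trans (le_pPrimeCore (p := p) ?_) h.le) bot_le
    obtain ⟨n, hn⟩ := IsPGroup.iff_card.1 (pCore_isPGroup G (q : ℕ))
    rw [hn]
    exact Nat.Coprime.pow_left n ((Nat.coprime_primes q.2 hp.out).2 hq)

/-- Hall–Higman Lemma 1.2.3 for solvable groups. -/
theorem centralizer_pCore_le [Finite G] [Group.IsSolvable G] {p : ℕ} [Fact p.Prime]
    (h : Cfsg.pPrimeCore p G = ⊥) :
    Subgroup.centralizer (Cfsg.pCore p G : Set G) ≤ Cfsg.pCore p G := by
  rw [← fittingSubgroup_eq_pCore h]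
  exact centralizer_fittingSubgroup_le

theorem isCoatom_normal_and_card_quotient [Finite G] {p : ℕ} [hp : Fact p.Prime]
    (hG : IsPGroup p G) {M : Subgroup G} (hM : IsCoatom M) :
    M.Normal ∧ M.index = p := by
  haveI := hG.isNilpotent
  haveI hn : M.Normal := Subgroup.NormalizerCondition.normal_of_coatom M normalizerCondition_of_isNilpotent hM
  refine ⟨hn, ?_⟩
  obtain ⟨n, hn'⟩ := IsPGroup.iff_card.1 (hG.to_quotient M)
  have hne : Nontrivial (G ⧸ M) := by
    rw [← Finite.one_lt_card_iff_nontrivial]
    exact lt_of_le_of_ne (Nat.one_le_iff_ne_zero.2 Nat.card_pos.ne')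
      (fun h => hM.1 (Subgroup.index_eq_one.1 h.symm))
  obtain ⟨x, hx⟩ := exists_prime_orderOf_dvd_card' (G := G ⧸ M) p (by
    rcases n with _ | n
    · exact absurd hn' (ne_of_gt (by simpa using (Finite.one_lt_card (α := G ⧸ M))))
    · exact hn' ▸ dvd_pow_self p n.succ_ne_zero)
  set K := (Subgroup.zpowers x).comap (QuotientGroup.mk' M)
  have hK : K.index * p = M.index := by
    rw [Subgroup.index_comap_of_surjective _ (QuotientGroup.mk'_surjective M), ← hx,
      ← Nat.card_zpowers, Subgroup.index_mul_card]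
    rfl
  have hMK : M < K := by
    refine lt_of_le_of_ne (fun m hm => ?_) fun h => ?_
    · refine Subgroup.mem_comap.2 ?_
      rw [QuotientGroup.mk'_apply, (QuotientGroup.eq_one_iff m).2 hm]; exact one_mem _
    · rw [← h] at hK
      have hlt : M.index * 1 < M.index * p :=
        Nat.mul_lt_mul_of_pos_left hp.out.one_lt (Nat.pos_of_ne_zero M.index_ne_zero_of_finite)
      omega
  rw [hM.2 K hMK, Subgroup.index_top, one_mul] at hK
  exact hK.symm

theorem commutator_le_frattini [Finite G] {p : ℕ} [Fact p.Prime] (hG : IsPGroup p G) :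
    commutator G ≤ frattini G := by
  refine le_iInf₂ fun M hM => ?_
  obtain ⟨hn, hi⟩ := isCoatom_normal_and_card_quotient hG hM
  haveI := hn
  haveI : IsCyclic (G ⧸ M) := isCyclic_of_prime_card (p := p) hi
  letI := IsCyclic.commGroup (α := G ⧸ M)
  have h := Abelianization.commutator_subset_ker (QuotientGroup.mk' M)
  rwa [QuotientGroup.ker_mk'] at h

theorem pow_mem_frattini [Finite G] {p : ℕ} [Fact p.Prime] (hG : IsPGroup p G) (x : G) :
    x ^ p ∈ frattini G := by
  simp only [frattini, Order.radical, Subgroup.mem_iInf]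
  intro M hM
  obtain ⟨hn, hi⟩ := isCoatom_normal_and_card_quotient hG hM
  haveI := hn
  rw [← hi]
  exact Subgroup.pow_index_mem M x

/-- A normal subgroup with elementary abelian quotient contains the Frattini subgroup. -/
theorem frattini_le_of_elementary [Finite G] {p : ℕ} [hp : Fact p.Prime] (N : Subgroup G)
    (hcomm : commutator G ≤ N) (hpow : ∀ x : G, x ^ p ∈ N) : frattini G ≤ N := by
  intro x hx
  by_contra hxN
  obtain ⟨M, hNM', hM⟩ := Finite.exists_le_maximal (p := fun M : Subgroup G => N ≤ M ∧ x ∉ M)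
    (a := N) ⟨le_rfl, hxN⟩
  obtain ⟨hNM, hxM⟩ := hM.1
  haveI : M.Normal := Subgroup.Normal.mk fun m hm g => by
    have : ⁅g, m⁆ ∈ M := hNM (hcomm (Subgroup.commutator_mem_commutator (Subgroup.mem_top g)
      (Subgroup.mem_top m)))
    simpa [commutatorElement_def] using mul_mem this hm
  have hcoatom : IsCoatom M := by
    refine ⟨fun h => hxM (h ▸ Subgroup.mem_top x), fun L hL => ?_⟩
    have hxL : x ∈ L := by
      by_contra hxL
      exact hL.ne (hM.eq_of_le ⟨hNM.trans hL.le, hxL⟩ hL.le)
    rw [eq_top_iff]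
    intro y _
    by_cases hy : y ∈ M
    · exact hL.le hy
    have hxy : x ∈ M ⊔ Subgroup.zpowers y := by
      by_contra hxy
      exact hy ((hM.eq_of_le ⟨hNM.trans le_sup_left, hxy⟩ le_sup_left) ▸
        Subgroup.mem_sup_right (Subgroup.mem_zpowers y))
    obtain ⟨m, hm, z, hz, hmz⟩ := Subgroup.mem_sup_of_normal_left.1 hxy
    obtain ⟨k, rfl⟩ := Subgroup.mem_zpowers_iff.1 hz
    have hyk : y ^ k ∈ L := by
      have := mul_mem (inv_mem (hL.le hm)) hxL
      rwa [← hmz, inv_mul_cancel_left] at this
    have hk : ¬ (p : ℤ) ∣ k := by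
      rintro ⟨j, rfl⟩
      refine hxM (hmz ▸ mul_mem hm ?_)
      rw [zpow_mul, zpow_natCast]
      exact zpow_mem (hNM (hpow y)) j
    have hco : IsCoprime k (p : ℤ) :=
      ((Nat.prime_iff_prime_int.1 hp.out).coprime_iff_not_dvd.2 hk).symm
    obtain ⟨a, b, hab⟩ := hco
    have : y = (y ^ k) ^ a * (y ^ p) ^ b := by
      rw [← zpow_mul, ← zpow_natCast, ← zpow_mul, ← zpow_add, mul_comm k, mul_comm (p : ℤ), hab,
        zpow_one]
    rw [this]
    exact mul_mem (zpow_mem hyk a) (zpow_mem (hL.le (hNM (hpow y))) b)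
  exact hxM (frattini_le_coatom hcoatom hx)

/-- If `G / Φ(G)` is nilpotent then `G` is. -/
theorem isNilpotent_of_frattini_quotient [Finite G]
    (h : Group.IsNilpotent (G ⧸ frattini G)) : Group.IsNilpotent G := by
  refine ((Group.isNilpotent_of_finite_tfae (G := G)).out 0 2).2 fun M hM => ?_
  haveI := h
  have hle := frattini_le_coatom hM
  have h1 : (M.map (QuotientGroup.mk' (frattini G))).comap (QuotientGroup.mk' (frattini G)) = M := by
    rw [Subgroup.comap_map_eq, QuotientGroup.ker_mk', sup_eq_left.2 hle]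
  have h2 : IsCoatom (M.map (QuotientGroup.mk' (frattini G))) := by
    refine ⟨fun h => hM.1 ?_, fun L hL => ?_⟩
    · rw [← h1, h, Subgroup.comap_top]
    · have hlt : M < L.comap (QuotientGroup.mk' (frattini G)) := by
        have h3 := (Subgroup.comap_lt_comap_of_surjective
          (QuotientGroup.mk'_surjective (frattini G))).2 hL
        rwa [h1] at h3
      have h4 := hM.2 _ hlt
      rw [← Subgroup.map_comap_eq_self_of_surjective (QuotientGroup.mk'_surjective (frattini G)) L,
        h4, Subgroup.map_top_of_surjective _ (QuotientGroup.mk'_surjective _)]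
  have h3 := Subgroup.NormalizerCondition.normal_of_coatom _ normalizerCondition_of_isNilpotent h2
  rw [← h1]
  exact Subgroup.Normal.comap h3 _

end CfsgLib.Solv
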