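import Cfsg.Agent.Perm.MinClass
import Cfsg.Agent.Fus.PGroupAux
import Mathlib.GroupTheory.SpecificGroups.Quaternion
import Mathlib.RingTheory.Coprime.Lemmas
import Mathlib.Algebra.Ring.Parity

/-!
`p`-groups with a unique subgroup of order `p` are cyclic or generalised quaternion.
-/

set_option autoImplicit false
set_option linter.style.haveILetI false
set_option linter.deprecated false
set_option linter.unusedSectionVars false

namespace CfsgLib.Solv

variable {G : Type*} [Group G]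

/-- Building a generalised quaternion group from a presentation. -/
theorem quaternion_of_inverting {a u : G} {m : ℕ} [NeZero m] (ha : orderOf a = 2 * m)
    (hu : u * a * u⁻¹ = a⁻¹) (huu : u * u = a ^ m) (hnot : u ∉ Subgroup.zpowers a)
    (hall : ∀ x : G, x ∈ Subgroup.zpowers a ∨ u⁻¹ * x ∈ Subgroup.zpowers a) :
    Nonempty (G ≃* QuaternionGroup m) := by
  let e : ZMod (2 * m) → G := fun i => a ^ i.val
  have eadd : ∀ i j, e (i + j) = e i * e j := fun i j => by
    show a ^ (i + j).val = a ^ i.val * a ^ j.val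
    rw [← pow_add, pow_eq_pow_iff_modEq, ha, ZMod.val_add]
    exact Nat.mod_modEq _ _
  have e0 : e 0 = 1 := by show a ^ (0 : ZMod (2 * m)).val = 1; rw [ZMod.val_zero, pow_zero]
  have eneg : ∀ i, e (-i) = (e i)⁻¹ := fun i => eq_inv_of_mul_eq_one_left (by
    rw [← eadd, neg_add_cancel, e0])
  have ecast : ∀ k : ℕ, e (k : ZMod (2 * m)) = a ^ k := fun k => by
    show a ^ (k : ZMod (2 * m)).val = a ^ k
    rw [pow_eq_pow_iff_modEq, ha, ZMod.val_natCast]
    exact Nat.mod_modEq _ _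
  have esurj : ∀ x ∈ Subgroup.zpowers a, ∃ i, e i = x := fun x hx => by
    have hfin : IsOfFinOrder a := orderOf_pos_iff.1 (by rw [ha]; exact Nat.pos_of_ne_zero (NeZero.ne _))
    obtain ⟨k, rfl⟩ := Submonoid.mem_powers_iff _ _ |>.1 (hfin.mem_powers_iff_mem_zpowers.2 hx)
    exact ⟨k, ecast k⟩
  have emem : ∀ i, e i ∈ Subgroup.zpowers a := fun i => Subgroup.npow_mem_zpowers a _
  have einj : Function.Injective e := fun i j h => by
    have h' : a ^ i.val = a ^ j.val := h
    rw [pow_eq_pow_iff_modEq, ha, ← ZMod.natCast_eq_natCast_iff] at h'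
    rwa [ZMod.natCast_zmod_val, ZMod.natCast_zmod_val] at h'
  have hflip : ∀ i, e i * u = u * e (-i) := fun i => by
    have h1 : u * (e i)⁻¹ * u⁻¹ = e i := by
      show u * (a ^ i.val)⁻¹ * u⁻¹ = a ^ i.val
      rw [← inv_pow, ← conj_pow, show u * a⁻¹ * u⁻¹ = a by rw [← conj_inv, hu, inv_inv]]
    rw [eneg]; nth_rewrite 1 [← h1]; group
  let f : QuaternionGroup m → G := fun q => match q with
    | .a i => e i
    | .xa i => u * e i
  have hmul : ∀ p q, f (p * q) = f p * f q := by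
    rintro (i | i) (j | j)
    · rw [QuaternionGroup.a_mul_a]; exact eadd i j
    · rw [QuaternionGroup.a_mul_xa]
      show u * e (j - i) = e i * (u * e j)
      rw [← mul_assoc, hflip, mul_assoc, ← eadd, neg_add_eq_sub]
    · rw [QuaternionGroup.xa_mul_a]
      show u * e (i + j) = u * e i * e j
      rw [eadd, mul_assoc]
    · rw [QuaternionGroup.xa_mul_xa]
      show e ((m : ZMod (2 * m)) + j - i) = u * e i * (u * e j)
      rw [mul_assoc u, ← mul_assoc (e i), hflip, mul_assoc u, ← eadd, ← mul_assoc, huu, ← ecast,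
        ← eadd]
      congr 1; ring
  refine ⟨(MulEquiv.ofBijective (MonoidHom.mk' f hmul) ⟨?_, ?_⟩).symm⟩
  · rintro (i | i) (j | j) h
    · exact congrArg _ (einj h)
    · exact absurd (by
        have h' : u = e i * (e j)⁻¹ := eq_mul_inv_of_mul_eq h.symm
        rw [h']; exact mul_mem (emem _) (inv_mem (emem _))) hnot
    · exact absurd (by
        have h' : u = e j * (e i)⁻¹ := eq_mul_inv_of_mul_eq h
        rw [h']; exact mul_mem (emem _) (inv_mem (emem _))) hnot
    · exact congrArg _ (einj (mul_left_cancel (a := u) h))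
  · intro x
    rcases hall x with hx | hx
    · obtain ⟨i, hi⟩ := esurj x hx; exact ⟨.a i, hi⟩
    · obtain ⟨i, hi⟩ := esurj _ hx
      exact ⟨.xa i, by show u * e i = x; rw [hi, mul_inv_cancel_left]⟩

/-- In a finite abelian `p`-group with a unique subgroup of order `p` every element is a power of
one of largest order. -/
theorem exists_zpowers_eq_of_unique [Finite G] {p : ℕ} [hp : Fact p.Prime] (hG : IsPGroup p G)
    {A : Subgroup G} (hA : IsMulCommutative A)
    (huniq : ∀ x y : G, orderOf x = p → orderOf y = p → y ∈ Subgroup.zpowers x) :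
    ∃ a, Subgroup.zpowers a = A := by
  obtain ⟨a, haA, hmax⟩ := Set.exists_max_image (A : Set G) orderOf (Set.toFinite _) ⟨1, one_mem A⟩
  refine ⟨a, le_antisymm (Subgroup.zpowers_le.2 haA) ?_⟩
  by_contra hne
  obtain ⟨b, hbA, hb⟩ := SetLike.not_le_iff_exists.1 hne
  have hex : ∃ k, b ^ p ^ k ∈ Subgroup.zpowers a := by
    obtain ⟨k, hk⟩ := hG b
    exact ⟨k, hk ▸ one_mem _⟩
  classical
  obtain ⟨i, hi⟩ : ∃ i, Nat.find hex = i + 1 := by
    refine ⟨Nat.find hex - 1, ?_⟩
    have : Nat.find hex ≠ 0 := fun h0 => hb (by simpa [h0] using Nat.find_spec hex)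
    omega
  set c := b ^ p ^ i with hc
  have hcA : c ∈ A := pow_mem hbA _
  have hcn : c ∉ Subgroup.zpowers a := Nat.find_min hex (by omega)
  have hcp : c ^ p ∈ Subgroup.zpowers a := by
    rw [hc, ← pow_mul, ← pow_succ, ← hi]; exact Nat.find_spec hex
  have hfin : IsOfFinOrder a := isOfFinOrder_of_finite a
  obtain ⟨j, hj⟩ := Submonoid.mem_powers_iff _ _ |>.1 (hfin.mem_powers_iff_mem_zpowers.2 hcp)
  have hj' : a ^ j = c ^ p := hj
  have hca : Commute c a := congrArg Subtype.val (hA.is_comm.comm (⟨c, hcA⟩ : A) ⟨a, haA⟩)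
  by_cases hpj : p ∣ j
  · obtain ⟨t, rfl⟩ := hpj
    set d := c * (a ^ t)⁻¹ with hd
    have hdp : d ^ p = 1 := by
      rw [hd, ((hca.pow_right t).inv_right).mul_pow, ← hj', inv_pow, ← pow_mul, mul_comm t p,
        mul_inv_cancel]
    have hd1 : d ≠ 1 := fun h => hcn (by
      rw [mul_inv_eq_one.1 h]; exact Subgroup.npow_mem_zpowers a t)
    have hdo : orderOf d = p := (Nat.dvd_prime hp.out).1 (orderOf_dvd_of_pow_eq_one hdp) |>.resolve_left
      (fun h => hd1 (orderOf_eq_one_iff.1 h))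
    rcases eq_or_ne a 1 with rfl | ha1
    · have h1 := hmax c hcA
      rw [orderOf_one] at h1
      exact hcn (by
        rw [orderOf_eq_one_iff.1 (le_antisymm h1 (orderOf_pos c))]; exact one_mem _)
    obtain ⟨k, hk⟩ := IsPGroup.iff_orderOf.1 hG a
    obtain ⟨k, rfl⟩ : ∃ k', k = k' + 1 := ⟨k - 1, by
      have : k ≠ 0 := fun h0 => ha1 (orderOf_eq_one_iff.1 (by rw [hk, h0, pow_zero]))
      omega⟩
    have hy : orderOf (a ^ p ^ k) = p := by
      rw [orderOf_pow' a (pow_ne_zero k hp.out.ne_zero), hk,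
        Nat.gcd_eq_right (pow_dvd_pow p (Nat.le_succ k)), pow_succ,
        Nat.mul_div_cancel_left _ (pow_pos hp.out.pos k)]
    have hdmem : d ∈ Subgroup.zpowers a :=
      (Subgroup.zpowers_le.2 (Subgroup.npow_mem_zpowers a _)) (huniq _ _ hy hdo)
    exact hcn (by
      have : c = d * a ^ t := by rw [hd, inv_mul_cancel_right]
      rw [this]; exact mul_mem hdmem (Subgroup.npow_mem_zpowers a t))
  · obtain ⟨k, hk⟩ := IsPGroup.iff_orderOf.1 hG a
    have h1 : orderOf (c ^ p) = orderOf a := by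
      rw [← hj']
      refine Nat.Coprime.orderOf_pow ?_
      rw [hk]
      exact (hp.out.coprime_iff_not_dvd.2 hpj).pow_left k
    have h2 := hmax c hcA
    obtain ⟨r, hr⟩ := IsPGroup.iff_orderOf.1 hG c
    have hr0 : r ≠ 0 := fun h0 => hcn (by
      rw [orderOf_eq_one_iff.1 (hr.trans (by rw [h0, pow_zero]))]; exact one_mem _)
    rw [orderOf_pow' c hp.out.ne_zero, hr,
      Nat.gcd_eq_right (dvd_pow_self p hr0)] at h1
    have : p ^ r / p < p ^ r := Nat.div_lt_self (pow_pos hp.out.pos r) hp.out.one_lt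
    omega

theorem two_pow_dvd_of_sq {k : ℕ} {s : ℤ} (h : (2 : ℤ) ^ (k + 2) ∣ s * s - 1) :
    (2 : ℤ) ^ (k + 1) ∣ s - 1 ∨ (2 : ℤ) ^ (k + 1) ∣ s + 1 := by
  obtain ⟨t, rfl⟩ : Odd s := by
    rcases Int.even_or_odd s with he | ho
    · exfalso
      obtain ⟨t, rfl⟩ := he
      have h2 : (2 : ℤ) ∣ (t + t) * (t + t) - 1 := (dvd_pow_self 2 (by omega)).trans h
      rw [show (t + t) * (t + t) = 2 * (2 * t * t) by ring] at h2
      omega
    · exact ho
  have h' : (2 : ℤ) ^ k ∣ t * (t + 1) := by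
    have e : (2 * t + 1) * (2 * t + 1) - 1 = 2 ^ 2 * (t * (t + 1)) := by ring
    rw [e, pow_add, mul_comm ((2 : ℤ) ^ k)] at h
    exact (mul_dvd_mul_iff_left (by norm_num)).1 h
  by_cases ht : (2 : ℤ) ∣ t
  · refine Or.inl ?_
    have := Int.prime_two.pow_dvd_of_dvd_mul_right k (by omega : ¬ (2 : ℤ) ∣ t + 1) h'
    rw [pow_succ', show 2 * t + 1 - 1 = 2 * t by ring]
    exact mul_dvd_mul_left 2 this
  · refine Or.inr ?_
    have := Int.prime_two.pow_dvd_of_dvd_mul_left k ht h'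
    rw [pow_succ', show 2 * t + 1 + 1 = 2 * (t + 1) by ring]
    exact mul_dvd_mul_left 2 this

/-- An element acting as an involution on a self-centralising cyclic subgroup inverts it. -/
theorem inverts_of_sq_mem [Finite G] {a u : G} {k : ℕ} (hk : orderOf a = 2 ^ (k + 2))
    (huniq : ∀ x : G, x * x = 1 → x ∈ Subgroup.zpowers a)
    (hC : Subgroup.centralizer (Subgroup.zpowers a : Set G) ≤ Subgroup.zpowers a)
    (hN : ∀ x : G, x * a * x⁻¹ ∈ Subgroup.zpowers a)
    (hu : u ∉ Subgroup.zpowers a) (huu : u * u ∈ Subgroup.zpowers a) :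
    u * a * u⁻¹ = a⁻¹ ∧ u * u = a ^ (2 ^ (k + 1)) := by
  set h : ℕ := 2 ^ (k + 1) with hh
  have hord : (orderOf a : ℤ) = 2 * (h : ℤ) := by rw [hk, hh]; push_cast; ring
  obtain ⟨s, hs⟩ := Subgroup.mem_zpowers_iff.1 (hN u)
  obtain ⟨j, hj⟩ := Subgroup.mem_zpowers_iff.1 huu
  have hconj : ∀ i : ℤ, u * a ^ i * u⁻¹ = a ^ (s * i) := fun i => by
    rw [← conj_zpow, ← hs, ← zpow_mul]
  have heq : ∀ x y : ℤ, a ^ x = a ^ y → (2 * (h : ℤ)) ∣ x - y := fun x y e => by
    rw [← hord]; exact (Int.ModEq.dvd (zpow_eq_zpow_iff_modEq.1 e.symm))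
  have hss : (2 : ℤ) ^ (k + 2) ∣ s * s - 1 := by
    have e : a ^ (s * s) = a ^ (1 : ℤ) := by
      rw [← hconj s, hs, zpow_one]
      calc u * (u * a * u⁻¹) * u⁻¹ = (u * u) * a * (u * u)⁻¹ := by group
        _ = a := by rw [← hj, ← zpow_one a, ← zpow_mul, one_mul, ← zpow_add, ← zpow_neg, ← zpow_add]
                    congr 1; ring
    have := heq _ _ e
    rwa [show (2 : ℤ) ^ (k + 2) = 2 * (h : ℤ) by rw [hh]; push_cast; ring]
  have hfix : (2 * (h : ℤ)) ∣ s * j - j := by
    refine heq _ _ ?_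
    rw [← hconj, hj]; group
  have hsqr : ∀ i : ℤ, (2 * (h : ℤ)) ∣ i + s * i + j → False := fun i hi => by
    refine hu ?_
    have hm : a ^ i * u ∈ Subgroup.zpowers a := huniq _ (by
      calc a ^ i * u * (a ^ i * u) = a ^ i * (u * a ^ i * u⁻¹) * (u * u) := by group
        _ = a ^ (i + s * i + j) := by rw [hconj, ← hj, ← zpow_add, ← zpow_add]
        _ = 1 := orderOf_dvd_iff_zpow_eq_one.1 (hord ▸ hi))
    exact (Subgroup.mul_mem_cancel_left _ (Subgroup.zpow_mem_zpowers a i)).1 hm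
  have hhpos : (h : ℤ) ≠ 0 := by positivity
  have hh2 : (2 : ℤ) ∣ h := by rw [hh]; push_cast; exact dvd_pow_self 2 (by omega)
  have hd0 : (1 ≤ k ∧ (h : ℤ) ∣ s - 1) ∨ (h : ℤ) ∣ s + 1 := by
    have h2k : ((2 : ℤ) ^ (k + 1)) = (h : ℤ) := by rw [hh]; push_cast; ring
    rcases two_pow_dvd_of_sq hss with hd | hd <;> rw [h2k] at hd
    · rcases Nat.eq_zero_or_pos k with rfl | hk0
      · right
        rw [hh] at hd ⊢
        norm_num at hd ⊢
        omega
      · exact Or.inl ⟨hk0, hd⟩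
    · exact Or.inr hd
  have hcent : (2 * (h : ℤ)) ∣ s - 1 → False := fun hd => by
    refine hu (hC (Subgroup.mem_centralizer_iff.2 fun y hy => ?_))
    obtain ⟨i, rfl⟩ := Subgroup.mem_zpowers_iff.1 hy
    have e : u * a ^ i * u⁻¹ = a ^ i := by
      rw [hconj, zpow_eq_zpow_iff_modEq, hord]
      exact Int.modEq_of_dvd (by
        obtain ⟨d, hd⟩ := hd
        exact ⟨-(d * i), by linear_combination (-i) * hd⟩)
    exact (mul_inv_eq_iff_eq_mul.1 e).symm
  obtain ⟨h', hh'⟩ := hh2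
  have hh'e : 1 ≤ k → (2 : ℤ) ∣ h' := fun hk0 => by
    have h4 : (4 : ℤ) ∣ (h : ℤ) := by
      rw [hh]; push_cast
      exact (by norm_num : (4 : ℤ) = 2 ^ 2) ▸ pow_dvd_pow 2 (by omega)
    omega
  rcases hd0 with ⟨hk0, c, hc⟩ | ⟨c, hc⟩
  · exfalso
    rcases Int.even_or_odd c with ⟨c', rfl⟩ | hcodd
    · exact hcent ⟨c', by linear_combination hc⟩
    have hjeven : (2 : ℤ) ∣ j := by
      obtain ⟨d, hd'⟩ := hfix
      have e : (h : ℤ) * (c * j) = (h : ℤ) * (2 * d) := by linear_combination hd' - j * hc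
      have e' : c * j = 2 * d := mul_left_cancel₀ hhpos e
      rcases Int.prime_two.dvd_mul.1 ⟨d, e'⟩ with h2 | h2
      · exact absurd h2 (by obtain ⟨c', rfl⟩ := hcodd; omega)
      · exact h2
    obtain ⟨j', rfl⟩ := hjeven
    have hcop : IsCoprime (1 + h' * c) (h : ℤ) := by
      have hodd : ¬ (2 : ℤ) ∣ 1 + h' * c := by
        obtain ⟨h'', rfl⟩ := hh'e hk0
        rw [mul_assoc]; omega
      have : IsCoprime (1 + h' * c) ((2 : ℤ) ^ (k + 1)) :=
        ((Int.prime_two.coprime_iff_not_dvd.2 hodd).symm).pow_right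
      simpa [hh] using this
    obtain ⟨x, y, hxy⟩ := hcop
    exact hsqr (-(j' * x)) ⟨y * j',
      by linear_combination (-(j' * x)) * hc + (-(2 * j')) * hxy + (-(x * j' * c)) * hh'⟩
  · rcases Int.even_or_odd c with ⟨c', rfl⟩ | hcodd
    · have hinv : u * a * u⁻¹ = a⁻¹ := by
        rw [← hs, ← zpow_neg_one, zpow_eq_zpow_iff_modEq, hord]
        exact Int.modEq_of_dvd ⟨-c', by linear_combination -hc⟩
      have hjh : (h : ℤ) ∣ j := by
        obtain ⟨d, hd'⟩ := hfix
        exact ⟨c' * j - d, mul_left_cancel₀ (two_ne_zero (α := ℤ))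
          (by linear_combination j * hc - hd')⟩
      obtain ⟨d, rfl⟩ := hjh
      rcases Int.even_or_odd d with ⟨r, rfl⟩ | ⟨r, rfl⟩
      · exact (hsqr 0 ⟨r, by ring⟩).elim
      · refine ⟨hinv, ?_⟩
        rw [← hj, ← zpow_natCast, zpow_eq_zpow_iff_modEq, hord]
        exact Int.modEq_of_dvd ⟨-r, by ring⟩
    · exfalso
      rcases Nat.eq_zero_or_pos k with rfl | hk0
      · obtain ⟨c', rfl⟩ := hcodd
        have hh0 : (h : ℤ) = 2 := by rw [hh]; norm_num
        exact hcent ⟨c', by rw [hh0] at hc ⊢; linear_combination hc⟩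
      have hjh : (h : ℤ) ∣ j := by
        have hcop : IsCoprime (h' * c - 1) (h : ℤ) := by
          have hodd : ¬ (2 : ℤ) ∣ h' * c - 1 := by
            obtain ⟨h'', rfl⟩ := hh'e hk0
            rw [mul_assoc]; omega
          have : IsCoprime (h' * c - 1) ((2 : ℤ) ^ (k + 1)) :=
            ((Int.prime_two.coprime_iff_not_dvd.2 hodd).symm).pow_right
          simpa [hh] using this
        refine hcop.symm.dvd_of_dvd_mul_left ?_
        obtain ⟨d, hd'⟩ := hfix
        exact ⟨d, mul_left_cancel₀ (two_ne_zero (α := ℤ))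
          (by linear_combination hd' - j * hc - c * j * hh')⟩
      obtain ⟨d, rfl⟩ := hjh
      rcases Int.even_or_odd d with ⟨r, rfl⟩ | ⟨r, rfl⟩
      · exact hsqr 0 ⟨r, by ring⟩
      · obtain ⟨c', rfl⟩ := hcodd
        exact hsqr 1 ⟨c' + r + 1, by linear_combination hc⟩

/-- A `p`-group with a unique subgroup of order `p` is cyclic or generalised quaternion. -/
theorem pgroup_unique_sub [Finite G] {p : ℕ} [hp : Fact p.Prime] (hG : IsPGroup p G)
    (huniq : ∀ x y : G, orderOf x = p → orderOf y = p → y ∈ Subgroup.zpowers x) :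
    IsCyclic G ∨ (p = 2 ∧ ∃ n : ℕ, Nonempty (G ≃* QuaternionGroup (2 ^ (n + 1)))) := by
  by_cases hp2 : p = 2
  swap
  · refine Or.inl (CfsgLib.Fus.isCyclic_of_roots (lt_of_le_of_ne hp.out.two_le (Ne.symm hp2)) hG
      fun a b ha hb ha1 => ?_)
    rcases eq_or_ne b 1 with rfl | hb1
    · exact one_mem _
    exact huniq a b
      ((Nat.dvd_prime hp.out).1 (orderOf_dvd_of_pow_eq_one ha) |>.resolve_left
        fun h => ha1 (orderOf_eq_one_iff.1 h))
      ((Nat.dvd_prime hp.out).1 (orderOf_dvd_of_pow_eq_one hb) |>.resolve_left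
        fun h => hb1 (orderOf_eq_one_iff.1 h))
  subst hp2
  obtain ⟨A, hAn, hAc, hAA⟩ := CfsgLib.Perm.exists_self_centralizing_normal_abelian hG
  obtain ⟨a, ha⟩ := exists_zpowers_eq_of_unique hG hAc huniq
  by_cases htop : A = ⊤
  · refine Or.inl ⟨⟨a, fun x => ?_⟩⟩
    show x ∈ Subgroup.zpowers a
    rw [ha, htop]; exact Subgroup.mem_top x
  obtain ⟨v, -, hv⟩ := SetLike.not_le_iff_exists.1 (fun h : (⊤ : Subgroup G) ≤ A => htop (top_unique h))
  obtain ⟨n, hn⟩ := IsPGroup.iff_orderOf.1 hG a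
  have hN : ∀ x : G, x * a * x⁻¹ ∈ Subgroup.zpowers a := fun x => by
    rw [ha]; exact hAn.conj_mem a (ha ▸ Subgroup.mem_zpowers a) x
  have hn2 : 2 ≤ n := by
    by_contra hlt
    have ha2 : orderOf a ∣ 2 := by
      rw [hn]; simpa using pow_dvd_pow 2 (by omega : n ≤ 1)
    refine hv (hAA ▸ Subgroup.mem_centralizer_iff.2 fun y hy => ?_)
    rw [SetLike.mem_coe, ← ha] at hy
    obtain ⟨i, rfl⟩ := Subgroup.mem_zpowers_iff.1 hy
    have hc : Commute v a := by
      obtain ⟨s, hs⟩ := Subgroup.mem_zpowers_iff.1 (hN v)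
      rcases Int.even_or_odd s with ⟨r, rfl⟩ | ⟨r, rfl⟩
      · have h1 : a ^ (r + r) = 1 := orderOf_dvd_iff_zpow_eq_one.1
          ((Int.natCast_dvd_natCast.2 ha2).trans ⟨r, by push_cast; ring⟩)
        rw [h1] at hs
        rw [conj_eq_one_iff.1 hs.symm]; exact Commute.one_right v
      · have h1 : a ^ (2 * r) = 1 := orderOf_dvd_iff_zpow_eq_one.1
          ((Int.natCast_dvd_natCast.2 ha2).trans ⟨r, by push_cast; ring⟩)
        rw [zpow_add_one, h1, one_mul] at hs
        exact mul_inv_eq_iff_eq_mul.1 hs.symm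
    exact (hc.zpow_right i).symm.eq
  obtain ⟨k, rfl⟩ : ∃ k, n = k + 2 := ⟨n - 2, by omega⟩
  have huniq1 : ∀ x : G, x * x = 1 → x ∈ Subgroup.zpowers a := fun x hx => by
    rcases eq_or_ne x 1 with rfl | hx1
    · exact one_mem _
    have hy : orderOf (a ^ 2 ^ (k + 1)) = 2 := by
      rw [orderOf_pow' a (pow_ne_zero _ two_ne_zero), hn,
        Nat.gcd_eq_right (pow_dvd_pow 2 (Nat.le_succ _)), pow_succ 2 (k + 1),
        Nat.mul_div_cancel_left _ (pow_pos two_pos _)]
    exact Subgroup.zpowers_le.2 (Subgroup.npow_mem_zpowers a _) (huniq _ _ hy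
      (orderOf_eq_prime_iff.2 ⟨by rw [pow_two]; exact hx, hx1⟩))
  have hC : Subgroup.centralizer (Subgroup.zpowers a : Set G) ≤ Subgroup.zpowers a := by
    rw [ha, hAA]
  have hinv : ∀ x : G, x ∉ Subgroup.zpowers a → x * a * x⁻¹ = a⁻¹ ∧ x * x = a ^ 2 ^ (k + 1) := by
    intro x hx
    refine inverts_of_sq_mem hn huniq1 hC hN hx ?_
    by_contra hx2
    have hex : ∃ i, x ^ 2 ^ i ∈ Subgroup.zpowers a := by
      obtain ⟨i, hi⟩ := hG x
      exact ⟨i, hi ▸ one_mem _⟩
    classical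
    obtain ⟨i, hi⟩ : ∃ i, Nat.find hex = i + 2 := by
      refine ⟨Nat.find hex - 2, ?_⟩
      have h0 : Nat.find hex ≠ 0 := fun h0 => hx (by simpa [h0] using Nat.find_spec hex)
      have h1 : Nat.find hex ≠ 1 := fun h1 => hx2 (by simpa [h1, pow_two] using Nat.find_spec hex)
      omega
    set y := x ^ 2 ^ i with hy
    have hyy : y * y ∉ Subgroup.zpowers a := by
      rw [hy, ← pow_two, ← pow_mul, ← pow_succ]; exact Nat.find_min hex (by omega)
    have hyyyy : y * y * (y * y) ∈ Subgroup.zpowers a := by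
      have e : y * y * (y * y) = x ^ 2 ^ (i + 2) := by
        rw [hy, ← pow_add, ← pow_add]; congr 1; ring
      rw [e, ← hi]; exact Nat.find_spec hex
    have hw := (inverts_of_sq_mem hn huniq1 hC hN hyy hyyyy).1
    obtain ⟨t, ht⟩ := Subgroup.mem_zpowers_iff.1 (hN y)
    have e : a ^ (t * t) = a⁻¹ := by
      rw [← hw]
      calc a ^ (t * t) = (y * a * y⁻¹) ^ t := by rw [← ht, zpow_mul]
        _ = y * a ^ t * y⁻¹ := conj_zpow
        _ = _ := by rw [ht]; group
    rw [← zpow_neg_one, zpow_eq_zpow_iff_modEq, hn] at e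
    have h4 : (4 : ℤ) ∣ -1 - t * t := (Int.natCast_dvd_natCast.2
      (pow_dvd_pow 2 (by omega : 2 ≤ k + 2))).trans e.dvd
    rcases Int.even_or_odd t with ⟨r, rfl⟩ | ⟨r, rfl⟩
    · rw [show -1 - (r + r) * (r + r) = -1 - 4 * (r * r) by ring] at h4; omega
    · rw [show -1 - (2 * r + 1) * (2 * r + 1) = -2 - 4 * (r * r + r) by ring] at h4; omega
  have hvA : v ∉ Subgroup.zpowers a := ha ▸ hv
  refine Or.inr ⟨rfl, k, ?_⟩
  haveI : NeZero (2 ^ (k + 1)) := ⟨pow_ne_zero _ two_ne_zero⟩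
  refine quaternion_of_inverting (by rw [hn, pow_succ' 2 (k + 1)]) (hinv v hvA).1 (hinv v hvA).2 hvA
    fun x => ?_
  by_cases hx : x ∈ Subgroup.zpowers a
  · exact Or.inl hx
  refine Or.inr (hC (Subgroup.mem_centralizer_iff.2 fun y hy => ?_))
  obtain ⟨i, rfl⟩ := Subgroup.mem_zpowers_iff.1 hy
  have hc : Commute (v⁻¹ * x) a := by
    have e : v⁻¹ * x * a * (v⁻¹ * x)⁻¹ = a := by
      calc v⁻¹ * x * a * (v⁻¹ * x)⁻¹ = v⁻¹ * (x * a * x⁻¹) * v := by group
        _ = v⁻¹ * (v * a * v⁻¹) * v := by rw [(hinv x hx).1, (hinv v hvA).1]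
        _ = a := by group
    exact mul_inv_eq_iff_eq_mul.1 e
  exact (hc.zpow_right i).symm.eq

/-- If the abelian subgroups of a `p`-group are cyclic there is one subgroup of order `p`. -/
theorem unique_of_abelian_cyclic [Finite G] {p : ℕ} [hp : Fact p.Prime] (hG : IsPGroup p G)
    (h : ∀ A : Subgroup G, IsMulCommutative A → IsCyclic A) (x y : G) (hx : orderOf x = p)
    (hy : orderOf y = p) : y ∈ Subgroup.zpowers x := by
  haveI : Nontrivial G := ⟨⟨x, 1, fun e => hp.out.ne_one (by rw [← hx, e, orderOf_one])⟩⟩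
  haveI := hG.center_nontrivial
  obtain ⟨n, hn⟩ := (hG.to_subgroup (Subgroup.center G)).exists_card_eq
  have hd : p ∣ Nat.card (Subgroup.center G) := by
    rw [hn]
    refine dvd_pow_self p fun h0 => ?_
    rw [h0, pow_zero, Nat.card_eq_one_iff_unique] at hn
    exact not_subsingleton (Subgroup.center G) hn.1
  obtain ⟨z, hz⟩ := exists_prime_orderOf_dvd_card' p hd
  have key : ∀ w : G, orderOf w = p → Subgroup.zpowers w = Subgroup.zpowers (z : G) := by
    intro w hw
    have hc : IsMulCommutative (Subgroup.closure {w, (z : G)}) := Subgroup.isMulCommutative_closure (by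
      rintro a (rfl | rfl) b (rfl | rfl)
      · rfl
      · exact Subgroup.mem_center_iff.1 z.2 a
      · exact (Subgroup.mem_center_iff.1 z.2 b).symm
      · rfl)
    haveI := h _ hc
    set C := Subgroup.closure {w, (z : G)}
    have hwC : w ∈ C := Subgroup.subset_closure (Or.inl rfl)
    have hzC : (z : G) ∈ C := Subgroup.subset_closure (Or.inr rfl)
    classical
    letI := Fintype.ofFinite C
    have hS : {t : C | t ^ p = 1}.ncard ≤ p := by
      rw [Set.ncard_eq_toFinset_card', Set.toFinset_ofPred]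
      exact IsCyclic.card_pow_eq_one_le hp.out.pos
    have hkey : ∀ c : C, orderOf c = p → (Subgroup.zpowers c : Set C) = {t : C | t ^ p = 1} :=
      fun c hc' => Set.eq_of_subset_of_ncard_le (fun t ht => by
        obtain ⟨i, rfl⟩ := Subgroup.mem_zpowers_iff.1 ht
        show (c ^ i) ^ p = 1
        rw [← zpow_natCast, zpow_comm, zpow_natCast, ← hc', pow_orderOf_eq_one, one_zpow])
        (by
          rw [← Nat.card_coe_set_eq]
          show _ ≤ Nat.card (Subgroup.zpowers c)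
          rw [Nat.card_zpowers, hc', Nat.card_coe_set_eq]
          exact hS) (Set.toFinite _)
    have e : Subgroup.zpowers (⟨w, hwC⟩ : C) = Subgroup.zpowers ⟨(z : G), hzC⟩ :=
      SetLike.coe_injective (by
        rw [hkey _ (by rw [Subgroup.orderOf_mk, hw]),
          hkey _ (by rw [Subgroup.orderOf_mk, Subgroup.orderOf_coe, hz])])
    have e' := congrArg (Subgroup.map C.subtype) e
    rwa [MonoidHom.map_zpowers, MonoidHom.map_zpowers] at e'
  rw [key x hx, ← key y hy]
  exact Subgroup.mem_zpowers y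

end CfsgLib.Solv
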