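import Cfsg.Agent.Solv.TransferTools
import Cfsg.Agent.Solv.FittingBasic

/-!
Tate's theorem on normal `p`-complements, by transfer in a fibre product.
-/

set_option autoImplicit false
set_option linter.style.haveILetI false
set_option linter.deprecated false

open scoped commutatorElement Pointwise

namespace CfsgLib.Solv

variable {G : Type*} [Group G] {p : ℕ}

theorem exists_central_step [Finite G] [hp : Fact p.Prime] (hG : IsPGroup p G) {R0 : Subgroup G}
    [R0.Normal] (hne : R0 ≠ ⊥) :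
    ∃ R : Subgroup G, R.Normal ∧ R < R0 ∧ ⁅R0, (⊤ : Subgroup G)⁆ ≤ R ∧ ∀ x ∈ R0, x ^ p ∈ R := by
  haveI := hG.isNilpotent
  obtain ⟨R, -, hR⟩ := Finite.exists_le_maximal (p := fun R : Subgroup G => R.Normal ∧ R < R0)
    (a := ⊥) ⟨inferInstance, bot_lt_iff_ne_bot.2 hne⟩
  obtain ⟨⟨hRn, hRlt⟩, hmax⟩ := hR
  haveI := hRn
  have hcomm : ⁅R0, (⊤ : Subgroup G)⁆ ≤ R := by
    by_contra hnle
    have hlt : R < ⁅R0, (⊤ : Subgroup G)⁆ ⊔ R := lt_of_le_of_ne le_sup_right
      (fun e => hnle (e ▸ le_sup_left))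
    have htop : ⁅R0, (⊤ : Subgroup G)⁆ ⊔ R = R0 := by
      by_contra hne'
      exact hlt.not_ge (hmax ⟨inferInstance,
        lt_of_le_of_ne (sup_le (Subgroup.commutator_le_left _ _) hRlt.le) hne'⟩ le_sup_right)
    have hbot : R0.map (QuotientGroup.mk' R) = ⊥ := by
      refine isNilpotent_bot_of_eq_commutator ?_
      conv_lhs => rw [← htop]
      rw [Subgroup.map_sup, QuotientGroup.map_mk'_self, sup_bot_eq, Subgroup.map_commutator,
        Subgroup.map_top_of_surjective _ (QuotientGroup.mk'_surjective R)]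
    exact hRlt.not_ge fun x hx => (QuotientGroup.eq_one_iff x).1
      (Subgroup.mem_bot.1 (hbot ▸ Subgroup.mem_map_of_mem (QuotientGroup.mk' R) hx))
  refine ⟨R, hRn, hRlt, hcomm, fun x hx => ?_⟩
  by_contra hxp
  have hnorm : ∀ L : Subgroup G, R ≤ L → L ≤ R0 → L.Normal := by
    intro L hRL hLR
    refine ⟨fun l hl g => ?_⟩
    have h1 : ⁅l, g⁆ ∈ R := hcomm (Subgroup.commutator_mem_commutator (hLR hl) (Subgroup.mem_top g))
    have e : g * l * g⁻¹ = ⁅l, g⁆⁻¹ * l := by simp [commutatorElement_def, mul_assoc]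
    rw [e]
    exact mul_mem (inv_mem (hRL h1)) hl
  set L := Subgroup.zpowers (x ^ p) ⊔ R with hL
  have hLR : L ≤ R0 := sup_le (Subgroup.zpowers_le.2 (pow_mem hx p)) hRlt.le
  have hLn := hnorm L le_sup_right hLR
  have hRL : R < L := lt_of_le_of_ne le_sup_right fun e =>
    hxp (e ▸ Subgroup.mem_sup_left (Subgroup.mem_zpowers _))
  have hLeq : L = R0 := by
    by_contra hne'
    exact hRL.not_ge (hmax ⟨hLn, lt_of_le_of_ne hLR hne'⟩ le_sup_right)
  have hxL : x ∈ ((Subgroup.zpowers (x ^ p) : Set G) * (R : Set G)) := by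
    rw [← Subgroup.mul_normal, ← hL, hLeq]; exact hx
  obtain ⟨y, ⟨i, rfl⟩, r, hr, he⟩ := hxL
  have h1 : (x : G ⧸ R) = ((x : G ⧸ R) ^ p) ^ i := by
    conv_lhs => rw [← he]
    rw [QuotientGroup.mk_mul, (QuotientGroup.eq_one_iff r).2 hr, mul_one]
    rfl
  obtain ⟨k, hk⟩ := hG x
  have h2 : (x : G ⧸ R) ^ (1 - (p : ℤ) * i) = 1 := by
    rw [zpow_sub, zpow_one, zpow_mul, zpow_natCast, ← h1, mul_inv_cancel]
  have h3 : (x : G ⧸ R) ^ ((p : ℤ) ^ k) = 1 := by
    rw [← Nat.cast_pow, zpow_natCast, ← QuotientGroup.mk_pow, hk, QuotientGroup.mk_one]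
  have hco : IsCoprime (1 - (p : ℤ) * i) ((p : ℤ) ^ k) := IsCoprime.pow_right ⟨1, i, by ring⟩
  obtain ⟨a, b, hab⟩ := hco
  have h4 : (x : G ⧸ R) = 1 := by
    rw [← zpow_one (x : G ⧸ R), ← hab, zpow_add, mul_comm a, mul_comm b, zpow_mul, zpow_mul, h2, h3,
      one_zpow, one_zpow, one_mul]
  exact hxp (pow_mem ((QuotientGroup.eq_one_iff x).1 h4) p)

set_option maxHeartbeats 1000000 in
/-- One step of Tate's argument. -/
theorem tate_step [Finite G] [hp : Fact p.Prime] (P : Sylow p G) (K : Subgroup G) [K.Normal]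
    (hPK : (P : Subgroup G) ⊔ K = ⊤)
    (hfr : (P : Subgroup G) ⊓ K ≤ (frattini (P : Subgroup G)).map (P : Subgroup G).subtype)
    (hne : (P : Subgroup G) ⊓ K ≠ ⊥) :
    ∃ K' : Subgroup G, K'.Normal ∧ K' < K ∧ (P : Subgroup G) ⊔ K' = ⊤ := by
  set R0 := K.subgroupOf (P : Subgroup G) with hR0
  have hR0ne : R0 ≠ ⊥ := by
    rw [hR0, Ne, Subgroup.subgroupOf_eq_bot, disjoint_iff, inf_comm]; exact hne
  obtain ⟨R, hRn, hRlt, hcomm, hpow⟩ := exists_central_step P.2 hR0ne
  haveI := hRn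
  set mkR := QuotientGroup.mk' R with hmkR
  have hcent : ∀ r ∈ R0, ∀ b : (P : Subgroup G) ⧸ R, b * mkR r = mkR r * b := by
    intro r hr b
    obtain ⟨y, rfl⟩ := QuotientGroup.mk_surjective b
    have h := (QuotientGroup.eq_one_iff (N := R) ⁅r, y⁆).2
      (hcomm (Subgroup.commutator_mem_commutator hr (Subgroup.mem_top y)))
    have e : ((⁅r, y⁆ : (P : Subgroup G)) : (P : Subgroup G) ⧸ R) = ⁅mkR r, (y : (P : Subgroup G) ⧸ R)⁆ :=
      map_commutatorElement mkR r y
    rw [e] at h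
    exact (commutatorElement_eq_one_iff_mul_comm.1 h).symm
  let A := R0.map mkR
  letI : CommGroup A :=
    { (inferInstance : Group A) with
      mul_comm := fun a b => by
        obtain ⟨a, r, hr, rfl⟩ := a
        exact Subtype.ext (hcent r hr b).symm }
  have hAexp : ∀ a : A, a ^ p = 1 := by
    rintro ⟨_, r, hr, rfl⟩
    apply Subtype.ext
    show mkR r ^ p = 1
    rw [← map_pow]
    exact (QuotientGroup.eq_one_iff _).2 (hpow r hr)
  let π := (QuotientGroup.mk' K).comp (P : Subgroup G).subtype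
  have hπker : R ≤ π.ker := fun r hr => by
    rw [MonoidHom.mem_ker]
    exact (QuotientGroup.eq_one_iff _).2 (hRlt.le hr)
  let π' : (P : Subgroup G) ⧸ R →* G ⧸ K := QuotientGroup.lift R π hπker
  let E : Subgroup (G × ((P : Subgroup G) ⧸ R)) :=
    MonoidHom.eqLocus ((QuotientGroup.mk' K).comp (MonoidHom.fst _ _))
      (π'.comp (MonoidHom.snd _ _))
  have hE : ∀ e : E, ((e : G × ((P : Subgroup G) ⧸ R)).1 : G ⧸ K) = π' (e : G × ((P : Subgroup G) ⧸ R)).2 := fun e => e.2
  let fst : E →* G := (MonoidHom.fst _ _).comp E.subtype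
  have hfst : Function.Surjective fst := by
    intro g
    have hm : g ∈ (((P : Subgroup G) : Set G) * (K : Set G)) := by
      rw [← Subgroup.mul_normal, hPK]; trivial
    obtain ⟨s, hs, k, hk, rfl⟩ := hm
    refine ⟨⟨(s * k, mkR ⟨s, hs⟩), ?_⟩, rfl⟩
    show ((s * k : G) : G ⧸ K) = π' (mkR ⟨s, hs⟩)
    rw [QuotientGroup.mk_mul, (QuotientGroup.eq_one_iff k).2 hk, mul_one]
    rfl
  let H : Subgroup E := (P : Subgroup G).comap fst
  have hidx : H.index = (P : Subgroup G).index := Subgroup.index_comap_of_surjective _ hfst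
  let sec : H →* (P : Subgroup G) :=
    (fst.comp H.subtype).codRestrict (P : Subgroup G) fun e => e.2
  let snd : E →* (P : Subgroup G) ⧸ R := (MonoidHom.snd _ _).comp E.subtype
  have hmemA : ∀ e : H, snd e * (mkR (sec e))⁻¹ ∈ A := by
    intro e
    obtain ⟨y, hy⟩ := QuotientGroup.mk_surjective (snd e * (mkR (sec e))⁻¹)
    refine ⟨y, ?_, hy⟩
    show (y : G) ∈ K
    rw [← QuotientGroup.eq_one_iff]
    show π' (y : (P : Subgroup G) ⧸ R) = 1
    rw [hy, map_mul, map_inv, mul_inv_eq_one]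
    exact (hE (e : E)).symm
  let lam : H →* A :=
    { toFun := fun e => ⟨_, hmemA e⟩
      map_one' := Subtype.ext (by simp)
      map_mul' := fun a b => Subtype.ext (by
        show snd ((a * b : H) : E) * (mkR (sec (a * b)))⁻¹ =
          snd (a : E) * (mkR (sec a))⁻¹ * (snd (b : E) * (mkR (sec b))⁻¹)
        obtain ⟨r, hr, hb⟩ := hmemA b
        rw [← hb]
        have e1 : snd (b : E) = mkR r * mkR (sec b) := by rw [hb, inv_mul_cancel_right]
        calc snd ((a * b : H) : E) * (mkR (sec (a * b)))⁻¹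
            = snd (a : E) * snd (b : E) * ((mkR (sec b))⁻¹ * (mkR (sec a))⁻¹) := by
              rw [Subgroup.coe_mul, map_mul, map_mul, map_mul, mul_inv_rev]
          _ = snd (a : E) * (mkR r * (mkR (sec a))⁻¹) := by rw [e1]; group
          _ = _ := by rw [← hcent r hr, mul_assoc]) }
  let τ := MonoidHom.transfer lam
  have hAp : (Nat.card A).Coprime H.index := by
    have hA2 : IsPGroup p A := fun a => ⟨1, by rw [pow_one]; exact hAexp a⟩
    obtain ⟨k, hk⟩ := IsPGroup.iff_card.1 hA2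
    rw [hk, hidx]
    exact (hp.out.coprime_iff_not_dvd.2 P.not_dvd_index).pow_left k
  let σ : A ≃* A := MulEquiv.ofBijective (powMonoidHom H.index) (powCoprime hAp).bijective
  let δ0 : E →* A := σ.symm.toMonoidHom.comp τ
  let f : E →* (P : Subgroup G) ⧸ R :=
    { toFun := fun e => snd e * ((δ0 e : A) : (P : Subgroup G) ⧸ R)⁻¹
      map_one' := by simp
      map_mul' := fun a b => by
        obtain ⟨r, hr, hra⟩ := (δ0 a).2
        rw [map_mul, map_mul, Subgroup.coe_mul, mul_inv_rev, ← hra, ← map_inv]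
        calc snd a * snd b * (((δ0 b : A) : (P : Subgroup G) ⧸ R)⁻¹ * mkR r⁻¹)
            = snd a * (snd b * ((δ0 b : A) : (P : Subgroup G) ⧸ R)⁻¹ * mkR r⁻¹) := by group
          _ = _ := by rw [hcent r⁻¹ (inv_mem hr), ← mul_assoc] }
  have hkill : fst.ker ≤ f.ker := by
    intro e he
    have he1 : (e : G × ((P : Subgroup G) ⧸ R)).1 = 1 := he
    obtain ⟨y, hy⟩ := QuotientGroup.mk_surjective (snd e)
    have hy0 : y ∈ R0 := by
      show (y : G) ∈ K
      rw [← QuotientGroup.eq_one_iff]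
      show π' (y : (P : Subgroup G) ⧸ R) = 1
      rw [hy]
      show π' (e : G × ((P : Subgroup G) ⧸ R)).2 = 1
      rw [← hE, he1, QuotientGroup.mk_one]
    have hsA : snd e ∈ A := ⟨y, hy0, hy⟩
    have heH : e ∈ H := by show fst e ∈ (P : Subgroup G); rw [show fst e = 1 from he1]; exact one_mem _
    have hτ : τ e = (⟨snd e, hsA⟩ : A) ^ H.index := by
      have hlam : lam ⟨e, heH⟩ = ⟨snd e, hsA⟩ := by
        apply Subtype.ext
        show snd e * (mkR (sec ⟨e, heH⟩))⁻¹ = snd e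
        have : sec ⟨e, heH⟩ = 1 := Subtype.ext he1
        rw [this, map_one, inv_one, mul_one]
      rw [← hlam]
      refine CfsgLib.Inv.transfer_eq_pow_of_ctrl H lam heH fun k g₀ h => ?_
      rw [← map_pow]
      refine congrArg lam (Subtype.ext ?_)
      show g₀⁻¹ * e ^ k * g₀ = e ^ k
      apply Subtype.ext
      apply Prod.ext
      · show (g₀ : G × ((P : Subgroup G) ⧸ R)).1⁻¹ * (e : G × ((P : Subgroup G) ⧸ R)).1 ^ k * (g₀ : G × ((P : Subgroup G) ⧸ R)).1 = (e : G × ((P : Subgroup G) ⧸ R)).1 ^ k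
        rw [he1, one_pow, mul_one, inv_mul_cancel]
      · show (snd g₀)⁻¹ * snd e ^ k * snd g₀ = snd e ^ k
        rw [mul_assoc, ← hy, show ((y : (P : Subgroup G) ⧸ R)) ^ k = mkR (y ^ k) from (map_pow mkR y k).symm, ← hcent _ (pow_mem hy0 k), inv_mul_cancel_left]
    have hδ : δ0 e = ⟨snd e, hsA⟩ := by
      show σ.symm (τ e) = _
      rw [hτ, MulEquiv.symm_apply_eq]
      rfl
    show snd e * ((δ0 e : A) : (P : Subgroup G) ⧸ R)⁻¹ = 1
    rw [hδ, mul_inv_cancel]
  let F : G →* (P : Subgroup G) ⧸ R := fst.liftOfSurjective hfst ⟨f, hkill⟩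
  have hF : ∀ e : E, F (fst e) = f e := fun e => MonoidHom.liftOfRightInverse_comp_apply fst _ (Function.rightInverse_surjInv hfst) ⟨f, hkill⟩ e
  let diag : (P : Subgroup G) →* E :=
    ((P : Subgroup G).subtype.prod mkR).codRestrict E fun s => rfl
  let δ : (P : Subgroup G) →* A := δ0.comp diag
  have hδfr : frattini (P : Subgroup G) ≤ δ.ker := by
    refine frattini_le_of_elementary (p := p) δ.ker (Abelianization.commutator_subset_ker δ) fun x => ?_
    rw [MonoidHom.mem_ker, map_pow, hAexp]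
  have hδR0 : π.ker ≤ δ.ker := by
    intro x hx
    refine hδfr ?_
    have hxK : (x : G) ∈ K := (QuotientGroup.eq_one_iff _).1 hx
    obtain ⟨y, hy, hyx⟩ := hfr (Subgroup.mem_inf.2 ⟨x.2, hxK⟩)
    rwa [Subtype.ext hyx] at hy
  have hπs : Function.Surjective π := by
    intro q
    obtain ⟨g, rfl⟩ := QuotientGroup.mk_surjective q
    obtain ⟨e, rfl⟩ := hfst g
    obtain ⟨y, hy⟩ := QuotientGroup.mk_surjective (snd e)
    refine ⟨y, ?_⟩
    show π' (y : (P : Subgroup G) ⧸ R) = _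
    rw [hy]; exact (hE e).symm
  let δ' : G →* A := (π.liftOfSurjective hπs ⟨δ, hδR0⟩).comp (QuotientGroup.mk' K)
  have hδ' : ∀ s : (P : Subgroup G), δ' (s : G) = δ s := fun s =>
    MonoidHom.liftOfRightInverse_comp_apply π _ (Function.rightInverse_surjInv hπs) ⟨δ, hδR0⟩ s
  let F' : G →* (P : Subgroup G) ⧸ R :=
    { toFun := fun g => F g * ((δ' g : A) : (P : Subgroup G) ⧸ R)
      map_one' := by simp
      map_mul' := fun a b => by
        obtain ⟨r, hr, hra⟩ := (δ' a).2
        rw [map_mul, map_mul, Subgroup.coe_mul, ← hra]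
        calc F a * F b * (mkR r * ((δ' b : A) : (P : Subgroup G) ⧸ R))
            = F a * (F b * mkR r) * ((δ' b : A) : (P : Subgroup G) ⧸ R) := by group
          _ = _ := by rw [hcent r hr, ← mul_assoc, ← mul_assoc] }
  have hF's : ∀ s : (P : Subgroup G), F' (s : G) = mkR s := by
    intro s
    show F (fst (diag s)) * ((δ' (s : G) : A) : (P : Subgroup G) ⧸ R) = mkR s
    rw [hF, hδ']
    show snd (diag s) * ((δ0 (diag s) : A) : (P : Subgroup G) ⧸ R)⁻¹ * ((δ0 (diag s) : A) : _) = mkR s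
    rw [inv_mul_cancel_right]
    rfl
  have hπ'F : ∀ g, π' (F' g) = (g : G ⧸ K) := by
    intro g
    have hA1 : ∀ a : A, π' (a : (P : Subgroup G) ⧸ R) = 1 := by
      rintro ⟨_, r, hr, rfl⟩
      exact (QuotientGroup.eq_one_iff (r : G)).2 hr
    obtain ⟨e, rfl⟩ := hfst g
    show π' (F (fst e) * _) = _
    rw [hF, map_mul, hA1, mul_one]
    show π' (snd e * _) = _
    rw [map_mul, map_inv, hA1, inv_one, mul_one]
    exact (hE e).symm
  refine ⟨F'.ker, inferInstance, lt_of_le_of_ne (fun g hg => ?_) ?_, ?_⟩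
  · rw [← QuotientGroup.eq_one_iff, ← hπ'F, MonoidHom.mem_ker.1 hg, map_one]
  · intro heq
    refine hRlt.not_ge fun r hr => ?_
    have h1 : (r : G) ∈ F'.ker := by rw [heq]; exact hr
    rw [MonoidHom.mem_ker, hF's] at h1
    exact (QuotientGroup.eq_one_iff r).1 h1
  · refine top_le_iff.1 fun g _ => ?_
    obtain ⟨s, hs⟩ := QuotientGroup.mk_surjective (F' g)
    have e : g = (s : G) * ((s : G)⁻¹ * g) := by group
    rw [e]
    refine Subgroup.mul_mem_sup s.2 ?_
    rw [MonoidHom.mem_ker, map_mul, map_inv, hF's, ← hs]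
    exact inv_mul_cancel _

/-- Tate: a normal supplement `K` of `P` with `P ∩ K ≤ Φ(P)` forces a normal `p`-complement. -/
theorem tate [Finite G] [Fact p.Prime] (P : Sylow p G) : ∀ K : Subgroup G, K.Normal →
    (P : Subgroup G) ⊔ K = ⊤ →
    (P : Subgroup G) ⊓ K ≤ (frattini (P : Subgroup G)).map (P : Subgroup G).subtype →
    Cfsg.HasNormalPComplement p G := by
  intro K
  refine WellFoundedLT.induction (motive := fun K : Subgroup G => K.Normal →
    (P : Subgroup G) ⊔ K = ⊤ →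
    (P : Subgroup G) ⊓ K ≤ (frattini (P : Subgroup G)).map (P : Subgroup G).subtype →
    Cfsg.HasNormalPComplement p G) K ?_
  intro K ih
  · intro hK hsup hle
    haveI := hK
    by_cases hb : (P : Subgroup G) ⊓ K = ⊥
    · refine CfsgLib.Perm.hasNormalPComplement_of K (not_dvd_card_of_inf_sylow_eq_bot P hb) ?_
      obtain ⟨m, hm⟩ := IsPGroup.iff_card.1 P.2
      refine ⟨m, ?_⟩
      rw [← hm]
      have h1 := card_sup_mul_card_inf (P : Subgroup G) K
      rw [hsup, hb, Subgroup.card_top, Subgroup.card_bot, mul_one, ← K.card_mul_index, mul_comm] at h1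
      exact Nat.eq_of_mul_eq_mul_right Nat.card_pos h1
    · obtain ⟨K', hn, hlt, hs⟩ := tate_step P K hsup hle hb
      exact ih K' hlt hn hs ((inf_le_inf_left _ hlt.le).trans hle)

end CfsgLib.Solv
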