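import Cfsg.Agent.Solv.FittingBasic
import Cfsg.Agent.Solv.MinimalNormal
import Mathlib.GroupTheory.SchurZassenhaus
import Mathlib.Algebra.IsPrimePow

/-!
Maximal subgroups, Frattini subgroup and complements of abelian normal subgroups.
-/

set_option autoImplicit false
set_option linter.style.haveILetI false
set_option linter.deprecated false

open scoped Pointwise commutatorElement

namespace CfsgLib.Solv

variable {G : Type*} [Group G]

theorem le_centralizer_self_of_isMulCommutative (A : Subgroup G) [h : IsMulCommutative A] :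
    A ≤ Subgroup.centralizer (A : Set G) := fun x hx => Subgroup.mem_centralizer_iff.2 fun y hy =>
  congrArg Subtype.val (h.is_comm.comm ⟨y, hy⟩ ⟨x, hx⟩)

/-- A maximal subgroup meets an abelian normal subgroup outside it in a normal subgroup. -/
theorem inf_normal_of_isCoatom {M N : Subgroup G} [N.Normal] [IsMulCommutative N] (hM : IsCoatom M)
    (hNM : ¬ N ≤ M) : (M ⊓ N).Normal ∧ M ⊔ N = ⊤ := by
  have htop : M ⊔ N = ⊤ := hM.2 _ (left_lt_sup.2 hNM)
  refine ⟨?_, htop⟩
  rw [← Subgroup.normalizer_eq_top_iff, eq_top_iff, ← htop]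
  refine sup_le ?_ ?_
  · rw [le_normalizer_iff_forall_conj_mem]
    intro m hm x hx
    obtain ⟨hxM, hxN⟩ := Subgroup.mem_inf.1 hx
    exact Subgroup.mem_inf.2 ⟨mul_mem (mul_mem hm hxM) (inv_mem hm),
      (inferInstance : N.Normal).conj_mem x hxN m⟩
  · rw [le_normalizer_iff_forall_conj_mem]
    intro n hn x hx
    have h : x * n = n * x :=
      (Subgroup.mem_centralizer_iff.1 (le_centralizer_self_of_isMulCommutative N hn) x
        (Subgroup.mem_inf.1 hx).2)
    rw [← h, mul_inv_cancel_right]
    exact hx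

/-- An abelian minimal normal subgroup outside a maximal subgroup is complemented by it. -/
theorem isComplement'_of_isCoatom {M N : Subgroup G} [N.Normal] [IsMulCommutative N]
    (hmin : ∀ K : Subgroup G, K.Normal → K ≤ N → K = ⊥ ∨ K = N) (hM : IsCoatom M)
    (hNM : ¬ N ≤ M) : Subgroup.IsComplement' N M := by
  obtain ⟨hn, htop⟩ := inf_normal_of_isCoatom hM hNM
  have hbot : M ⊓ N = ⊥ :=
    (hmin _ hn inf_le_right).resolve_right fun h => hNM (inf_eq_right.1 h)
  refine Subgroup.isComplement'_of_disjoint_and_mul_eq_univ (disjoint_iff.2 (inf_comm M N ▸ hbot)) ?_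
  rw [← Subgroup.normal_mul, sup_comm, htop, Subgroup.coe_top]

theorem exists_isComplement'_iff_not_le_frattini [Finite G] {N : Subgroup G} [N.Normal]
    [IsMulCommutative N] (hN : N ≠ ⊥)
    (hmin : ∀ K : Subgroup G, K.Normal → K ≤ N → K = ⊥ ∨ K = N) :
    (∃ H : Subgroup G, Subgroup.IsComplement' N H) ↔ ¬ N ≤ frattini G := by
  constructor
  · rintro ⟨H, hH⟩ hle
    have : H = ⊤ := frattini_nongenerating (eq_top_iff.2 (hH.sup_eq_top ▸
      sup_le (hle.trans le_sup_right) le_sup_left))
    subst this
    exact hN (Subgroup.isComplement'_top_right.1 hH)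
  · intro h
    obtain ⟨M, hM, hNM⟩ : ∃ M : Subgroup G, IsCoatom M ∧ ¬ N ≤ M := by
      by_contra hc
      exact h (le_iInf₂ fun M hM => by
        by_contra hNM
        exact hc ⟨M, hM, hNM⟩)
    exact ⟨M, isComplement'_of_isCoatom hmin hM hNM⟩

/-- An abelian normal subgroup meeting the Frattini subgroup trivially is complemented. -/
theorem exists_complement_of_abelian_inf_frattini [Finite G] {A : Subgroup G} [A.Normal]
    [IsMulCommutative A] (hΦ : A ⊓ frattini G = ⊥) :
    ∃ H : Subgroup G, Subgroup.IsComplement' A H := by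
  obtain ⟨H, hH⟩ := (Set.toFinite {H : Subgroup G | A ⊔ H = ⊤}).exists_minimal ⟨⊤, by simp⟩
  have hH1 : A ⊔ H = ⊤ := hH.1
  haveI hn : (A ⊓ H).Normal := by
    rw [← Subgroup.normalizer_eq_top_iff, eq_top_iff, ← hH1]
    refine sup_le ?_ ?_
    · rw [le_normalizer_iff_forall_conj_mem]
      intro n hn x hx
      have h : x * n = n * x :=
        (Subgroup.mem_centralizer_iff.1 (le_centralizer_self_of_isMulCommutative A hn) x
          (Subgroup.mem_inf.1 hx).1)
      rw [← h, mul_inv_cancel_right]
      exact hx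
    · rw [le_normalizer_iff_forall_conj_mem]
      intro h hh x hx
      obtain ⟨hxA, hxH⟩ := Subgroup.mem_inf.1 hx
      exact Subgroup.mem_inf.2 ⟨(inferInstance : A.Normal).conj_mem x hxA h,
        mul_mem (mul_mem hh hxH) (inv_mem hh)⟩
  have hbot : A ⊓ H = ⊥ := by
    by_contra hne
    have hnΦ : ¬ A ⊓ H ≤ frattini G := fun h => hne (le_bot_iff.1 (hΦ ▸ le_inf inf_le_left h))
    obtain ⟨M, hM, hNM⟩ : ∃ M : Subgroup G, IsCoatom M ∧ ¬ A ⊓ H ≤ M := by
      by_contra hc
      exact hnΦ (le_iInf₂ fun M hM => by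
        by_contra hNM
        exact hc ⟨M, hM, hNM⟩)
    have htop : M ⊔ (A ⊓ H) = ⊤ := hM.2 _ (left_lt_sup.2 hNM)
    have hlt : H ⊓ M < H := lt_of_le_of_ne inf_le_left fun h =>
      hNM (inf_le_right.trans (inf_eq_left.1 h))
    refine hlt.not_ge (hH.2 ?_ hlt.le)
    show A ⊔ (H ⊓ M) = ⊤
    refine eq_top_iff.2 (hH1.ge.trans (sup_le le_sup_left fun h hh => ?_))
    have hmem : h ∈ M ⊔ (A ⊓ H) := htop ▸ Subgroup.mem_top h
    obtain ⟨m, hm, n, hn', rfl⟩ := Subgroup.mem_sup_of_normal_right.1 hmem
    obtain ⟨hnA, hnH⟩ := Subgroup.mem_inf.1 hn'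
    exact mul_mem (Subgroup.mem_sup_right (Subgroup.mem_inf.2
      ⟨(H.mul_mem_cancel_right hnH).1 hh, hm⟩)) (Subgroup.mem_sup_left hnA)
  refine ⟨H, Subgroup.isComplement'_of_disjoint_and_mul_eq_univ (disjoint_iff.2 hbot) ?_⟩
  rw [← Subgroup.normal_mul, hH1, Subgroup.coe_top]

/-- A normal subgroup is nilpotent if it is nilpotent modulo the Frattini subgroup of `G`. -/
theorem isNilpotent_of_quotient_le_frattini [Finite G] {A B : Subgroup G} [A.Normal] [B.Normal]
    (hBA : B ≤ A) (hB : B ≤ frattini G) (h : Group.IsNilpotent (A ⧸ B.subgroupOf A)) :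
    Group.IsNilpotent A := by
  refine ((Group.isNilpotent_of_finite_tfae (G := A)).out 0 3).2 fun p hp P => ?_
  haveI := hp
  haveI := h
  set π := QuotientGroup.mk' (B.subgroupOf A)
  have hPn : ((P.mapSurjective (f := π) (QuotientGroup.mk'_surjective _)) :
      Subgroup (A ⧸ B.subgroupOf A)).Normal := inferInstance
  have hchar := Sylow.characteristic_of_normal _ hPn
  have hK : ((P : Subgroup A) ⊔ B.subgroupOf A) =
      ((P.mapSurjective (f := π) (QuotientGroup.mk'_surjective _)) :
        Subgroup (A ⧸ B.subgroupOf A)).comap π := by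
    show _ = ((P : Subgroup A).map π).comap π
    rw [Subgroup.comap_map_eq, QuotientGroup.ker_mk']
  set K := ((P : Subgroup A) ⊔ B.subgroupOf A).map A.subtype with hKdef
  haveI hKn : K.Normal := by
    refine Subgroup.Normal.mk fun x hx g => ?_
    obtain ⟨y, hy, rfl⟩ := hx
    let e : A ≃* A := MulAut.conjNormal g
    have he : (B.subgroupOf A).map e.toMonoidHom = B.subgroupOf A := by
      ext z
      rw [Subgroup.mem_map]
      constructor
      · rintro ⟨w, hw, rfl⟩
        rw [Subgroup.mem_subgroupOf] at hw ⊢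
        simpa [e] using (inferInstance : B.Normal).conj_mem _ hw g
      · intro hz
        refine ⟨e.symm z, ?_, by simp⟩
        rw [Subgroup.mem_subgroupOf] at hz ⊢
        simpa [e, MulAut.conjNormal_symm_apply] using (inferInstance : B.Normal).conj_mem _ hz g⁻¹
    let ebar : (A ⧸ B.subgroupOf A) ≃* (A ⧸ B.subgroupOf A) := QuotientGroup.congr _ _ e he
    refine ⟨e y, ?_, by simp [e]⟩
    rw [SetLike.mem_coe, hK, Subgroup.mem_comap] at hy ⊢
    have h1 : π (e y) = ebar (π y) := rfl
    rw [h1]
    rw [← Subgroup.characteristic_iff_map_eq.1 hchar ebar]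
    exact ⟨π y, hy, rfl⟩
  have hPK : (P : Subgroup A).map A.subtype ≤ K := Subgroup.map_mono le_sup_left
  let P' : Sylow p K := (P.2.map A.subtype).comap_subtype.toSylow (by
    intro hd
    refine P.not_dvd_index (hd.trans ?_)
    show ((P : Subgroup A).map A.subtype).relIndex K ∣ _
    rw [hKdef, Subgroup.relIndex_map_map_of_injective _ _ A.subtype_injective]
    exact Subgroup.relIndex_dvd_index_of_le le_sup_left)
  have harg := Sylow.normalizer_sup_eq_top P'
  have hP' : (P' : Subgroup K).map K.subtype = (P : Subgroup A).map A.subtype := by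
    show (((P : Subgroup A).map A.subtype).subgroupOf K).map K.subtype = _
    rw [Subgroup.map_subgroupOf_eq_of_le hPK]
  rw [hP'] at harg
  have hle : K ≤ Subgroup.normalizer (((P : Subgroup A).map A.subtype : Subgroup G) : Set G) ⊔
      frattini G := by
    rw [hKdef, Subgroup.map_sup]
    refine sup_le (Subgroup.le_normalizer.trans le_sup_left) ?_
    rw [Subgroup.map_subgroupOf_eq_of_le hBA]
    exact hB.trans le_sup_right
  have htop : Subgroup.normalizer (((P : Subgroup A).map A.subtype : Subgroup G) : Set G) = ⊤ :=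
    frattini_nongenerating (eq_top_iff.2 (harg.ge.trans (sup_le le_sup_left hle)))
  exact (Subgroup.normalizer_eq_top_iff.1 htop).of_map_subtype

/-- Maximal subgroups of solvable groups have prime power index. -/
theorem isPrimePow_index_of_isCoatom : ∀ (n : ℕ) (G : Type*) [Group G] [Finite G],
    Nat.card G = n → Group.IsSolvable G → ∀ M : Subgroup G, IsCoatom M → IsPrimePow M.index := by
  intro n
  induction n using Nat.strong_induction_on with
  | _ n ih => ?_
  intro G _ _ hn hG M hM
  haveI := hG
  haveI : Nontrivial G := by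
    by_contra h
    rw [not_nontrivial_iff_subsingleton] at h
    exact hM.1 (Subsingleton.elim _ _)
  obtain ⟨N, p, hp, hNmin, hNc, -, hNp⟩ := exists_minimal_normal_pGroup (G := G)
  haveI := hNmin.1
  haveI := hNc
  by_cases hNM : N ≤ M
  · have hidx : (M.map (QuotientGroup.mk' N)).index = M.index :=
      Subgroup.index_map_eq M (QuotientGroup.mk'_surjective N) (by rwa [QuotientGroup.ker_mk'])
    rw [← hidx]
    refine ih _ ?_ (G ⧸ N) rfl (Group.isSolvable_of_surjective (QuotientGroup.mk'_surjective N))
      _ ?_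
    · rw [← hn, ← N.index_mul_card]
      exact lt_mul_of_one_lt_right (Nat.pos_of_ne_zero N.index_ne_zero_of_finite)
        (N.one_lt_card_iff_ne_bot.2 hNmin.2.1)
    · have h1 : (M.map (QuotientGroup.mk' N)).comap (QuotientGroup.mk' N) = M := by
        rw [Subgroup.comap_map_eq, QuotientGroup.ker_mk', sup_eq_left.2 hNM]
      refine ⟨fun h => hM.1 ?_, fun L hL => ?_⟩
      · rw [← h1, h, Subgroup.comap_top]
      · have hlt : M < L.comap (QuotientGroup.mk' N) := by
          have h3 := (Subgroup.comap_lt_comap_of_surjective (QuotientGroup.mk'_surjective N)).2 hL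
          rwa [h1] at h3
        rw [← Subgroup.map_comap_eq_self_of_surjective (QuotientGroup.mk'_surjective N) L,
          hM.2 _ hlt, Subgroup.map_top_of_surjective _ (QuotientGroup.mk'_surjective _)]
  · have hc := isComplement'_of_isCoatom hNmin.2.2 hM hNM
    rw [hc.index_eq_card]
    haveI := Fact.mk hp
    obtain ⟨k, hk⟩ := IsPGroup.iff_card.1 hNp
    rw [hk]
    refine hp.isPrimePow.pow ?_
    rintro rfl
    exact hNmin.2.1 (Subgroup.eq_bot_of_card_eq _ (by simpa using hk))

/-- Every prime divisor of `|G|` divides the index of the Frattini subgroup. -/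
theorem prime_dvd_index_frattini [Finite G] {p : ℕ} (hp : p.Prime) (hdvd : p ∣ Nat.card G) :
    p ∣ (frattini G).index := by
  haveI := Fact.mk hp
  by_contra h
  obtain ⟨P⟩ : Nonempty (Sylow p (frattini G)) := inferInstance
  haveI := frattini_nilpotent (G := G)
  have hPn : (P : Subgroup (frattini G)).Normal := inferInstance
  haveI := Sylow.characteristic_of_normal P hPn
  set P' := (P : Subgroup (frattini G)).map (frattini G).subtype
  haveI : P'.Normal := inferInstance
  have hidx : ¬ p ∣ P'.index := by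
    rw [Subgroup.index_map_subtype]
    exact fun hd => (hp.dvd_mul.1 hd).elim P.not_dvd_index h
  have hcop : (Nat.card P').Coprime P'.index := by
    obtain ⟨k, hk⟩ := IsPGroup.iff_card.1 (P.2.map (frattini G).subtype)
    rw [hk]
    exact Nat.Coprime.pow_left k ((Nat.Prime.coprime_iff_not_dvd hp).2 hidx)
  obtain ⟨H, hH⟩ := Subgroup.exists_right_complement'_of_coprime hcop
  have htop : H = ⊤ := frattini_nongenerating (eq_top_iff.2 (hH.sup_eq_top.ge.trans
    (sup_le ((Subgroup.map_subtype_le _).trans le_sup_right) le_sup_left)))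
  subst htop
  have hbot := Subgroup.isComplement'_top_right.1 hH
  rw [hbot, Subgroup.index_bot] at hidx
  exact hidx hdvd

end CfsgLib.Solv
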