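import Cfsg.Agent.Solv.FrobeniusAction

/-!
Frobenius groups from fixed-point-free complements; involutions in complements; quotients.
-/

set_option autoImplicit false
set_option linter.style.haveILetI false
set_option linter.deprecated false

open scoped Pointwise commutatorElement

namespace CfsgLib.Solv

variable {G : Type*} [Group G]

/-- A fixed-point-free complement of a nontrivial normal subgroup is a Frobenius complement. -/
theorem frobenius_of_fpf [Finite G] {K H : Subgroup G} [hKn : K.Normal]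
    (hc : Subgroup.IsComplement' K H) (hK : K ≠ ⊥) (hH : H ≠ ⊥)
    (hfpf : ∀ h ∈ H, h ≠ 1 → K ⊓ Subgroup.centralizer {h} = ⊥) :
    Cfsg.IsFrobeniusComplement H ∧ Cfsg.frobeniusKernel H = (K : Set G) := by
  have hdis : ∀ x ∈ K, x ∈ H → x = 1 := fun x hxK hxH => by
    have : x ∈ K ⊓ H := Subgroup.mem_inf.2 ⟨hxK, hxH⟩
    rwa [hc.disjoint.eq_bot] at this
  have hfr : Cfsg.IsFrobeniusComplement H := by
    refine ⟨hH, ?_, fun g hg => ?_⟩
    · rintro rfl
      exact hK (Subgroup.isComplement'_top_right.1 hc)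
    rw [eq_bot_iff]
    intro y hy
    obtain ⟨hyH, hyg⟩ := Subgroup.mem_inf.1 hy
    rw [mem_conj_smul_iff] at hyg
    obtain ⟨k, hk, h₀, hh₀, rfl⟩ := Subgroup.mem_sup_of_normal_left.1
      (show g ∈ K ⊔ H by rw [hc.sup_eq_top]; trivial)
    have hz : k⁻¹ * y * k ∈ H := by
      have := mul_mem (mul_mem hh₀ hyg) (inv_mem hh₀)
      simpa [mul_assoc] using this
    have h1 : (k⁻¹ * y * k) * y⁻¹ ∈ K := by
      have := mul_mem (inv_mem hk) (hKn.conj_mem k hk y)
      simpa [mul_assoc] using this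
    have h2 := hdis _ h1 (mul_mem hz (inv_mem hyH))
    rw [mul_inv_eq_one] at h2
    by_contra hy1
    have h3 : k ∈ K ⊓ Subgroup.centralizer {y} := by
      refine Subgroup.mem_inf.2 ⟨hk, Subgroup.mem_centralizer_singleton_iff.2 ?_⟩
      have := congrArg (fun t => k * t) h2
      simpa [mul_assoc] using this.symm
    rw [hfpf y hyH (fun h => hy1 (Subgroup.mem_bot.2 h)), Subgroup.mem_bot] at h3
    subst h3
    exact hg (by simpa using hh₀)
  refine ⟨hfr, (Set.eq_of_subset_of_ncard_le (fun x hx => ?_) ?_ (Set.toFinite _)).symm⟩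
  · rw [mem_frobeniusKernel_iff, or_iff_not_imp_left]
    intro hx1 g hg
    have hx' : g⁻¹ * x * g ∈ K := by simpa using hKn.conj_mem x hx g⁻¹
    have h := congrArg (fun t => g * t * g⁻¹) (hdis _ hx' hg)
    simp [mul_assoc] at h
    exact hx1 h
  · rw [← Nat.card_coe_set_eq, ← Nat.card_coe_set_eq, frobenius_card_kernel hfr, hc.index_eq_card]
    rfl

/-- In a Frobenius group nonidentity complement elements act without fixed points on the kernel. -/
theorem fpf_of_frobenius {K H : Subgroup G} (hH : Cfsg.IsFrobeniusComplement H) (hd : K ⊓ H = ⊥)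
    {h : G} (hh : h ∈ H) (hh1 : h ≠ 1) : K ⊓ Subgroup.centralizer {h} = ⊥ := by
  rw [eq_bot_iff]
  intro n hn
  obtain ⟨hnN, hnC⟩ := Subgroup.mem_inf.1 hn
  have hcomm := Subgroup.mem_centralizer_singleton_iff.1 hnC
  have hconj : n * h * n⁻¹ = h := by rw [hcomm, mul_inv_cancel_right]
  rw [← hd]
  exact Subgroup.mem_inf.2
    ⟨hnN, frobenius_mem_of_conj_mem hH hh (by rw [hconj]; exact hh) hh1⟩

/-- An involution acting without fixed points inverts everything. -/
theorem conj_eq_inv_of_fpf_involution [Finite G] {V : Subgroup G} {s : G} (hs : s * s = 1)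
    (hsV : s ∈ Subgroup.normalizer (V : Set G)) (hfix : V ⊓ Subgroup.centralizer {s} = ⊥) {k : G}
    (hk : k ∈ V) : s * k * s⁻¹ = k⁻¹ := by
  obtain ⟨u, -, hu⟩ := exists_conj_of_fpf hsV hfix hk
  have h1 : k * s * (k * s) = 1 := by
    rw [← hu]
    calc u * s * u⁻¹ * (u * s * u⁻¹) = u * (s * s) * u⁻¹ := by group
      _ = 1 := by rw [hs]; group
  have hs' : s⁻¹ = s := inv_eq_of_mul_eq_one_right hs
  rw [hs']
  refine eq_inv_of_mul_eq_one_right ?_
  rw [← h1]
  group

theorem frobenius_involution [Finite G] {K H : Subgroup G} [hKn : K.Normal] (hK : K ≠ ⊥)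
    (hfpf : ∀ h ∈ H, h ≠ 1 → K ⊓ Subgroup.centralizer {h} = ⊥) (heven : 2 ∣ Nat.card H) :
    (∃ s ∈ H, orderOf s = 2 ∧ (∀ t ∈ H, orderOf t = 2 → t = s) ∧ ∀ k ∈ K, s * k * s⁻¹ = k⁻¹) ∧
      IsMulCommutative K := by
  haveI := Fact.mk Nat.prime_two
  obtain ⟨s, hs⟩ := exists_prime_orderOf_dvd_card' (G := H) 2 heven
  have hN : ∀ x : G, x ∈ Subgroup.normalizer (K : Set G) := fun x => by
    rw [Subgroup.normalizer_eq_top_iff.2 hKn]; exact Subgroup.mem_top x
  have hinv : ∀ t ∈ H, orderOf t = 2 → ∀ k ∈ K, t * k * t⁻¹ = k⁻¹ := fun t ht ho k hk =>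
    conj_eq_inv_of_fpf_involution (by rw [← sq, ← ho, pow_orderOf_eq_one]) (hN t)
      (hfpf t ht (fun h => by rw [h, orderOf_one] at ho; exact absurd ho (by decide))) hk
  have hso : orderOf (s : G) = 2 := by rw [Subgroup.orderOf_coe, hs]
  refine ⟨⟨s, s.2, hso, fun t ht ho => ?_, hinv s s.2 hso⟩, ⟨⟨fun a b => Subtype.ext ?_⟩⟩⟩
  · by_contra hne
    obtain ⟨k, hk, hk1⟩ := K.bot_or_exists_ne_one.resolve_left hK
    refine hk1 ?_
    have hmem : k ∈ K ⊓ Subgroup.centralizer {(s : G)⁻¹ * t} := by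
      refine Subgroup.mem_inf.2 ⟨hk, Subgroup.mem_centralizer_singleton_iff.2 ?_⟩
      have h1 := hinv s s.2 hso k hk
      have h2 := hinv t ht ho k hk
      have h3 : (s : G) * k * (s : G)⁻¹ = t * k * t⁻¹ := h1.trans h2.symm
      calc k * ((s : G)⁻¹ * t) = (s : G)⁻¹ * ((s : G) * k * (s : G)⁻¹) * t := by group
        _ = (s : G)⁻¹ * t * k := by rw [h3]; group
    rwa [hfpf _ (mul_mem (inv_mem s.2) ht) (fun h => hne (inv_mul_eq_one.1 h).symm),
      Subgroup.mem_bot] at hmem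
  · show (a : G) * b = b * a
    have hab := hinv s s.2 hso _ (mul_mem a.2 b.2)
    have ha := hinv s s.2 hso _ a.2
    have hb := hinv s s.2 hso _ b.2
    have h : ((a : G) * b)⁻¹ = (a : G)⁻¹ * (b : G)⁻¹ := by rw [← hab, ← ha, ← hb]; group
    have h2 := congrArg (·⁻¹) h
    simpa using h2

/-- Normal subgroups of a Frobenius group are comparable with the kernel. -/
theorem frobenius_kernel_le_or_ge [Finite G] {K H : Subgroup G} [hKn : K.Normal]
    (hc : Subgroup.IsComplement' K H) (hH : Cfsg.IsFrobeniusComplement H) (N : Subgroup G)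
    [hNn : N.Normal] : N ⊓ H = ⊥ ∨ K ≤ N := by
  rw [or_iff_not_imp_left]
  intro hne k hk
  obtain ⟨x, hx, hx1⟩ := (N ⊓ H).bot_or_exists_ne_one.resolve_left hne
  obtain ⟨hxN, hxH⟩ := Subgroup.mem_inf.1 hx
  obtain ⟨u, -, hu⟩ := exists_conj_of_fpf
    (show x ∈ Subgroup.normalizer (K : Set G) by
      rw [Subgroup.normalizer_eq_top_iff.2 hKn]; trivial)
    (fpf_of_frobenius hH hc.disjoint.eq_bot hxH hx1) hk
  have h1 : k * x ∈ N := hu ▸ hNn.conj_mem x hxN u
  simpa using mul_mem h1 (inv_mem hxN)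

theorem frobenius_quotient [Finite G] {R : Subgroup G} (hR : Cfsg.IsFrobeniusComplement R)
    (N : Subgroup G) [hN : N.Normal] (hKN : ¬ Cfsg.frobeniusKernel R ⊆ N) :
    Cfsg.IsFrobeniusComplement (R.map (QuotientGroup.mk' N)) ∧
      Cfsg.frobeniusKernel (R.map (QuotientGroup.mk' N)) =
        QuotientGroup.mk' N '' Cfsg.frobeniusKernel R := by
  obtain ⟨K, hKset, hKn, hc⟩ := frobenius_theorem hR
  haveI := hKn
  set π := QuotientGroup.mk' N
  rw [← hKset] at hKN ⊢
  have hNR : N ⊓ R = ⊥ := (frobenius_kernel_le_or_ge hc hR N).resolve_right hKN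
  haveI : (K.map π).Normal := hKn.map π (QuotientGroup.mk'_surjective N)
  have hNK : N ≤ K := by
    intro n hn
    have hn' : n ∈ Cfsg.frobeniusKernel R := by
      rw [mem_frobeniusKernel_iff, or_iff_not_imp_left]
      intro hn1 g hg
      have : g⁻¹ * n * g ∈ N ⊓ R :=
        Subgroup.mem_inf.2 ⟨by simpa using hN.conj_mem n hn g⁻¹, hg⟩
      rw [hNR, Subgroup.mem_bot] at this
      exact hn1 (by simpa [mul_assoc] using congrArg (fun t => g * t * g⁻¹) this)
    rwa [← hKset] at hn'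
  have hc' : Subgroup.IsComplement' (K.map π) (R.map π) := by
    refine Subgroup.isComplement'_of_disjoint_and_mul_eq_univ (disjoint_iff.2 ?_) ?_
    · rw [eq_bot_iff]
      intro y hy
      obtain ⟨⟨a, ha, rfl⟩, b, hb, hba⟩ := Subgroup.mem_inf.1 hy
      have h1 : b⁻¹ * a ∈ N := QuotientGroup.eq.1 hba
      have hbK : b ∈ K := by
        have := mul_mem ha (inv_mem (hNK h1))
        simpa using this
      have : b ∈ K ⊓ R := Subgroup.mem_inf.2 ⟨hbK, hb⟩
      rw [hc.disjoint.eq_bot, Subgroup.mem_bot] at this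
      rw [← hba, this, map_one]; exact one_mem _
    · rw [← Subgroup.normal_mul, ← Subgroup.map_sup, hc.sup_eq_top,
        Subgroup.map_top_of_surjective _ (QuotientGroup.mk'_surjective N), Subgroup.coe_top]
  have key := frobenius_of_fpf hc' ?_ ?_ ?_
  · exact ⟨key.1, by rw [key.2]; rfl⟩
  · intro h
    rw [Subgroup.map_eq_bot_iff, QuotientGroup.ker_mk'] at h
    exact hKN h
  · intro h
    rw [Subgroup.map_eq_bot_iff, QuotientGroup.ker_mk'] at h
    exact hR.1 (le_bot_iff.1 (hNR ▸ le_inf h le_rfl))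
  · rintro _ ⟨r, hr, rfl⟩ hr1
    have hr1' : r ≠ 1 := fun h => hr1 (by rw [h, map_one])
    rw [eq_bot_iff]
    intro y hy
    obtain ⟨⟨k, hk, rfl⟩, hyc⟩ := Subgroup.mem_inf.1 hy
    have hcomm := Subgroup.mem_centralizer_singleton_iff.1 hyc
    rw [← map_mul, ← map_mul] at hcomm
    have h1 : k * r * k⁻¹ * r⁻¹ ∈ N := by
      rw [← QuotientGroup.eq_one_iff]
      show π _ = 1
      rw [map_mul, map_mul, hcomm]
      simp [mul_assoc]
    have hfix := fpf_of_frobenius hR hc.disjoint.eq_bot hr hr1'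
    have hfixN : N ⊓ Subgroup.centralizer {r} = ⊥ :=
      le_bot_iff.1 ((inf_le_inf_right _ hNK).trans hfix.le)
    obtain ⟨u, hu, hue⟩ := exists_conj_of_fpf
      (show r ∈ Subgroup.normalizer (N : Set G) by
        rw [Subgroup.normalizer_eq_top_iff.2 hN]; trivial) hfixN h1
    rw [inv_mul_cancel_right] at hue
    have h3 : u⁻¹ * k ∈ K ⊓ Subgroup.centralizer {r} := by
      refine Subgroup.mem_inf.2 ⟨mul_mem (inv_mem (hNK hu)) hk,
        Subgroup.mem_centralizer_singleton_iff.2 ?_⟩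
      calc u⁻¹ * k * r = u⁻¹ * (k * r * k⁻¹) * k := by group
        _ = r * (u⁻¹ * k) := by rw [← hue]; group
    rw [hfix, Subgroup.mem_bot, inv_mul_eq_one] at h3
    rw [← h3, Subgroup.mem_bot]
    exact (QuotientGroup.eq_one_iff u).2 hu

/-- A subgroup whose order divides that of a Frobenius complement lies in a complement. -/
theorem le_conj_of_card_dvd [Finite G] {H : Subgroup G} (hH : Cfsg.IsFrobeniusComplement H)
    (L : Subgroup G) (hL : Nat.card L ∣ Nat.card H) : ∃ x : G, L ≤ MulAut.conj x • H := by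
  rcases eq_or_ne L ⊥ with rfl | hL1
  · exact ⟨1, bot_le⟩
  obtain ⟨N, hN, hNn, hc⟩ := frobenius_theorem hH
  have hdis : L ⊓ N = ⊥ := by
    refine Subgroup.inf_eq_bot_of_coprime ?_
    rw [← hc.index_eq_card]
    exact (frobenius_coprime hH).coprime_dvd_left hL
  have hex : ∀ l ∈ L, l ≠ 1 → ∃ g : G, g⁻¹ * l * g ∈ H := by
    intro l hl hl1
    by_contra hc'
    push Not at hc'
    have hlN : l ∈ N := by
      have : l ∈ Cfsg.frobeniusKernel H := mem_frobeniusKernel_iff.2 (Or.inr hc')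
      rwa [← hN] at this
    have : l ∈ L ⊓ N := Subgroup.mem_inf.2 ⟨hl, hlN⟩
    rw [hdis, Subgroup.mem_bot] at this
    exact hl1 this
  have hsub : ∀ (g : G) (l : L), (l : G) ≠ 1 → g⁻¹ * l * g ∈ H → ¬ L ≤ MulAut.conj g • H →
      Cfsg.IsFrobeniusComplement ((MulAut.conj g • H).subgroupOf L) := by
    intro g l hl1 hl hle
    have hHg := frobenius_conj hH g
    refine ⟨?_, fun h => hle (Subgroup.subgroupOf_eq_top.1 h), fun m hm => ?_⟩
    · intro h
      have : l ∈ (MulAut.conj g • H).subgroupOf L :=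
        Subgroup.mem_subgroupOf.2 (mem_conj_smul_iff.2 hl)
      rw [h, Subgroup.mem_bot] at this
      exact hl1 (congrArg Subtype.val this)
    · rw [eq_bot_iff]
      intro z hz
      obtain ⟨h1, h2⟩ := Subgroup.mem_inf.1 hz
      rw [mem_conj_smul_iff, Subgroup.mem_subgroupOf] at h2
      rw [Subgroup.mem_subgroupOf] at h1
      have hm' : (m : G) ∉ MulAut.conj g • H := fun h => hm (Subgroup.mem_subgroupOf.2 h)
      have h3 : (z : G) ∈ MulAut.conj g • H ⊓ MulAut.conj (m : G) • MulAut.conj g • H :=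
        Subgroup.mem_inf.2 ⟨h1, mem_conj_smul_iff.2 (by simpa using h2)⟩
      rw [hHg.2.2 _ hm', Subgroup.mem_bot] at h3
      exact Subgroup.mem_bot.2 (Subtype.ext h3)
  by_contra hcon
  push Not at hcon
  obtain ⟨l, hl, hl1⟩ := L.bot_or_exists_ne_one.resolve_left hL1
  obtain ⟨g, hg⟩ := hex l hl hl1
  have hS := hsub g ⟨l, hl⟩ hl1 hg (hcon g)
  set S := (MulAut.conj g • H).subgroupOf L
  obtain ⟨M, hM, -, hMc⟩ := frobenius_theorem hS
  have hMne : M ≠ ⊥ := fun h => hS.2.1 (by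
    have := hMc.sup_eq_top
    rwa [h, bot_sup_eq] at this)
  obtain ⟨y, hy, hy1⟩ := M.bot_or_exists_ne_one.resolve_left hMne
  have hy1' : (y : G) ≠ 1 := fun h => hy1 (Subtype.ext h)
  obtain ⟨k, hk⟩ := hex y y.2 hy1'
  have hS' := hsub k y hy1' hk (hcon k)
  set S' := (MulAut.conj k • H).subgroupOf L
  obtain ⟨m, hm⟩ : ∃ m : L, MulAut.conj m • S = S' := by
    rcases le_total (Nat.card S) (Nat.card S') with h | h
    · obtain ⟨m, hm⟩ := frobenius_le_conj_of_card_le hS' hS h
      exact ⟨m, frobenius_eq_of_le (frobenius_conj hS m) hS' hm⟩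
    · obtain ⟨m, hm⟩ := frobenius_le_conj_of_card_le hS hS' h
      refine ⟨m⁻¹, ?_⟩
      rw [← frobenius_eq_of_le (frobenius_conj hS' m) hS hm, map_inv, inv_smul_smul]
  have hyS : y ∈ S' := Subgroup.mem_subgroupOf.2 (mem_conj_smul_iff.2 hk)
  rw [← hm, mem_conj_smul_iff] at hyS
  have hyK : y ∈ Cfsg.frobeniusKernel S := by rw [← hM]; exact hy
  rcases mem_frobeniusKernel_iff.1 hyK with h | h
  · exact hy1 h
  · exact h m hyS

end CfsgLib.Solv
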