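import Cfsg.Agent.Solv.FpfNilpotent
import Cfsg.Agent.Solv.FrobeniusFpf

/-!
Frobenius kernels are nilpotent.
-/

set_option autoImplicit false
set_option linter.style.haveILetI false
set_option linter.deprecated false

open scoped commutatorElement Pointwise

namespace CfsgLib.Solv

variable {G : Type*} [Group G]

/-- A normal subgroup on which some element of prime order acts fixed-point-freely is nilpotent. -/
theorem isNilpotent_of_fpf_element [Finite G] {K : Subgroup G} [K.Normal] {h : G} {p : ℕ}
    [Fact p.Prime] (hp : h ^ p = 1) (hfix : K ⊓ Subgroup.centralizer {h} = ⊥) :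
    Group.IsNilpotent K := by
  refine isNilpotent_of_fpf (φ := (MulAut.conjNormal h : MulAut K)) (fun x hx => ?_) (p := p) fun x => ?_
  · have e : h * (x : G) * h⁻¹ = x := congrArg Subtype.val hx
    have hm : (x : G) ∈ K ⊓ Subgroup.centralizer {h} :=
      Subgroup.mem_inf.2 ⟨x.2, Subgroup.mem_centralizer_iff.2 fun y hy => by
        rw [Set.mem_singleton_iff.1 hy]; exact mul_inv_eq_iff_eq_mul.1 e⟩
    rw [hfix, Subgroup.mem_bot] at hm
    exact Subtype.ext hm
  · have e : ∀ i, (⇑(MulAut.conjNormal h : MulAut K))^[i] x = MulAut.conjNormal (h ^ i) x := fun i => by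
      induction i with
      | zero => simp
      | succ i hi => rw [Function.iterate_succ_apply', hi, pow_succ', map_mul]; rfl
    rw [e, hp, map_one]; rfl

/-- A normal subgroup meeting a Frobenius complement trivially is nilpotent. -/
theorem frobenius_isNilpotent [Finite G] {K H : Subgroup G} [K.Normal]
    (hH : Cfsg.IsFrobeniusComplement H) (hd : K ⊓ H = ⊥) : Group.IsNilpotent K := by
  obtain ⟨q, hq, hqd⟩ := Nat.exists_prime_and_dvd (fun e => hH.1 (Subgroup.card_eq_one.1 e))
  haveI : Fact q.Prime := ⟨hq⟩
  obtain ⟨⟨h, hh⟩, ho⟩ := exists_prime_orderOf_dvd_card' q hqd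
  rw [Subgroup.orderOf_mk] at ho
  exact isNilpotent_of_fpf_element (p := q) (by rw [← ho]; exact pow_orderOf_eq_one h)
    (fpf_of_frobenius hH hd hh fun e => hq.ne_one (by rw [← ho, e, orderOf_one]))

end CfsgLib.Solv
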