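import Cfsg.Agent.Solv.ClassTwo
import Cfsg.Agent.Solv.Generation

/-!
`p`-groups: critical subgroups, automorphisms of order prime to `p`, normal abelian subgroups.
-/

set_option autoImplicit false
set_option linter.style.haveILetI false
set_option linter.deprecated false
set_option linter.unusedSectionVars false

open scoped commutatorElement Pointwise

namespace CfsgLib.Solv

variable {G : Type*} [Group G] {p : ℕ}

/-- If `a` has order prime to `p` and moves `x` to `x z` with `z` a fixed `p`-element, then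
`z = 1`. -/
theorem eq_one_of_fixed_shift [Finite G] [hp : Fact p.Prime] (hG : IsPGroup p G) {a : MulAut G}
    (ha : Nat.Coprime (orderOf a) p) {x z : G} (hx : a x = x * z) (hz : a z = z) : z = 1 := by
  have h : ∀ m : ℕ, (a ^ m) x = x * z ^ m := by
    intro m
    induction m with
    | zero => simp
    | succ m ih => rw [pow_succ', MulAut.mul_apply, ih, map_mul, map_pow, hx, hz, mul_assoc, ← pow_succ']
  have h1 := h (orderOf a)
  rw [pow_orderOf_eq_one, MulAut.one_apply, left_eq_mul] at h1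
  obtain ⟨k, hk⟩ := hG z
  rw [← orderOf_eq_one_iff]
  exact Nat.eq_one_of_dvd_coprimes (Nat.Coprime.pow_right k ha) (orderOf_dvd_of_pow_eq_one h1)
    (orderOf_dvd_of_pow_eq_one hk)

/-- A nontrivial normal subgroup of a quotient by `A` contains a central element of order `p`. -/
theorem exists_central_mod [Finite G] [hp : Fact p.Prime] (hG : IsPGroup p G) {A N : Subgroup G}
    [A.Normal] [N.Normal] (h : ¬ N ≤ A) :
    ∃ x ∈ N ⊔ A, x ∉ A ∧ x ^ p ∈ A ∧ ∀ g : G, ⁅x, g⁆ ∈ A := by
  have hb : (N ⊔ A).map (QuotientGroup.mk' A) ≠ ⊥ := by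
    intro e
    refine h fun x hx => (QuotientGroup.eq_one_iff x).1 (Subgroup.mem_bot.1 ?_)
    rw [← e]; exact Subgroup.mem_map_of_mem _ (Subgroup.mem_sup_left hx)
  haveI := Subgroup.Normal.map (inferInstance : (N ⊔ A).Normal) _ (QuotientGroup.mk'_surjective A)
  have h1 := CfsgLib.Perm.inf_center_ne_bot (hG.to_quotient A) _ hb
  have h2 := ((hG.to_quotient A).to_subgroup
    ((N ⊔ A).map (QuotientGroup.mk' A) ⊓ Subgroup.center (G ⧸ A)))
  haveI : Nontrivial ((N ⊔ A).map (QuotientGroup.mk' A) ⊓ Subgroup.center (G ⧸ A) : Subgroup (G ⧸ A)) :=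
    (Subgroup.nontrivial_iff_ne_bot _).2 h1
  obtain ⟨k, hk0, hk⟩ := h2.nontrivial_iff_card.1 ‹_›
  obtain ⟨⟨q, hq⟩, hqo⟩ := exists_prime_orderOf_dvd_card' (G := ((N ⊔ A).map (QuotientGroup.mk' A) ⊓
    Subgroup.center (G ⧸ A) : Subgroup (G ⧸ A))) p (hk ▸ dvd_pow_self p hk0.ne')
  obtain ⟨⟨x, hx, rfl⟩, hqc⟩ := Subgroup.mem_inf.1 hq
  rw [Subgroup.orderOf_mk] at hqo
  refine ⟨x, hx, fun hxA => ?_, (QuotientGroup.eq_one_iff _).1 ?_, fun g => (QuotientGroup.eq_one_iff _).1 ?_⟩
  · rw [show QuotientGroup.mk' A x = 1 from (QuotientGroup.eq_one_iff x).2 hxA, orderOf_one] at hqo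
    exact hp.out.ne_one hqo.symm
  · show QuotientGroup.mk' A (x ^ p) = 1
    rw [map_pow, ← hqo, pow_orderOf_eq_one]
  · show QuotientGroup.mk' A ⁅x, g⁆ = 1
    rw [map_commutatorElement, commutatorElement_eq_one_iff_mul_comm]
    exact (Subgroup.mem_center_iff.1 hqc _).symm

theorem exists_maximal_char_abelian [Finite G] :
    ∃ A : Subgroup G, A.Characteristic ∧ IsMulCommutative A ∧
      ∀ B : Subgroup G, B.Characteristic → IsMulCommutative B → A ≤ B → B = A := by
  obtain ⟨A, -, hA⟩ := Finite.exists_le_maximal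
    (p := fun A : Subgroup G => A.Characteristic ∧ IsMulCommutative A) (a := ⊥)
    ⟨inferInstance, ⟨⟨fun a b => Subsingleton.elim _ _⟩⟩⟩
  exact ⟨A, hA.1.1, hA.1.2, fun B h1 h2 h => le_antisymm (hA.2 ⟨h1, h2⟩ h) h⟩

theorem map_mem_of_characteristic {A : Subgroup G} [hA : A.Characteristic] (e : G ≃* G) {x : G}
    (hx : x ∈ A) : e x ∈ A :=
  (Subgroup.characteristic_iff_map_le.1 hA e) ⟨x, hx, rfl⟩

/-- Thompson: every finite `p`-group has a critical subgroup. -/
theorem exists_critical [Finite G] [hp : Fact p.Prime] (hG : IsPGroup p G) :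
    ∃ H : Subgroup G, H.Characteristic ∧
      (frattini H).map H.subtype ≤ Subgroup.centralizer (H : Set G) ∧
      ⁅H, (⊤ : Subgroup G)⁆ ≤ H ⊓ Subgroup.centralizer (H : Set G) ∧
      Subgroup.centralizer (H : Set G) ≤ H := by
  obtain ⟨A, hAc, hAab, hmax⟩ := exists_maximal_char_abelian (G := G)
  haveI := hAc
  set C := Subgroup.centralizer (A : Set G) with hC
  haveI hCc : C.Characteristic := inferInstance
  let H : Subgroup G :=
    { carrier := {x | x ∈ C ∧ x ^ p ∈ A ∧ ∀ g : G, ⁅x, g⁆ ∈ A}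
      one_mem' := ⟨one_mem _, by simp, fun g => by simp⟩
      mul_mem' := by
        rintro x y ⟨hx1, hx2, hx3⟩ ⟨hy1, hy2, hy3⟩
        refine ⟨mul_mem hx1 hy1, ?_, fun g => ?_⟩
        · rw [← QuotientGroup.eq_one_iff] at hx2 hy2 ⊢
          have hc : Commute (x : G ⧸ A) (y : G ⧸ A) := by
            refine commutatorElement_eq_one_iff_mul_comm.1 ?_
            show ⁅QuotientGroup.mk' A x, QuotientGroup.mk' A y⁆ = 1
            rw [← map_commutatorElement (QuotientGroup.mk' A)]
            exact (QuotientGroup.eq_one_iff _).2 (hx3 y)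
          rw [QuotientGroup.mk_pow] at hx2 hy2 ⊢
          rw [QuotientGroup.mk_mul, hc.mul_pow, hx2, hy2, one_mul]
        · have e : ⁅x * y, g⁆ = x * ⁅y, g⁆ * x⁻¹ * ⁅x, g⁆ := by simp [commutatorElement_def, mul_assoc]
          rw [e]
          exact mul_mem ((inferInstance : A.Normal).conj_mem _ (hy3 g) x) (hx3 g)
      inv_mem' := by
        rintro x ⟨hx1, hx2, hx3⟩
        refine ⟨inv_mem hx1, by rw [inv_pow]; exact inv_mem hx2, fun g => ?_⟩
        have e : ⁅x⁻¹, g⁆ = x⁻¹ * ⁅x, g⁆⁻¹ * x⁻¹⁻¹ := by simp [commutatorElement_def, mul_assoc]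
        rw [e]
        exact (inferInstance : A.Normal).conj_mem _ (inv_mem (hx3 g)) x⁻¹ }
  haveI hHc : H.Characteristic := by
    refine Subgroup.characteristic_iff_map_le.2 fun e => ?_
    rintro _ ⟨x, ⟨hx1, hx2, hx3⟩, rfl⟩
    refine ⟨map_mem_of_characteristic e hx1, ?_, fun g => ?_⟩
    · show e x ^ p ∈ A
      rw [← map_pow]; exact map_mem_of_characteristic e hx2
    · show ⁅e x, g⁆ ∈ A
      obtain ⟨g', rfl⟩ := e.surjective g
      rw [← map_commutatorElement]; exact map_mem_of_characteristic e (hx3 g')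
  have hHC : H ≤ C := fun x hx => hx.1
  have hAH : A ≤ H := by
    intro a ha
    refine ⟨Subgroup.mem_centralizer_iff.2 fun b hb =>
      congrArg Subtype.val (hAab.is_comm.comm ⟨b, hb⟩ ⟨a, ha⟩), pow_mem ha p, fun g => ?_⟩
    exact Subgroup.commutator_le_left A ⊤
      (Subgroup.commutator_mem_commutator ha (Subgroup.mem_top g))
  have hAcent : ∀ a ∈ A, a ∈ Subgroup.centralizer (H : Set G) := fun a ha =>
    Subgroup.mem_centralizer_iff.2 fun h hh => (Subgroup.mem_centralizer_iff.1 (hHC hh) a ha).symm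
  refine ⟨H, hHc, ?_, ?_, ?_⟩
  · rintro _ ⟨x, hx, rfl⟩
    refine hAcent _ ?_
    have hle : frattini H ≤ A.subgroupOf H := by
      refine frattini_le_of_elementary (p := p) _ ?_ fun y => y.2.2.1
      rw [commutator_def, Subgroup.commutator_le]
      exact fun a _ b _ => a.2.2.2 b
    exact hle hx
  · rw [Subgroup.commutator_le]
    exact fun x hx g _ => Subgroup.mem_inf.2 ⟨hAH (hx.2.2 g), hAcent _ (hx.2.2 g)⟩
  · by_contra hne
    set D := Subgroup.centralizer (H : Set G) with hD
    haveI : D.Characteristic := inferInstance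
    have hDA : D ⊓ H ≤ A := by
      have hc : IsMulCommutative (D ⊓ H : Subgroup G) := ⟨⟨fun a b => Subtype.ext
        (Subgroup.mem_centralizer_iff.1 (Subgroup.mem_inf.1 b.2).1 a (Subgroup.mem_inf.1 a.2).2)⟩⟩
      exact (hmax (D ⊓ H) inferInstance hc (le_inf (fun a ha => hAcent a ha) hAH)).le
    have hnot : ¬ D ≤ A := fun h => hne (h.trans hAH)
    obtain ⟨x, hx, hxA, hxp, hxg⟩ := exists_central_mod hG hnot
    have hAD : A ≤ D := fun a ha => hAcent a ha
    rw [sup_eq_left.2 hAD] at hx
    have hxC : x ∈ C := Subgroup.centralizer_le (show (A : Set G) ⊆ H from hAH) hx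
    exact hxA (hDA (Subgroup.mem_inf.2 ⟨hx, hxC, hxp, hxg⟩))

/-- An automorphism of order prime to `p` fixing a self-centralising normal subgroup is trivial. -/
theorem aut_eq_one_of_fix [Finite G] [Fact p.Prime] (hG : IsPGroup p G) {H : Subgroup G} [H.Normal]
    (h3 : Subgroup.centralizer (H : Set G) ≤ H) {a : MulAut G} (ha : Nat.Coprime (orderOf a) p)
    (h : ∀ x ∈ H, a x = x) : a = 1 := by
  ext x
  have hz : x⁻¹ * a x ∈ H := by
    refine h3 (Subgroup.mem_centralizer_iff.2 fun w hw => ?_)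
    have hc : x * w * x⁻¹ ∈ H := (inferInstance : H.Normal).conj_mem w hw x
    have h1 := h _ hc
    rw [map_mul, map_mul, map_inv, h w hw] at h1
    calc w * (x⁻¹ * a x) = x⁻¹ * (x * w * x⁻¹) * a x := by group
      _ = x⁻¹ * (a x * w * (a x)⁻¹) * a x := by rw [h1]
      _ = _ := by group
  have := eq_one_of_fixed_shift hG ha (x := x) (z := x⁻¹ * a x) (by group) (h _ hz)
  rw [MulAut.one_apply]
  exact (inv_mul_eq_one.1 this).symm

theorem commute_of_critical {H : Subgroup G} [H.Normal]
    (h2 : ⁅H, (⊤ : Subgroup G)⁆ ≤ H ⊓ Subgroup.centralizer (H : Set G)) {x y : G} (hy : y ∈ H)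
    (hx : x ∈ H) {w : G} (hw : w ∈ H) : Commute ⁅y, x⁆ w :=
  (Subgroup.mem_centralizer_iff.1
    (Subgroup.mem_inf.1 (h2 (Subgroup.commutator_mem_commutator hy (Subgroup.mem_top x)))).2 w hw).symm

/-- For odd `p`, an automorphism of order prime to `p` fixing all elements of order `p` is trivial. -/
theorem aut_eq_one_of_fix_omega [Finite G] [hp : Fact p.Prime] (hp2 : p ≠ 2) (hG : IsPGroup p G)
    {a : MulAut G} (ha : Nat.Coprime (orderOf a) p) (h : ∀ x : G, x ^ p = 1 → a x = x) : a = 1 := by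
  obtain ⟨H, hHc, h1, h2, h3⟩ := exists_critical hG
  haveI := hHc
  refine aut_eq_one_of_fix hG h3 ha ?_
  intro x
  obtain ⟨n, hn⟩ : ∃ n, orderOf x = n := ⟨_, rfl⟩
  induction n using Nat.strong_induction_on generalizing x with
  | _ n ih =>
    intro hx
    by_cases hx1 : x = 1
    · rw [hx1, map_one]
    have hpo : p ∣ orderOf x := by
      obtain ⟨k, hk⟩ := (IsPGroup.iff_orderOf.1 hG) x
      rw [hk]
      refine dvd_pow_self p fun h0 => hx1 ?_
      rw [← orderOf_eq_one_iff, hk, h0, pow_zero]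
    have hxp : a (x ^ p) = x ^ p := by
      refine ih _ ?_ (x ^ p) rfl (pow_mem hx p)
      rw [orderOf_pow_of_dvd hp.out.ne_zero hpo, ← hn]
      exact Nat.div_lt_self (orderOf_pos x) hp.out.one_lt
    have hxH : a x ∈ H := map_mem_of_characteristic a hx
    have hd : ⁅a x, x⁻¹⁆ ^ p = 1 := by
      have hc : Commute ⁅a x, x⁻¹⁆ x⁻¹ := commute_of_critical h2 hxH (inv_mem hx) (inv_mem hx)
      rw [← pow_commutator_right hc, commutatorElement_eq_one_iff_mul_comm]
      have hz : (x⁻¹ : G) ^ p ∈ Subgroup.centralizer (H : Set G) :=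
        h1 ⟨(⟨x⁻¹, inv_mem hx⟩ : H) ^ p,
          pow_mem_frattini (hG.to_subgroup H) ⟨x⁻¹, inv_mem hx⟩, rfl⟩
      exact Subgroup.mem_centralizer_iff.1 hz (a x) hxH
    have hz : (x⁻¹ * a x) ^ p = 1 := by
      rw [mul_pow_prime hp2 (commute_of_critical h2 hxH (inv_mem hx) (inv_mem hx))
        (commute_of_critical h2 hxH (inv_mem hx) hxH) hd, ← map_pow, hxp, inv_pow, inv_mul_cancel]
    have := eq_one_of_fixed_shift hG ha (x := x) (z := x⁻¹ * a x) (by group) (h _ hz)
    exact (inv_mul_eq_one.1 this).symm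

/-- A normal subgroup of a `p`-group contains normal subgroups of every possible order. -/
theorem exists_normal_le_card [Finite G] [hp : Fact p.Prime] (hG : IsPGroup p G) {N : Subgroup G}
    [hN : N.Normal] {k : ℕ} (h : p ^ k ≤ Nat.card N) :
    ∃ M : Subgroup G, M.Normal ∧ M ≤ N ∧ Nat.card M = p ^ k := by
  induction k with
  | zero => exact ⟨⊥, inferInstance, bot_le, by simp⟩
  | succ k ih =>
    obtain ⟨M, hMn, hMN, hM⟩ := ih (le_trans (Nat.pow_le_pow_right hp.out.pos (Nat.le_succ k)) h)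
    haveI := hMn
    have hnot : ¬ N ≤ M := fun hle => by
      have := Subgroup.card_le_of_le hle
      rw [hM] at this
      have := Nat.pow_lt_pow_right hp.out.one_lt (show k < k + 1 by omega)
      omega
    obtain ⟨x, hx, hxM, hxp, hxg⟩ := exists_central_mod hG hnot
    rw [sup_eq_left.2 hMN] at hx
    set L := Subgroup.zpowers x ⊔ M with hL
    have hLn : L.Normal := by
      refine ⟨fun l hl g => ?_⟩
      rw [← SetLike.mem_coe, hL, Subgroup.mul_normal] at hl
      obtain ⟨_, ⟨i, rfl⟩, m, hm, rfl⟩ := hl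
      have hconj : g * x * g⁻¹ ∈ L := by
        rw [conj_eq_commutator_mul, ← commutatorElement_inv x g]
        exact mul_mem (inv_mem (Subgroup.mem_sup_right (hxg g)))
          (Subgroup.mem_sup_left (Subgroup.mem_zpowers x))
      have e : g * (x ^ i * m) * g⁻¹ = (g * x * g⁻¹) ^ i * (g * m * g⁻¹) := by rw [conj_zpow]; group
      show g * (x ^ i * m) * g⁻¹ ∈ L
      rw [e]
      exact mul_mem (zpow_mem hconj i) (Subgroup.mem_sup_right (hMn.conj_mem m hm g))
    refine ⟨L, hLn, sup_le (Subgroup.zpowers_le.2 hx) hMN, ?_⟩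
    have h1 : Nat.card ((Subgroup.zpowers x).map (QuotientGroup.mk' M)) = p := by
      rw [MonoidHom.map_zpowers, Nat.card_zpowers]
      refine orderOf_eq_prime ?_ fun e => hxM ((QuotientGroup.eq_one_iff x).1 e)
      rw [← map_pow]; exact (QuotientGroup.eq_one_iff _).2 hxp
    have h2 : (Subgroup.zpowers x).map (QuotientGroup.mk' M) = L.map (QuotientGroup.mk' M) := by
      rw [hL, Subgroup.map_sup, QuotientGroup.map_mk'_self, sup_bot_eq]
    have h3 := card_map_mk' M L
    rw [← h2, h1] at h3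
    rw [← h3, inf_eq_right.2 (show M ≤ L from le_sup_right), hM, pow_succ']

theorem isMulCommutative_of_card_sq [Finite G] [Fact p.Prime] {A : Subgroup G}
    (h : Nat.card A = p ^ 2) : IsMulCommutative A :=
  ⟨⟨fun a b => IsPGroup.commutative_of_card_eq_prime_sq h a b⟩⟩

/-- A noncyclic `p`-group for odd `p` has a normal elementary abelian subgroup of order `p ^ 2`. -/
theorem exists_normal_rank_two : ∀ (n : ℕ) (G : Type*) [Group G] [Finite G] (p : ℕ) [Fact p.Prime],
    p ≠ 2 → Nat.card G = n → IsPGroup p G → ¬ IsCyclic G →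
    ∃ A : Subgroup G, A.Normal ∧ Cfsg.IsElementaryAbelian p A ∧ Nat.card A = p ^ 2 := by
  intro n
  induction n using Nat.strong_induction_on with
  | _ n ih =>
    intro G _ _ p hp hp2 hn hG hnc
    haveI : Nontrivial G := by
      by_contra h
      haveI := not_nontrivial_iff_subsingleton.1 h
      exact hnc inferInstance
    obtain ⟨k, hk0, hk⟩ := hG.nontrivial_iff_card.1 inferInstance
    obtain ⟨Z, hZn, hZc, hZ⟩ := exists_normal_le_card hG (N := Subgroup.center G) (k := 1) (by
      rw [pow_one]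
      haveI := hG.center_nontrivial
      obtain ⟨j, hj0, hj⟩ := (hG.to_subgroup (Subgroup.center G)).nontrivial_iff_card.1 inferInstance
      rw [hj]; exact Nat.le_self_pow hj0.ne' p)
    rw [pow_one] at hZ
    haveI := hZn
    suffices hB : ∃ B : Subgroup G, B.Normal ∧ (∀ x ∈ B, ∀ y ∈ B, ∀ w ∈ B, Commute ⁅x, y⁆ w) ∧
        (∀ x ∈ B, ∀ y ∈ B, ⁅x, y⁆ ^ p = 1) ∧ p ^ 2 ≤ Nat.card {b : B // b ^ p = 1} by
      obtain ⟨B, hBn, hB1, hB2, hB3⟩ := hB
      let O : Subgroup G :=
        { carrier := {x | x ∈ B ∧ x ^ p = 1}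
          one_mem' := ⟨one_mem _, one_pow _⟩
          mul_mem' := by
            rintro x y ⟨hx, hx'⟩ ⟨hy, hy'⟩
            refine ⟨mul_mem hx hy, ?_⟩
            rw [mul_pow_prime hp2 (hB1 y hy x hx x hx) (hB1 y hy x hx y hy) (hB2 y hy x hx), hx',
              hy', one_mul]
          inv_mem' := by
            rintro x ⟨hx, hx'⟩
            exact ⟨inv_mem hx, by rw [inv_pow, hx', inv_one]⟩ }
      haveI : O.Normal := by
        refine ⟨fun x hx g => ⟨hBn.conj_mem x hx.1 g, ?_⟩⟩
        rw [conj_pow, hx.2, mul_one, mul_inv_cancel]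
      have hO : p ^ 2 ≤ Nat.card O := hB3.trans (Nat.card_le_card_of_injective
        (fun b => (⟨(b.1 : G), b.1.2, congrArg Subtype.val b.2⟩ : O)) fun a b e => by
          exact Subtype.ext (Subtype.ext (congrArg (fun o : O => (o : G)) e)))
      obtain ⟨A, hAn, hAO, hA⟩ := exists_normal_le_card hG hO
      exact ⟨A, hAn, ⟨isMulCommutative_of_card_sq hA, fun a ha => (hAO ha).2⟩, hA⟩
    by_cases hcyc : IsCyclic (G ⧸ Z)
    · letI := commGroupOfCyclicCenterQuotient (QuotientGroup.mk' Z)
        (by rw [QuotientGroup.ker_mk']; exact hZc)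
      refine ⟨⊤, inferInstance, fun x _ y _ w _ => ?_, fun x _ y _ => ?_, ?_⟩
      · rw [commutatorElement_eq_one_iff_mul_comm.2 (mul_comm x y)]; exact Commute.one_left _
      · rw [commutatorElement_eq_one_iff_mul_comm.2 (mul_comm x y), one_pow]
      by_contra hlt
      push Not at hlt
      refine hnc (isCyclic_of_card_prime_roots_le (A := G) fun q hq => ?_)
      haveI := Fact.mk hq
      by_cases hqp : q = p
      · subst hqp
        have h1 : Nat.card {b : (⊤ : Subgroup G) // b ^ q = 1} = Nat.card {x : G // x ^ q = 1} :=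
          Nat.card_congr (Subgroup.topEquiv.toEquiv.subtypeEquiv fun b => by
            simp [Subtype.ext_iff])
        have hle : Nat.card {x : G // x ^ q = 1} ≤ q := by
          let O : Subgroup G := (powMonoidHom q : G →* G).ker
          have hO : Nat.card O = Nat.card {x : G // x ^ q = 1} := Nat.card_congr (Equiv.refl _)
          obtain ⟨j, hj⟩ := IsPGroup.iff_card.1 (hG.to_subgroup O)
          rw [← hO, hj]
          rw [h1, ← hO, hj] at hlt
          have hj1 : j < 2 := (Nat.pow_lt_pow_iff_right hq.one_lt).1 hlt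
          calc q ^ j ≤ q ^ 1 := Nat.pow_le_pow_right hq.pos (by omega)
            _ = q := pow_one q
        exact hle
      · have : ∀ x : G, x ^ q = 1 → x = 1 := by
          intro x hx
          obtain ⟨j, hj⟩ := hG x
          rw [← orderOf_eq_one_iff]
          exact Nat.eq_one_of_dvd_coprimes
            (((Nat.coprime_primes hq hp.out).2 hqp).pow_right j)
            (orderOf_dvd_of_pow_eq_one hx) (orderOf_dvd_of_pow_eq_one hj)
        haveI : Subsingleton (powMonoidHom q : G →* G).ker :=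
          ⟨fun a b => Subtype.ext ((this _ a.2).trans (this _ b.2).symm)⟩
        exact le_trans (Finite.card_le_one_iff_subsingleton.2 inferInstance) hq.pos
    · have hlt : Nat.card (G ⧸ Z) < n := by
        rw [← hn]
        exact card_quotient_lt fun e => by
          rw [e, Subgroup.card_bot] at hZ; exact hp.out.ne_one hZ.symm
      obtain ⟨B0, hB0n, ⟨hB0c, hB0e⟩, hB0⟩ := ih _ hlt (G ⧸ Z) p hp2 rfl (hG.to_quotient Z) hcyc
      haveI := hB0n
      set B := B0.comap (QuotientGroup.mk' Z) with hB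
      have hcm : ∀ x ∈ B, ∀ y ∈ B, ⁅x, y⁆ ∈ Z := by
        intro x hx y hy
        rw [← QuotientGroup.eq_one_iff]
        show QuotientGroup.mk' Z ⁅x, y⁆ = 1
        rw [map_commutatorElement, commutatorElement_eq_one_iff_mul_comm]
        exact congrArg Subtype.val (hB0c.is_comm.comm ⟨_, hx⟩ ⟨_, hy⟩)
      refine ⟨B, inferInstance,
        fun x hx y hy w _ => (Subgroup.mem_center_iff.1 (hZc (hcm x hx y hy)) w).symm, ?_, ?_⟩
      · intro x hx y hy
        have : (⟨⁅x, y⁆, hcm x hx y hy⟩ : Z) ^ p = 1 := by rw [← hZ]; exact pow_card_eq_one'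
        exact congrArg Subtype.val this
      have hBp : ∀ x ∈ B, x ^ p ∈ Z := by
        intro x hx
        rw [← QuotientGroup.eq_one_iff]
        show QuotientGroup.mk' Z (x ^ p) = 1
        rw [map_pow]; exact hB0e _ hx
      let f : B →* Z :=
        { toFun := fun x => ⟨(x : G) ^ p, hBp x x.2⟩
          map_one' := Subtype.ext (one_pow _)
          map_mul' := fun x y => Subtype.ext (by
            show ((x : G) * y) ^ p = (x : G) ^ p * (y : G) ^ p
            refine mul_pow_prime hp2 ?_ ?_ ?_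
            · exact (Subgroup.mem_center_iff.1 (hZc (hcm y y.2 x x.2)) _).symm
            · exact (Subgroup.mem_center_iff.1 (hZc (hcm y y.2 x x.2)) _).symm
            · have : (⟨⁅(y : G), (x : G)⁆, hcm y y.2 x x.2⟩ : Z) ^ p = 1 := by
                rw [← hZ]; exact pow_card_eq_one'
              exact congrArg Subtype.val this) }
      have hker : Nat.card f.ker = Nat.card {b : B // b ^ p = 1} :=
        Nat.card_congr (Equiv.subtypeEquivRight fun b => by
          simp only [MonoidHom.mem_ker, f, MonoidHom.coe_mk, OneHom.coe_mk, Subtype.ext_iff,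
            SubgroupClass.coe_pow, OneMemClass.coe_one])
      have hZB : Z ≤ B := fun z hz => by
        rw [hB, Subgroup.mem_comap, show QuotientGroup.mk' Z z = 1 from (QuotientGroup.eq_one_iff z).2 hz]
        exact one_mem _
      have hBcard : Nat.card B = p * p ^ 2 := by
        have h1 := card_map_mk' Z B
        rw [hB, Subgroup.map_comap_eq_self_of_surjective (QuotientGroup.mk'_surjective Z), hB0, ← hB] at h1
        rw [inf_eq_right.2 hZB, hZ] at h1
        rw [← h1, mul_comm]
      have h2 := Subgroup.card_mul_index f.ker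
      rw [Subgroup.index_ker, hBcard, hker] at h2
      have h3 : Nat.card f.range ≤ p := hZ ▸ Subgroup.card_le_card_group _
      have hpos := hp.out.pos
      by_contra hlt'
      push Not at hlt'
      nlinarith

end CfsgLib.Solv
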