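import Cfsg.Agent.Solv.ThompsonPre
import Cfsg.Agent.Solv.PGroups

/-!
The Thompson normal `p`-complement theorem.
-/

set_option autoImplicit false
set_option linter.style.haveILetI false
set_option linter.deprecated false
set_option linter.unusedSectionVars false

open scoped commutatorElement Pointwise

namespace CfsgLib.Solv

universe u

variable {G : Type u} [Group G] {p : ℕ}

/-- A statement holding for all groups of order less than that of `G`. -/
def ThompsonIH (p : ℕ) (G : Type u) [Group G] : Prop :=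
  ∀ (G' : Type u) [Group G'] [Finite G'] (P' : Sylow p G'), Nat.card G' < Nat.card G →
    ThompsonHyp p (P' : Subgroup G') → Cfsg.HasNormalPComplement p G'

theorem eq_one_of_isPGroup_coprime [hp : Fact p.Prime] {H : Subgroup G} (hH : IsPGroup p H) {g : G}
    (hg : g ∈ H) (hc : Nat.Coprime (orderOf g) p) : g = 1 := by
  obtain ⟨k, hk⟩ := hH ⟨g, hg⟩
  refine orderOf_eq_one_iff.1 (Nat.eq_one_of_dvd_coprimes (hc.pow_right k) dvd_rfl ?_)
  exact orderOf_dvd_of_pow_eq_one (congrArg Subtype.val hk)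

theorem isPGroup_of_forall_coprime [Finite G] [hp : Fact p.Prime] {H : Subgroup G}
    (h : ∀ g ∈ H, Nat.Coprime (orderOf g) p → g = 1) : IsPGroup p H := by
  refine IsPGroup.of_card (n := (Nat.card H).primeFactorsList.length) ?_
  refine Nat.eq_prime_pow_of_unique_prime_dvd Nat.card_pos.ne' fun {r} hr hrd => ?_
  haveI : Fact r.Prime := ⟨hr⟩
  obtain ⟨x, hx⟩ := exists_prime_orderOf_dvd_card' r hrd
  by_contra hne
  have hx1 := h x x.2 (by rw [Subgroup.orderOf_coe, hx]; exact (Nat.coprime_primes hr hp.out).2 hne)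
  rw [show x = 1 from Subtype.ext hx1, orderOf_one] at hx
  exact hr.ne_one hx.symm

theorem mem_centralizer_of_hnpc_subgroup [Finite G] [Fact p.Prime] {H Q : Subgroup G}
    (h : Cfsg.HasNormalPComplement p H) (hQH : Q ≤ H) (hQ : IsPGroup p Q) {g : G} (hgH : g ∈ H)
    (hg : g ∈ Subgroup.normalizer (Q : Set G)) (hc : Nat.Coprime (orderOf g) p) :
    g ∈ Subgroup.centralizer (Q : Set G) := by
  have hQ' : IsPGroup p (Q.subgroupOf H) := hQ.of_equiv (Subgroup.subgroupOfEquivOfLe hQH).symm
  have hm := mem_centralizer_of_hnpc h hQ' (g := ⟨g, hgH⟩)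
    (Subgroup.mem_normalizer_iff.2 fun x => Subgroup.mem_normalizer_iff.1 hg (x : G))
    (by rwa [Subgroup.orderOf_mk])
  exact Subgroup.mem_centralizer_iff.2 fun q hq =>
    congrArg Subtype.val (Subgroup.mem_centralizer_iff.1 hm ⟨q, hQH hq⟩ hq)

theorem pResidual_char (p : ℕ) (G : Type*) [Group G] : (Cfsg.pResidual p G).Characteristic := by
  refine Subgroup.characteristic_iff_map_le.2 fun e => ?_
  rw [Cfsg.pResidual, MonoidHom.map_closure, Subgroup.closure_le]
  rintro _ ⟨g, hg, rfl⟩
  exact Subgroup.subset_closure (by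
    show Nat.Coprime (orderOf (e g)) p
    rw [MulEquiv.orderOf_eq]; exact hg)

theorem ThompsonIH.subgroup [Finite G] [Fact p.Prime] (ih : ThompsonIH p G) {H : Subgroup G}
    (hH : H ≠ ⊤) (S : Sylow p H) (h : ThompsonHyp p ((S : Subgroup H).map H.subtype)) :
    Cfsg.HasNormalPComplement p H :=
  ih H S (card_lt_of_ne_top hH) (h.comap H.subtype_injective)

theorem ThompsonIH.over [Finite G] [Fact p.Prime] (ih : ThompsonIH p G) (P : Sylow p G)
    (h : ThompsonHyp p (P : Subgroup G)) {H : Subgroup G} (hH : H ≠ ⊤)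
    (hPH : (P : Subgroup G) ≤ H) : Cfsg.HasNormalPComplement p H :=
  ih.subgroup hH (P.subtype hPH) (by rwa [Sylow.coe_subtype, Subgroup.map_subgroupOf_eq_of_le hPH])

/-- A counterexample has a nontrivial normal `p`-subgroup. -/
theorem pCore_ne_bot_of_thompsonIH [Finite G] [hp : Fact p.Prime] (ih : ThompsonIH p G)
    (P : Sylow p G) (h : ThompsonHyp p (P : Subgroup G))
    (hn : ¬ Cfsg.HasNormalPComplement p G) : Cfsg.pCore p G ≠ ⊥ := by
  let bad : Set (Subgroup G) := {Q | IsPGroup p Q ∧ Q ≠ ⊥ ∧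
    ¬ Cfsg.HasNormalPComplement p (Subgroup.normalizer (Q : Set G))}
  have hne : bad.Nonempty := by
    rw [hnpc_iff_frobCond, FrobCond] at hn
    push Not at hn
    obtain ⟨Q, hQ, g, hg, hc, hgC⟩ := hn
    refine ⟨Q, hQ, ?_, fun hN => hgC
      (mem_centralizer_of_hnpc_subgroup hN Subgroup.le_normalizer hQ hg hg hc)⟩
    rintro rfl
    exact hgC (Subgroup.mem_centralizer_iff.2 fun q hq => by
      rw [Subgroup.mem_bot.1 hq, one_mul, mul_one])
  obtain ⟨U, ⟨hU, hUne, hUbad⟩, hmax⟩ := Set.exists_max_image bad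
    (fun Q => vP p (Subgroup.normalizer (Q : Set G))) (Set.toFinite _) hne
  by_cases htop : Subgroup.normalizer (U : Set G) = ⊤
  · haveI := Subgroup.normalizer_eq_top_iff.1 htop
    exact fun hb => hUne (le_bot_iff.1 (hb ▸ le_pCore hU))
  exfalso
  set H := Subgroup.normalizer (U : Set G) with hHdef
  obtain ⟨S⟩ : Nonempty (Sylow p H) := inferInstance
  set S' := (S : Subgroup H).map H.subtype with hS'
  have hS'p : IsPGroup p S' := S.isPGroup'.map H.subtype
  have hcard : Nat.card S' = p ^ vP p H := by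
    rw [hS', card_map_subtype]; exact S.card_eq_multiplicity
  have hS'ne : S' ≠ ⊥ := by
    intro hb
    rw [hb, Subgroup.card_bot] at hcard
    obtain ⟨j, hj⟩ := hU.exists_card_eq
    have hd := Subgroup.card_dvd_of_le (Subgroup.le_normalizer (H := U))
    rw [hj, hp.out.pow_dvd_iff_le_factorization Nat.card_pos.ne'] at hd
    have hj0 : j ≠ 0 := by
      rintro rfl
      exact hUne (Subgroup.card_eq_one.1 (by rw [hj, pow_zero]))
    have := Nat.pow_right_injective hp.out.two_le
      (show p ^ 0 = p ^ vP p H by rw [pow_zero, ← hcard])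
    simp only [vP, hHdef] at this
    omega
  by_cases hsyl : ∃ P0 : Sylow p G, (P0 : Subgroup G) = S'
  · obtain ⟨P0, hP0⟩ := hsyl
    obtain ⟨g, hg⟩ := MulAction.exists_smul_eq G P P0
    refine hUbad (ih.subgroup htop S ?_)
    rw [← hS', ← hP0, ← hg, Sylow.coe_subgroup_smul]
    exact h.conj g
  · push Not at hsyl
    have hlt := vP_lt_normalizer hS'p hcard hsyl
    have key : ∀ X : Subgroup G, X ≤ S' → X ≠ ⊥ →
        Subgroup.normalizer (S' : Set G) ≤ Subgroup.normalizer (X : Set G) →
        Cfsg.HasNormalPComplement p (Subgroup.normalizer (X : Set G)) := by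
      intro X hX hXne hle
      by_contra hbad
      have h1 : vP p (Subgroup.normalizer (X : Set G)) ≤ vP p H :=
        hmax X ⟨hS'p.to_le hX, hXne, hbad⟩
      have h2 : vP p (Subgroup.normalizer (S' : Set G)) ≤ vP p (Subgroup.normalizer (X : Set G)) :=
        vP_mono hle
      omega
    exact hUbad (ih.subgroup htop S (ThompsonHyp.of_normalizers
      (key _ (thompsonSubgroupOf_le S') (thompsonSubgroupOf_ne_bot hS'p hS'ne)
        (normalizer_le_normalizer_thompsonSubgroupOf S'))
      (key _ (zOf_le S') (zOf_ne_bot hS'p hS'ne) (normalizer_le_normalizer_zOf S'))))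

/-- Modulo its `p`-core, a minimal counterexample has a normal `p`-complement. -/
theorem hnpc_quotient_pCore_of_thompsonIH [Finite G] [hp : Fact p.Prime] (ih : ThompsonIH p G)
    (P : Sylow p G) (h : ThompsonHyp p (P : Subgroup G)) (hU : Cfsg.pCore p G ≠ ⊥)
    [(Cfsg.pCore p G).Normal] : Cfsg.HasNormalPComplement p (G ⧸ Cfsg.pCore p G) := by
  set U := Cfsg.pCore p G
  set f := QuotientGroup.mk' U with hf
  have hfs : Function.Surjective f := QuotientGroup.mk'_surjective U
  set P' := P.mapSurjective hfs with hP'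
  by_cases hb : (P' : Subgroup (G ⧸ U)) = ⊥
  · rw [hnpc_iff_inf P', hb, bot_inf_eq]
  refine ih _ P' (card_quotient_lt hU) ?_
  have key : ∀ X : Subgroup (G ⧸ U), X ≤ P' → X ≠ ⊥ →
      Subgroup.normalizer ((P' : Subgroup (G ⧸ U)) : Set (G ⧸ U)) ≤
        Subgroup.normalizer (X : Set (G ⧸ U)) →
      Cfsg.HasNormalPComplement p (Subgroup.normalizer (X : Set (G ⧸ U))) := by
    intro X hX hXne hle
    have hW : IsPGroup p (X.comap f) := (P'.isPGroup'.to_le hX).comap_of_ker_isPGroup f
      (by rw [hf, QuotientGroup.ker_mk']; exact (pCore_isPGroup G p))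
    have hNW : Subgroup.normalizer (X.comap f : Set G) = (Subgroup.normalizer (X : Set _)).comap f :=
      (Subgroup.comap_normalizer_eq_of_surjective X hfs).symm
    have hPle : (P : Subgroup G) ≤ Subgroup.normalizer (X.comap f : Set G) := by
      rw [hNW, ← Subgroup.map_le_iff_le_comap]
      exact le_trans (le_of_eq (Sylow.coe_mapSurjective hfs P).symm)
        (Subgroup.le_normalizer.trans hle)
    have hne : Subgroup.normalizer (X.comap f : Set G) ≠ ⊤ := by
      intro htop
      haveI := Subgroup.normalizer_eq_top_iff.1 htop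
      refine hXne (le_bot_iff.1 ?_)
      rw [← Subgroup.map_comap_eq_self_of_surjective hfs X, Subgroup.map_le_iff_le_comap,
        hf, MonoidHom.comap_bot, QuotientGroup.ker_mk']
      exact le_pCore hW
    have h' := hnpc_map f (ih.over P h hne hPle)
    rwa [hNW, Subgroup.map_comap_eq_self_of_surjective hfs] at h'
  exact ThompsonHyp.of_normalizers
    (key _ (thompsonSubgroupOf_le _) (thompsonSubgroupOf_ne_bot P'.isPGroup' hb)
      (normalizer_le_normalizer_thompsonSubgroupOf _))
    (key _ (zOf_le _) (zOf_ne_bot P'.isPGroup' hb) (normalizer_le_normalizer_zOf _))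

/-- In a minimal counterexample `C(O_p) ≤ O_p`. -/
theorem centralizer_pCore_le_of_thompson [Finite G] [hp : Fact p.Prime] [(Cfsg.pCore p G).Normal]
    (hQ : Cfsg.HasNormalPComplement p (G ⧸ Cfsg.pCore p G)) (hO : Cfsg.pPrimeCore p G = ⊥) :
    Subgroup.centralizer (Cfsg.pCore p G : Set G) ≤ Cfsg.pCore p G := by
  set U := Cfsg.pCore p G
  haveI := pResidual_char p (G ⧸ U)
  set C := (Cfsg.pResidual p (G ⧸ U)).comap (QuotientGroup.mk' U) ⊓
    Subgroup.centralizer (U : Set G) with hC
  haveI : C.Normal := by rw [hC]; infer_instance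
  have hCnpc : Cfsg.HasNormalPComplement p C := by
    obtain ⟨S⟩ : Nonempty (Sylow p C) := inferInstance
    refine hnpc_of_fusion S fun x hx g _ => ⟨1, one_mem _, ?_⟩
    have hxU : (x : G) ∈ U := by
      rw [← QuotientGroup.eq_one_iff]
      refine eq_one_of_isPGroup_coprime
        ((S.isPGroup'.map C.subtype).map (QuotientGroup.mk' U)) ⟨x, ⟨x, hx, rfl⟩, rfl⟩ ?_
      exact (hnpc_mem_iff hQ).1 x.2.1
    have hcomm : g * x = x * g :=
      Subtype.ext (Subgroup.mem_centralizer_iff.1 g.2.2 _ hxU).symm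
    rw [one_mul, inv_one, mul_one, hcomm, mul_inv_cancel_right]
  haveI := pResidual_char p C
  haveI := normal_map_subtype_of_characteristic (Cfsg.pResidual p C)
  have hbot : (Cfsg.pResidual p C).map C.subtype = ⊥ := by
    refine le_bot_iff.1 (hO ▸ le_pPrimeCore (Nat.Coprime.symm ?_))
    rw [card_map_subtype]
    exact hp.out.coprime_iff_not_dvd.2 (hnpc_iff.1 hCnpc)
  refine le_pCore (isPGroup_of_forall_coprime fun g hg hc => ?_)
  have hgC : g ∈ C := by
    refine ⟨Subgroup.subset_closure ?_, hg⟩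
    exact Nat.Coprime.coprime_dvd_left (orderOf_map_dvd _ g) hc
  have hm : g ∈ (Cfsg.pResidual p C).map C.subtype :=
    ⟨⟨g, hgC⟩, Subgroup.subset_closure (by
      show Nat.Coprime (orderOf (⟨g, hgC⟩ : C)) p
      rwa [Subgroup.orderOf_mk]), rfl⟩
  rw [hbot] at hm
  exact Subgroup.mem_bot.1 hm

/-- The elementary abelian subgroup `Ω₁(Z(U))`. -/
def omegaZ (p : ℕ) (U : Subgroup G) : Subgroup G where
  carrier := {x | x ∈ zOf U ∧ x ^ p = 1}
  one_mem' := ⟨one_mem _, one_pow p⟩
  mul_mem' := fun {a b} ha hb => ⟨mul_mem ha.1 hb.1, by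
    have hab : Commute a b := Subgroup.mem_centralizer_iff.1 hb.1.2 a ha.1.1
    rw [hab.mul_pow, ha.2, hb.2, one_mul]⟩
  inv_mem' := fun {a} ha => ⟨inv_mem ha.1, by rw [inv_pow, ha.2, inv_one]⟩

theorem mem_omegaZ {U : Subgroup G} {x : G} : x ∈ omegaZ p U ↔ x ∈ zOf U ∧ x ^ p = 1 := Iff.rfl

theorem omegaZ_isElementaryAbelian (U : Subgroup G) :
    Cfsg.IsElementaryAbelian p (omegaZ p U) :=
  ⟨⟨⟨fun a b => Subtype.ext (Subgroup.mem_centralizer_iff.1 b.2.1.2 a a.2.1.1)⟩⟩, fun _ ha => ha.2⟩

theorem omegaZ_normal (U : Subgroup G) [U.Normal] : (omegaZ p U).Normal := by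
  haveI : (zOf U).Normal := inferInstance
  exact ⟨fun x hx g => ⟨Subgroup.Normal.conj_mem ‹_› x hx.1 g,
    by rw [conj_pow, hx.2, mul_one, mul_inv_cancel]⟩⟩

theorem eq_bot_of_isPGroup_inf [Finite G] [Fact p.Prime] {A B : Subgroup G} (hA : IsPGroup p A)
    (hB : ¬ p ∣ Nat.card B) : A ⊓ B = ⊥ :=
  sylow_inf_eq_bot_of_not_dvd hA hB

/-- No counterexample with trivial `O_{p'}`. -/
theorem thompson_core [Finite G] [hp : Fact p.Prime] (hp2 : p ≠ 2) (ih : ThompsonIH p G)
    (P : Sylow p G) (h : ThompsonHyp p (P : Subgroup G)) (hO : Cfsg.pPrimeCore p G = ⊥) :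
    Cfsg.HasNormalPComplement p G := by
  by_contra hn
  haveI := pCore_normal (p := p) (G := G)
  set U := Cfsg.pCore p G with hUdef
  have hUne : U ≠ ⊥ := pCore_ne_bot_of_thompsonIH ih P h hn
  have hQ := hnpc_quotient_pCore_of_thompsonIH ih P h hUne
  have hCU : Subgroup.centralizer (U : Set G) ≤ U := centralizer_pCore_le_of_thompson hQ hO
  have hUp : IsPGroup p U := (pCore_isPGroup G p)
  have hUP : U ≤ P := pCore_le_sylow P
  have hmax : ∀ H : Subgroup G, (P : Subgroup G) ≤ H → H ≠ ⊤ → H = P := by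
    intro H hPH hH
    have hN := ih.over P h hH hPH
    refine P.is_maximal' (isPGroup_of_forall_coprime fun g hg hc => ?_) hPH
    exact eq_one_of_isPGroup_coprime hUp (hCU (mem_centralizer_of_hnpc_subgroup hN
      (hUP.trans hPH) hUp hg (Subgroup.normalizer_eq_top U ▸ Subgroup.mem_top g) hc)) hc
  set f := QuotientGroup.mk' U with hf
  have hfs : Function.Surjective f := QuotientGroup.mk'_surjective U
  set P' : Sylow p (G ⧸ U) := P.mapSurjective hfs with hP'
  have hP'map : (P' : Subgroup (G ⧸ U)) = (P : Subgroup G).map f := Sylow.coe_mapSurjective hfs P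
  set R := Cfsg.pResidual p (G ⧸ U) with hRdef
  haveI hRchar := pResidual_char p (G ⧸ U)
  haveI : R.Normal := Subgroup.normal_of_characteristic R
  have hR : ¬ p ∣ Nat.card R := hnpc_iff.1 hQ
  have hsup : (P' : Subgroup (G ⧸ U)) ⊔ R = ⊤ := sylow_sup_pResidual P'
  have hcopR : ∀ M : Subgroup (G ⧸ U), M ≤ R →
      (Nat.card (P' : Subgroup (G ⧸ U))).Coprime (Nat.card M) := fun M hM => by
    obtain ⟨k, hk⟩ := P'.isPGroup'.exists_card_eq
    rw [hk]
    exact ((hp.out.coprime_iff_not_dvd.2 hR).pow_left k).coprime_dvd_right (Subgroup.card_dvd_of_le hM)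
  have hinv : ∀ M : Subgroup (G ⧸ U), M ≤ R →
      (P' : Subgroup (G ⧸ U)) ≤ Subgroup.normalizer (M : Set (G ⧸ U)) → M = ⊥ ∨ M = R := by
    intro M hM hn'
    have hle : (P : Subgroup G) ≤ ((P' : Subgroup (G ⧸ U)) ⊔ M).comap f := by
      rw [← Subgroup.map_le_iff_le_comap, ← hP'map]; exact le_sup_left
    by_cases htop : ((P' : Subgroup (G ⧸ U)) ⊔ M).comap f = ⊤
    · right
      have htop' : (P' : Subgroup (G ⧸ U)) ⊔ M = ⊤ := by
        rw [← Subgroup.map_comap_eq_self_of_surjective hfs (_ ⊔ M), htop,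
          Subgroup.map_top_of_surjective f hfs]
      have h1 := card_sup_of_le_normalizer hn' (hcopR M hM)
      have h2 := card_sup_of_le_normalizer (X := (P' : Subgroup (G ⧸ U))) (M := R)
        (Subgroup.normalizer_eq_top R ▸ le_top) (hcopR R le_rfl)
      rw [htop'] at h1
      rw [hsup, h1] at h2
      exact Subgroup.eq_of_le_of_card_ge hM (Nat.eq_of_mul_eq_mul_left Nat.card_pos h2).ge
    · left
      have he : (P' : Subgroup (G ⧸ U)) ⊔ M = P' := by
        rw [← Subgroup.map_comap_eq_self_of_surjective hfs (_ ⊔ M), hmax _ hle htop, hP'map]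
      rw [← le_bot_iff, ← eq_bot_of_isPGroup_inf P'.isPGroup' hR]
      exact le_inf (he ▸ le_sup_right) hM
  have hab : ∀ x ∈ R, ∀ y ∈ R, x * y = y * x := by
    intro x hx y hy
    by_cases hRb : R = ⊥
    · rw [hRb, Subgroup.mem_bot] at hx hy; rw [hx, hy]
    obtain ⟨r, hr, hrd⟩ := Nat.exists_prime_and_dvd
      (fun e => hRb (Subgroup.card_eq_one.1 e))
    haveI : Fact r.Prime := ⟨hr⟩
    obtain ⟨S, hS⟩ := exists_invariant_sylow (p := r) (A := (P' : Subgroup (G ⧸ U))) (K := R)
      (Subgroup.normalizer_eq_top R ▸ le_top) (hcopR R le_rfl) (Or.inl (by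
        haveI := P'.isPGroup'.isNilpotent
        infer_instance))
    have hSne : (S : Subgroup R).map R.subtype ≠ ⊥ := by
      rw [Ne, ← Subgroup.card_eq_one, card_map_subtype]
      intro e
      have := S.dvd_card_of_dvd_card hrd
      rw [e] at this
      exact hr.ne_one (Nat.dvd_one.1 this)
    have hSR := (hinv _ (Subgroup.map_subtype_le _) hS).resolve_left hSne
    have hRr : IsPGroup r R := hSR ▸ S.isPGroup'.map R.subtype
    have hzR : zOf R = R := (hinv _ (zOf_le R)
      ((Subgroup.normalizer_eq_top R ▸ le_top).trans (normalizer_le_normalizer_zOf R))).resolve_left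
      (zOf_ne_bot hRr hRb)
    have hy' : y ∈ zOf R := hzR.symm ▸ hy
    exact Subgroup.mem_centralizer_iff.1 hy'.2 x hx
  have hcent : ∀ g ∈ (P : Subgroup G), f g ∈ Subgroup.centralizer (R : Set (G ⧸ U)) → g ∈ U := by
    set D := Subgroup.centralizer (R : Set (G ⧸ U)) ⊓ (P' : Subgroup (G ⧸ U)) with hD
    haveI : D.Normal := Subgroup.normalizer_eq_top_iff.1 (top_unique (hsup ▸ sup_le
      (le_normalizer_inf_of_le (Subgroup.normalizer_eq_top (Subgroup.centralizer (R : Set (G ⧸ U))) ▸ le_top) Subgroup.le_normalizer)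
      (fun k hk => Subgroup.mem_normalizer_iff.2 fun d => by
        constructor
        · intro hd
          rwa [Subgroup.mem_centralizer_iff.1 hd.1 k hk, mul_inv_cancel_right]
        · intro hd
          have e := Subgroup.mem_centralizer_iff.1 hd.1 k hk
          have e' : k * d * k⁻¹ = d :=
            mul_left_cancel (a := k) (by rw [e]; group)
          rwa [e'] at hd)))
    intro g hg hgc
    have hW : IsPGroup p (D.comap f) :=
      (P'.isPGroup'.to_le inf_le_right).comap_of_ker_isPGroup f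
        (by rw [hf, QuotientGroup.ker_mk']; exact hUp)
    refine le_pCore hW (Subgroup.mem_comap.2 ⟨hgc, ?_⟩)
    rw [hP'map]; exact ⟨g, hg, rfl⟩
  have hJn : ¬ (Cfsg.thompsonSubgroupOf p (P : Subgroup G)).Normal := fun hJ =>
    hn (hnpc_top (Subgroup.normalizer_eq_top _) h.1)
  have hCZ : Subgroup.centralizer (zOf (P : Subgroup G) : Set G) = P := by
    refine hmax _ (fun g hg => Subgroup.mem_centralizer_iff.2 fun z hz => ?_)
      (fun htop => hn (hnpc_top htop h.2))
    exact (Subgroup.mem_centralizer_iff.1 hz.2 g hg).symm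
  have hZPU : zOf (P : Subgroup G) ≤ zOf U := by
    intro z hz
    have hzc : z ∈ Subgroup.centralizer (U : Set G) :=
      Subgroup.mem_centralizer_iff.2 fun u hu => Subgroup.mem_centralizer_iff.1 hz.2 u (hUP hu)
    exact ⟨hCU hzc, hzc⟩
  set V := omegaZ p U with hV
  haveI : V.Normal := omegaZ_normal U
  have hVU : V ≤ U := fun x hx => hx.1.1
  have hCV : Subgroup.centralizer (V : Set G) ≤ U := by
    refine le_pCore (isPGroup_of_forall_coprime fun g hg hc => ?_)
    haveI : (zOf U).Normal := inferInstance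
    have ha : (MulAut.conjNormal g : MulAut (zOf U)) = 1 := by
      refine aut_eq_one_of_fix_omega hp2 (hUp.to_le inf_le_left)
        (Nat.Coprime.coprime_dvd_left (orderOf_map_dvd _ g) hc) fun x hx => Subtype.ext ?_
      have hxV : (x : G) ∈ V := ⟨x.2, by rw [← SubgroupClass.coe_pow, hx, OneMemClass.coe_one]⟩
      rw [MulAut.conjNormal_apply, ← Subgroup.mem_centralizer_iff.1 hg _ hxV, mul_inv_cancel_right]
    refine eq_one_of_isPGroup_coprime P.isPGroup' (hCZ ▸ Subgroup.mem_centralizer_iff.2 fun z hz => ?_) hc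
    have e := congrArg Subtype.val (DFunLike.congr_fun ha ⟨z, hZPU hz⟩)
    rw [MulAut.conjNormal_apply] at e
    exact (mul_inv_eq_iff_eq_mul.1 e).symm
  let cand : Set (Subgroup G) := {A | MaxEA p (P : Subgroup G) A ∧ ¬ A ≤ U}
  have hcand : cand.Nonempty := by
    by_contra he
    exact hJn (thompsonSubgroupOf_normal_of_le hUP fun A hA => by
      by_contra hAU
      exact he ⟨A, hA, hAU⟩)
  obtain ⟨A, ⟨hA, hAU⟩, hAmax⟩ :=
    Set.exists_max_image cand (fun A => Nat.card (A ⊓ V : Subgroup G)) (Set.toFinite _) hcand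
  by_cases hVA : V ≤ Subgroup.normalizer (A : Set G)
  · refine hAU fun a ha => hcent a (hA.1 ha) ?_
    have hquad : ∀ v ∈ V, Commute a ⁅a, v⁆ := fun v hv => by
      have hm : ⁅a, v⁆ ∈ A := by
        have e : ⁅a, v⁆ = a * (v * a⁻¹ * v⁻¹) := by rw [commutatorElement_def]; group
        rw [e]
        exact mul_mem ha ((Subgroup.mem_normalizer_iff.1 (hVA hv) a⁻¹).1 (inv_mem ha))
      haveI := hA.2.1.1
      exact congrArg Subtype.val (IsMulCommutative.is_comm.comm (⟨a, ha⟩ : A) ⟨_, hm⟩)
    have hle : Cfsg.pResidual p G ≤ (Subgroup.centralizer ({f a} : Set (G ⧸ U))).comap f := by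
      rw [Cfsg.pResidual, Subgroup.closure_le]
      intro q hq
      have hqR : ∀ x : G, f (x * q * x⁻¹) ∈ R := fun x => by
        refine Subgroup.subset_closure (Nat.Coprime.coprime_dvd_left (orderOf_map_dvd f _) ?_)
        exact (MulEquiv.orderOf_eq (MulAut.conj x) q).symm ▸ hq
      have hcom : ∀ x : G, ⁅q, x * q * x⁻¹⁆ ∈ Subgroup.centralizer (V : Set G) := fun x => by
        have h1 : ⁅q, x * q * x⁻¹⁆ ∈ U := by
          rw [← QuotientGroup.eq_one_iff]
          show f ⁅q, x * q * x⁻¹⁆ = 1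
          rw [map_commutatorElement, commutatorElement_eq_one_iff_mul_comm]
          exact hab _ (by simpa using hqR 1) _ (hqR x)
        exact Subgroup.mem_centralizer_iff.2 fun v hv =>
          (Subgroup.mem_centralizer_iff.1 hv.1.2 _ h1).symm
      have hres := hCV (quadratic_centralizes hp2 (omegaZ_isElementaryAbelian U) hquad hq (hcom a)
        (by simpa using hcom a⁻¹))
      rw [← QuotientGroup.eq_one_iff] at hres
      change f ⁅a, q⁆ = 1 at hres
      rw [map_commutatorElement, commutatorElement_eq_one_iff_mul_comm] at hres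
      exact Subgroup.mem_centralizer_iff.2 fun y hy => by rw [Set.mem_singleton_iff.1 hy, hres]
    refine Subgroup.mem_centralizer_iff.2 fun y hy => ?_
    rw [SetLike.mem_coe, hRdef, ← map_pResidual_of_surjective hfs] at hy
    obtain ⟨q, hq, rfl⟩ := hy
    exact (Subgroup.mem_centralizer_iff.1 (hle hq) _ rfl).symm
  · obtain ⟨B, hB, hlt, hBN⟩ := thompson_replacement P.isPGroup' (hVU.trans hUP)
      (omegaZ_isElementaryAbelian U) hA hVA
    have hBU : B ≤ U := by
      by_contra hBU
      have h1 : Nat.card (B ⊓ V : Subgroup G) ≤ Nat.card (A ⊓ V : Subgroup G) := hAmax B ⟨hB, hBU⟩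
      exact hlt.ne (Subgroup.eq_of_le_of_card_ge hlt.le h1)
    have hBV : Cfsg.IsElementaryAbelian p (B ⊔ V) := by
      haveI := hB.2.1.1
      have hgen : B ⊔ V = Subgroup.closure ((B : Set G) ∪ V) := by
        rw [Subgroup.closure_union, Subgroup.closure_eq, Subgroup.closure_eq]
      have hc : ∀ x ∈ ((B : Set G) ∪ V), ∀ y ∈ ((B : Set G) ∪ V), x * y = y * x := by
        rintro x (hx | hx) y (hy | hy)
        · exact congrArg Subtype.val (IsMulCommutative.is_comm.comm (⟨x, hx⟩ : B) ⟨y, hy⟩)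
        · exact Subgroup.mem_centralizer_iff.1 hy.1.2 x (hBU hx)
        · exact (Subgroup.mem_centralizer_iff.1 hx.1.2 y (hBU hy)).symm
        · exact Subgroup.mem_centralizer_iff.1 hy.1.2 x (hVU hx)
      have hcomm : IsMulCommutative (B ⊔ V : Subgroup G) := by
        rw [hgen]; exact Subgroup.isMulCommutative_closure hc
      refine ⟨hcomm, fun x hx => ?_⟩
      obtain ⟨b, hb, v, hv, rfl⟩ := Subgroup.mem_sup_of_normal_right.1 hx
      have hbv : Commute b v := Subgroup.mem_centralizer_iff.1 hv.1.2 b (hBU hb)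
      rw [hbv.mul_pow, hB.2.1.2 b hb, hv.2, one_mul]
    have hle := hB.2.2 _ (sup_le hB.1 (hVU.trans hUP)) hBV
    exact hVA (le_trans (le_sup_right.trans
      (Subgroup.eq_of_le_of_card_ge (le_sup_left (b := V)) hle).ge) hBN)

/-- Thompson's criterion, by induction on the order. -/
theorem thompson_aux [hp : Fact p.Prime] (hp2 : p ≠ 2) :
    ∀ (n : ℕ) (G : Type u) [Group G] [Finite G] (P : Sylow p G), Nat.card G = n →
      ThompsonHyp p (P : Subgroup G) → Cfsg.HasNormalPComplement p G := by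
  intro n
  induction n using Nat.strong_induction_on with
  | _ n IH =>
    intro G _ _ P hn h
    have ih : ThompsonIH p G := fun G' _ _ P' hlt h' => IH _ (hn ▸ hlt) G' P' rfl h'
    by_cases hO : Cfsg.pPrimeCore p G = ⊥
    · exact thompson_core hp2 ih P h hO
    haveI := pPrimeCore_normal (p := p) (G := G)
    have hM : ¬ p ∣ Nat.card (Cfsg.pPrimeCore p G) := not_dvd_card_pPrimeCore
    refine hnpc_of_quotient_pprime hM
      (ih _ (P.mapSurjective (QuotientGroup.mk'_surjective _)) (card_quotient_lt hO) ?_)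
    rw [Sylow.coe_mapSurjective]
    exact h.quotient P.isPGroup' hM

/-- The Thompson normal `p`-complement theorem. -/
theorem thompson [Finite G] [Fact p.Prime] (hp2 : p ≠ 2) (P : Sylow p G)
    (h : ThompsonHyp p (P : Subgroup G)) : Cfsg.HasNormalPComplement p G :=
  thompson_aux hp2 _ G P rfl h

end CfsgLib.Solv
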