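import Cfsg.Prelude.Def_Transfer
import Cfsg.Agent.Solv.Basic
import Cfsg.Agent.Solv.FittingBasic
import Cfsg.Agent.Perm.MinClass
import Mathlib.Data.Nat.Choose.Dvd

/-!
Commutator calculus in class two, `p`-groups with centre of order `p` and central commutators.
-/

set_option autoImplicit false
set_option linter.style.haveILetI false
set_option linter.deprecated false
set_option linter.unusedSectionVars false

open scoped commutatorElement Pointwise

namespace CfsgLib.Solv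

variable {G : Type*} [Group G] {p : ℕ}

theorem commutator_mul_eq (x y : G) : x * y = ⁅x, y⁆ * (y * x) := by
  simp [commutatorElement_def, mul_assoc]

theorem conj_eq_commutator_mul (g x : G) : g * x * g⁻¹ = ⁅g, x⁆ * x := by
  simp [commutatorElement_def, mul_assoc]

theorem pow_commutator_left {x y : G} (hx : Commute ⁅x, y⁆ x) (n : ℕ) :
    ⁅x ^ n, y⁆ = ⁅x, y⁆ ^ n := by
  induction n with
  | zero => simp
  | succ n ih =>
    have e : ⁅x ^ (n + 1), y⁆ = x * ⁅x ^ n, y⁆ * x⁻¹ * ⁅x, y⁆ := by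
      rw [pow_succ']; simp [commutatorElement_def, mul_assoc]
    rw [e, ih, ← (hx.pow_left n).eq, mul_inv_cancel_right, pow_succ]

theorem pow_commutator_right {x y : G} (hy : Commute ⁅x, y⁆ y) (n : ℕ) :
    ⁅x, y ^ n⁆ = ⁅x, y⁆ ^ n := by
  have h : Commute ⁅y, x⁆ y := by rw [← commutatorElement_inv]; exact hy.inv_left
  rw [← commutatorElement_inv, pow_commutator_left h, ← inv_pow, commutatorElement_inv]

theorem pow_mul_of_commutator {x y : G} (hx : Commute ⁅y, x⁆ x) (hy : Commute ⁅y, x⁆ y) (n : ℕ) :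
    (x * y) ^ n = ⁅y, x⁆ ^ n.choose 2 * (x ^ n * y ^ n) := by
  set d := ⁅y, x⁆ with hd
  have hswap : ∀ k : ℕ, y ^ k * x = d ^ k * (x * y ^ k) := by
    intro k
    rw [commutator_mul_eq (y ^ k) x, pow_commutator_left hy]
  induction n with
  | zero => simp
  | succ n ih =>
    have hc : (n + 1).choose 2 = n.choose 2 + n := by
      rw [Nat.choose_succ_succ, Nat.choose_one_right, add_comm]
    calc (x * y) ^ (n + 1) = d ^ n.choose 2 * (x ^ n * y ^ n) * (x * y) := by rw [pow_succ, ih]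
      _ = d ^ n.choose 2 * (x ^ n * (y ^ n * x) * y) := by simp [mul_assoc]
      _ = d ^ n.choose 2 * (x ^ n * d ^ n * (x * y ^ n) * y) := by rw [hswap]; simp [mul_assoc]
      _ = d ^ n.choose 2 * (d ^ n * x ^ n * (x * y ^ n) * y) := by rw [((hx.pow_left n).pow_right n).eq]
      _ = d ^ (n + 1).choose 2 * (x ^ (n + 1) * y ^ (n + 1)) := by
        rw [hc, pow_add, pow_succ, pow_succ]; simp [mul_assoc]

theorem mul_pow_prime {x y : G} [hp : Fact p.Prime] (hp2 : p ≠ 2) (hx : Commute ⁅y, x⁆ x)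
    (hy : Commute ⁅y, x⁆ y) (hd : ⁅y, x⁆ ^ p = 1) : (x * y) ^ p = x ^ p * y ^ p := by
  obtain ⟨k, hk⟩ := hp.out.dvd_choose_self (k := 2) (by norm_num)
    (lt_of_le_of_ne hp.out.two_le (Ne.symm hp2))
  rw [pow_mul_of_commutator hx hy, hk, pow_mul, hd, one_pow, one_mul]

theorem exists_pow_eq_of_mem {c : G} {H : Subgroup G} (hH : Nat.card H = p) [hp : Fact p.Prime]
    (hc : c ∈ H) (hc1 : c ≠ 1) {h : G} (hh : h ∈ H) : ∃ i : ℕ, i < p ∧ c ^ i = h := by
  haveI : Finite H := Nat.finite_of_card_ne_zero (hH ▸ hp.out.ne_zero)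
  have hmem : (⟨h, hh⟩ : H) ∈ Submonoid.powers (⟨c, hc⟩ : H) :=
    mem_powers_of_prime_card hH fun e => hc1 (congrArg Subtype.val e)
  obtain ⟨i, hi⟩ := hmem
  refine ⟨i % p, Nat.mod_lt _ hp.out.pos, ?_⟩
  have h1 : c ^ p = 1 := by
    have := pow_card_eq_one' (x := (⟨c, hc⟩ : H))
    rw [hH] at this
    exact congrArg Subtype.val this
  rw [← pow_eq_pow_mod i h1]
  exact congrArg Subtype.val hi

section Sympl

variable [Finite G] [hp : Fact p.Prime] (hZ : Nat.card (Subgroup.center G) = p)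
  (h2 : commutator G ≤ Subgroup.center G)

omit [Finite G] hp in
include h2 in
theorem sympl_commute (x y g : G) : Commute ⁅x, y⁆ g :=
  (Subgroup.mem_center_iff.1 (h2 (Subgroup.commutator_mem_commutator (Subgroup.mem_top x)
    (Subgroup.mem_top y))) g).symm

omit [Finite G] hp in
include hZ h2 in
theorem sympl_pow_commutator (x y : G) : ⁅x, y⁆ ^ p = 1 := by
  have h : (⟨_, h2 (Subgroup.commutator_mem_commutator (Subgroup.mem_top x)
    (Subgroup.mem_top y))⟩ : Subgroup.center G) ^ p = 1 := by rw [← hZ]; exact pow_card_eq_one'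
  exact congrArg Subtype.val h

omit [Finite G] hp in
include hZ h2 in
theorem sympl_pow_mem (x : G) : x ^ p ∈ Subgroup.center G := by
  rw [Subgroup.mem_center_iff]
  intro g
  have h : ⁅x ^ p, g⁆ = 1 := by
    rw [pow_commutator_left (sympl_commute h2 x g x), sympl_pow_commutator hZ h2]
  exact (commutatorElement_eq_one_iff_mul_comm.1 h).symm

include hZ h2 in
/-- A pair with commutator a given generator of the centre. -/
theorem sympl_exists_pair {x : G} (hx : x ∉ Subgroup.center G) {z : G}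
    (hz : z ∈ Subgroup.center G) : ∃ y, ⁅x, y⁆ = z := by
  obtain ⟨y, hy⟩ : ∃ y : G, ⁅x, y⁆ ≠ 1 := by
    by_contra hne
    push Not at hne
    exact hx (Subgroup.mem_center_iff.2 fun g => (commutatorElement_eq_one_iff_mul_comm.1 (hne g)).symm)
  obtain ⟨i, -, hi⟩ := exists_pow_eq_of_mem hZ
    (h2 (Subgroup.commutator_mem_commutator (Subgroup.mem_top x) (Subgroup.mem_top y))) hy hz
  exact ⟨y ^ i, by rw [pow_commutator_right (sympl_commute h2 x y y), hi]⟩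

variable {x y : G} (hc : ⁅x, y⁆ ≠ 1)

include hZ h2 hc in
/-- Every element is `x ^ i y ^ j d` with `d` centralising `x` and `y`. -/
theorem sympl_decomp (g : G) : ∃ i < p, ∃ j < p, ∃ d ∈ Subgroup.centralizer ({x, y} : Set G),
    g = x ^ i * y ^ j * d := by
  have hcZ := h2 (Subgroup.commutator_mem_commutator (Subgroup.mem_top x) (Subgroup.mem_top y))
  obtain ⟨i, hi, hie⟩ := exists_pow_eq_of_mem hZ hcZ hc
    (h2 (Subgroup.commutator_mem_commutator (Subgroup.mem_top g) (Subgroup.mem_top y)))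
  obtain ⟨j, hj, hje⟩ := exists_pow_eq_of_mem hZ hcZ hc
    (h2 (Subgroup.commutator_mem_commutator (Subgroup.mem_top x) (Subgroup.mem_top g)))
  refine ⟨i, hi, j, hj, (x ^ i * y ^ j)⁻¹ * g, ?_, by group⟩
  have hcx := sympl_commute h2 x y
  have e1 : ∀ g', g * g' * g⁻¹ = ⁅g, g'⁆ * g' := fun g' => conj_eq_commutator_mul g g'
  have key : ∀ (a k : G), k ∈ Subgroup.center G → (x ^ i * y ^ j) * a * (x ^ i * y ^ j)⁻¹ = k * a →
      g * a * g⁻¹ = k * a → Commute ((x ^ i * y ^ j)⁻¹ * g) a := by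
    intro a k _ h1 h3
    show (x ^ i * y ^ j)⁻¹ * g * a = a * ((x ^ i * y ^ j)⁻¹ * g)
    have h4 : g * a * g⁻¹ = (x ^ i * y ^ j) * a * (x ^ i * y ^ j)⁻¹ := h3.trans h1.symm
    calc (x ^ i * y ^ j)⁻¹ * g * a = (x ^ i * y ^ j)⁻¹ * (g * a * g⁻¹) * g := by group
      _ = (x ^ i * y ^ j)⁻¹ * ((x ^ i * y ^ j) * a * (x ^ i * y ^ j)⁻¹) * g := by rw [h4]
      _ = _ := by group
  refine Subgroup.mem_centralizer_iff.2 fun a ha => (Commute.eq ?_).symm
  rcases ha with rfl | rfl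
  · refine key a (⁅g, a⁆) (h2 (Subgroup.commutator_mem_commutator (Subgroup.mem_top _)
      (Subgroup.mem_top _))) ?_ (e1 a)
    have hyx : y ^ j * a * (y ^ j)⁻¹ = ⁅g, a⁆ * a := by
      rw [conj_eq_commutator_mul, ← commutatorElement_inv a (y ^ j),
        pow_commutator_right (hcx y), hje, commutatorElement_inv]
    have hcom : Commute ⁅g, a⁆ (a ^ i) := sympl_commute h2 _ _ _
    calc a ^ i * y ^ j * a * (a ^ i * y ^ j)⁻¹ = a ^ i * (y ^ j * a * (y ^ j)⁻¹) * (a ^ i)⁻¹ := by group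
      _ = a ^ i * ⁅g, a⁆ * (a * (a ^ i)⁻¹) := by rw [hyx]; group
      _ = ⁅g, a⁆ * a := by rw [← hcom.eq]; group
  · refine key a (⁅g, a⁆) (h2 (Subgroup.commutator_mem_commutator (Subgroup.mem_top _)
      (Subgroup.mem_top _))) ?_ (e1 a)
    calc x ^ i * a ^ j * a * (x ^ i * a ^ j)⁻¹ = x ^ i * a * (x ^ i)⁻¹ := by group
      _ = ⁅g, a⁆ * a := by rw [conj_eq_commutator_mul, pow_commutator_left (hcx x), hie]

include hZ h2 hc in
theorem sympl_decomp_unique {i j i' j' : ℕ} (hi : i < p) (hj : j < p) (hi' : i' < p) (hj' : j' < p)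
    {d d' : G} (hd : d ∈ Subgroup.centralizer ({x, y} : Set G))
    (hd' : d' ∈ Subgroup.centralizer ({x, y} : Set G))
    (he : x ^ i * y ^ j * d = x ^ i' * y ^ j' * d') : i = i' ∧ j = j' ∧ d = d' := by
  have hcx := sympl_commute h2 x y
  have hord : orderOf ⁅x, y⁆ = p := orderOf_eq_prime (sympl_pow_commutator hZ h2 x y) hc
  have hdy : ∀ {d : G}, d ∈ Subgroup.centralizer ({x, y} : Set G) → ∀ a b : ℕ,
      ⁅x ^ a * y ^ b * d, y⁆ = ⁅x, y⁆ ^ a ∧ ⁅x, x ^ a * y ^ b * d⁆ = ⁅x, y⁆ ^ b := by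
    intro d hd a b
    have h1 := Subgroup.mem_centralizer_iff.1 hd y (Or.inr rfl)
    have h3 := Subgroup.mem_centralizer_iff.1 hd x (Or.inl rfl)
    constructor
    · rw [← pow_commutator_left (hcx x)]
      simp only [commutatorElement_def, mul_inv_rev]
      calc x ^ a * y ^ b * d * y * (d⁻¹ * ((y ^ b)⁻¹ * (x ^ a)⁻¹)) * y⁻¹
          = x ^ a * y ^ b * (d * y) * d⁻¹ * (y ^ b)⁻¹ * (x ^ a)⁻¹ * y⁻¹ := by group
        _ = x ^ a * y ^ b * (y * d) * d⁻¹ * (y ^ b)⁻¹ * (x ^ a)⁻¹ * y⁻¹ := by rw [h1]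
        _ = _ := by group
    · rw [← pow_commutator_right (hcx y)]
      have hcx2 : Commute ⁅x, y ^ b⁆ (x ^ a) := sympl_commute h2 _ _ _
      simp only [commutatorElement_def, mul_inv_rev]
      calc x * (x ^ a * y ^ b * d) * x⁻¹ * (d⁻¹ * ((y ^ b)⁻¹ * (x ^ a)⁻¹))
          = x ^ a * (x * y ^ b) * (d * x⁻¹) * d⁻¹ * (y ^ b)⁻¹ * (x ^ a)⁻¹ := by group
        _ = x ^ a * (x * y ^ b) * (x⁻¹ * d) * d⁻¹ * (y ^ b)⁻¹ * (x ^ a)⁻¹ := by
          rw [(Commute.inv_left (show Commute x d from h3)).eq]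
        _ = x ^ a * ⁅x, y ^ b⁆ * (x ^ a)⁻¹ := by simp [commutatorElement_def, mul_assoc]
        _ = ⁅x, y ^ b⁆ := by rw [← hcx2.eq, mul_inv_cancel_right]
        _ = _ := by simp [commutatorElement_def]
  have hii : i = i' := by
    have := (hdy hd i j).1
    rw [he, (hdy hd' i' j').1] at this
    exact (pow_injOn_Iio_orderOf (x := ⁅x, y⁆) (hord ▸ hi') (hord ▸ hi) this).symm
  have hjj : j = j' := by
    have := (hdy hd i j).2
    rw [he, (hdy hd' i' j').2] at this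
    exact (pow_injOn_Iio_orderOf (x := ⁅x, y⁆) (hord ▸ hj') (hord ▸ hj) this).symm
  subst hii; subst hjj
  exact ⟨rfl, rfl, mul_left_cancel he⟩

include hZ h2 hc in
theorem sympl_card_eq : Nat.card G = p ^ 2 * Nat.card (Subgroup.centralizer ({x, y} : Set G)) := by
  let f : Fin p × Fin p × (Subgroup.centralizer ({x, y} : Set G)) → G :=
    fun t => x ^ (t.1 : ℕ) * y ^ (t.2.1 : ℕ) * (t.2.2 : G)
  have hf : Function.Bijective f := by
    constructor
    · rintro ⟨i, j, d⟩ ⟨i', j', d'⟩ he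
      obtain ⟨h1, h3, h4⟩ := sympl_decomp_unique hZ h2 hc i.2 j.2 i'.2 j'.2 d.2 d'.2 he
      simp only [Prod.mk.injEq]
      exact ⟨Fin.ext h1, Fin.ext h3, Subtype.ext h4⟩
    · intro g
      obtain ⟨i, hi, j, hj, d, hd, rfl⟩ := sympl_decomp hZ h2 hc g
      exact ⟨(⟨i, hi⟩, ⟨j, hj⟩, ⟨d, hd⟩), rfl⟩
  rw [← Nat.card_congr (Equiv.ofBijective f hf), Nat.card_prod, Nat.card_prod, Nat.card_fin, sq,
    mul_assoc]

omit hp in
include h2 in
theorem center_le_centralizer_pair : Subgroup.center G ≤ Subgroup.centralizer ({x, y} : Set G) :=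
  Subgroup.center_le_centralizer _

include hZ h2 hc in
/-- The centralizer of a non-commuting pair has the same centre and central commutators. -/
theorem sympl_centralizer :
    Nat.card (Subgroup.center (Subgroup.centralizer ({x, y} : Set G))) = p ∧
    commutator (Subgroup.centralizer ({x, y} : Set G)) ≤
      Subgroup.center (Subgroup.centralizer ({x, y} : Set G)) := by
  set D := Subgroup.centralizer ({x, y} : Set G) with hD
  have hZD : (Subgroup.center D).map D.subtype = Subgroup.center G := by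
    apply le_antisymm
    · rintro _ ⟨d, hd, rfl⟩
      rw [Subgroup.mem_center_iff]
      intro g
      obtain ⟨i, -, j, -, e, he, rfl⟩ := sympl_decomp hZ h2 hc g
      have hx' : Commute (d : G) x := (Subgroup.mem_centralizer_iff.1 d.2 x (Or.inl rfl)).symm
      have hy' : Commute (d : G) y := (Subgroup.mem_centralizer_iff.1 d.2 y (Or.inr rfl)).symm
      have he' : Commute (d : G) e :=
        (congrArg Subtype.val (Subgroup.mem_center_iff.1 hd ⟨e, he⟩)).symm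
      exact (((hx'.pow_right i).mul_right (hy'.pow_right j)).mul_right he').eq.symm
    · intro z hz
      refine ⟨⟨z, Subgroup.center_le_centralizer _ hz⟩, ?_, rfl⟩
      rw [SetLike.mem_coe, Subgroup.mem_center_iff]
      exact fun g => Subtype.ext (Subgroup.mem_center_iff.1 hz g)
  refine ⟨by rw [← card_map_subtype, hZD, hZ], ?_⟩
  rw [← Subgroup.map_le_map_iff_of_injective (Subgroup.subtype_injective D), hZD,
    Subgroup.map_subtype_commutator]
  exact (Subgroup.commutator_mono le_top le_top).trans h2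

omit hp in
include h2 in
theorem card_lt_of_pair (hp1 : 1 < p)
    (h : Nat.card G = p ^ 2 * Nat.card (Subgroup.centralizer ({x, y} : Set G))) :
    Nat.card (Subgroup.centralizer ({x, y} : Set G)) < Nat.card G := by
  rw [h]
  refine lt_mul_left Nat.card_pos ?_
  calc 1 < p := hp1
    _ ≤ p ^ 2 := Nat.le_self_pow (by norm_num) p

end Sympl

/-- The order of a `p`-group with centre of order `p` and central commutators. -/
theorem sympl_card : ∀ (n : ℕ) (G : Type*) [Group G] [Finite G] (p : ℕ) [Fact p.Prime],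
    Nat.card G = n → Nat.card (Subgroup.center G) = p → commutator G ≤ Subgroup.center G →
    ∃ m, n = p ^ (2 * m + 1) := by
  intro n
  induction n using Nat.strong_induction_on with
  | _ n ih =>
    intro G _ _ p _ hn hZ h2
    by_cases htop : Subgroup.center G = ⊤
    · exact ⟨0, by rw [← hn, ← Subgroup.card_top (G := G), ← htop, hZ, pow_one]⟩
    obtain ⟨x, -, hx⟩ := SetLike.exists_of_lt (lt_top_iff_ne_top.2 htop)
    obtain ⟨z, hz, hz1⟩ : ∃ z ∈ Subgroup.center G, z ≠ 1 := by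
      suffices hne : Subgroup.center G ≠ ⊥ by
        obtain ⟨z, h⟩ := Subgroup.ne_bot_iff_exists_ne_one.1 hne
        exact ⟨(z : G), z.2, fun e => h (Subtype.ext e)⟩
      intro hb
      rw [hb, Subgroup.card_bot] at hZ
      exact (Fact.out : p.Prime).ne_one hZ.symm
    obtain ⟨y, hy⟩ := sympl_exists_pair hZ h2 hx hz
    have hc : ⁅x, y⁆ ≠ 1 := hy ▸ hz1
    obtain ⟨hZD, h2D⟩ := sympl_centralizer hZ h2 hc
    have hcard := sympl_card_eq hZ h2 hc
    obtain ⟨m, hm⟩ := ih _ (hn ▸ card_lt_of_pair h2 (Fact.out : p.Prime).one_lt hcard) _ p rfl hZD h2D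
    exact ⟨m + 1, by rw [← hn, hcard, hm, ← pow_add]; ring_nf⟩

section Extend

variable {G₁ G₂ : Type*} [Group G₁] [Group G₂] [Finite G₁] [Finite G₂] [hp : Fact p.Prime]

set_option maxHeartbeats 400000 in
/-- Extend an isomorphism of the centralisers of two matching non-commuting pairs. -/
theorem sympl_iso_extend
    (hZ₁ : Nat.card (Subgroup.center G₁) = p) (h2₁ : commutator G₁ ≤ Subgroup.center G₁)
    (hZ₂ : Nat.card (Subgroup.center G₂) = p) (h2₂ : commutator G₂ ≤ Subgroup.center G₂)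
    {x₁ y₁ : G₁} {x₂ y₂ : G₂} (hc₁ : ⁅x₁, y₁⁆ ≠ 1) (hc₂ : ⁅x₂, y₂⁆ ≠ 1)
    (ψ : Subgroup.centralizer ({x₁, y₁} : Set G₁) ≃* Subgroup.centralizer ({x₂, y₂} : Set G₂))
    (hψc : ∀ h : ⁅x₁, y₁⁆ ∈ Subgroup.centralizer ({x₁, y₁} : Set G₁),
      (ψ ⟨_, h⟩ : G₂) = ⁅x₂, y₂⁆)
    {a b : ℕ} (hxa₁ : x₁ ^ p = ⁅x₁, y₁⁆ ^ a) (hxa₂ : x₂ ^ p = ⁅x₂, y₂⁆ ^ a)
    (hyb₁ : y₁ ^ p = ⁅x₁, y₁⁆ ^ b) (hyb₂ : y₂ ^ p = ⁅x₂, y₂⁆ ^ b) :
    ∃ φ : G₁ ≃* G₂, ∀ d : Subgroup.centralizer ({x₁, y₁} : Set G₁), φ d = ψ d := by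
  have hcD1 : ⁅x₁, y₁⁆ ∈ (Subgroup.centralizer ({x₁, y₁} : Set G₁)) := Subgroup.center_le_centralizer _
    (h2₁ (Subgroup.commutator_mem_commutator (Subgroup.mem_top _) (Subgroup.mem_top _)))
  let γ : (Subgroup.centralizer ({x₁, y₁} : Set G₁)) →* G₁ × G₂ := (Subgroup.centralizer ({x₁, y₁} : Set G₁)).subtype.prod ((Subgroup.centralizer ({x₂, y₂} : Set G₂)).subtype.comp ψ.toMonoidHom)
  let X : G₁ × G₂ := (x₁, x₂)
  let Y : G₁ × G₂ := (y₁, y₂)
  let C : G₁ × G₂ := (⁅x₁, y₁⁆, ⁅x₂, y₂⁆)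
  have hC : C = γ ⟨⁅x₁, y₁⁆, hcD1⟩ := Prod.ext rfl (hψc hcD1).symm
  have hXp : X ^ p = γ (⟨⁅x₁, y₁⁆, hcD1⟩ ^ a) := by
    rw [map_pow, ← hC]; exact Prod.ext hxa₁ hxa₂
  have hYp : Y ^ p = γ (⟨⁅x₁, y₁⁆, hcD1⟩ ^ b) := by
    rw [map_pow, ← hC]; exact Prod.ext hyb₁ hyb₂
  have hcomm : ∀ d : (Subgroup.centralizer ({x₁, y₁} : Set G₁)), Commute (γ d) X ∧ Commute (γ d) Y := fun d =>
    ⟨Prod.ext (Subgroup.mem_centralizer_iff.1 d.2 x₁ (Or.inl rfl)).symm
      (Subgroup.mem_centralizer_iff.1 (ψ d).2 x₂ (Or.inl rfl)).symm,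
    Prod.ext (Subgroup.mem_centralizer_iff.1 d.2 y₁ (Or.inr rfl)).symm
      (Subgroup.mem_centralizer_iff.1 (ψ d).2 y₂ (Or.inr rfl)).symm⟩
  have hXY : ⁅X, Y⁆ = C := rfl
  have hswap : ∀ j k : ℕ, ∃ d, Y ^ j * X ^ k = X ^ k * Y ^ j * γ d := by
    intro j k
    refine ⟨(⟨⁅x₁, y₁⁆, hcD1⟩ ^ (k * j))⁻¹, ?_⟩
    have h1 : ⁅X ^ k, Y ^ j⁆ = γ (⟨⁅x₁, y₁⁆, hcD1⟩ ^ (k * j)) := by
      rw [map_pow, ← hC]
      have hX : Commute ⁅X, Y ^ j⁆ X := by
        rw [pow_commutator_right (by rw [hXY, hC]; exact (hcomm _).2), hXY, hC]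
        exact (hcomm _).1.pow_left j
      rw [pow_commutator_left hX, pow_commutator_right (by rw [hXY, hC]; exact (hcomm _).2), hXY,
        ← pow_mul, mul_comm]
    set d := (⟨⁅x₁, y₁⁆, hcD1⟩ : (Subgroup.centralizer ({x₁, y₁} : Set G₁))) ^ (k * j)
    have h3 := commutator_mul_eq (X ^ k) (Y ^ j)
    rw [h1] at h3
    have h4 : Commute (γ d) (Y ^ j * X ^ k) := ((hcomm d).2.pow_right j).mul_right ((hcomm d).1.pow_right k)
    rw [h3, h4.eq, map_inv, mul_inv_cancel_right]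
  let T : Submonoid (G₁ × G₂) :=
    { carrier := {t | ∃ i j : ℕ, ∃ d, t = X ^ i * Y ^ j * γ d}
      one_mem' := ⟨0, 0, 1, by simp⟩
      mul_mem' := by
        rintro _ _ ⟨i, j, d, rfl⟩ ⟨k, l, e, rfl⟩
        obtain ⟨f, hf⟩ := hswap j k
        refine ⟨i + k, j + l, f * d * e, ?_⟩
        have h1 := ((hcomm d).1.pow_right k).mul_right ((hcomm d).2.pow_right l)
        calc X ^ i * Y ^ j * γ d * (X ^ k * Y ^ l * γ e)
            = X ^ i * Y ^ j * (γ d * (X ^ k * Y ^ l)) * γ e := by group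
          _ = X ^ i * (Y ^ j * X ^ k) * Y ^ l * γ d * γ e := by rw [h1.eq]; group
          _ = X ^ i * X ^ k * Y ^ j * (γ f * Y ^ l) * γ d * γ e := by rw [hf]; group
          _ = _ := by rw [((hcomm f).2.pow_right l).eq, pow_add, pow_add, map_mul, map_mul]; group }
  have hTsmall : ∀ t ∈ T, ∃ i < p, ∃ j < p, ∃ d, t = X ^ i * Y ^ j * γ d := by
    rintro _ ⟨i, j, d, rfl⟩
    refine ⟨i % p, Nat.mod_lt _ hp.out.pos, j % p, Nat.mod_lt _ hp.out.pos,
      (⟨⁅x₁, y₁⁆, hcD1⟩ ^ a) ^ (i / p) * (⟨⁅x₁, y₁⁆, hcD1⟩ ^ b) ^ (j / p) * d, ?_⟩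
    conv_lhs => rw [← Nat.mod_add_div i p, ← Nat.mod_add_div j p, pow_add, pow_add, pow_mul, pow_mul,
      hXp, hYp]
    rw [← map_pow, ← map_pow, map_mul, map_mul]
    have h1 := (hcomm ((⟨⁅x₁, y₁⁆, hcD1⟩ ^ a) ^ (i / p))).2.pow_right (j % p)
    rw [mul_assoc (X ^ (i % p)), ← mul_assoc (γ _) (Y ^ (j % p)), h1.eq]
    group
  let π₁ : T → G₁ := fun t => (t : G₁ × G₂).1
  let π₂ : T → G₂ := fun t => (t : G₁ × G₂).2
  have hs₁ : Function.Surjective π₁ := by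
    intro g
    obtain ⟨i, -, j, -, d, hd, rfl⟩ := sympl_decomp hZ₁ h2₁ hc₁ g
    exact ⟨⟨_, i, j, ⟨d, hd⟩, rfl⟩, rfl⟩
  have hs₂ : Function.Surjective π₂ := by
    intro g
    obtain ⟨i, -, j, -, d, hd, rfl⟩ := sympl_decomp hZ₂ h2₂ hc₂ g
    obtain ⟨d', hd'⟩ := ψ.surjective ⟨d, hd⟩
    exact ⟨⟨_, i, j, d', rfl⟩, by simp [π₂, γ, X, Y, hd']⟩
  have hcard : Nat.card T ≤ Nat.card (Fin p × Fin p × (Subgroup.centralizer ({x₁, y₁} : Set G₁))) := by
    refine Nat.card_le_card_of_surjective (fun t => ⟨X ^ (t.1 : ℕ) * Y ^ (t.2.1 : ℕ) * γ t.2.2,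
      ⟨_, _, _, rfl⟩⟩) ?_
    rintro ⟨t, ht⟩
    obtain ⟨i, hi, j, hj, d, rfl⟩ := hTsmall t ht
    exact ⟨(⟨i, hi⟩, ⟨j, hj⟩, d), rfl⟩
  have hD : Nat.card (Subgroup.centralizer ({x₂, y₂} : Set G₂)) = Nat.card (Subgroup.centralizer ({x₁, y₁} : Set G₁)) := Nat.card_congr ψ.symm.toEquiv
  rw [Nat.card_prod, Nat.card_prod, Nat.card_fin, ← mul_assoc, ← sq] at hcard
  have hb₁ : Function.Bijective π₁ :=
    (Nat.bijective_iff_surjective_and_card π₁).2 ⟨hs₁, le_antisymm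
      (hcard.trans (sympl_card_eq hZ₁ h2₁ hc₁).ge) (Nat.card_le_card_of_surjective π₁ hs₁)⟩
  have hb₂ : Function.Bijective π₂ :=
    (Nat.bijective_iff_surjective_and_card π₂).2 ⟨hs₂, le_antisymm
      (hcard.trans (by rw [← hD]; exact (sympl_card_eq hZ₂ h2₂ hc₂).ge))
      (Nat.card_le_card_of_surjective π₂ hs₂)⟩
  let e₁ : T ≃* G₁ := MulEquiv.ofBijective ((MonoidHom.fst G₁ G₂).comp T.subtype) hb₁
  let e₂ : T ≃* G₂ := MulEquiv.ofBijective ((MonoidHom.snd G₁ G₂).comp T.subtype) hb₂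
  refine ⟨e₁.symm.trans e₂, fun d => ?_⟩
  have h : e₁.symm (d : G₁) = ⟨γ d, 0, 0, d, by simp⟩ := by
    rw [MulEquiv.symm_apply_eq]; rfl
  show e₂ (e₁.symm (d : G₁)) = _
  rw [h]
  rfl

end Extend

end CfsgLib.Solv
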