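import Cfsg.Agent.Solv.Subnormal

/-!
Wielandt's join theorem for subnormal subgroups, the zipper lemma and the subnormality criterion.
-/

set_option autoImplicit false
set_option linter.style.haveILetI false
set_option linter.deprecated false
set_option linter.unusedSectionVars false

open scoped Pointwise

namespace CfsgLib.Solv

universe u

theorem isSubnormal_sup_aux : ∀ (n : ℕ) (G : Type u) [Group G] [Finite G], Nat.card G = n →
    ∀ A B : Subgroup G, A.IsSubnormal → B.IsSubnormal → (A ⊔ B).IsSubnormal := by
  intro n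
  induction n using Nat.strong_induction_on with
  | _ n IH =>
    intro G _ _ hn A B hA hB
    rcases subsingleton_or_nontrivial G with hs | hs
    · exact Subgroup.IsSubnormal.of_subsingleton
    obtain ⟨L, hL⟩ := exists_isMinimalNormal (G := G)
    haveI := hL.1
    have hlt : Nat.card (G ⧸ L) < n := hn ▸ card_quotient_lt hL.2.1
    have hfs := QuotientGroup.mk'_surjective L
    have hq := IH _ hlt (G ⧸ L) rfl _ _ (hA.map hfs) (hB.map hfs)
    rw [← Subgroup.map_sup] at hq
    have hc := hq.comap (QuotientGroup.mk' L)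
    rw [Subgroup.comap_map_eq, QuotientGroup.ker_mk'] at hc
    refine Subgroup.IsSubnormal.step _ _ le_sup_left hc ?_
    rw [Subgroup.normal_subgroupOf_iff_le_normalizer le_sup_left]
    refine sup_le Subgroup.le_normalizer fun l hl => ?_
    refine mem_normalizer_of_conj_smul_eq ?_
    rw [Subgroup.smul_sup,
      conj_smul_eq_self_of_mem_normalizer (minimalNormal_le_normalizer_subnormal hA hL hl),
      conj_smul_eq_self_of_mem_normalizer (minimalNormal_le_normalizer_subnormal hB hL hl)]

/-- The join of two subnormal subgroups of a finite group is subnormal. -/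
theorem isSubnormal_sup {G : Type u} [Group G] [Finite G] {A B : Subgroup G}
    (hA : A.IsSubnormal) (hB : B.IsSubnormal) : (A ⊔ B).IsSubnormal :=
  isSubnormal_sup_aux _ G rfl A B hA hB

theorem isSubnormal_sSup {G : Type u} [Group G] [Finite G] {S : Set (Subgroup G)}
    (hS : ∀ U ∈ S, U.IsSubnormal) : (sSup S).IsSubnormal := by
  induction S, S.toFinite using Set.Finite.induction_on with
  | empty => rw [sSup_empty]; exact Subgroup.IsSubnormal.bot
  | @insert a s _ _ IH =>
    rw [sSup_insert]
    exact isSubnormal_sup (hS a (Set.mem_insert _ _))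
      (IH fun U hU => hS U (Set.mem_insert_of_mem _ hU))

/-- A subnormal subgroup that is not normal has a distinct conjugate inside its normalizer. -/
theorem exists_conj_le_normalizer_of_subnormal {G : Type u} [Group G] {A : Subgroup G}
    (hA : A.IsSubnormal) (hn : ¬ A.Normal) :
    ∃ x : G, MulAut.conj x • A ≠ A ∧ MulAut.conj x • A ≤ Subgroup.normalizer (A : Set G) := by
  suffices h : ∀ H : Subgroup G, H.IsSubnormal → ∀ A : Subgroup G, A ≤ H →
      H ≤ Subgroup.normalizer (A : Set G) →
      A.Normal ∨ ∃ x : G, MulAut.conj x • A ≠ A ∧ MulAut.conj x • A ≤ Subgroup.normalizer (A : Set G) from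
    (h A hA A le_rfl Subgroup.le_normalizer).resolve_left hn
  intro H hH
  induction hH with
  | top => exact fun A _ h => Or.inl (Subgroup.normalizer_eq_top_iff.1 (top_unique h))
  | step H K hle _ hN IH =>
    intro A hAH hHN
    rw [Subgroup.normal_subgroupOf_iff_le_normalizer hle] at hN
    by_cases hK : K ≤ Subgroup.normalizer (A : Set G)
    · exact IH A (hAH.trans hle) hK
    · obtain ⟨x, hxK, hxN⟩ := SetLike.not_le_iff_exists.1 hK
      refine Or.inr ⟨x, fun e => hxN (mem_normalizer_of_conj_smul_eq e), ?_⟩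
      refine le_trans ?_ hHN
      rw [← conj_smul_eq_self_of_mem_normalizer (hN hxK)]
      exact Subgroup.pointwise_smul_le_pointwise_smul_iff.2 hAH

theorem isSubnormal_subgroupOf_conj {G : Type u} [Group G] (g : G) {A H : Subgroup G}
    (h : (A.subgroupOf H).IsSubnormal) :
    ((MulAut.conj g • A).subgroupOf (MulAut.conj g • H)).IsSubnormal := by
  let f : ↥(MulAut.conj g • H) →* H :=
    MonoidHom.codRestrict ((MulAut.conj g⁻¹).toMonoidHom.comp (MulAut.conj g • H).subtype) H
      fun y => by
        have hy := mem_conj_smul_iff.1 y.2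
        simpa [mul_assoc] using hy
  have e : (MulAut.conj g • A).subgroupOf (MulAut.conj g • H) = (A.subgroupOf H).comap f := by
    ext y
    simp [f, Subgroup.mem_subgroupOf, mem_conj_smul_iff, mul_assoc]
  rw [e]
  exact h.comap f

theorem isSubnormal_of_subgroupOf_top {G : Type u} [Group G] {A : Subgroup G}
    (h : (A.subgroupOf (⊤ : Subgroup G)).IsSubnormal) : A.IsSubnormal :=
  Subgroup.IsSubnormal.trans le_top h Subgroup.IsSubnormal.top

/-- The zipper lemma. -/
theorem zipper {G : Type u} [Group G] [Finite G] (A : Subgroup G)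
    (h : ∀ H : Subgroup G, A ≤ H → H ≠ ⊤ → (A.subgroupOf H).IsSubnormal) :
    A.IsSubnormal ∨ ∃ M : Subgroup G, ∀ K : Subgroup G, IsCoatom K → A ≤ K → K = M := by
  suffices hs : ∀ (n : ℕ) (A : Subgroup G), Nat.card G - Nat.card A = n →
      (∀ H : Subgroup G, A ≤ H → H ≠ ⊤ → (A.subgroupOf H).IsSubnormal) →
      A.IsSubnormal ∨ ∃ M : Subgroup G, ∀ K : Subgroup G, IsCoatom K → A ≤ K → K = M from
    hs _ A rfl h
  intro n
  induction n using Nat.strong_induction_on with
  | _ n IH =>
    intro A hn h
    by_cases hA : A.IsSubnormal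
    · exact Or.inl hA
    have hNtop : Subgroup.normalizer (A : Set G) ≠ ⊤ := fun e =>
      hA (Subgroup.normalizer_eq_top_iff.1 e).isSubnormal
    obtain ⟨M, hM, hNM⟩ := (eq_top_or_exists_le_coatom _).resolve_left hNtop
    refine Or.inr ⟨M, fun K hK hAK => ?_⟩
    by_contra hne
    have hsn := h K hAK hK.1
    by_cases hnK : (A.subgroupOf K).Normal
    · rw [Subgroup.normal_subgroupOf_iff_le_normalizer hAK] at hnK
      exact hne (((hK.le_iff.1 (hnK.trans hNM)).resolve_left hM.1).symm)
    obtain ⟨x, hx1, hx2⟩ := exists_conj_le_normalizer_of_subnormal hsn hnK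
    have hx1' : MulAut.conj (x : G) • A ≠ A := fun e => hx1 (by
      ext y
      simp only [mem_conj_smul_iff, Subgroup.mem_subgroupOf]
      conv_rhs => rw [← e, mem_conj_smul_iff]
      simp)
    have hBK : MulAut.conj (x : G) • A ≤ K := fun y hy => by
      have hy' := hAK (mem_conj_smul_iff.1 hy)
      simpa [mul_assoc] using mul_mem (mul_mem x.2 hy') (inv_mem x.2)
    have hBN : MulAut.conj (x : G) • A ≤ Subgroup.normalizer (A : Set G) := fun y hy => by
      have hy' : (⟨y, hBK hy⟩ : K) ∈ MulAut.conj x • A.subgroupOf K := by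
        rw [mem_conj_smul_iff, Subgroup.mem_subgroupOf]
        simpa [mul_assoc] using mem_conj_smul_iff.1 hy
      have h1 := hx2 hy'
      rw [← Subgroup.subgroupOf_normalizer_eq hAK, Subgroup.mem_subgroupOf] at h1
      exact h1
    have hTN : A ⊔ MulAut.conj (x : G) • A ≤ Subgroup.normalizer (A : Set G) :=
      sup_le Subgroup.le_normalizer hBN
    have hTK : A ⊔ MulAut.conj (x : G) • A ≤ K := sup_le hAK hBK
    have hlt : Nat.card A < Nat.card ↥(A ⊔ MulAut.conj (x : G) • A) := by
      rcases lt_or_eq_of_le (Subgroup.card_le_of_le (le_sup_left : A ≤ A ⊔ MulAut.conj (x : G) • A))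
        with h' | h'
      · exact h'
      · exfalso
        have e1 : MulAut.conj (x : G) • A ≤ A :=
          le_trans le_sup_right (Subgroup.eq_of_le_of_card_ge le_sup_left h'.ge).ge
        exact hx1' (Subgroup.eq_of_le_of_card_ge e1 (card_conj_smul _ _).ge)
    have hTG : Nat.card ↥(A ⊔ MulAut.conj (x : G) • A) ≤ Nat.card G :=
      Subgroup.card_le_card_group _
    have hT : ∀ H : Subgroup G, A ⊔ MulAut.conj (x : G) • A ≤ H → H ≠ ⊤ →
        ((A ⊔ MulAut.conj (x : G) • A).subgroupOf H).IsSubnormal := by
      intro H hTH hHtop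
      rw [Subgroup.subgroupOf_sup (le_sup_left.trans hTH) (le_sup_right.trans hTH)]
      refine isSubnormal_sup (h H (le_sup_left.trans hTH) hHtop) ?_
      have h1 : A ≤ MulAut.conj (x : G)⁻¹ • H := by
        rw [map_inv, ← Subgroup.pointwise_smul_subset_iff]
        exact le_sup_right.trans hTH
      have h2 : MulAut.conj (x : G)⁻¹ • H ≠ ⊤ := fun e =>
        hHtop ((Subgroup.card_eq_iff_eq_top H).1 (by
          rw [← card_conj_smul (x : G)⁻¹ H, e, Subgroup.card_top]))
      have h3 := isSubnormal_subgroupOf_conj (x : G) (h _ h1 h2)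
      rwa [map_inv, smul_inv_smul] at h3
    rcases IH _ (by omega) _ rfl hT with hsub | ⟨M', hM'⟩
    · refine hA (Subgroup.IsSubnormal.step A _ le_sup_left hsub ?_)
      rw [Subgroup.normal_subgroupOf_iff_le_normalizer le_sup_left]
      exact hTN
    · exact hne ((hM' K hK hTK).trans (hM' M hM (hTN.trans hNM)).symm)

theorem wielandt_criterion_aux : ∀ (n : ℕ) (G : Type u) [Group G] [Finite G], Nat.card G = n →
    ∀ A : Subgroup G,
      (∀ g : G, (A.subgroupOf (A ⊔ MulAut.conj g • A)).IsSubnormal) → A.IsSubnormal := by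
  intro n
  induction n using Nat.strong_induction_on with
  | _ n IH =>
    intro G _ _ hn A h
    have hproper : ∀ H : Subgroup G, A ≤ H → H ≠ ⊤ → (A.subgroupOf H).IsSubnormal := by
      intro H hAH hH
      refine IH _ (hn ▸ card_lt_of_ne_top hH) H rfl _ fun g => ?_
      set J := A.subgroupOf H ⊔ MulAut.conj g • A.subgroupOf H with hJ
      have hJle : J.map H.subtype ≤ A ⊔ MulAut.conj (g : G) • A := by
        rw [Subgroup.map_le_iff_le_comap, hJ]
        refine sup_le (fun y hy => ?_) fun y hy => ?_
        · exact Subgroup.mem_comap.2 (Subgroup.mem_sup_left hy)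
        · refine Subgroup.mem_comap.2 (Subgroup.mem_sup_right ?_)
          rw [mem_conj_smul_iff] at hy ⊢
          simpa [Subgroup.mem_subgroupOf] using hy
      let f : J →* ↥(A ⊔ MulAut.conj (g : G) • A) :=
        MonoidHom.codRestrict (H.subtype.comp J.subtype) _
          fun y => hJle (Subgroup.mem_map_of_mem _ y.2)
      have e : (A.subgroupOf H).subgroupOf J =
          (A.subgroupOf (A ⊔ MulAut.conj (g : G) • A)).comap f := by
        ext y; simp [f, Subgroup.mem_subgroupOf]
      rw [e]
      exact (h g).comap f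
    rcases zipper A hproper with hs | ⟨M, hM⟩
    · exact hs
    by_cases htop : ∃ g : G, A ⊔ MulAut.conj g • A = ⊤
    · obtain ⟨g, hg⟩ := htop
      exact isSubnormal_of_subgroupOf_top (hg ▸ h g)
    simp only [not_exists] at htop
    by_cases hAM : A = ⊤
    · rw [hAM]; exact Subgroup.IsSubnormal.top
    obtain ⟨K, hK, hAK⟩ := (eq_top_or_exists_le_coatom _).resolve_left hAM
    have hN : Subgroup.normalClosure (A : Set G) ≤ K := by
      rw [Subgroup.normalClosure, Subgroup.closure_le]
      intro y hy
      obtain ⟨a, ha, hc⟩ := Group.mem_conjugatesOfSet_iff.1 hy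
      obtain ⟨g, rfl⟩ := isConj_iff.1 hc
      obtain ⟨K', hK', hle⟩ := (eq_top_or_exists_le_coatom _).resolve_left (htop g)
      have e : K' = K := (hM K' hK' (le_sup_left.trans hle)).trans (hM K hK hAK).symm
      rw [← e]
      refine hle (Subgroup.mem_sup_right (mem_conj_smul_iff.2 ?_))
      simpa [mul_assoc] using ha
    have hAN : A ≤ Subgroup.normalClosure (A : Set G) := Subgroup.le_normalClosure
    exact Subgroup.IsSubnormal.trans hAN
      (hproper _ hAN fun e => hK.1 (top_unique (e.symm.le.trans hN)))
      Subgroup.normalClosure_normal.isSubnormal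

/-- Wielandt's subnormality criterion. -/
theorem wielandt_criterion {G : Type u} [Group G] [Finite G] (A : Subgroup G)
    (h : ∀ g : G, (A.subgroupOf (A ⊔ MulAut.conj g • A)).IsSubnormal) : A.IsSubnormal :=
  wielandt_criterion_aux _ G rfl A h

end CfsgLib.Solv
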