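import Cfsg.Agent.Solv.ThompsonBasic
import Cfsg.Agent.Solv.ClassTwo
import Cfsg.Agent.Solv.SubnormalJoin
import Cfsg.Prelude.Def_Local
import Cfsg.Prelude.Def_OddOrderLocal

/-!
Small p-local lemmas: successive centralisation, Timmesfeld replacement, rank two normal subgroups.
-/

set_option autoImplicit false
set_option linter.style.haveILetI false
set_option linter.deprecated false
set_option linter.unusedSectionVars false

open scoped commutatorElement Pointwise

namespace CfsgLib.Solv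

variable {G : Type*} [Group G] {p : ℕ}

/-- `[V, E₁, E₂] = 1` forces `[E₁, E₂]` into `O_p(H)` for subnormal `E₁`, `E₂`. -/
theorem commutator_le_pCore_of_successive [Finite G] [hp : Fact p.Prime] {V H E1 E2 : Subgroup G}
    (hV : Cfsg.IsElementaryAbelian p V) (hHV : H ≤ Subgroup.normalizer (V : Set G))
    (hf : H ⊓ Subgroup.centralizer (V : Set G) = ⊥) (h1 : E1 ≤ H) (h2 : E2 ≤ H)
    (hs1 : (E1.subgroupOf H).IsSubnormal) (hs2 : (E2.subgroupOf H).IsSubnormal)
    (hc : ⁅⁅V, E1⁆, E2⁆ = ⊥) : ⁅E1, E2⁆ ≤ (Cfsg.pCore p H).map H.subtype := by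
  set W := ⁅V, E1⁆ with hW
  set X := E1 ⊔ E2 with hX
  have hXH : X ≤ H := sup_le h1 h2
  have hWV : W ≤ V := commutator_le_of_le_normalizer' (h1.trans hHV)
  have hE2W : E2 ≤ Subgroup.centralizer (W : Set G) :=
    Subgroup.le_centralizer_iff.1 (Subgroup.commutator_eq_bot_iff_le_centralizer.1 hc)
  have hXW : X ≤ Subgroup.normalizer (W : Set G) :=
    sup_le (right_le_normalizer_commutator V E1) (hE2W.trans (Subgroup.centralizer_le_normalizer _))
  have hWmem : ∀ x ∈ X, ∀ w ∈ W, x * w * x⁻¹ ∈ W := fun x hx =>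
    le_normalizer_iff_forall_conj_mem.1 hXW x hx
  -- elements of `X` acting trivially on `V / W` and on `W`
  let T : Subgroup G :=
    { carrier := {g | g ∈ X ∧ ∀ v ∈ V, ⁅v, g⁆ ∈ W}
      one_mem' := ⟨one_mem _, fun v _ => by rw [commutatorElement_one_right]; exact one_mem _⟩
      mul_mem' := by
        rintro a b ⟨ha, ha'⟩ ⟨hb, hb'⟩
        refine ⟨mul_mem ha hb, fun v hv => ?_⟩
        rw [show ⁅v, a * b⁆ = ⁅v, a⁆ * (a * ⁅v, b⁆ * a⁻¹) by simp [commutatorElement_def, mul_assoc]]
        exact mul_mem (ha' v hv) (hWmem a ha _ (hb' v hv))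
      inv_mem' := by
        rintro a ⟨ha, ha'⟩
        refine ⟨inv_mem ha, fun v hv => ?_⟩
        rw [show ⁅v, a⁻¹⁆ = a⁻¹ * ⁅v, a⁆⁻¹ * a by simp [commutatorElement_def, mul_assoc]]
        have := hWmem a⁻¹ (inv_mem ha) _ (inv_mem (ha' v hv))
        simpa using this }
  have hE1T : E1 ≤ T := fun e he =>
    ⟨Subgroup.mem_sup_left he, fun v hv => Subgroup.commutator_mem_commutator hv he⟩
  have hTn : ∀ x ∈ X, ∀ t ∈ T, x * t * x⁻¹ ∈ T := by
    rintro x hx t ⟨ht, ht'⟩
    refine ⟨mul_mem (mul_mem hx ht) (inv_mem hx), fun v hv => ?_⟩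
    have hv' : x⁻¹ * v * x ∈ V := by
      simpa using le_normalizer_iff_forall_conj_mem.1 hHV x⁻¹ (inv_mem (hXH hx)) v hv
    have h := hWmem x hx _ (ht' _ hv')
    rw [show ⁅v, x * t * x⁻¹⁆ = x * ⁅x⁻¹ * v * x, t⁆ * x⁻¹ by simp [commutatorElement_def, mul_assoc]]
    exact h
  have hCn : ∀ x ∈ X, ∀ c ∈ Subgroup.centralizer (W : Set G),
      x * c * x⁻¹ ∈ Subgroup.centralizer (W : Set G) := by
    intro x hx c hc
    rw [Subgroup.mem_centralizer_iff]
    intro w hw
    have h' : x⁻¹ * w * x ∈ W := by simpa using hWmem x⁻¹ (inv_mem hx) w hw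
    have h3 := Subgroup.mem_centralizer_iff.1 hc _ h'
    calc w * (x * c * x⁻¹) = x * ((x⁻¹ * w * x) * c) * x⁻¹ := by group
      _ = x * (c * (x⁻¹ * w * x)) * x⁻¹ := by rw [h3]
      _ = x * c * x⁻¹ * w := by group
  have hD : ⁅E1, E2⁆ ≤ T ⊓ Subgroup.centralizer (W : Set G) := by
    refine Subgroup.commutator_le.2 fun a ha b hb => Subgroup.mem_inf.2 ⟨?_, ?_⟩
    · rw [show ⁅a, b⁆ = a * (b * a⁻¹ * b⁻¹) by simp [commutatorElement_def, mul_assoc]]
      exact mul_mem (hE1T ha) (hTn b (Subgroup.mem_sup_right hb) _ (inv_mem (hE1T ha)))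
    · rw [show ⁅a, b⁆ = (a * b * a⁻¹) * b⁻¹ by simp [commutatorElement_def, mul_assoc]]
      exact mul_mem (hCn a (Subgroup.mem_sup_left ha) b (hE2W hb)) (inv_mem (hE2W hb))
  have hDp : IsPGroup p (⁅E1, E2⁆ : Subgroup G) := by
    intro d
    refine ⟨1, Subtype.ext ?_⟩
    obtain ⟨hdT, hdW⟩ := Subgroup.mem_inf.1 (hD d.2)
    rw [pow_one]
    have hdH : (d : G) ∈ H := hXH hdT.1
    have hcen : (d : G) ^ p ∈ Subgroup.centralizer (V : Set G) := by
      rw [Subgroup.mem_centralizer_iff]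
      intro v hv
      have hw := hdT.2 v hv
      set w := ⁅v, (d : G)⁆ with hwdef
      have hwd : w * d = d * w := Subgroup.mem_centralizer_iff.1 hdW w hw
      have h3 : ∀ k : ℕ, v * (d : G) ^ k = w ^ k * (d : G) ^ k * v := by
        intro k
        induction k with
        | zero => simp
        | succ k ih =>
          have e : v * (d : G) = w * d * v := by rw [hwdef]; simp [commutatorElement_def, mul_assoc]
          calc v * (d : G) ^ (k + 1) = v * (d : G) ^ k * d := by rw [pow_succ]; group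
            _ = w ^ k * (d : G) ^ k * (v * d) := by rw [ih]; group
            _ = w ^ k * ((d : G) ^ k * w) * d * v := by rw [e]; group
            _ = w ^ k * (w * (d : G) ^ k) * d * v := by
              rw [((show Commute w (d : G) from hwd).pow_right k).eq]
            _ = w ^ (k + 1) * (d : G) ^ (k + 1) * v := by rw [pow_succ w, pow_succ (d : G)]; group
      rw [h3 p, hV.2 w (hWV hw), one_mul]
    have hb := hf.le (Subgroup.mem_inf.2 ⟨pow_mem hdH p, hcen⟩)
    rw [Subgroup.mem_bot] at hb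
    simpa using hb
  have hDH : ⁅E1, E2⁆ ≤ H := Subgroup.commutator_le.2 fun a ha b hb => by
    rw [commutatorElement_def]
    exact mul_mem (mul_mem (mul_mem (h1 ha) (h2 hb)) (inv_mem (h1 ha))) (inv_mem (h2 hb))
  have hsn : (⁅E1, E2⁆.subgroupOf H).IsSubnormal := by
    have hX' : (X.subgroupOf H).IsSubnormal := by
      rw [hX, Subgroup.subgroupOf_sup h1 h2]; exact isSubnormal_sup hs1 hs2
    have hDX : ⁅E1, E2⁆ ≤ X := Subgroup.commutator_le.2 fun a ha b hb => by
      rw [commutatorElement_def]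
      exact mul_mem (mul_mem (mul_mem (Subgroup.mem_sup_left ha) (Subgroup.mem_sup_right hb))
        (inv_mem (Subgroup.mem_sup_left ha))) (inv_mem (Subgroup.mem_sup_right hb))
    refine Subgroup.IsSubnormal.trans (fun x hx => hDX hx) (Subgroup.Normal.isSubnormal ?_) hX'
    refine (Subgroup.normal_subgroupOf_iff_le_normalizer (H := ⁅E1, E2⁆.subgroupOf H) (K := X.subgroupOf H) (fun x hx => hDX hx)).2 ?_
    intro x hx
    rw [Subgroup.mem_normalizer_iff]
    have hn : X ≤ Subgroup.normalizer ((⁅E1, E2⁆ : Subgroup G) : Set G) :=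
      sup_le (left_le_normalizer_commutator E1 E2) (right_le_normalizer_commutator E1 E2)
    intro y
    exact Subgroup.mem_normalizer_iff.1 (hn hx) (y : G)
  haveI := (hDp.comap_of_injective H.subtype H.subtype_injective)
  have hle : ⁅E1, E2⁆.subgroupOf H ≤ Cfsg.pCore p H := by
    have h3 := piNat_subnormal_le_piCore (π := {p}) hsn
      (PiNat.of_isPGroup (hDp.comap_of_injective H.subtype H.subtype_injective) rfl)
    refine h3.trans (le_pCore (hN := Subgroup.sSup_normal _ fun _ h => h.1) ?_)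
    obtain hπ := piNat_card_piCore (G := H) (π := ({p} : Set ℕ))
    exact IsPGroup.of_card (Nat.eq_prime_pow_of_unique_prime_dvd Nat.card_pos.ne'
      fun {d} hd hdd => hπ d hd hdd)
  intro x hx
  exact ⟨⟨x, hDH hx⟩, hle hx, rfl⟩
where
  commutator_le_of_le_normalizer' {V E : Subgroup G} (h : E ≤ Subgroup.normalizer (V : Set G)) :
      ⁅V, E⁆ ≤ V := Subgroup.commutator_le.2 fun v hv e he => by
    rw [show ⁅v, e⁆ = v * (e * v⁻¹ * e⁻¹) by simp [commutatorElement_def, mul_assoc]]
    exact mul_mem hv (le_normalizer_iff_forall_conj_mem.1 h e he _ (inv_mem hv))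

/-! ### Timmesfeld replacement -/

theorem card_mul_inf_le [Finite G] {X Y Z : Subgroup G} (hX : X ≤ Z) (hY : Y ≤ Z) :
    Nat.card X * Nat.card Y ≤ Nat.card Z * Nat.card (X ⊓ Y : Subgroup G) := by
  let f : X × Y → Z := fun p => ⟨(p.1 : G) * p.2, mul_mem (hX p.1.2) (hY p.2.2)⟩
  have hsec : ∀ z : Set.range f, ∃ q, f q = z := fun z => z.2
  choose σ hσ using hsec
  have hmem : ∀ q : X × Y, ((σ ⟨f q, q, rfl⟩).1 : G)⁻¹ * q.1 ∈ X ⊓ Y := fun q => by
    have e : ((σ ⟨f q, q, rfl⟩).1 : G) * (σ ⟨f q, q, rfl⟩).2 = q.1 * q.2 :=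
      congrArg Subtype.val (hσ ⟨f q, q, rfl⟩)
    refine Subgroup.mem_inf.2 ⟨mul_mem (inv_mem (σ _).1.2) q.1.2, ?_⟩
    rw [show ((σ ⟨f q, q, rfl⟩).1 : G)⁻¹ * q.1 = (σ ⟨f q, q, rfl⟩).2 * (q.2 : G)⁻¹ by
      rw [eq_mul_inv_iff_mul_eq, mul_assoc, inv_mul_eq_iff_eq_mul]; exact e.symm]
    exact mul_mem (σ _).2.2 (inv_mem q.2.2)
  rw [← Nat.card_prod, ← Nat.card_prod]
  refine Nat.card_le_card_of_injective
    (fun q : X × Y => (f q, (⟨_, hmem q⟩ : (X ⊓ Y : Subgroup G)))) ?_
  intro q q' e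
  obtain ⟨e1, e2⟩ := Prod.mk.injEq _ _ _ _ ▸ e
  have e1' : (q.1 : G) * q.2 = q'.1 * q'.2 := congrArg Subtype.val e1
  have es : (⟨f q, q, rfl⟩ : Set.range f) = ⟨f q', q', rfl⟩ := Subtype.ext e1
  have e2' := congrArg Subtype.val e2
  simp only at e2'
  rw [es] at e2'
  have h3 : (q.1 : G) = q'.1 := mul_left_cancel e2'
  rw [h3] at e1'
  exact Prod.ext (Subtype.ext h3) (Subtype.ext (mul_left_cancel e1'))

/-- The commutators of a set of elements with `A`. -/
def commSet (s : Set G) (A : Subgroup G) : Subgroup G :=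
  Subgroup.closure {g | ∃ v ∈ s, ∃ a ∈ A, g = ⁅v, a⁆}

theorem timmesfeld_set' [Finite G] [hp : Fact p.Prime] {V A : Subgroup G}
    (hV : Cfsg.IsElementaryAbelian p V) (hAV : A ≤ Subgroup.normalizer (V : Set G))
    (hmax : ∀ B : Subgroup G, B ≤ A →
      Nat.card B * Nat.card ↥(V ⊓ Subgroup.centralizer (B : Set G)) ≤
        Nat.card A * Nat.card ↥(V ⊓ Subgroup.centralizer (A : Set G)))
    (hAA : ⁅A, A⁆ ≤ Subgroup.centralizer (V : Set G)) (s : Set G) (hs : s ⊆ (V : Set G)) :
    Nat.card (A ⊓ Subgroup.centralizer (commSet s A : Set G) : Subgroup G) *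
        Nat.card (commSet s A ⊔ (V ⊓ Subgroup.centralizer (A : Set G)) : Subgroup G) =
      Nat.card A * Nat.card (V ⊓ Subgroup.centralizer (A : Set G) : Subgroup G) ∧
    V ⊓ Subgroup.centralizer
        ((A ⊓ Subgroup.centralizer (commSet s A : Set G) : Subgroup G) : Set G) =
      commSet s A ⊔ (V ⊓ Subgroup.centralizer (A : Set G)) := by
  set C0 := V ⊓ Subgroup.centralizer (A : Set G) with hC0
  have hK : ∀ t : Set G, t ⊆ (V : Set G) → commSet t A ≤ V := fun t ht =>
    (Subgroup.closure_le _).2 fun g ⟨v, hv, a, ha, e⟩ => by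
      rw [e, show ⁅v, a⁆ = v * (a * v⁻¹ * a⁻¹) by simp [commutatorElement_def, mul_assoc]]
      exact mul_mem (ht hv) (le_normalizer_iff_forall_conj_mem.1 hAV a ha _ (inv_mem (ht hv)))
  have hXle : ∀ t : Set G, t ⊆ (V : Set G) →
      commSet t A ⊔ C0 ≤ V ⊓ Subgroup.centralizer
        ((A ⊓ Subgroup.centralizer (commSet t A : Set G) : Subgroup G) : Set G) := fun t ht =>
    sup_le (le_inf (hK t ht) (Subgroup.le_centralizer_iff.1 inf_le_right))
      (le_inf inf_le_left (inf_le_right.trans (Subgroup.centralizer_le inf_le_left)))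
  -- it suffices to prove `≥`
  suffices key : ∀ t : Set G, t ⊆ (V : Set G) → Nat.card A * Nat.card C0 ≤
      Nat.card (A ⊓ Subgroup.centralizer (commSet t A : Set G) : Subgroup G) *
        Nat.card (commSet t A ⊔ C0 : Subgroup G) by
    have h1 := key s hs
    have h2 := hmax (A ⊓ Subgroup.centralizer (commSet s A : Set G)) inf_le_left
    have h3 := Subgroup.card_le_of_le (hXle s hs)
    have h4 : Nat.card (A ⊓ Subgroup.centralizer (commSet s A : Set G) : Subgroup G) *
        Nat.card (commSet s A ⊔ C0 : Subgroup G) ≤ Nat.card A * Nat.card C0 :=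
      (Nat.mul_le_mul_left _ h3).trans h2
    refine ⟨le_antisymm h4 h1, (Subgroup.eq_of_le_of_card_ge (hXle s hs) ?_).symm⟩
    exact Nat.le_of_mul_le_mul_left (h2.trans (le_of_eq (le_antisymm h4 h1).symm)) Nat.card_pos
  intro t ht
  induction t, t.toFinite using Set.Finite.induction_on with
  | empty =>
    have e : commSet (∅ : Set G) A = ⊥ := by
      rw [commSet, Subgroup.closure_eq_bot_iff]
      rintro g ⟨v, hv, -⟩
      exact absurd hv (Set.notMem_empty v)
    rw [e, bot_sup_eq, inf_eq_left.2 fun a _ => Subgroup.mem_centralizer_iff.2 fun w hw => by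
      rw [Subgroup.mem_bot.1 hw, one_mul, mul_one]]
  | @insert v u _ _ IH =>
    obtain ⟨hv, hu⟩ := Set.insert_subset_iff.1 ht
    have hu' := IH hu
    -- the case of a single element
    have hone : Nat.card A * Nat.card C0 ≤
        Nat.card (A ⊓ Subgroup.centralizer (commSet {v} A : Set G) : Subgroup G) *
          Nat.card (commSet {v} A ⊔ C0 : Subgroup G) := by
      set A1 := A ⊓ Subgroup.centralizer (commSet {v} A : Set G)
      set X := commSet {v} A ⊔ C0
      have hC0X : C0 ≤ X := le_sup_right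
      rw [← relIndex_mul_card hC0X, ← relIndex_mul_card (inf_le_left : A1 ≤ A),
        show Nat.card A1 * A1.relIndex A * Nat.card C0 = Nat.card A1 * (Nat.card C0 * A1.relIndex A) by
          ring]
      refine Nat.mul_le_mul_left _ (Nat.mul_le_mul_left _ ?_)
      have hmem : ∀ a : A, ⁅v, (a : G)⁆ ∈ X := fun a =>
        Subgroup.mem_sup_left (Subgroup.subset_closure ⟨v, rfl, a, a.2, rfl⟩)
      have key2 : ∀ a b : A, (⁅v, (a : G)⁆)⁻¹ * ⁅v, (b : G)⁆ ∈ C0 → a⁻¹ * b ∈ A1.subgroupOf A := by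
        intro a b hab
        refine Subgroup.mem_inf.2 ⟨(a⁻¹ * b).2, ?_⟩
        rw [Subgroup.mem_centralizer_iff]
        intro y hy
        have hcomm : ∀ x ∈ V, ∀ y ∈ V, x * y = y * x := fun x hx y hy =>
          commute_of_isElementaryAbelian hV hx hy
        have hone' : ∀ c ∈ A, ((a : G)⁻¹ * b) * ⁅v, c⁆ = ⁅v, c⁆ * ((a : G)⁻¹ * b) := by
          intro c hc
          have hcV : ∀ x ∈ V, ∀ z ∈ A, z * x * z⁻¹ ∈ V := fun x hx z hz =>
            le_normalizer_iff_forall_conj_mem.1 hAV z hz x hx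
          -- the images of `v` under `a` and `b` differ by a fixed point
          set c0 := ((a : G) * v * (a : G)⁻¹)⁻¹ * ((b : G) * v * (b : G)⁻¹) with hc0
          have hfix : c * c0 = c0 * c := by
            have e : ((⁅v, (a : G)⁆)⁻¹ * ⁅v, (b : G)⁆)⁻¹ = c0 := by
              have h5 : ⁅v, (a : G)⁆ = v * ((a : G) * v * (a : G)⁻¹)⁻¹ := by
                simp [commutatorElement_def, mul_assoc]
              have h6 : ⁅v, (b : G)⁆ = v * ((b : G) * v * (b : G)⁻¹)⁻¹ := by
                simp [commutatorElement_def, mul_assoc]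
              rw [h5, h6, hc0]
              have h7 := hcomm _ (hcV v hv a a.2) _ (inv_mem (hcV v hv b b.2))
              calc ((v * ((a : G) * v * (a : G)⁻¹)⁻¹)⁻¹ * (v * ((b : G) * v * (b : G)⁻¹)⁻¹))⁻¹
                  = (((a : G) * v * (a : G)⁻¹) * ((b : G) * v * (b : G)⁻¹)⁻¹)⁻¹ := by group
                _ = (((b : G) * v * (b : G)⁻¹)⁻¹ * ((a : G) * v * (a : G)⁻¹))⁻¹ := by rw [h7]
                _ = _ := by group
            rw [← e]
            exact Subgroup.mem_centralizer_iff.1 (inv_mem (Subgroup.mem_inf.1 hab).2) c hc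
          -- `A` is abelian modulo `C(V)`
          have hab' : ∀ z ∈ A, ∀ x ∈ V, c * (z * x * z⁻¹) * c⁻¹ = z * (c * x * c⁻¹) * z⁻¹ := by
            intro z hz x hx
            have h8 := Subgroup.mem_centralizer_iff.1 (hAA (Subgroup.commutator_mem_commutator hc hz))
              (z * (c * x * c⁻¹) * z⁻¹) (hcV _ (hcV x hx c hc) z hz)
            calc c * (z * x * z⁻¹) * c⁻¹
                = ⁅c, z⁆ * (z * (c * x * c⁻¹) * z⁻¹) * ⁅c, z⁆⁻¹ := by
                  simp [commutatorElement_def, mul_assoc]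
              _ = z * (c * x * c⁻¹) * z⁻¹ := by rw [← h8, mul_inv_cancel_right]
          have hd : ((a : G) * (c * v * c⁻¹) * (a : G)⁻¹)⁻¹ * ((b : G) * (c * v * c⁻¹) * (b : G)⁻¹) = c0 := by
            rw [← hab' a a.2 v hv, ← hab' b b.2 v hv]
            calc (c * ((a : G) * v * (a : G)⁻¹) * c⁻¹)⁻¹ * (c * ((b : G) * v * (b : G)⁻¹) * c⁻¹)
                = c * c0 * c⁻¹ := by rw [hc0]; group
              _ = c0 := by rw [hfix, mul_inv_cancel_right]
          set m := c * v * c⁻¹ with hm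
          have hmV : m ∈ V := hcV v hv c hc
          set g := (a : G)⁻¹ * b
          have hg : g ∈ A := mul_mem (inv_mem a.2) b.2
          have h9 : m⁻¹ * (g * m * g⁻¹) = v⁻¹ * (g * v * g⁻¹) := by
            calc m⁻¹ * (g * m * g⁻¹)
                = (a : G)⁻¹ * (((a : G) * m * (a : G)⁻¹)⁻¹ * ((b : G) * m * (b : G)⁻¹)) * a := by
                  simp only [g]; group
              _ = (a : G)⁻¹ * c0 * a := by rw [hd]
              _ = v⁻¹ * (g * v * g⁻¹) := by rw [hc0]; simp only [g]; group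
          have h10 : ⁅v, c⁆ = v * m⁻¹ := by rw [hm]; simp [commutatorElement_def, mul_assoc]
          have h11 : g * (v * m⁻¹) * g⁻¹ = v * m⁻¹ := by
            calc g * (v * m⁻¹) * g⁻¹ = (g * v * g⁻¹) * (g * m * g⁻¹)⁻¹ := by group
              _ = (v * (v⁻¹ * (g * v * g⁻¹))) * (m * (m⁻¹ * (g * m * g⁻¹)))⁻¹ := by group
              _ = (v * (v⁻¹ * (g * v * g⁻¹))) * (v⁻¹ * (g * v * g⁻¹))⁻¹ * m⁻¹ := by
                rw [h9]; group
              _ = v * m⁻¹ := by group
          rw [h10]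
          exact mul_inv_eq_iff_eq_mul.1 h11
        refine Subgroup.closure_induction (fun x hx => ?_) (by rw [one_mul, mul_one])
          (fun x z _ _ hx hz => ?_) (fun x _ hx => ?_) hy
        · obtain ⟨v', hv', c, hc, rfl⟩ := hx
          rw [Set.mem_singleton_iff.1 hv']
          exact (hone' c hc).symm
        · rw [mul_assoc, hz, ← mul_assoc, hx, mul_assoc]
        · exact (show Commute x _ from hx).inv_left
      let φ : A ⧸ A1.subgroupOf A → X ⧸ C0.subgroupOf X := fun q =>
        QuotientGroup.mk (⟨⁅v, (q.out : G)⁆, hmem q.out⟩ : X)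
      refine Nat.card_le_card_of_injective φ fun q q' e => ?_
      rw [← QuotientGroup.out_eq' q, ← QuotientGroup.out_eq' q', QuotientGroup.eq]
      exact key2 _ _ (QuotientGroup.eq (s := C0.subgroupOf X).1 e)
    -- combine
    set A1 := A ⊓ Subgroup.centralizer (commSet {v} A : Set G) with hA1
    set A2 := A ⊓ Subgroup.centralizer (commSet u A : Set G) with hA2
    set X1 := commSet {v} A ⊔ C0 with hX1
    set X2 := commSet u A ⊔ C0 with hX2
    have hKu : commSet (insert v u) A = commSet {v} A ⊔ commSet u A := by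
      rw [commSet, commSet, commSet, ← Subgroup.closure_union]
      congr 1
      ext g
      constructor
      · rintro ⟨w, hw | hw, h⟩
        · exact Or.inl ⟨w, hw, h⟩
        · exact Or.inr ⟨w, hw, h⟩
      · rintro (⟨w, hw, h⟩ | ⟨w, hw, h⟩)
        · exact ⟨w, Or.inl hw, h⟩
        · exact ⟨w, Or.inr hw, h⟩
    have hA12 : A ⊓ Subgroup.centralizer (commSet (insert v u) A : Set G) = A1 ⊓ A2 := by
      rw [hKu, hA1, hA2]
      ext g
      simp only [Subgroup.mem_inf]
      constructor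
      · rintro ⟨hg, hg'⟩
        exact ⟨⟨hg, Subgroup.centralizer_le (SetLike.coe_subset_coe.2
          (le_sup_left : commSet {v} A ≤ commSet {v} A ⊔ commSet u A)) hg'⟩, hg,
          Subgroup.centralizer_le (SetLike.coe_subset_coe.2
            (le_sup_right : commSet u A ≤ commSet {v} A ⊔ commSet u A)) hg'⟩
      · rintro ⟨⟨hg, h1⟩, -, h2⟩
        refine ⟨hg, ?_⟩
        have h3 : commSet {v} A ⊔ commSet u A ≤ Subgroup.centralizer ({g} : Set G) :=
          sup_le (fun x hx => by
              rw [Subgroup.mem_centralizer_iff]; rintro y rfl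
              exact (Subgroup.mem_centralizer_iff.1 h1 x hx).symm)
            (fun x hx => by
              rw [Subgroup.mem_centralizer_iff]; rintro y rfl
              exact (Subgroup.mem_centralizer_iff.1 h2 x hx).symm)
        rw [Subgroup.mem_centralizer_iff]
        exact fun x hx => (Subgroup.mem_centralizer_iff.1 (h3 hx) g rfl).symm
    rw [hA12, hKu, show commSet {v} A ⊔ commSet u A ⊔ C0 = X1 ⊔ X2 by
      rw [hX1, hX2, sup_sup_sup_comm, sup_idem]]
    set Y := A1 ⊔ A2
    have hY := hmax Y (sup_le inf_le_left inf_le_left)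
    have hcap : X1 ⊓ X2 ≤ V ⊓ Subgroup.centralizer (Y : Set G) := by
      refine le_inf (inf_le_left.trans ((hXle {v} (Set.singleton_subset_iff.2 hv)).trans inf_le_left)) ?_
      rw [Subgroup.le_centralizer_iff]
      refine sup_le ?_ ?_
      · rw [Subgroup.le_centralizer_iff]
        exact inf_le_left.trans ((hXle {v} (Set.singleton_subset_iff.2 hv)).trans inf_le_right)
      · rw [Subgroup.le_centralizer_iff]
        exact inf_le_right.trans ((hXle u hu).trans inf_le_right)
    have hY' : Nat.card Y * Nat.card (X1 ⊓ X2 : Subgroup G) ≤ Nat.card A * Nat.card C0 :=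
      (Nat.mul_le_mul_left _ (Subgroup.card_le_of_le hcap)).trans hY
    have hA12' := card_mul_inf_le (le_sup_left : A1 ≤ Y) (le_sup_right : A2 ≤ Y)
    have hX12' := card_mul_inf_le (le_sup_left : X1 ≤ X1 ⊔ X2) (le_sup_right : X2 ≤ X1 ⊔ X2)
    set M := Nat.card A * Nat.card C0
    have hMpos : 0 < M := Nat.mul_pos Nat.card_pos Nat.card_pos
    have h12 : M * M ≤ M * (Nat.card (A1 ⊓ A2 : Subgroup G) * Nat.card (X1 ⊔ X2 : Subgroup G)) :=
      calc M * M ≤ (Nat.card A1 * Nat.card X1) * (Nat.card A2 * Nat.card X2) :=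
            Nat.mul_le_mul hone hu'
        _ = (Nat.card A1 * Nat.card A2) * (Nat.card X1 * Nat.card X2) := by ring
        _ ≤ (Nat.card Y * Nat.card (A1 ⊓ A2 : Subgroup G)) *
            (Nat.card (X1 ⊔ X2 : Subgroup G) * Nat.card (X1 ⊓ X2 : Subgroup G)) :=
            Nat.mul_le_mul hA12' hX12'
        _ = (Nat.card Y * Nat.card (X1 ⊓ X2 : Subgroup G)) *
            (Nat.card (A1 ⊓ A2 : Subgroup G) * Nat.card (X1 ⊔ X2 : Subgroup G)) := by ring
        _ ≤ _ := Nat.mul_le_mul_right _ hY'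
    exact Nat.le_of_mul_le_mul_left h12 hMpos

/-- Timmesfeld's set lemma for best offenders. -/
theorem timmesfeld_set [Finite G] [hp : Fact p.Prime] {V A : Subgroup G}
    (hV : Cfsg.IsElementaryAbelian p V) (hAV : A ≤ Subgroup.normalizer (V : Set G))
    (hA : Cfsg.IsBestOffenderOn p V A) (s : Set G) (hs : s ⊆ (V : Set G)) :
    Nat.card (A ⊓ Subgroup.centralizer (commSet s A : Set G) : Subgroup G) *
        Nat.card (commSet s A ⊔ (V ⊓ Subgroup.centralizer (A : Set G)) : Subgroup G) =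
      Nat.card A * Nat.card (V ⊓ Subgroup.centralizer (A : Set G) : Subgroup G) ∧
    V ⊓ Subgroup.centralizer
        ((A ⊓ Subgroup.centralizer (commSet s A : Set G) : Subgroup G) : Set G) =
      commSet s A ⊔ (V ⊓ Subgroup.centralizer (A : Set G)) :=
  timmesfeld_set' hV hAV hA.1 hA.2.1 s hs

theorem timmesfeld [Finite G] [hp : Fact p.Prime] {V A : Subgroup G}
    (hV : Cfsg.IsElementaryAbelian p V) (hAV : A ≤ Subgroup.normalizer (V : Set G))
    (hA : Cfsg.IsBestOffenderOn p V A) {U : Subgroup G} (hU : U ≤ V) :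
    Cfsg.IsBestOffenderOn p V (A ⊓ Subgroup.centralizer ((⁅U, A⁆ : Subgroup G) : Set G)) ∧
      V ⊓ Subgroup.centralizer ((A ⊓ Subgroup.centralizer ((⁅U, A⁆ : Subgroup G) : Set G) :
        Subgroup G) : Set G) = ⁅U, A⁆ ⊔ (V ⊓ Subgroup.centralizer (A : Set G)) ∧
      (⁅V, A⁆ ≠ ⊥ → ⁅V, A ⊓ Subgroup.centralizer ((⁅U, A⁆ : Subgroup G) : Set G)⁆ ≠ ⊥) := by
  have e : commSet (U : Set G) A = ⁅U, A⁆ := by
    rw [Subgroup.commutator_def, commSet]
    congr 1
    ext g
    constructor
    · rintro ⟨v, hv, a, ha, rfl⟩; exact ⟨v, hv, a, ha, rfl⟩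
    · rintro ⟨v, hv, a, ha, rfl⟩; exact ⟨v, hv, a, ha, rfl⟩
  obtain ⟨h1, h2⟩ := timmesfeld_set hV hAV hA (U : Set G) hU
  rw [e] at h1 h2
  set As := A ⊓ Subgroup.centralizer ((⁅U, A⁆ : Subgroup G) : Set G)
  refine ⟨⟨fun B hB => ?_, (Subgroup.commutator_mono inf_le_left inf_le_left).trans hA.2.1,
    fun a ha => hA.2.2 a (Subgroup.mem_inf.1 ha).1⟩, h2, fun hne hb => ?_⟩
  · rw [h2, h1]; exact hA.1 B (hB.trans inf_le_left)
  · have hVeq : V = ⁅U, A⁆ ⊔ (V ⊓ Subgroup.centralizer (A : Set G)) := by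
      rw [← h2, eq_comm, inf_eq_left]
      exact Subgroup.commutator_eq_bot_iff_le_centralizer.1 hb
    -- a Sylow subgroup `P` of `A` induces everything
    obtain ⟨T⟩ : Nonempty (Sylow p A) := inferInstance
    set P := (T : Subgroup A).map A.subtype with hP
    have hPA : P ≤ A := Subgroup.map_subtype_le _
    have hcov : A ≤ P ⊔ (A ⊓ Subgroup.centralizer (V : Set G)) := by
      set D := A ⊓ Subgroup.centralizer (V : Set G)
      have hle : P ⊔ D ≤ A := sup_le hPA inf_le_left
      rw [← Subgroup.relIndex_eq_one]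
      refine Nat.eq_one_iff_not_exists_prime_dvd.2 fun r hr hrd => ?_
      haveI := Fact.mk hr
      obtain ⟨hDn⟩ : Nonempty ((D.subgroupOf A).Normal) := ⟨
        ⟨fun d hd g => by
          obtain ⟨hdA, hdC⟩ := Subgroup.mem_inf.1 hd
          refine Subgroup.mem_inf.2 ⟨(g * d * g⁻¹).2, Subgroup.mem_centralizer_iff.2 fun x hx => ?_⟩
          have hx' : (g : G)⁻¹ * x * g ∈ V := by
            simpa using le_normalizer_iff_forall_conj_mem.1 hAV _ (inv_mem g.2) x hx
          have h3 : ((g : G)⁻¹ * x * g) * (d : G) = (d : G) * ((g : G)⁻¹ * x * g) :=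
            Subgroup.mem_centralizer_iff.1 hdC _ hx'
          show x * ((g : G) * d * (g : G)⁻¹) = (g : G) * d * (g : G)⁻¹ * x
          calc x * ((g : G) * d * (g : G)⁻¹) = g * (((g : G)⁻¹ * x * g) * d) * (g : G)⁻¹ := by group
            _ = g * (d * ((g : G)⁻¹ * x * g)) * (g : G)⁻¹ := by rw [h3]
            _ = _ := by group⟩⟩
      haveI := hDn
      by_cases hrp : r = p
      · subst hrp
        refine T.not_dvd_index (hrd.trans ((Subgroup.relIndex_dvd_of_le_left A
          (le_sup_left : P ≤ P ⊔ D)).trans (dvd_of_eq ?_)))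
        show (P.subgroupOf A).index = _
        rw [hP, Subgroup.subgroupOf, Subgroup.comap_map_eq_self_of_injective A.subtype_injective]
      · have hDr : r ∣ (D.subgroupOf A).index := hrd.trans (Subgroup.relIndex_dvd_of_le_left A le_sup_right)
        obtain ⟨q, hq⟩ := exists_prime_orderOf_dvd_card' (G := A ⧸ D.subgroupOf A) r hDr
        obtain ⟨a, rfl⟩ := QuotientGroup.mk_surjective q
        have hap : (QuotientGroup.mk a : A ⧸ D.subgroupOf A) ^ p = 1 := by
          rw [← QuotientGroup.mk_pow, QuotientGroup.eq_one_iff]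
          exact Subgroup.mem_inf.2 ⟨(a ^ p).2, hA.2.2 a a.2⟩
        have h4 := orderOf_dvd_of_pow_eq_one hap
        rw [hq] at h4
        exact hrp ((Nat.prime_dvd_prime_iff_eq hr hp.out).1 h4)
    set L := V ⊔ P
    have hPn : P ≤ Subgroup.normalizer (V : Set G) := hPA.trans hAV
    have hLp : IsPGroup p L := by
      rw [show L = P ⊔ V from sup_comm _ _]
      exact (T.2.map A.subtype).to_sup_of_normal_right' (fun a => ⟨1, Subtype.ext (by
        rw [pow_one]; exact hV.2 a a.2)⟩) hPn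
    haveI := hLp.isNilpotent
    set W := ⁅V, A⁆
    have hWV : W ≤ V := Subgroup.commutator_le.2 fun v hv a ha => by
      rw [show ⁅v, a⁆ = v * (a * v⁻¹ * a⁻¹) by simp [commutatorElement_def, mul_assoc]]
      exact mul_mem hv (le_normalizer_iff_forall_conj_mem.1 hAV a ha _ (inv_mem hv))
    have hW2 : W ≤ ⁅W, P⁆ := by
      refine Subgroup.commutator_le.2 fun v hv a ha => ?_
      obtain ⟨x, hx, c, hc, rfl⟩ : v ∈ ((⁅U, A⁆ : Subgroup G) : Set G) *
          ((V ⊓ Subgroup.centralizer (A : Set G) : Subgroup G) : Set G) := by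
        have hperm : ((⁅U, A⁆ : Subgroup G) : Set G) *
            ((V ⊓ Subgroup.centralizer (A : Set G) : Subgroup G) : Set G) =
            ((V ⊓ Subgroup.centralizer (A : Set G) : Subgroup G) : Set G) *
              ((⁅U, A⁆ : Subgroup G) : Set G) := by
          have hxy : ∀ x ∈ (⁅U, A⁆ : Subgroup G), ∀ y ∈ V, x * y = y * x := fun x hx y hy =>
            commute_of_isElementaryAbelian hV (hWV (Subgroup.commutator_mono hU le_rfl hx)) hy
          ext z
          constructor
          · rintro ⟨x, hx, y, hy, rfl⟩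
            exact ⟨y, hy, x, hx, (hxy x hx y (Subgroup.mem_inf.1 hy).1).symm⟩
          · rintro ⟨y, hy, x, hx, rfl⟩
            exact ⟨x, hx, y, hy, hxy x hx y (Subgroup.mem_inf.1 hy).1⟩
        rw [← coe_sup_of_permute hperm]
        exact hVeq.le hv
      have hc2 := Subgroup.mem_centralizer_iff.1 (Subgroup.mem_inf.1 hc).2 a ha
      have hstep : ⁅x * c, a⁆ = ⁅x, a⁆ := by
        show x * c * a * (x * c)⁻¹ * a⁻¹ = x * a * x⁻¹ * a⁻¹
        calc x * c * a * (x * c)⁻¹ * a⁻¹ = x * (c * a) * c⁻¹ * x⁻¹ * a⁻¹ := by group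
          _ = x * (a * c) * c⁻¹ * x⁻¹ * a⁻¹ := by rw [hc2]
          _ = _ := by group
      rw [hstep]
      -- replace `a` by an element of `P`
      obtain ⟨π, hπ, d, hd, e'⟩ : a ∈ (P : Set G) *
          ((A ⊓ Subgroup.centralizer (V : Set G) : Subgroup G) : Set G) := by
        have hperm : (P : Set G) * ((A ⊓ Subgroup.centralizer (V : Set G) : Subgroup G) : Set G) =
            ((A ⊓ Subgroup.centralizer (V : Set G) : Subgroup G) : Set G) * (P : Set G) := by
          have hn : P ≤ Subgroup.normalizer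
              ((A ⊓ Subgroup.centralizer (V : Set G) : Subgroup G) : Set G) :=
            le_normalizer_inf_of_le (hPA.trans Subgroup.le_normalizer)
              (hPn.trans (normalizer_le_normalizer_centralizer V))
          ext z
          constructor
          · rintro ⟨x, hx, y, hy, rfl⟩
            exact ⟨x * y * x⁻¹, le_normalizer_iff_forall_conj_mem.1 hn x hx y hy, x, hx,
              by show x * y * x⁻¹ * x = x * y; group⟩
          · rintro ⟨y, hy, x, hx, rfl⟩
            exact ⟨x, hx, x⁻¹ * y * x⁻¹⁻¹, le_normalizer_iff_forall_conj_mem.1 hn _ (inv_mem hx) y hy,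
              by show x * (x⁻¹ * y * x⁻¹⁻¹) = y * x; group⟩
        rw [← coe_sup_of_permute hperm]
        exact hcov ha
      have hxV : x ∈ V := hWV (Subgroup.commutator_mono hU le_rfl hx)
      have hπd : ⁅x, a⁆ = ⁅x, π⁆ := by
        rw [← e']
        have h5 := Subgroup.mem_centralizer_iff.1 (Subgroup.mem_inf.1 hd).2 x⁻¹ (inv_mem hxV)
        show x * (π * d) * x⁻¹ * (π * d)⁻¹ = x * π * x⁻¹ * π⁻¹
        calc x * (π * d) * x⁻¹ * (π * d)⁻¹ = x * π * (d * x⁻¹) * d⁻¹ * π⁻¹ := by group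
          _ = x * π * (x⁻¹ * d) * d⁻¹ * π⁻¹ := by rw [h5]
          _ = _ := by group
      rw [hπd]
      exact Subgroup.commutator_mem_commutator (Subgroup.commutator_mono hU le_rfl hx) hπ
    have hWb : W.subgroupOf L = ⊥ := by
      refine isNilpotent_bot_of_eq_commutator ?_
      intro w hw
      have h3 : (w : G) ∈ (⁅W.subgroupOf L, (⊤ : Subgroup L)⁆).map L.subtype := by
        rw [Subgroup.map_commutator, Subgroup.subgroupOf_map_subtype, ← MonoidHom.range_eq_map,
          Subgroup.range_subtype, inf_eq_left.2 (hWV.trans le_sup_left)]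
        exact Subgroup.commutator_mono le_rfl le_sup_right (hW2 hw)
      obtain ⟨w', hw', e'⟩ := h3
      rwa [← Subtype.ext e']
    refine hne (le_bot_iff.1 fun w hw => ?_)
    have h3 := hWb.le (show (⟨w, Subgroup.mem_sup_left (hWV hw)⟩ : L) ∈ W.subgroupOf L from hw)
    exact congrArg Subtype.val h3
where
  normalizer_le_normalizer_centralizer (V : Subgroup G) :
      Subgroup.normalizer (V : Set G) ≤
        Subgroup.normalizer (Subgroup.centralizer (V : Set G) : Set G) := by
    refine le_normalizer_iff_forall_conj_mem.2 fun g hg c hc => ?_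
    rw [Subgroup.mem_centralizer_iff]
    intro x hx
    have hx' : g⁻¹ * x * g ∈ V := by
      simpa using le_normalizer_iff_forall_conj_mem.1 le_rfl _ (inv_mem hg) x hx
    have h3 := Subgroup.mem_centralizer_iff.1 hc _ hx'
    calc x * (g * c * g⁻¹) = g * ((g⁻¹ * x * g) * c) * g⁻¹ := by group
      _ = g * (c * (g⁻¹ * x * g)) * g⁻¹ := by rw [h3]
      _ = _ := by group

end CfsgLib.Solv
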