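import Cfsg.Agent.Solv.PComponents

/-!
Existence, uniqueness and normality of `p`-components in the `p`-layer.
-/

set_option autoImplicit false
set_option linter.style.haveILetI false

open scoped commutatorElement

namespace CfsgLib.Solv

variable {X : Type*} [Group X] [Finite X] {p : ℕ} [hp : Fact p.Prime]

/-- A `p`-component is generated by its `p`-elements. -/
theorem pComp_closure_pElements {K : Subgroup X} (hK : Cfsg.IsPComponent p K) :
    Subgroup.closure {g : X | g ∈ K ∧ ∃ k, orderOf g = p ^ k} = K := by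
  set N := Subgroup.closure {g : ↥K | ∃ k, orderOf g = p ^ k} with hN
  haveI : N.Normal := by
    refine ⟨fun n hn g => ?_⟩
    have : N.map (MulAut.conj g).toMonoidHom ≤ N := by
      rw [hN, MonoidHom.map_closure]
      refine Subgroup.closure_mono ?_
      rintro _ ⟨x, ⟨k, hk⟩, rfl⟩
      exact ⟨k, (orderOf_injective (MulAut.conj g).toMonoidHom (MulAut.conj g).injective x).trans hk⟩
    exact this ⟨n, hn, rfl⟩
  obtain ⟨S⟩ : Nonempty (Sylow p ↥K) := inferInstance
  have hS : (S : Subgroup ↥K) ≤ N := fun s hs => Subgroup.subset_closure (by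
    obtain ⟨k, hk⟩ := IsPGroup.iff_orderOf.mp S.isPGroup' ⟨s, hs⟩
    exact ⟨k, hk ▸ orderOf_injective (S : Subgroup ↥K).subtype Subtype.val_injective ⟨s, hs⟩⟩)
  have htop := pComp_eq_top_of_index hK N fun h => S.not_dvd_index (h.trans (Subgroup.index_dvd_of_le hS))
  refine le_antisymm ((Subgroup.closure_le K).2 fun g hg => hg.1) fun x hx => ?_
  have hx' : (⟨x, hx⟩ : ↥K) ∈ N := htop ▸ Subgroup.mem_top _
  have hmap : N.map K.subtype ≤ Subgroup.closure {g : X | g ∈ K ∧ ∃ k, orderOf g = p ^ k} := by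
    rw [hN, MonoidHom.map_closure]
    refine Subgroup.closure_mono ?_
    rintro _ ⟨y, ⟨k, hk⟩, rfl⟩
    exact ⟨y.2, k, by rw [Subgroup.coe_subtype, Subgroup.orderOf_coe, hk]⟩
  exact hmap ⟨_, hx', rfl⟩

theorem pComp_le_of_map_eq [(Cfsg.pPrimeCore p X).Normal] {K L : Subgroup X} (hK : Cfsg.IsPComponent p K)
    (hL : Cfsg.IsPComponent p L)
    (he : K.map (QuotientGroup.mk' (Cfsg.pPrimeCore p X)) = L.map (QuotientGroup.mk' (Cfsg.pPrimeCore p X))) :
    K ≤ L := by
  set π := QuotientGroup.mk' (Cfsg.pPrimeCore p X) with hπ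
  set M := (K.map π).comap π with hM
  have hLM : L ≤ M := by rw [hM, he]; exact Subgroup.le_comap_map _ _
  have hidx : ¬ p ∣ (L.subgroupOf M).index := by
    intro hd
    have h1 : M ≤ L ⊔ Cfsg.pPrimeCore p X := by
      rw [hM, he, Subgroup.comap_map_eq, QuotientGroup.ker_mk']
    have h2 : Nat.card L * L.relIndex M ∣ Nat.card L * Nat.card (Cfsg.pPrimeCore p X) := by
      rw [relIndex_mul_card hLM]
      exact (Subgroup.card_dvd_of_le h1).trans (card_sup_dvd_mul L _)
    exact not_dvd_card_pPrimeCore (hd.trans ((Nat.mul_dvd_mul_iff_left Nat.card_pos).mp h2))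
  refine (pComp_closure_pElements hK).ge.trans ((Subgroup.closure_le L).2 ?_)
  rintro g ⟨hg, k, hk⟩
  have hgM : g ∈ M := ⟨g, hg, rfl⟩
  exact Cfsg.Agent.S1887.pelem_mem_of_subnormal (G := ↥M) hL.1.subgroupOf hidx ⟨g, hgM⟩
    ⟨k, by rw [Subgroup.orderOf_mk, hk]⟩

theorem pComp_eq_of_map_eq [(Cfsg.pPrimeCore p X).Normal] {K L : Subgroup X} (hK : Cfsg.IsPComponent p K)
    (hL : Cfsg.IsPComponent p L)
    (he : K.map (QuotientGroup.mk' (Cfsg.pPrimeCore p X)) = L.map (QuotientGroup.mk' (Cfsg.pPrimeCore p X))) :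
    K = L :=
  le_antisymm (pComp_le_of_map_eq hK hL he) (pComp_le_of_map_eq hL hK he.symm)

omit hp in
theorem exists_pComp_over [(Cfsg.pPrimeCore p X).Normal] {Kbar : Subgroup (X ⧸ Cfsg.pPrimeCore p X)}
    (hKbar : Cfsg.IsComponent Kbar) :
    ∃ K : Subgroup X, Cfsg.IsPComponent p K ∧ K.map (QuotientGroup.mk' (Cfsg.pPrimeCore p X)) = Kbar := by
  set π := QuotientGroup.mk' (Cfsg.pPrimeCore p X) with hπ
  obtain ⟨K, -, hK⟩ := Finite.exists_le_minimal (p := fun H : Subgroup X => H.IsSubnormal ∧ H.map π = Kbar)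
    (a := Kbar.comap π) ⟨hKbar.1.comap π, Subgroup.map_comap_eq_self_of_surjective (QuotientGroup.mk'_surjective _) _⟩
  refine ⟨K, ⟨hK.1.1, by rw [← hπ, hK.1.2]; exact hKbar, fun H hH hle he => ?_⟩, hK.1.2⟩
  exact le_antisymm hle (hK.2 ⟨hH, he.trans hK.1.2⟩ hle)

/-- The `p`-layer normalizes every `p`-component. -/
theorem pLayer_le_normalizer {K : Subgroup X} (hK : Cfsg.IsPComponent p K) :
    Cfsg.pLayer p X ≤ Subgroup.normalizer (K : Set X) := by
  haveI := pPrimeCore_normal X p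
  refine sSup_le fun L hL => ?_
  by_cases hne : L = K
  · subst hne; exact Subgroup.le_normalizer
  set π := QuotientGroup.mk' (Cfsg.pPrimeCore p X) with hπ
  have hne' : L.map π ≠ K.map π := fun e => hne (pComp_eq_of_map_eq hL hK e)
  have hc := Subgroup.commutator_eq_bot_iff_le_centralizer.1
    (CfsgLib.Inv.components_commute hL.2.1 hK.2.1 hne')
  intro l hl
  have hconj : Cfsg.IsPComponent p (K.map (MulAut.conj l).toMonoidHom) := by
    have hmap : ∀ H : Subgroup X, (H.map (MulAut.conj l).toMonoidHom).map π =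
        (H.map π).map (MulAut.conj (π l)).toMonoidHom := by
      intro H
      rw [Subgroup.map_map, Subgroup.map_map]
      rfl
    have hfix : (K.map π).map (MulAut.conj (π l)).toMonoidHom = K.map π := by
      refine Subgroup.eq_of_le_of_card_ge ?_ (Subgroup.card_map_of_injective (MulAut.conj (π l)).injective).ge
      rintro _ ⟨y, hy, rfl⟩
      have h := Subgroup.mem_centralizer_iff.1 (hc ⟨l, hl, rfl⟩) y hy
      show π l * y * (π l)⁻¹ ∈ K.map π
      rw [← h, mul_inv_cancel_right]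
      exact hy
    refine ⟨hK.1.map (MulAut.conj l).surjective, by rw [← hπ, hmap, hfix]; exact hK.2.1, fun H hH hle he => ?_⟩
    rw [← hπ, hmap, hfix] at he
    have hH' : (H.map (MulAut.conj l⁻¹).toMonoidHom).IsSubnormal := hH.map (MulAut.conj l⁻¹).surjective
    have hle' : H.map (MulAut.conj l⁻¹).toMonoidHom ≤ K := by
      rintro _ ⟨h, hh, rfl⟩
      obtain ⟨k, hk, rfl⟩ := hle hh
      simpa [mul_assoc] using hk
    have he' : (H.map (MulAut.conj l⁻¹).toMonoidHom).map π = K.map π := by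
      refine le_antisymm (Subgroup.map_mono hle') fun y hy => ?_
      have hy' : π l * y * (π l)⁻¹ ∈ H.map π := by
        rw [he, ← hfix]; exact ⟨y, hy, rfl⟩
      obtain ⟨h, hh, hhy⟩ := hy'
      refine ⟨l⁻¹ * h * l⁻¹⁻¹, ⟨h, hh, rfl⟩, ?_⟩
      rw [map_mul, map_mul, map_inv, hhy, map_inv, map_inv]
      group
    rw [← hK.2.2 _ hH' hle' he', Subgroup.map_map]
    ext x
    constructor
    · intro hx; exact ⟨x, hx, by simp [mul_assoc]⟩
    · rintro ⟨x', hx', rfl⟩; simpa [mul_assoc] using hx'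
  have heq : K.map (MulAut.conj l).toMonoidHom = K := by
    refine pComp_eq_of_map_eq hconj hK ?_
    refine Subgroup.eq_of_le_of_card_ge ?_ ?_
    · rintro _ ⟨_, ⟨k, hk, rfl⟩, rfl⟩
      have h := Subgroup.mem_centralizer_iff.1 (hc ⟨l, hl, rfl⟩) (π k) ⟨k, hk, rfl⟩
      refine ⟨k, hk, ?_⟩
      show π k = π (l * k * l⁻¹)
      rw [map_mul, map_mul, map_inv, ← h, mul_inv_cancel_right]
    · have e : (K.map (MulAut.conj l).toMonoidHom).map π = (K.map π).map (MulAut.conj (π l)).toMonoidHom := by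
        rw [Subgroup.map_map, Subgroup.map_map]; rfl
      show Nat.card ↥(K.map π) ≤ Nat.card ↥((K.map (MulAut.conj l).toMonoidHom).map π)
      rw [e]; exact (Subgroup.card_map_of_injective (MulAut.conj (π l)).injective).ge
  refine Subgroup.mem_normalizer_iff.2 fun x => ⟨fun hx => heq.le ⟨x, hx, rfl⟩, fun hx => ?_⟩
  obtain ⟨k, hk, hkx⟩ := heq.ge hx
  rwa [(MulAut.conj l).injective hkx] at hk

end CfsgLib.Solv
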