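import Cfsg.Agent.Solv.WardModule
import Cfsg.Prelude.Def_Balance

/-!
Solvable signalizer functors: the family, generation and transitivity.
-/

set_option autoImplicit false
set_option linter.style.haveILetI false
set_option linter.deprecated false
set_option linter.unusedSectionVars false

open scoped Pointwise

namespace CfsgLib.Solv.Sig

open CfsgLib.Solv

variable {G : Type*} [Group G] [Finite G] {p : ℕ} [hp : Fact p.Prime] {A : Subgroup G} {θ : G → Subgroup G}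

theorem not_isCyclic (hA : Cfsg.IsElementaryAbelian p A) (h2 : p ^ 2 ≤ Nat.card A) : ¬ IsCyclic A := by
  intro hc
  obtain ⟨g, hg⟩ := hc.exists_generator
  have h1 : Nat.card A = orderOf g := (orderOf_eq_card_of_forall_mem_zpowers hg).symm
  have h3 := Nat.le_of_dvd hp.out.pos (orderOf_dvd_of_pow_eq_one (Subtype.ext (hA.2 g g.2)) : orderOf g ∣ p)
  have := hp.out.two_le
  nlinarith

theorem card_eq_pow (hA : Cfsg.IsElementaryAbelian p A) : ∃ n : ℕ, Nat.card A = p ^ n :=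
  IsPGroup.iff_card.1 fun a => ⟨1, Subtype.ext (by simpa using hA.2 a a.2)⟩

theorem comm (hA : Cfsg.IsElementaryAbelian p A) {a b : G} (ha : a ∈ A) (hb : b ∈ A) : a * b = b * a :=
  congrArg Subtype.val (hA.1.is_comm.comm ⟨a, ha⟩ ⟨b, hb⟩)

theorem coprime_card (hA : Cfsg.IsElementaryAbelian p A) {U : Subgroup G} (hU : ¬ p ∣ Nat.card U) :
    (Nat.card A).Coprime (Nat.card U) := by
  obtain ⟨n, hn⟩ := card_eq_pow hA
  rw [hn]
  exact (hp.out.coprime_iff_not_dvd.2 hU).pow_left n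

theorem isSolvable_of_elementary (hA : Cfsg.IsElementaryAbelian p A) : Group.IsSolvable A :=
  haveI := hA.1; isSolvable_of_isMulCommutative A

/-- The membership conditions of the family, with invariance as normalization. -/
theorem mem_family {U : Subgroup G} : U ∈ Cfsg.signalizerFamily p A θ ↔ Group.IsSolvable U ∧ ¬ p ∣ Nat.card U ∧
    A ≤ Subgroup.normalizer (U : Set G) ∧ ∀ a ∈ A, a ≠ 1 → U ⊓ Subgroup.centralizer {a} ≤ θ a := by
  rw [le_normalizer_iff_forall_conj_mem]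
  rfl

theorem theta_mem (hθ : Cfsg.IsSolvableSignalizerFunctor p A θ) {a : G} (ha : a ∈ A) (ha1 : a ≠ 1) :
    θ a ∈ Cfsg.signalizerFamily p A θ :=
  ⟨hθ.2 a ha ha1, hθ.1.2.1 a ha ha1, hθ.1.2.2.1 a ha ha1, fun b hb hb1 => hθ.1.2.2.2 a ha ha1 b hb hb1⟩

theorem mem_of_le {U V : Subgroup G} (hV : V ∈ Cfsg.signalizerFamily p A θ) (hUV : U ≤ V)
    (hAU : A ≤ Subgroup.normalizer (U : Set G)) : U ∈ Cfsg.signalizerFamily p A θ := by
  obtain ⟨hs, hd, -, hC⟩ := hV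
  haveI := hs
  exact mem_family.2 ⟨isSolvable_of_le hUV, fun h => hd (h.trans (Subgroup.card_dvd_of_le hUV)), hAU,
    fun a ha ha1 => (inf_le_inf_right _ hUV).trans (hC a ha ha1)⟩

theorem sup_mem (hA : Cfsg.IsElementaryAbelian p A) {X Y : Subgroup G} (hX : X ∈ Cfsg.signalizerFamily p A θ)
    (hY : Y ∈ Cfsg.signalizerFamily p A θ) (hn : Y ≤ Subgroup.normalizer (X : Set G)) :
    X ⊔ Y ∈ Cfsg.signalizerFamily p A θ := by
  obtain ⟨hXs, hXd, hXA, hXC⟩ := mem_family.1 hX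
  obtain ⟨hYs, hYd, hYA, hYC⟩ := mem_family.1 hY
  have hdvd : ¬ p ∣ Nat.card (X ⊔ Y : Subgroup G) := by
    haveI : (X.subgroupOf (Subgroup.normalizer (X : Set G))).Normal := Subgroup.normal_in_normalizer
    intro hd
    have h1 := card_sup_dvd_mul (Y.subgroupOf (Subgroup.normalizer (X : Set G)))
      (X.subgroupOf (Subgroup.normalizer (X : Set G)))
    rw [← Subgroup.subgroupOf_sup hn Subgroup.le_normalizer, card_subgroupOf (sup_le hn Subgroup.le_normalizer),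
      card_subgroupOf hn, card_subgroupOf Subgroup.le_normalizer, sup_comm] at h1
    rcases hp.out.dvd_mul.1 (hd.trans h1) with h | h
    exacts [hYd h, hXd h]
  haveI : (X.subgroupOf (X ⊔ Y)).Normal :=
    Subgroup.normal_subgroupOf_of_le_normalizer (sup_le Subgroup.le_normalizer hn)
  have hsolv : Group.IsSolvable (X ⊔ Y : Subgroup G) := by
    haveI := hYs
    haveI : Group.IsSolvable (X.subgroupOf (X ⊔ Y)) := haveI := hXs
      isSolvable_of_mulEquiv (G := X) (Subgroup.subgroupOfEquivOfLe le_sup_left).symm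
    haveI : Group.IsSolvable ((X ⊔ Y : Subgroup G) ⧸ X.subgroupOf (X ⊔ Y)) := by
      refine Group.isSolvable_of_surjective (f := (QuotientGroup.mk' (X.subgroupOf (X ⊔ Y))).comp
        (Subgroup.inclusion (le_sup_right : Y ≤ X ⊔ Y))) fun w => ?_
      obtain ⟨⟨z, hz⟩, rfl⟩ := QuotientGroup.mk'_surjective _ w
      obtain ⟨x, hx, y, hy, rfl⟩ := exists_mul_of_mem_sup hn (sup_comm X Y ▸ hz)
      refine ⟨⟨y, hy⟩, (QuotientGroup.eq).2 ?_⟩
      show y⁻¹ * (x * y) ∈ X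
      have := le_normalizer_iff_forall_conj_mem.1 hn y⁻¹ (inv_mem hy) x hx
      simpa [mul_assoc] using this
    exact Group.isSolvable_of_ker_le_range (X.subgroupOf (X ⊔ Y)).subtype (QuotientGroup.mk' (X.subgroupOf (X ⊔ Y))) (by simp)
  have hnA : A ≤ Subgroup.normalizer ((X ⊔ Y : Subgroup G) : Set G) := fun a ha =>
    mem_normalizer_of_conj_smul_eq (by
      rw [conj_smul_eq_map, Subgroup.map_sup, ← conj_smul_eq_map, ← conj_smul_eq_map,
        conj_smul_eq_self_of_mem_normalizer (hXA ha), conj_smul_eq_self_of_mem_normalizer (hYA ha)])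
  refine mem_family.2 ⟨hsolv, hdvd, hnA, fun a ha ha1 z hz => ?_⟩
  obtain ⟨hzU, hza⟩ := Subgroup.mem_inf.1 hz
  obtain ⟨x, hx, y, hy, rfl⟩ := exists_mul_of_mem_sup hn (sup_comm X Y ▸ hzU)
  have hle : Subgroup.zpowers a ≤ A := Subgroup.zpowers_le.2 ha
  have hcop := (coprime_card hA hYd).coprime_dvd_left (Subgroup.card_dvd_of_le hle)
  obtain ⟨d, hd, hyd⟩ := exists_centralizing_in_coset (A := Subgroup.zpowers a) (K := Y) (D := X ⊓ Y)
    (hle.trans hYA) (inf_eq_bot_of_coprime_card hcop) inf_le_right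
    (le_normalizer_inf_of_le (hle.trans hXA) (hle.trans hYA))
    (hcop.coprime_dvd_right (Subgroup.card_dvd_of_le inf_le_right)) (Or.inl (isSolvable_zpowers a)) hy
    (fun b hb => by
      have hbz : Commute b (x * y) := by
        obtain ⟨i, rfl⟩ := Subgroup.mem_zpowers_iff.1 hb
        exact (show Commute a (x * y) from (Subgroup.mem_centralizer_singleton_iff.1 hza).symm).zpow_left i
      refine Subgroup.mem_inf.2 ⟨?_, ?_⟩
      · have h2 : y⁻¹ * b * y * b⁻¹ = y⁻¹ * (b * x⁻¹ * b⁻¹ * x) * y := by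
          calc y⁻¹ * b * y * b⁻¹ = y⁻¹ * (b * x⁻¹) * (x * y * b⁻¹) := by group
            _ = y⁻¹ * (b * x⁻¹) * (b⁻¹ * (x * y)) := by rw [hbz.inv_left.eq]
            _ = _ := by group
        rw [h2]
        have := le_normalizer_iff_forall_conj_mem.1 hn y⁻¹ (inv_mem hy) _
          (mul_mem (le_normalizer_iff_forall_conj_mem.1 (hle.trans hXA) b hb x⁻¹ (inv_mem hx)) hx)
        simpa [mul_assoc] using this
      · simpa [mul_assoc] using
          mul_mem (inv_mem hy) (le_normalizer_iff_forall_conj_mem.1 (hle.trans hYA) b hb y hy))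
  have hda : y * d ∈ θ a := hYC a ha ha1 (Subgroup.mem_inf.2 ⟨mul_mem hy (Subgroup.mem_inf.1 hd).2,
    Subgroup.mem_centralizer_singleton_iff.2
      (Subgroup.mem_centralizer_iff.1 hyd a (Subgroup.mem_zpowers a)).symm⟩)
  have hrest : x * y * (y * d)⁻¹ ∈ θ a := hXC a ha ha1 (Subgroup.mem_inf.2 ⟨?_, ?_⟩)
  · simpa [mul_assoc] using mul_mem hrest hda
  · have := mul_mem hx (le_normalizer_iff_forall_conj_mem.1 hn y hy _ (inv_mem (Subgroup.mem_inf.1 hd).1))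
    simpa [mul_assoc] using this
  · refine mul_mem hza (inv_mem (Subgroup.mem_centralizer_singleton_iff.2
      (Subgroup.mem_centralizer_iff.1 hyd a (Subgroup.mem_zpowers a)).symm))

theorem inf_le_signalizerInf {U D : Subgroup G} (hU : U ∈ Cfsg.signalizerFamily p A θ) (hD : D ≤ A) :
    U ⊓ Subgroup.centralizer (D : Set G) ≤ Cfsg.signalizerInf D θ := by
  refine le_iInf fun d z hz => ?_
  exact hU.2.2.2 d.1 (hD d.2.1) d.2.2 (Subgroup.mem_inf.2 ⟨(Subgroup.mem_inf.1 hz).1,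
    Subgroup.mem_centralizer_singleton_iff.2
      (Subgroup.mem_centralizer_iff.1 (Subgroup.mem_inf.1 hz).2 d.1 d.2.1).symm⟩)

theorem signalizerInf_le {D : Subgroup G} {a : G} (ha : a ∈ D) (ha1 : a ≠ 1) :
    Cfsg.signalizerInf D θ ≤ θ a :=
  iInf_le (fun d : {d : G // d ∈ D ∧ d ≠ 1} => θ (d : G)) ⟨a, ha, ha1⟩

theorem signalizerInf_le_centralizer (hθ : Cfsg.IsSolvableSignalizerFunctor p A θ) {D : Subgroup G}
    (hD : D ≤ A) : Cfsg.signalizerInf D θ ≤ Subgroup.centralizer (D : Set G) := by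
  intro z hz
  rw [Subgroup.mem_centralizer_iff]
  intro d hd
  rcases eq_or_ne d 1 with rfl | hd1
  · rw [one_mul, mul_one]
  · exact (Subgroup.mem_centralizer_singleton_iff.1 (hθ.1.1 d (hD hd) hd1 (signalizerInf_le hd hd1 hz))).symm

theorem signalizerInf_mem (hθ : Cfsg.IsSolvableSignalizerFunctor p A θ) {B : Subgroup G} (hB : B ≤ A)
    (hne : B ≠ ⊥) : Cfsg.signalizerInf B θ ∈ Cfsg.signalizerFamily p A θ := by
  obtain ⟨b, hb, hb1⟩ := B.bot_or_exists_ne_one.resolve_left hne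
  refine mem_of_le (theta_mem hθ (hB hb) hb1) (signalizerInf_le hb hb1) ?_
  rw [le_normalizer_iff_forall_conj_mem]
  intro a ha z hz
  exact Subgroup.mem_iInf.2 fun d => hθ.1.2.2.1 d.1 (hB d.2.1) d.2.2 a ha z (Subgroup.mem_iInf.1 hz d)

/-- An element of `θ a` centralizing `A` lies in every `θ b`. -/
theorem mem_signalizerInf (hθ : Cfsg.IsSolvableSignalizerFunctor p A θ) {a z : G} (ha : a ∈ A) (ha1 : a ≠ 1)
    (hz : z ∈ θ a) (hzA : z ∈ Subgroup.centralizer (A : Set G)) : z ∈ Cfsg.signalizerInf A θ :=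
  inf_le_signalizerInf (theta_mem hθ ha ha1) le_rfl (Subgroup.mem_inf.2 ⟨hz, hzA⟩)

theorem conj_mem_family (hθ : Cfsg.IsSolvableSignalizerFunctor p A θ) {c : G}
    (hc : c ∈ Cfsg.signalizerInf A θ) {U : Subgroup G} (hU : U ∈ Cfsg.signalizerFamily p A θ) :
    MulAut.conj c • U ∈ Cfsg.signalizerFamily p A θ := by
  obtain ⟨hs, hd, hA, hC⟩ := mem_family.1 hU
  have hcA := signalizerInf_le_centralizer hθ (le_refl A) hc
  have hac : ∀ a ∈ A, Commute a c := fun a ha => Subgroup.mem_centralizer_iff.1 hcA a ha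
  refine mem_family.2 ⟨?_, by rwa [card_conj_smul], ?_, fun a ha ha1 z hz => ?_⟩
  · haveI := hs
    exact isSolvable_of_mulEquiv (G := U) (Subgroup.equivSMul (MulAut.conj c) U)
  · rw [le_normalizer_iff_forall_conj_mem]
    intro a ha z hz
    rw [mem_conj_smul_iff] at hz ⊢
    have h1 : c⁻¹ * (a * z * a⁻¹) * c = a * (c⁻¹ * z * c) * a⁻¹ := by
      have e1 : c⁻¹ * a = a * c⁻¹ := ((hac a ha).inv_right).eq.symm
      have e2 : a⁻¹ * c = c * a⁻¹ := ((hac a ha).inv_left).eq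
      calc c⁻¹ * (a * z * a⁻¹) * c = (c⁻¹ * a) * z * (a⁻¹ * c) := by group
        _ = _ := by rw [e1, e2]; group
    rw [h1]
    exact le_normalizer_iff_forall_conj_mem.1 hA a ha _ hz
  · obtain ⟨hzU, hza⟩ := Subgroup.mem_inf.1 hz
    rw [mem_conj_smul_iff] at hzU
    have hca : c ∈ θ a := signalizerInf_le ha ha1 hc
    have h1 : c⁻¹ * z * c ∈ θ a := hC a ha ha1 (Subgroup.mem_inf.2 ⟨hzU, mul_mem (mul_mem
      (inv_mem (hθ.1.1 a ha ha1 hca)) hza) (hθ.1.1 a ha ha1 hca)⟩)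
    simpa [mul_assoc] using mul_mem (mul_mem hca h1) (inv_mem hca)

variable (p A θ) in
/-- A maximal `q`-subgroup in the family. -/
def MaxQ (q : ℕ) (Q : Subgroup G) : Prop :=
  Q ∈ Cfsg.signalizerFamily p A θ ∧ IsPGroup q Q ∧
    ∀ R ∈ Cfsg.signalizerFamily p A θ, IsPGroup q R → Q ≤ R → R = Q

theorem exists_maxQ_ge {q : ℕ} {U : Subgroup G} (hU : U ∈ Cfsg.signalizerFamily p A θ) (hUq : IsPGroup q U) :
    ∃ Q, MaxQ p A θ q Q ∧ U ≤ Q := by
  obtain ⟨Q, hUQ, hQ⟩ := Finite.exists_le_maximal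
    (p := fun R : Subgroup G => R ∈ Cfsg.signalizerFamily p A θ ∧ IsPGroup q R) (a := U) ⟨hU, hUq⟩
  exact ⟨Q, ⟨hQ.1.1, hQ.1.2, fun R hR hRq hle => (hQ.eq_of_le ⟨hR, hRq⟩ hle).symm⟩, hUQ⟩

theorem maxQ_conj (hθ : Cfsg.IsSolvableSignalizerFunctor p A θ) {q : ℕ} {Q : Subgroup G}
    (hQ : MaxQ p A θ q Q) {c : G} (hc : c ∈ Cfsg.signalizerInf A θ) : MaxQ p A θ q (MulAut.conj c • Q) := by
  refine ⟨conj_mem_family hθ hc hQ.1, hQ.2.1.map _, fun R hR hRq hle => ?_⟩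
  have h1 := hQ.2.2 _ (conj_mem_family hθ (inv_mem hc) hR) (hRq.map _) (by
    intro x hx
    rw [mem_conj_smul_iff, inv_inv]
    exact hle (mem_conj_smul_iff.2 (by simpa [mul_assoc] using hx)))
  rw [← h1, smul_smul, ← map_mul, mul_inv_cancel, map_one, one_smul]

theorem signalizerInf_hyperplane_ne_bot {B : Subgroup G} (h : p ≤ Nat.card B) : B ≠ ⊥ := fun e => by
  rw [e, Subgroup.card_bot] at h
  exact absurd h (by have := hp.out.two_le; omega)

/-- `A = B ⟨a⟩` forces index at most `p`. -/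
theorem card_le_of_cocyclic (hA : Cfsg.IsElementaryAbelian p A) {B : Subgroup G} (hB : B ≤ A)
    (h : ∃ a ∈ A, B ⊔ Subgroup.zpowers a = A) : Nat.card A ≤ Nat.card B * p := by
  obtain ⟨a, ha, he⟩ := h
  have hN : Subgroup.zpowers a ≤ Subgroup.normalizer (B : Set G) := fun x hx =>
    Subgroup.mem_normalizer_fintype fun y hy => by
      rwa [comm hA ((Subgroup.zpowers_le.2 ha) hx) (hB hy), mul_inv_cancel_right]
  haveI : (B.subgroupOf (Subgroup.normalizer (B : Set G))).Normal := Subgroup.normal_in_normalizer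
  have h1 := card_sup_dvd_mul ((Subgroup.zpowers a).subgroupOf (Subgroup.normalizer (B : Set G)))
    (B.subgroupOf (Subgroup.normalizer (B : Set G)))
  rw [← Subgroup.subgroupOf_sup hN Subgroup.le_normalizer, card_subgroupOf (sup_le hN Subgroup.le_normalizer),
    card_subgroupOf hN, card_subgroupOf Subgroup.le_normalizer, sup_comm, he, Nat.card_zpowers] at h1
  calc Nat.card A ≤ orderOf a * Nat.card B := Nat.le_of_dvd (Nat.mul_pos (orderOf_pos a) Nat.card_pos) h1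
    _ ≤ p * Nat.card B := Nat.mul_le_mul_right _ (Nat.le_of_dvd hp.out.pos (orderOf_dvd_of_pow_eq_one (hA.2 a ha)))
    _ = _ := mul_comm _ _

theorem inf_ne_bot_of_cocyclic (hA : Cfsg.IsElementaryAbelian p A) (h3 : p ^ 3 ≤ Nat.card A) {B₁ B₂ : Subgroup G}
    (h1 : B₁ ≤ A) (h2 : B₂ ≤ A) (c1 : ∃ a ∈ A, B₁ ⊔ Subgroup.zpowers a = A)
    (c2 : ∃ a ∈ A, B₂ ⊔ Subgroup.zpowers a = A) : B₁ ⊓ B₂ ≠ ⊥ := by
  intro hbot
  let f : ↥B₁ × ↥B₂ → ↥A := fun x => ⟨x.1 * x.2, mul_mem (h1 x.1.2) (h2 x.2.2)⟩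
  have hf : Function.Injective f := by
    intro x y hxy
    have he : (x.1 : G) * x.2 = y.1 * y.2 := congrArg Subtype.val hxy
    have hm : (y.1 : G)⁻¹ * x.1 ∈ B₁ ⊓ B₂ := by
      refine Subgroup.mem_inf.2 ⟨mul_mem (inv_mem y.1.2) x.1.2, ?_⟩
      rw [show (y.1 : G)⁻¹ * x.1 = y.2 * (x.2 : G)⁻¹ by
        calc (y.1 : G)⁻¹ * x.1 = (y.1 : G)⁻¹ * ((x.1 : G) * x.2) * (x.2 : G)⁻¹ := by group
          _ = _ := by rw [he]; group]
      exact mul_mem y.2.2 (inv_mem x.2.2)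
    rw [hbot, Subgroup.mem_bot, inv_mul_eq_one] at hm
    refine Prod.ext (Subtype.ext hm.symm) (Subtype.ext ?_)
    rw [hm] at he
    exact mul_left_cancel he
  have hc := Nat.card_le_card_of_injective f hf
  rw [Nat.card_prod] at hc
  have e1 := card_le_of_cocyclic hA h1 c1
  have e2 := card_le_of_cocyclic hA h2 c2
  have := hp.out.two_le
  have hAp := Nat.card_pos (α := A)
  have h4 : Nat.card A * Nat.card A ≤ Nat.card A * (p * p) := by
    calc Nat.card A * Nat.card A ≤ (Nat.card B₁ * p) * (Nat.card B₂ * p) := Nat.mul_le_mul e1 e2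
      _ = Nat.card B₁ * Nat.card B₂ * (p * p) := by ring
      _ ≤ _ := Nat.mul_le_mul_right _ hc
  have h5 := Nat.le_of_mul_le_mul_left h4 hAp
  nlinarith

/-- The transitivity theorem. -/
theorem transitivity (hA : Cfsg.IsElementaryAbelian p A) (h3 : p ^ 3 ≤ Nat.card A)
    (hθ : Cfsg.IsSolvableSignalizerFunctor p A θ) {q : ℕ} [Fact q.Prime] {Q₁ Q₂ : Subgroup G}
    (h₁ : MaxQ p A θ q Q₁) (h₂ : MaxQ p A θ q Q₂) :
    ∃ c ∈ Cfsg.signalizerInf A θ, MulAut.conj c • Q₁ = Q₂ := by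
  classical
  by_contra hcon
  obtain ⟨Q, ⟨X₁, X₂, hX₁, hX₂, hX, rfl⟩, hQmax⟩ := (Set.toFinite {Q : Subgroup G | ∃ X₁ X₂,
    MaxQ p A θ q X₁ ∧ MaxQ p A θ q X₂ ∧ (¬ ∃ c ∈ Cfsg.signalizerInf A θ, MulAut.conj c • X₁ = X₂) ∧
      Q = X₁ ⊓ X₂}).exists_maximal ⟨_, Q₁, Q₂, h₁, h₂, hcon, rfl⟩
  set Q := X₁ ⊓ X₂ with hQ
  haveI := hA.1
  have hAX : ∀ {X : Subgroup G}, X ∈ Cfsg.signalizerFamily p A θ → A ≤ Subgroup.normalizer (X : Set G) :=
    fun hX => (mem_family.1 hX).2.2.1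
  have hAQ : A ≤ Subgroup.normalizer (Q : Set G) := le_normalizer_inf_of_le (hAX hX₁.1) (hAX hX₂.1)
  have hQW := mem_of_le hX₁.1 (inf_le_left : Q ≤ X₁) hAQ
  have hne : X₁ ≠ X₂ := fun e => hX ⟨1, one_mem _, by rw [map_one, one_smul, e]⟩
  have hlt : ∀ X, MaxQ p A θ q X → Q ≤ X → Q ≠ X →
      ∃ B, B ≤ A ∧ (∃ a ∈ A, B ⊔ Subgroup.zpowers a = A) ∧
        ∃ x ∈ X ⊓ Subgroup.normalizer (Q : Set G) ⊓ Subgroup.centralizer (B : Set G), x ∉ Q := by
    intro X hXm hQX hneX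
    by_contra hno
    push Not at hno
    set N := X ⊓ Subgroup.normalizer (Q : Set G)
    have hle : N ≤ Q := by
      refine le_of_cocyclic_centralizers (A := A) (le_normalizer_inf_of_le (hAX hXm.1) (hAQ.trans Subgroup.le_normalizer))
        ((coprime_card hA hXm.1.2.1).coprime_dvd_right (Subgroup.card_dvd_of_le inf_le_left)) ?_
      intro B hB hBc x hx
      exact hno B hB hBc x hx
    have hlt' : Q.subgroupOf X < ⊤ := by
      rw [lt_top_iff_ne_top, Ne, Subgroup.subgroupOf_eq_top]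
      exact fun h => hneX (le_antisymm hQX h)
    haveI := hXm.2.1.isNilpotent
    have h2 := normalizerCondition_of_isNilpotent (G := X) _ hlt'
    refine h2.not_ge fun z hz => ?_
    have hzN : (z : G) ∈ N := Subgroup.mem_inf.2 ⟨z.2, Subgroup.mem_normalizer_fintype fun u hu =>
      (Subgroup.mem_normalizer_iff.1 hz ⟨u, hQX hu⟩).1 hu⟩
    exact hle hzN
  obtain ⟨B₁, hB₁, hB₁c, x₁, hx₁, hx₁Q⟩ := hlt X₁ hX₁ inf_le_left fun e =>
    hne ((hX₁.2.2 X₂ hX₂.1 hX₂.2.1 (e ▸ inf_le_right)).symm)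
  obtain ⟨B₂, hB₂, hB₂c, x₂, hx₂, hx₂Q⟩ := hlt X₂ hX₂ inf_le_right fun e =>
    hne (hX₂.2.2 X₁ hX₁.1 hX₁.2.1 (e ▸ inf_le_left))
  obtain ⟨b, hb, hb1⟩ := (B₁ ⊓ B₂).bot_or_exists_ne_one.resolve_left (inf_ne_bot_of_cocyclic hA h3 hB₁ hB₂ hB₁c hB₂c)
  have hbA : b ∈ A := hB₁ (Subgroup.mem_inf.1 hb).1
  have hAb : ∀ {U : Subgroup G}, A ≤ Subgroup.normalizer (U : Set G) →
      A ≤ Subgroup.normalizer ((U ⊓ Subgroup.centralizer {b} : Subgroup G) : Set G) := fun hU =>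
    conj_mul_mem_normalizer hA.1 hU b hbA
  set H := θ b ⊓ Subgroup.normalizer (Q : Set G)
  have hAH : A ≤ Subgroup.normalizer (H : Set G) :=
    le_normalizer_inf_of_le (hAX (theta_mem hθ hbA hb1)) (hAQ.trans Subgroup.le_normalizer)
  have hcopH := (coprime_card hA (hθ.1.2.1 b hbA hb1)).coprime_dvd_right
    (Subgroup.card_dvd_of_le (inf_le_left : H ≤ θ b))
  have hs := Or.inl (b := Group.IsSolvable H) (isSolvable_of_elementary hA)
  set T₁ := X₁ ⊓ Subgroup.normalizer (Q : Set G) ⊓ Subgroup.centralizer {b} with hT₁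
  set T₂ := X₂ ⊓ Subgroup.normalizer (Q : Set G) ⊓ Subgroup.centralizer {b} with hT₂
  have hTH : ∀ {X : Subgroup G}, X ∈ Cfsg.signalizerFamily p A θ →
      X ⊓ Subgroup.normalizer (Q : Set G) ⊓ Subgroup.centralizer {b} ≤ H := fun hXW =>
    le_inf ((inf_le_inf_right _ inf_le_left).trans (hXW.2.2.2 b hbA hb1)) (inf_le_left.trans inf_le_right)
  have hTA : ∀ {X : Subgroup G}, X ∈ Cfsg.signalizerFamily p A θ → A ≤ Subgroup.normalizer
      ((X ⊓ Subgroup.normalizer (Q : Set G) ⊓ Subgroup.centralizer {b} : Subgroup G) : Set G) := fun hXW =>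
    hAb (le_normalizer_inf_of_le (hAX hXW) (hAQ.trans Subgroup.le_normalizer))
  obtain ⟨P₁, hTP₁, hP₁A⟩ := exists_invariant_sylow_ge (p := q) hAH hcopH hs (hTH hX₁.1)
    (hX₁.2.1.to_le (inf_le_left.trans inf_le_left)) (hTA hX₁.1)
  obtain ⟨P₂, hTP₂, hP₂A⟩ := exists_invariant_sylow_ge (p := q) hAH hcopH hs (hTH hX₂.1)
    (hX₂.2.1.to_le (inf_le_left.trans inf_le_left)) (hTA hX₂.1)
  obtain ⟨c, hcA, hc⟩ := invariant_sylow_conj hAH hcopH hs P₁ P₂ hP₁A hP₂A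
  have hcD : (c : G) ∈ Cfsg.signalizerInf A θ := mem_signalizerInf hθ hbA hb1 (Subgroup.mem_inf.1 c.2).1 hcA
  have hcQ : (c : G) ∈ Subgroup.normalizer (Q : Set G) := (Subgroup.mem_inf.1 c.2).2
  set P := (P₂ : Subgroup H).map H.subtype
  have hPH : P ≤ H := Subgroup.map_subtype_le _
  have hRW : Q ⊔ P ∈ Cfsg.signalizerFamily p A θ := sup_mem hA hQW
    (mem_of_le (theta_mem hθ hbA hb1) (hPH.trans inf_le_left) hP₂A) (hPH.trans inf_le_right)
  have hRq : IsPGroup q (Q ⊔ P : Subgroup G) := by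
    rw [sup_comm]
    exact (P₂.2.map H.subtype).to_sup_of_normal_right' (hX₁.2.1.to_le inf_le_left) (hPH.trans inf_le_right)
  obtain ⟨X₃, hX₃, hRX₃⟩ := exists_maxQ_ge hRW hRq
  have hx₁T : x₁ ∈ T₁ := Subgroup.mem_inf.2 ⟨(Subgroup.mem_inf.1 hx₁).1, Subgroup.mem_centralizer_singleton_iff.2
    (Subgroup.mem_centralizer_iff.1 (Subgroup.mem_inf.1 hx₁).2 b (Subgroup.mem_inf.1 hb).1).symm⟩
  have hx₂T : x₂ ∈ T₂ := Subgroup.mem_inf.2 ⟨(Subgroup.mem_inf.1 hx₂).1, Subgroup.mem_centralizer_singleton_iff.2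
    (Subgroup.mem_centralizer_iff.1 (Subgroup.mem_inf.1 hx₂).2 b (Subgroup.mem_inf.1 hb).2).symm⟩
  have hbig : ∀ Y₁ Y₂ : Subgroup G, MaxQ p A θ q Y₁ → MaxQ p A θ q Y₂ → Q ≤ Y₁ ⊓ Y₂ →
      (∃ x ∈ Y₁ ⊓ Y₂, x ∉ Q) → ∃ c ∈ Cfsg.signalizerInf A θ, MulAut.conj c • Y₁ = Y₂ := by
    intro Y₁ Y₂ hY₁ hY₂ hle ⟨x, hx, hxQ⟩
    by_contra hno
    exact hxQ ((hQmax ⟨Y₁, Y₂, hY₁, hY₂, hno, rfl⟩ hle) hx)
  have hQX₃ : Q ≤ X₃ := le_sup_left.trans hRX₃
  have hPX₃ : P ≤ X₃ := le_sup_right.trans hRX₃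
  obtain ⟨d, hd, hd₂⟩ := hbig X₃ X₂ hX₃ hX₂ (le_inf hQX₃ inf_le_right)
    ⟨x₂, Subgroup.mem_inf.2 ⟨hPX₃ (hTP₂ hx₂T), (Subgroup.mem_inf.1 (Subgroup.mem_inf.1 hx₂).1).1⟩, hx₂Q⟩
  have hcx : (c : G) * x₁ * (c : G)⁻¹ ∈ P := by
    obtain ⟨u, hu, hue⟩ := hTP₁ hx₁T
    refine ⟨c * u * c⁻¹, ?_, by
      show (c : G) * (u : G) * (c : G)⁻¹ = _
      rw [show (u : G) = x₁ from hue]⟩
    rw [← hc, Sylow.coe_subgroup_smul]
    exact mem_conj_smul_iff.2 (by rw [show c⁻¹ * (c * u * c⁻¹) * c = u by group]; exact hu)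
  have hcxQ : (c : G) * x₁ * (c : G)⁻¹ ∉ Q := fun hmem => hx₁Q (by
    simpa [mul_assoc] using (Subgroup.mem_normalizer_iff.1 (inv_mem hcQ) _).1 hmem)
  have hQc' : Q ≤ MulAut.conj (c : G) • X₁ := fun z hz => mem_conj_smul_iff.2 ((Subgroup.mem_inf.1
      (show (c : G)⁻¹ * z * c ∈ Q from by
        simpa using (Subgroup.mem_normalizer_iff.1 (inv_mem hcQ) z).1 hz)).1)
  have hcxX : (c : G) * x₁ * (c : G)⁻¹ ∈ MulAut.conj (c : G) • X₁ := mem_conj_smul_iff.2 (by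
        simpa [mul_assoc] using (Subgroup.mem_inf.1 (Subgroup.mem_inf.1 hx₁).1).1)
  obtain ⟨e, he, he₁⟩ := hbig (MulAut.conj (c : G) • X₁) X₃ (maxQ_conj hθ hX₁ hcD) hX₃
    (le_inf hQc' hQX₃) ⟨_, Subgroup.mem_inf.2 ⟨hcxX, hPX₃ hcx⟩, hcxQ⟩
  exact hX ⟨d * (e * c), mul_mem hd (mul_mem he hcD), by
      rw [map_mul, map_mul, mul_smul, mul_smul, he₁, hd₂]⟩

/-- Transitivity gives invariant Sylow subgroups of members. -/
theorem exists_sylow_inter (hA : Cfsg.IsElementaryAbelian p A) (h3 : p ^ 3 ≤ Nat.card A)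
    (hθ : Cfsg.IsSolvableSignalizerFunctor p A θ) {q : ℕ} [Fact q.Prime] {Q H : Subgroup G}
    (hQ : MaxQ p A θ q Q) (hH : H ∈ Cfsg.signalizerFamily p A θ) :
    ∃ c ∈ Cfsg.signalizerInf A θ, ∃ S : Sylow q H, (S : Subgroup H).map H.subtype = MulAut.conj c • Q ⊓ H := by
  obtain ⟨S, hS⟩ := exists_invariant_sylow (p := q) (mem_family.1 hH).2.2.1 (coprime_card hA hH.2.1)
    (Or.inl (isSolvable_of_elementary hA))
  have hSW := mem_of_le hH (Subgroup.map_subtype_le _) hS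
  obtain ⟨Q', hQ', hle⟩ := exists_maxQ_ge hSW (S.2.map H.subtype)
  obtain ⟨c, hc, hcQ⟩ := transitivity hA h3 hθ hQ hQ'
  refine ⟨c, hc, S, le_antisymm (le_inf (hcQ.symm ▸ hle) (Subgroup.map_subtype_le _)) ?_⟩
  have hp' : IsPGroup q ((MulAut.conj c • Q ⊓ H).subgroupOf H) :=
    (((maxQ_conj hθ hQ hc).2.1).to_le inf_le_left).comap_of_injective H.subtype H.subtype_injective
  have h1 := S.3 hp' (fun z hz => Subgroup.mem_inf.2 ⟨hcQ.symm ▸ hle (Subgroup.mem_map_of_mem H.subtype hz), z.2⟩)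
  intro z hz
  exact ⟨⟨z, (Subgroup.mem_inf.1 hz).2⟩, h1 ▸ hz, rfl⟩

end CfsgLib.Solv.Sig
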