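import Cfsg.Agent.Solv.ThompsonPre
import Cfsg.Agent.Solv.PGroups
import Mathlib.GroupTheory.Perm.Cycle.Type
import Mathlib.GroupTheory.Nilpotent

/-!
Thompson's transfer lemma and some small transfer and `p`-group facts.
-/

set_option autoImplicit false
set_option linter.style.haveILetI false
set_option linter.deprecated false
set_option linter.unusedSectionVars false

open scoped commutatorElement Pointwise

namespace CfsgLib.Solv

universe u

variable {G : Type*} [Group G] {p : ℕ}

/-- A normal subgroup of order `p` of a `p`-group is central. -/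
theorem le_center_of_card_prime [Finite G] [hp : Fact p.Prime] (hG : IsPGroup p G) {Z : Subgroup G}
    [Z.Normal] (hZ : Nat.card Z = p) : Z ≤ Subgroup.center G := by
  obtain ⟨x, hx, hx1, -, hxc⟩ := exists_central_mod hG (A := (⊥ : Subgroup G)) (N := Z) (fun hle => by
    rw [le_bot_iff.1 hle, Subgroup.card_bot] at hZ
    exact hp.out.ne_one hZ.symm)
  rw [sup_bot_eq] at hx
  have hxc' : x ∈ Subgroup.center G := Subgroup.mem_center_iff.2 fun g =>
    (commutatorElement_eq_one_iff_mul_comm.1 (Subgroup.mem_bot.1 (hxc g))).symm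
  have hle : Subgroup.zpowers x ≤ Z := Subgroup.zpowers_le.2 hx
  have heq : Subgroup.zpowers x = Z := by
    refine Subgroup.eq_of_le_of_card_ge hle ?_
    rcases (Nat.dvd_prime hp.out).1 (hZ ▸ Subgroup.card_dvd_of_le hle) with h1 | h1
    · exact absurd (Subgroup.card_eq_one.1 h1) fun hb => hx1 (hb ▸ Subgroup.mem_zpowers x)
    · rw [h1, hZ]
  rw [← heq]; exact Subgroup.zpowers_le.2 hxc'

/-- Thompson's transfer lemma. -/
theorem thompson_transfer [Finite G] (P : Sylow 2 G) {Q : Subgroup G} (hQP : Q ≤ (P : Subgroup G))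
    (hQi : Q.relIndex (P : Subgroup G) = 2) {u : G} (hu : orderOf u = 2) :
    (∃ M : Subgroup G, M.Normal ∧ M.index = 2 ∧ u ∉ M) ∨ ∃ g : G, g * u * g⁻¹ ∈ Q := by
  classical
  haveI : Fact (2 : ℕ).Prime := ⟨Nat.prime_two⟩
  by_cases h : ∃ g : G, g * u * g⁻¹ ∈ Q
  · exact Or.inr h
  letI := Fintype.ofFinite (G ⧸ Q)
  set σ := MulAction.toPermHom G (G ⧸ Q) with hσ
  set φ := Equiv.Perm.sign.comp σ with hφ
  have hfix : Fintype.card (Function.fixedPoints (σ u)) = 0 := by
    rw [Fintype.card_eq_zero_iff]
    refine ⟨fun x => h ?_⟩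
    obtain ⟨g, hg⟩ := QuotientGroup.mk_surjective x.1
    have hx : σ u (g : G ⧸ Q) = (g : G ⧸ Q) := hg.symm ▸ x.2
    change (((u * g : G)) : G ⧸ Q) = (g : G ⧸ Q) at hx
    rw [QuotientGroup.eq] at hx
    refine ⟨g⁻¹, ?_⟩
    have := inv_mem hx
    simpa [mul_assoc] using this
  have hidx : Fintype.card (G ⧸ Q) = 2 * (P : Subgroup G).index := by
    rw [← Nat.card_eq_fintype_card]
    have h1 := Subgroup.relIndex_mul_index hQP
    rw [hQi] at h1
    exact h1.symm
  have hodd : Odd (P : Subgroup G).index := by
    rw [Nat.odd_iff]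
    have := P.not_dvd_index
    omega
  have hφu : φ u = -1 := by
    show Equiv.Perm.sign (σ u) = -1
    rw [Equiv.Perm.sign_of_pow_two_eq_one (by rw [← map_pow, ← hu, pow_orderOf_eq_one, map_one]),
      hfix, hidx, Nat.sub_zero, Nat.mul_div_cancel_left _ (by norm_num : 0 < 2), hodd.neg_one_pow]
  refine Or.inl ⟨φ.ker, inferInstance, ?_, fun hm => ?_⟩
  · rw [Subgroup.index_ker]
    have hsurj : Function.Surjective φ := fun y => by
      rcases Int.units_eq_one_or y with rfl | rfl
      · exact ⟨1, map_one φ⟩
      · exact ⟨u, hφu⟩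
    rw [MonoidHom.range_eq_top.2 hsurj, Subgroup.card_top]
    rw [Nat.card_eq_fintype_card, Fintype.card_units_int]
  · rw [MonoidHom.mem_ker, hφu] at hm
    exact absurd hm (by decide)

theorem pResidual_le_of_index [Finite G] [Fact p.Prime] {M : Subgroup G} [M.Normal]
    (hM : M.index = p) : Cfsg.pResidual p G ≤ M := by
  rw [Cfsg.pResidual, Subgroup.closure_le]
  intro g hg
  show g ∈ M
  rw [← QuotientGroup.eq_one_iff]
  refine orderOf_eq_one_iff.1 (Nat.eq_one_of_dvd_coprimes hg
    (orderOf_map_dvd (QuotientGroup.mk' M) g) ?_)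
  exact hM ▸ orderOf_dvd_natCard (g : G ⧸ M)

/-- A `p`-group with a self-centralising subgroup of order `p ^ 2` has maximal class. -/
theorem nilpotencyClass_of_centralizer_sq [hp : Fact p.Prime] : ∀ (n : ℕ) (X : Type u) [Group X]
    [Finite X], Nat.card X = p ^ n → ∀ A : Subgroup X, Nat.card A = p ^ 2 →
      Subgroup.centralizer (A : Set X) = A → Group.nilpotencyClass X = n - 1 := by
  intro n
  induction n using Nat.strong_induction_on with
  | _ n IH =>
    intro X _ _ hn A hA hC
    have hX : IsPGroup p X := IsPGroup.of_card hn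
    haveI := hX.isNilpotent
    have hn2 : 2 ≤ n := by
      have h := Subgroup.card_subgroup_dvd_card A
      rw [hn, hA] at h
      exact (Nat.pow_dvd_pow_iff_le_right hp.out.one_lt).1 h
    haveI : Nontrivial X := by
      rw [← Finite.one_lt_card_iff_nontrivial, hn]
      exact Nat.one_lt_pow (by omega) hp.out.one_lt
    rcases Nat.lt_or_ge n 3 with hn3 | hn3
    · obtain rfl : n = 2 := by omega
      have hc : IsMulCommutative X := IsPGroup.isMulCommutative_of_card_eq_prime_sq hn
      have h1 := Group.IsNilpotent.nilpotencyClass_le_one_iff.2 hc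
      have h2 : Group.nilpotencyClass X ≠ 0 := fun h0 => by
        rw [Group.nilpotencyClass_zero_iff_subsingleton] at h0
        exact not_subsingleton X h0
      omega
    haveI hAc : IsMulCommutative A := IsPGroup.isMulCommutative_of_card_eq_prime_sq hA
    have hAtop : A ≠ ⊤ := fun e => by
      rw [e, Subgroup.card_top, hn] at hA
      have := Nat.pow_right_injective hp.out.two_le hA
      omega
    set Z := Subgroup.center X with hZ
    have hZA : Z ≤ A := by rw [← hC]; exact Subgroup.center_le_centralizer _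
    have hZcard : Nat.card Z = p := by
      obtain ⟨k, hk⟩ := (hX.to_subgroup Z).exists_card_eq
      have h1 := Subgroup.card_dvd_of_le hZA
      rw [hk, hA, Nat.pow_dvd_pow_iff_le_right hp.out.one_lt] at h1
      have hk0 : k ≠ 0 := fun h0 => Group.IsNilpotent.center_ne_bot (G := X)
        (Subgroup.card_eq_one.1 (by rw [← hZ, hk, h0, pow_zero]))
      have hk2 : k ≠ 2 := fun h2 => hAtop (by
        have he : Z = A := Subgroup.eq_of_le_of_card_ge hZA (by rw [hk, hA, h2])
        rw [← hC, ← he]
        exact top_unique fun x _ => Subgroup.mem_centralizer_iff.2 fun z hz =>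
          (Subgroup.mem_center_iff.1 hz x).symm)
      rw [hk, show k = 1 by omega, pow_one]
    set f := QuotientGroup.mk' Z with hf
    have hfs : Function.Surjective f := QuotientGroup.mk'_surjective Z
    have hker : f.ker ≤ A := by rw [hf, QuotientGroup.ker_mk']; exact hZA
    set A' := A.map f with hA'
    have hcomap : A'.comap f = A := Subgroup.comap_map_eq_self hker
    have hA'card : Nat.card A' = p := by
      have h := card_map_mk' Z A
      rw [inf_of_le_right hZA, hZcard, hA, pow_two] at h
      exact Nat.eq_of_mul_eq_mul_right hp.out.pos h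
    set N := Subgroup.normalizer (A : Set X) with hN
    have hAN : A ≤ N := Subgroup.le_normalizer
    set N' := N.map f with hN'
    have hA'N : A' ≤ N' := Subgroup.map_mono hAN
    have hNcomap : N'.comap f = N := Subgroup.comap_map_eq_self (hker.trans hAN)
    haveI : (A'.subgroupOf N').Normal := Subgroup.normal_subgroupOf_of_le_normalizer
      ((Subgroup.le_normalizer_map f).trans le_rfl)
    have hN'p : IsPGroup p N' := (hX.to_quotient Z).to_subgroup N'
    have hcent : ∀ a ∈ A', ∀ m ∈ N', m * a = a * m := fun a ha m hm =>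
      congrArg Subtype.val (Subgroup.mem_center_iff.1 (le_center_of_card_prime hN'p
        (Z := A'.subgroupOf N') (by rw [card_subgroupOf hA'N, hA'card])
        (show (⟨a, hA'N ha⟩ : N') ∈ A'.subgroupOf N' from ha)) ⟨m, hm⟩)
    obtain ⟨a, haA, haZ⟩ := SetLike.not_le_iff_exists.1 (fun hle : A ≤ Z => by
      have := Subgroup.card_le_of_le hle
      rw [hA, hZcard] at this
      have := Nat.one_lt_pow (n := 1) one_ne_zero hp.out.one_lt
      nlinarith [hp.out.two_le])
    have hgen : ∀ x : X, x * a = a * x → x ∈ A := by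
      intro x hx
      rw [← hC]
      have hle : Subgroup.zpowers a ⊔ Z = A := by
        refine Subgroup.eq_of_le_of_card_ge (sup_le (Subgroup.zpowers_le.2 haA) hZA) ?_
        obtain ⟨k, hk⟩ := (hX.to_subgroup (Subgroup.zpowers a ⊔ Z)).exists_card_eq
        rw [hA, hk]
        refine Nat.pow_le_pow_right hp.out.pos ?_
        by_contra hk2
        have h1 : Z = Subgroup.zpowers a ⊔ Z := Subgroup.eq_of_le_of_card_ge le_sup_right (by
          rw [hk, hZcard]
          exact (Nat.pow_le_pow_right hp.out.pos (show k ≤ 1 by omega)).trans_eq (pow_one p))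
        exact haZ (h1 ▸ Subgroup.mem_sup_left (Subgroup.mem_zpowers a))
      have hxle : Subgroup.zpowers a ⊔ Z ≤ Subgroup.centralizer {x} := sup_le
        (Subgroup.zpowers_le.2 (Subgroup.mem_centralizer_singleton_iff.2 hx.symm))
        (Subgroup.center_le_centralizer _)
      refine Subgroup.mem_centralizer_iff.2 fun y hy => ?_
      exact Subgroup.mem_centralizer_singleton_iff.1 (hxle (hle.symm ▸ hy))
    have hcommZ : ∀ m ∈ N, ⁅m, a⁆ ∈ Z := fun m hm => by
      rw [← QuotientGroup.eq_one_iff]
      show f ⁅m, a⁆ = 1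
      rw [map_commutatorElement, commutatorElement_eq_one_iff_mul_comm]
      exact hcent _ ⟨a, haA, rfl⟩ _ ⟨m, hm, rfl⟩
    have hNcard : Nat.card N ≤ Nat.card A * p := by
      let φ : N →* Z :=
        { toFun := fun m => ⟨⁅(m : X), a⁆, hcommZ m m.2⟩
          map_one' := Subtype.ext (by simp)
          map_mul' := fun m1 m2 => Subtype.ext (by
            show ⁅(m1 : X) * m2, a⁆ = ⁅(m1 : X), a⁆ * ⁅(m2 : X), a⁆
            rw [show ⁅(m1 : X) * m2, a⁆ = (m1 : X) * ⁅(m2 : X), a⁆ * (m1 : X)⁻¹ * ⁅(m1 : X), a⁆ by
              simp only [commutatorElement_def]; group]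
            have hc := Subgroup.mem_center_iff.1 (hcommZ m2 m2.2)
            rw [show (m1 : X) * ⁅(m2 : X), a⁆ * (m1 : X)⁻¹ = ⁅(m2 : X), a⁆ by
              rw [hc (m1 : X), mul_inv_cancel_right]]
            exact (hc _).symm) }
      have hk : φ.ker = A.subgroupOf N := by
        ext m
        rw [MonoidHom.mem_ker, Subgroup.mem_subgroupOf]
        constructor
        · intro h
          exact hgen _ (commutatorElement_eq_one_iff_mul_comm.1 (congrArg Subtype.val h))
        · intro h
          refine Subtype.ext (commutatorElement_eq_one_iff_mul_comm.2 ?_)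
          exact congrArg Subtype.val (IsMulCommutative.is_comm.comm (⟨m, h⟩ : A) ⟨a, haA⟩)
      have h1 := (A.subgroupOf N).card_mul_index
      rw [card_subgroupOf hAN, ← hk, Subgroup.index_ker] at h1
      rw [← h1]
      exact Nat.mul_le_mul_left _ ((Subgroup.card_le_card_group φ.range).trans_eq hZcard)
    have hNcard3 : Nat.card N = p ^ 3 := by
      obtain ⟨k, hk⟩ := (hX.to_subgroup N).exists_card_eq
      have hlt : A < N :=
        Group.normalizerCondition_of_isNilpotent A (lt_top_iff_ne_top.2 hAtop)
      have h3 : 3 ≤ k := by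
        by_contra h3
        exact hlt.ne (Subgroup.eq_of_le_of_card_ge hlt.le (by
          rw [hk, hA]; exact Nat.pow_le_pow_right hp.out.pos (by omega)))
      have h4 : k ≤ 3 := by
        rw [hk, hA, ← pow_succ] at hNcard
        exact (Nat.pow_le_pow_iff_right hp.out.one_lt).1 hNcard
      rw [hk, show k = 3 by omega]
    have hN'card : Nat.card N' = p ^ 2 := by
      have h := card_map_mk' Z N
      rw [inf_of_le_right (hZA.trans hAN), hZcard, hNcard3, pow_succ] at h
      exact Nat.eq_of_mul_eq_mul_right hp.out.pos h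
    have hN'C : Subgroup.centralizer (N' : Set (X ⧸ Z)) = N' := by
      haveI : IsMulCommutative N' := IsPGroup.isMulCommutative_of_card_eq_prime_sq hN'card
      refine le_antisymm ?_ (Subgroup.le_centralizer_iff_isMulCommutative.2 ‹_›)
      intro y hy
      obtain ⟨x, rfl⟩ := hfs y
      refine ⟨x, ?_, rfl⟩
      have hle : Subgroup.centralizer (N' : Set (X ⧸ Z)) ≤ Subgroup.normalizer (A' : Set (X ⧸ Z)) :=
        (Subgroup.centralizer_le hA'N).trans (Subgroup.centralizer_le_normalizer _)
      have hm : x ∈ (Subgroup.normalizer (A' : Set (X ⧸ Z))).comap f := hle hy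
      rwa [Subgroup.comap_normalizer_eq_of_surjective A' hfs, hcomap] at hm
    have hqcard : Nat.card (X ⧸ Z) = p ^ (n - 1) := by
      have h := Subgroup.card_eq_card_quotient_mul_card_subgroup Z
      rw [hn, hZcard] at h
      refine Nat.eq_of_mul_eq_mul_right hp.out.pos (h.symm.trans ?_)
      rw [← pow_succ]; congr 1; omega
    rw [nilpotencyClass_eq_quotient_center_plus_one, IH (n - 1) (by omega) (X ⧸ Subgroup.center X) hqcard N' hN'card hN'C]
    omega

end CfsgLib.Solv
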