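import Cfsg.Agent.Solv.PLocalBasic

/-!
Normal `(p, p)` subgroups inside noncyclic normal subgroups; metacyclic `p`-groups.
-/

set_option autoImplicit false
set_option linter.style.haveILetI false
set_option linter.deprecated false
set_option linter.unusedSectionVars false

open scoped commutatorElement Pointwise

namespace CfsgLib.Solv

variable {G : Type*} [Group G] {p : ℕ}

/-- A normal subgroup of order `p ^ 2` of a `p`-group lies in the second centre. -/
theorem commutator_mem_center_of_card_sq [Finite G] [hp : Fact p.Prime] (hG : IsPGroup p G)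
    {A : Subgroup G} [hAn : A.Normal] (hA : Nat.card A = p ^ 2) {a : G} (ha : a ∈ A) (g : G) :
    ⁅a, g⁆ ∈ Subgroup.center G := by
  set Z := Subgroup.center G
  by_cases hle : A ≤ Z
  · rw [show ⁅a, g⁆ = 1 from
      commutatorElement_eq_one_iff_mul_comm.2 (Subgroup.mem_center_iff.1 (hle ha) g).symm]
    exact one_mem _
  obtain ⟨x, hx, hxZ, -, hxg⟩ := exists_central_mod hG hle
  -- `A ∩ Z` has index `p` in `A`
  have hne : A ⊓ Z ≠ ⊥ := CfsgLib.Perm.inf_center_ne_bot hG A (fun e => hle (e ▸ bot_le))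
  rw [← SetLike.mem_coe, Subgroup.mul_normal] at hx
  obtain ⟨a0, ha0, z, hz, rfl⟩ := hx
  have ha0Z : a0 ∉ Z := fun h => hxZ (mul_mem h hz)
  set K := (A ⊓ Z) ⊔ Subgroup.zpowers a0 with hK
  have hKA : K ≤ A := sup_le inf_le_left (Subgroup.zpowers_le.2 ha0)
  have hKc : A ≤ K := by
    have hlt : Nat.card (A ⊓ Z : Subgroup G) < Nat.card K := by
      rcases lt_or_ge (Nat.card (A ⊓ Z : Subgroup G)) (Nat.card K) with h | h
      · exact h
      · exact absurd ((Subgroup.eq_of_le_of_card_ge (le_sup_left : A ⊓ Z ≤ K) h).ge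
          (Subgroup.mem_sup_right (Subgroup.mem_zpowers a0))) fun h' => ha0Z (Subgroup.mem_inf.1 h').2
    obtain ⟨i, hi, hi'⟩ := (Nat.dvd_prime_pow hp.out).1 (hA ▸ Subgroup.card_dvd_of_le hKA)
    obtain ⟨j, -, hj'⟩ := (Nat.dvd_prime_pow hp.out).1
      (hA ▸ Subgroup.card_dvd_of_le (inf_le_left : A ⊓ Z ≤ A))
    have hj0 : j ≠ 0 := fun h0 => hne (Subgroup.eq_bot_of_card_eq _ (by rw [hj', h0, pow_zero]))
    rw [hi', hj'] at hlt
    have hji := (Nat.pow_lt_pow_iff_right hp.out.one_lt).1 hlt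
    exact (Subgroup.eq_of_le_of_card_ge hKA (by
      rw [hA, hi']; exact Nat.pow_le_pow_right hp.out.pos (by omega))).ge
  have hcomm : ∀ y : G, ⁅a0, y⁆ ∈ Z := fun y => by
    have h1 := hxg y
    have hz' := Subgroup.mem_center_iff.1 hz
    have e : ⁅a0 * z, y⁆ = ⁅a0, y⁆ := by
      show a0 * z * y * (a0 * z)⁻¹ * y⁻¹ = a0 * y * a0⁻¹ * y⁻¹
      calc a0 * z * y * (a0 * z)⁻¹ * y⁻¹ = a0 * (z * y) * z⁻¹ * a0⁻¹ * y⁻¹ := by group
        _ = a0 * (y * z) * z⁻¹ * a0⁻¹ * y⁻¹ := by rw [hz' y]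
        _ = _ := by group
    rwa [e] at h1
  let B : Subgroup G :=
    { carrier := {b | ∀ y : G, ⁅b, y⁆ ∈ Z}
      one_mem' := fun y => by rw [commutatorElement_one_left]; exact one_mem _
      mul_mem' := by
        intro b c hb hc y
        rw [show ⁅b * c, y⁆ = b * ⁅c, y⁆ * b⁻¹ * ⁅b, y⁆ by simp [commutatorElement_def, mul_assoc]]
        exact mul_mem (by rw [Subgroup.mem_center_iff.1 (hc y) b, mul_inv_cancel_right]; exact hc y) (hb y)
      inv_mem' := by
        intro b hb y
        rw [show ⁅b⁻¹, y⁆ = b⁻¹ * ⁅b, y⁆⁻¹ * b by simp [commutatorElement_def, mul_assoc]]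
        rw [Subgroup.mem_center_iff.1 (inv_mem (hb y)) b⁻¹, mul_assoc, inv_mul_cancel, mul_one]
        exact inv_mem (hb y) }
  have hKB : K ≤ B := sup_le (fun w hw y => by
      rw [show ⁅w, y⁆ = 1 from commutatorElement_eq_one_iff_mul_comm.2
        (Subgroup.mem_center_iff.1 (Subgroup.mem_inf.1 hw).2 y).symm]
      exact one_mem _) (Subgroup.zpowers_le.2 hcomm)
  exact hKB (hKc ha) g

/-- A noncyclic normal subgroup contains a normal elementary abelian subgroup of order `p ^ 2`. -/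
theorem exists_normal_rank_two_le [Finite G] [hp : Fact p.Prime] (hp2 : p ≠ 2) (hG : IsPGroup p G)
    (S : Subgroup G) [hSn : S.Normal] (hS : ¬ IsCyclic S) :
    ∃ A : Subgroup G, A ≤ S ∧ A.Normal ∧ Cfsg.IsElementaryAbelian p A ∧ Nat.card A = p ^ 2 := by
  obtain ⟨A0, hA0n, hA0e, hA0c⟩ :=
    exists_normal_rank_two _ S p hp2 rfl (hG.to_subgroup S) hS
  haveI := hA0n
  set B : Subgroup G := ((Subgroup.center (S ⧸ Subgroup.center S)).comap
    (QuotientGroup.mk' (Subgroup.center S))).map S.subtype with hB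
  have hBchar : ((Subgroup.center (S ⧸ Subgroup.center S)).comap
      (QuotientGroup.mk' (Subgroup.center S))).Characteristic := by
    refine Subgroup.characteristic_iff_le_comap.2 fun φ x hx => ?_
    rw [Subgroup.mem_comap, Subgroup.mem_comap, Subgroup.mem_center_iff] at *
    intro q
    obtain ⟨y, rfl⟩ := QuotientGroup.mk'_surjective (Subgroup.center S) q
    obtain ⟨y, rfl⟩ := φ.surjective y
    have h1 := hx (QuotientGroup.mk' _ y)
    rw [← map_mul, ← map_mul, QuotientGroup.mk'_apply, QuotientGroup.mk'_apply, QuotientGroup.eq] at h1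
    rw [← map_mul, ← map_mul, QuotientGroup.mk'_apply, QuotientGroup.mk'_apply, QuotientGroup.eq,
      MulEquiv.coe_toMonoidHom, ← map_mul, ← map_mul, ← map_inv, ← map_mul]
    exact (Subgroup.Characteristic.fixed (H := Subgroup.center S) inferInstance φ).ge h1
  haveI := hBchar
  haveI hBn : B.Normal := normal_map_subtype_of_characteristic _
  have hmemB : ∀ x : S, (x : G) ∈ B → ∀ y : S, ⁅x, y⁆ ∈ Subgroup.center S := by
    intro x hx y
    obtain ⟨x', hx', e⟩ := hx
    obtain rfl : x' = x := Subtype.ext e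
    rw [← QuotientGroup.eq_one_iff]
    show QuotientGroup.mk' _ ⁅x', y⁆ = 1
    rw [map_commutatorElement, commutatorElement_eq_one_iff_mul_comm]
    exact (Subgroup.mem_center_iff.1 hx' _).symm
  let O : Subgroup G :=
    { carrier := {x | x ∈ B ∧ x ^ p = 1}
      one_mem' := ⟨one_mem _, one_pow _⟩
      mul_mem' := by
        rintro x y ⟨hx, hx'⟩ ⟨hy, hy'⟩
        refine ⟨mul_mem hx hy, ?_⟩
        obtain ⟨x0, hx0, rfl⟩ := id hx
        obtain ⟨y0, hy0, rfl⟩ := id hy
        have hc := hmemB y0 hy x0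
        have hcx : Commute ⁅y0, x0⁆ x0 := (Subgroup.mem_center_iff.1 hc x0).symm
        have hcy : Commute ⁅y0, x0⁆ y0 := (Subgroup.mem_center_iff.1 hc y0).symm
        have hy0' : y0 ^ p = 1 := Subtype.ext hy'
        have hx0' : x0 ^ p = 1 := Subtype.ext hx'
        have hd : ⁅y0, x0⁆ ^ p = 1 := by
          rw [← pow_commutator_left hcy p, hy0', commutatorElement_one_left]
        show ((x0 * y0 : S) : G) ^ p = 1
        rw [← SubgroupClass.coe_pow, mul_pow_prime hp2 hcx hcy hd, hx0', hy0', one_mul]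
        rfl
      inv_mem' := by
        rintro x ⟨hx, hx'⟩
        exact ⟨inv_mem hx, by rw [inv_pow, hx', inv_one]⟩ }
  haveI : O.Normal := ⟨fun x hx g => ⟨hBn.conj_mem x hx.1 g, by
    rw [conj_pow, hx.2, mul_one, mul_inv_cancel]⟩⟩
  have hA0O : A0.map S.subtype ≤ O := by
    rintro _ ⟨a, ha, rfl⟩
    refine ⟨⟨a, ?_, rfl⟩, ?_⟩
    · show QuotientGroup.mk' (Subgroup.center S) a ∈ Subgroup.center _
      rw [Subgroup.mem_center_iff]
      intro q
      obtain ⟨y, rfl⟩ := QuotientGroup.mk'_surjective (Subgroup.center S) q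
      have h1 := commutator_mem_center_of_card_sq (hG.to_subgroup S) hA0c ha y
      rw [← QuotientGroup.eq_one_iff] at h1
      exact (commutatorElement_eq_one_iff_mul_comm.1
        (show ⁅QuotientGroup.mk' (Subgroup.center S) a, QuotientGroup.mk' _ y⁆ = 1 by
          rw [← map_commutatorElement]; exact h1)).symm
    · exact congrArg Subtype.val (hA0e.2 a ha)
  have hO : p ^ 2 ≤ Nat.card O := by
    rw [← hA0c, ← card_map_subtype S A0]; exact Subgroup.card_le_of_le hA0O
  obtain ⟨A, hAn, hAO, hA⟩ := exists_normal_le_card hG hO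
  exact ⟨A, hAO.trans fun x hx => (Subgroup.map_subtype_le _) hx.1, hAn,
    ⟨isMulCommutative_of_card_sq hA, fun a ha => (hAO ha).2⟩, hA⟩

/-- In a noncyclic metacyclic `p`-group, `p` odd, `Ω₁` is elementary abelian of order `p ^ 2`. -/
theorem omegaOne_metacyclic [Finite G] [hp : Fact p.Prime] (hp2 : p ≠ 2) (hG : IsPGroup p G)
    (hm : Cfsg.IsMetacyclic G) (hnc : ¬ IsCyclic G) :
    Cfsg.IsElementaryAbelian p (Cfsg.omegaOne p (⊤ : Subgroup G)) ∧
      Nat.card (Cfsg.omegaOne p (⊤ : Subgroup G)) = p ^ 2 := by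
  obtain ⟨A, hAn, hAe, hAc⟩ := exists_normal_rank_two _ G p hp2 rfl hG hnc
  haveI := hAn
  obtain ⟨C, hCn, hC1, hC2⟩ := hm
  haveI := hCn
  have key : Cfsg.omegaOne p (⊤ : Subgroup G) = A := by
    refine le_antisymm ((Subgroup.closure_le _).2 fun x hx => ?_) fun a ha =>
      Subgroup.subset_closure ⟨trivial, hAe.2 a ha⟩
    by_contra hxA
    set K := A ⊔ Subgroup.zpowers x with hK
    have hexp : ∀ k ∈ K, k ^ p = 1 := by
      intro k hk
      rw [← SetLike.mem_coe, hK, Subgroup.normal_mul] at hk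
      obtain ⟨a, ha, y, hy, rfl⟩ := hk
      have hyp : y ^ p = 1 := (isElementaryAbelian_zpowers hx.2).2 y hy
      have hc : ⁅y, a⁆ ∈ Subgroup.center G := by
        rw [← commutatorElement_inv]; exact inv_mem (commutator_mem_center_of_card_sq hG hAc ha y)
      have hcy : Commute ⁅y, a⁆ y := (Subgroup.mem_center_iff.1 hc y).symm
      show (a * y) ^ p = 1
      rw [mul_pow_prime hp2 (Subgroup.mem_center_iff.1 hc a).symm hcy
        (by rw [← pow_commutator_left hcy p, hyp, commutatorElement_one_left]), hAe.2 a ha, hyp, one_mul]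
    have hcyc : ∀ {H : Type _} [Group H] [Finite H] [IsCyclic H], (∀ h : H, h ^ p = 1) →
        Nat.card H ≤ p := by
      intro H _ _ _ hH
      obtain ⟨h, hh⟩ := IsCyclic.exists_generator (α := H)
      have e : orderOf h = Nat.card H := orderOf_eq_card_of_forall_mem_zpowers hh
      rw [← e]
      exact Nat.le_of_dvd hp.out.pos (orderOf_dvd_of_pow_eq_one (hH h))
    have h1 : Nat.card (K ⊓ C : Subgroup G) ≤ p := by
      haveI : IsCyclic C := hC1
      haveI : IsCyclic (K ⊓ C : Subgroup G) :=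
        isCyclic_of_injective (Subgroup.inclusion (inf_le_right : K ⊓ C ≤ C))
          (Subgroup.inclusion_injective _)
      exact hcyc fun h => Subtype.ext (hexp _ (Subgroup.mem_inf.1 h.2).1)
    have h2 : Nat.card (K.map (QuotientGroup.mk' C)) ≤ p := by
      haveI := hC2
      refine hcyc fun h => Subtype.ext ?_
      obtain ⟨k, hk, e⟩ := h.2
      show (h : G ⧸ C) ^ p = 1
      rw [← e, ← map_pow, hexp k hk, map_one]
    have h3 : Nat.card K ≤ p ^ 2 := by
      rw [← card_map_mk' C K, pow_two]; exact Nat.mul_le_mul h2 h1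
    rw [← hAc] at h3
    exact hxA ((Subgroup.eq_of_le_of_card_ge (le_sup_left : A ≤ K) h3).ge
      (Subgroup.mem_sup_right (Subgroup.mem_zpowers x)))
  rw [key]
  exact ⟨hAe, hAc⟩

end CfsgLib.Solv
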