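import Cfsg.Agent.Solv.Basic

/-!
Permutable subgroups.
-/

set_option autoImplicit false

open scoped Pointwise

namespace CfsgLib.Solv

variable {G : Type*} [Group G]

set_option linter.deprecated false

theorem coe_sup_of_permute {H K : Subgroup G} (h : (H : Set G) * K = (K : Set G) * H) :
    ((H ⊔ K : Subgroup G) : Set G) = (H : Set G) * K := by
  let S : Subgroup G :=
    { carrier := (H : Set G) * K
      one_mem' := ⟨1, one_mem H, 1, one_mem K, mul_one 1⟩
      mul_mem' := fun {a b} ha hb => by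
        have : a * b ∈ (H : Set G) * K * ((H : Set G) * K) := Set.mul_mem_mul ha hb
        rwa [mul_assoc, ← mul_assoc (K : Set G), ← h, mul_assoc (H : Set G), coe_mul_coe,
          ← mul_assoc, coe_mul_coe] at this
      inv_mem' := fun {a} ha => by
        have : a⁻¹ ∈ ((H : Set G) * K)⁻¹ := Set.inv_mem_inv.2 ha
        rwa [mul_inv_rev, inv_coe_set, inv_coe_set, ← h] at this }
  refine Set.Subset.antisymm ?_ ?_
  · exact (sup_le (fun x hx => (⟨x, hx, 1, one_mem K, mul_one x⟩ : x ∈ (H : Set G) * K))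
      (fun x hx => (⟨1, one_mem H, x, hx, one_mul x⟩ : x ∈ (H : Set G) * K)) : H ⊔ K ≤ S)
  · rintro _ ⟨a, ha, b, hb, rfl⟩
    exact Subgroup.mul_mem_sup ha hb

theorem card_sup_of_permute [Finite G] {H K : Subgroup G}
    (h : (H : Set G) * K = (K : Set G) * H) (hcop : (Nat.card H).Coprime (Nat.card K)) :
    Nat.card (H ⊔ K : Subgroup G) = Nat.card H * Nat.card K := by
  rw [← Nat.card_prod]
  have hbot : H ⊓ K = ⊥ := Subgroup.inf_eq_bot_of_coprime hcop
  refine (Nat.card_congr (Equiv.ofBijective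
    (fun x : H × K => (⟨(x.1 : G) * x.2, Subgroup.mul_mem_sup x.1.2 x.2.2⟩ : (H ⊔ K : Subgroup G)))
    ⟨?_, ?_⟩)).symm
  · rintro ⟨a, b⟩ ⟨a', b'⟩ he
    exact Subgroup.mul_injective_of_disjoint (disjoint_iff.2 hbot) (congrArg Subtype.val he)
  · rintro ⟨x, hx⟩
    rw [← SetLike.mem_coe, coe_sup_of_permute h] at hx
    obtain ⟨a, ha, b, hb, rfl⟩ := hx
    exact ⟨⟨⟨a, ha⟩, ⟨b, hb⟩⟩, rfl⟩

theorem permute_sup {H K L : Subgroup G} (h : (H : Set G) * K = (K : Set G) * H)
    (hH : (H : Set G) * L = (L : Set G) * H) (hK : (K : Set G) * L = (L : Set G) * K) :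
    ((H ⊔ K : Subgroup G) : Set G) * L = (L : Set G) * (H ⊔ K : Subgroup G) := by
  rw [coe_sup_of_permute h, mul_assoc, hK, ← mul_assoc, hH, mul_assoc]

theorem exists_subgroup_of_permuting_family [Finite G] {ι : Type*}
    (S : ι → Subgroup G) (hS : ∀ i j, (S i : Set G) * (S j) = (S j : Set G) * (S i))
    (hcop : ∀ i j, i ≠ j → (Nat.card (S i)).Coprime (Nat.card (S j))) (T : Finset ι) :
    ∃ H : Subgroup G, Nat.card H = ∏ i ∈ T, Nat.card (S i) ∧ (∀ i ∈ T, S i ≤ H) ∧
      ∀ j, (H : Set G) * (S j) = (S j : Set G) * H := by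
  classical
  induction T using Finset.induction_on with
  | empty => exact ⟨⊥, by simp, by simp, fun j => by simp⟩
  | insert i T hi ih =>
    obtain ⟨H, hcard, hle, hperm⟩ := ih
    refine ⟨H ⊔ S i, ?_, ?_, fun j => permute_sup (hperm i) (hperm j) (hS i j)⟩
    · rw [Finset.prod_insert hi, card_sup_of_permute (hperm i), hcard, mul_comm]
      rw [hcard]
      exact Nat.Coprime.prod_left fun j hj => hcop j i fun e => hi (e ▸ hj)
    · intro j hj
      rcases Finset.mem_insert.1 hj with rfl | hj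
      · exact le_sup_right
      · exact (hle j hj).trans le_sup_left

end CfsgLib.Solv
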