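import Cfsg.Agent.Solv.ThompsonPre
import Cfsg.Agent.Solv.Permutable
import Cfsg.Prelude.Def_PLocal

/-!
Basic properties of `J`, best offenders, Thompson factorizability.
-/

set_option autoImplicit false
set_option linter.style.haveILetI false
set_option linter.deprecated false
set_option linter.unusedSectionVars false
set_option maxHeartbeats 400000

open scoped commutatorElement Pointwise

namespace CfsgLib.Solv

variable {G : Type*} [Group G] {p : ℕ}

theorem isElementaryAbelian_zpowers {x : G} (hx : x ^ p = 1) :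
    Cfsg.IsElementaryAbelian p (Subgroup.zpowers x) :=
  ⟨inferInstance, fun a ⟨i, hi⟩ => by
    rw [← hi, ← zpow_natCast, ← zpow_mul, mul_comm, zpow_mul, zpow_natCast, hx, one_zpow]⟩

theorem isElementaryAbelian_bot : Cfsg.IsElementaryAbelian p (⊥ : Subgroup G) :=
  ⟨⟨⟨fun a b => Subsingleton.elim _ _⟩⟩, fun a ha => by rw [Subgroup.mem_bot.1 ha, one_pow]⟩

theorem commute_of_isElementaryAbelian {A : Subgroup G} (h : Cfsg.IsElementaryAbelian p A) {a b : G}
    (ha : a ∈ A) (hb : b ∈ A) : a * b = b * a :=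
  congrArg Subtype.val (h.1.is_comm.comm ⟨a, ha⟩ ⟨b, hb⟩)

/-- The join of two commuting elementary abelian subgroups. -/
theorem isElementaryAbelian_sup {A B : Subgroup G} (hA : Cfsg.IsElementaryAbelian p A)
    (hB : Cfsg.IsElementaryAbelian p B) (h : B ≤ Subgroup.centralizer (A : Set G)) :
    Cfsg.IsElementaryAbelian p (A ⊔ B) := by
  have hmem : ∀ x ∈ A ⊔ B, ∃ a ∈ A, ∃ b ∈ B, x = a * b := fun x hx => by
    have hperm : (A : Set G) * (B : Set G) = (B : Set G) * (A : Set G) := by
      ext z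
      constructor
      · rintro ⟨a, ha, b, hb, rfl⟩
        exact ⟨b, hb, a, ha, (Subgroup.mem_centralizer_iff.1 (h hb) a ha).symm⟩
      · rintro ⟨b, hb, a, ha, rfl⟩
        exact ⟨a, ha, b, hb, Subgroup.mem_centralizer_iff.1 (h hb) a ha⟩
    rw [← SetLike.mem_coe, coe_sup_of_permute hperm] at hx
    obtain ⟨a, ha, b, hb, e⟩ := hx
    exact ⟨a, ha, b, hb, e.symm⟩
  refine ⟨⟨⟨fun x y => Subtype.ext ?_⟩⟩, fun x hx => ?_⟩
  · obtain ⟨a, ha, b, hb, ex⟩ := hmem x x.2
    obtain ⟨c, hc, d, hd, ey⟩ := hmem y y.2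
    show (x : G) * y = y * x
    rw [ex, ey]
    calc a * b * (c * d) = a * (b * c) * d := by group
      _ = a * (c * b) * d := by rw [← Subgroup.mem_centralizer_iff.1 (h hb) c hc]
      _ = (a * c) * (b * d) := by group
      _ = (c * a) * (d * b) := by
        rw [commute_of_isElementaryAbelian hA ha hc, commute_of_isElementaryAbelian hB hb hd]
      _ = c * (a * d) * b := by group
      _ = c * (d * a) * b := by rw [Subgroup.mem_centralizer_iff.1 (h hd) a ha]
      _ = _ := by group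
  · obtain ⟨a, ha, b, hb, rfl⟩ := hmem x hx
    rw [(show Commute a b from Subgroup.mem_centralizer_iff.1 (h hb) a ha).mul_pow, hA.2 a ha,
      hB.2 b hb, mul_one]

theorem thompsonSubgroup_characteristic [Finite G] :
    (Cfsg.thompsonSubgroup p G).Characteristic := by
  refine Subgroup.characteristic_iff_map_le.2 fun φ => ?_
  rw [Subgroup.map_le_iff_le_comap]
  refine sSup_le fun A hA => ?_
  rw [← Subgroup.map_le_iff_le_comap]
  exact le_sSup ⟨isElementaryAbelian_map hA.1, fun B hB => by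
    rw [Subgroup.card_map_of_injective φ.injective]; exact hA.2 B hB⟩

theorem exists_maxElementaryAbelian [Finite G] :
    ∃ A, A ∈ Cfsg.maxElementaryAbelianSubgroups p G := by
  obtain ⟨A, hA, hmax⟩ := Set.exists_max_image {A : Subgroup G | Cfsg.IsElementaryAbelian p A}
    (fun A => Nat.card A) (Set.toFinite _) ⟨⊥, isElementaryAbelian_bot⟩
  exact ⟨A, hA, fun B hB => hmax B hB⟩

theorem thompsonSubgroup_ne_bot [Finite G] [hp : Fact p.Prime] (hd : p ∣ Nat.card G) :
    Cfsg.thompsonSubgroup p G ≠ ⊥ := by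
  intro e
  obtain ⟨x, hx⟩ := exists_prime_orderOf_dvd_card' p hd
  obtain ⟨A, hA⟩ := exists_maxElementaryAbelian (p := p) (G := G)
  have hAb : A = ⊥ := le_bot_iff.1 (e ▸ le_sSup hA)
  have h := hA.2 _ (isElementaryAbelian_zpowers (x := x) (p := p) (by rw [← hx, pow_orderOf_eq_one]))
  rw [hAb, Subgroup.card_bot, Nat.card_zpowers, hx] at h
  exact absurd hp.out.one_lt (not_lt.2 h)

theorem thompsonSubgroupOf_eq_of_le [Finite G] {U : Subgroup G}
    (hU : Cfsg.thompsonSubgroup p G ≤ U) :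
    Cfsg.thompsonSubgroupOf p U = Cfsg.thompsonSubgroup p G := by
  obtain ⟨A0, hA0⟩ := exists_maxElementaryAbelian (p := p) (G := G)
  rw [thompsonSubgroupOf_eq]
  refine le_antisymm (iSup₂_le fun A hA => le_sSup ⟨hA.2.1, fun B hB =>
    (hA0.2 B hB).trans (hA.2.2 A0 ((le_sSup hA0).trans hU) hA0.1)⟩) (sSup_le fun A hA => ?_)
  exact le_iSup₂_of_le A ⟨(le_sSup hA).trans hU, hA.1, fun B _ hB => hA.2 B hB⟩ le_rfl

theorem isPGroup_of_isElementaryAbelian {A : Subgroup G} (h : Cfsg.IsElementaryAbelian p A) :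
    IsPGroup p A := fun a => ⟨1, Subtype.ext (by rw [pow_one]; exact h.2 a a.2)⟩

theorem thompsonSubgroup_eq_iSup_sylow [Finite G] [hp : Fact p.Prime] :
    Cfsg.thompsonSubgroup p G = ⨆ S : Sylow p G, Cfsg.thompsonSubgroupOf p (S : Subgroup G) := by
  refine le_antisymm (sSup_le fun A hA => ?_) (iSup_le fun S => ?_)
  · obtain ⟨S, hS⟩ := (isPGroup_of_isElementaryAbelian hA.1).exists_le_sylow
    exact le_iSup_of_le S (MaxEA.le_thompsonSubgroupOf ⟨hS, hA.1, fun B _ hB => hA.2 B hB⟩)
  · rw [thompsonSubgroupOf_eq]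
    refine iSup₂_le fun A hA => le_sSup ⟨hA.2.1, fun B hB => ?_⟩
    obtain ⟨T, hT⟩ := (isPGroup_of_isElementaryAbelian hB).exists_le_sylow
    obtain ⟨g, hg⟩ := MulAction.exists_smul_eq G T S
    have h := hA.2.2 (MulAut.conj g • B) (by
      rw [← hg, Sylow.coe_subgroup_smul]
      exact Subgroup.pointwise_smul_le_pointwise_smul_iff.2 hT) (by
      rw [conj_smul_eq_map]; exact isElementaryAbelian_map hB)
    rwa [card_conj_smul] at h

theorem mem_thompsonSubgroup_of_centralizing [Finite G] {x : G}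
    (hx : x ∈ Subgroup.centralizer (Cfsg.thompsonSubgroup p G : Set G)) (ho : x ^ p = 1) :
    x ∈ Cfsg.thompsonSubgroup p G := by
  obtain ⟨A, hA⟩ := exists_maxElementaryAbelian (p := p) (G := G)
  have hc : Subgroup.zpowers x ≤ Subgroup.centralizer (A : Set G) := Subgroup.zpowers_le.2
    (Subgroup.centralizer_le (show (A : Set G) ⊆ (Cfsg.thompsonSubgroup p G : Set G) from le_sSup hA) hx)
  have he := isElementaryAbelian_sup hA.1 (isElementaryAbelian_zpowers ho) hc
  have e := Subgroup.eq_of_le_of_card_ge (le_sup_left : A ≤ A ⊔ Subgroup.zpowers x) (hA.2 _ he)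
  exact le_sSup hA (e.ge (Subgroup.mem_sup_right (Subgroup.mem_zpowers x)))

theorem max_isBestOffenderOn [Finite G] {V A : Subgroup G} [V.Normal]
    (hV : Cfsg.IsElementaryAbelian p V) (hA : A ∈ Cfsg.maxElementaryAbelianSubgroups p G) :
    Cfsg.IsBestOffenderOn p V A := by
  refine ⟨fun B hB => ?_, ?_, fun a ha => ?_⟩
  · set C := V ⊓ Subgroup.centralizer (B : Set G) with hC
    have hBe := isElementaryAbelian_of_le hA.1 hB
    have hCe : Cfsg.IsElementaryAbelian p C := isElementaryAbelian_of_le hV inf_le_left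
    have hcom : C ≤ Subgroup.centralizer (B : Set G) := inf_le_right
    have he := hA.2 _ (isElementaryAbelian_sup hBe hCe hcom)
    have hcard : Nat.card B * Nat.card C =
        Nat.card (B ⊔ C : Subgroup G) * Nat.card (B ⊓ C : Subgroup G) := by
      rw [card_sup_of_le_normalizer' hcom]
    calc Nat.card B * Nat.card C
        = Nat.card (B ⊔ C : Subgroup G) * Nat.card (B ⊓ C : Subgroup G) := hcard
      _ ≤ Nat.card A * Nat.card (V ⊓ Subgroup.centralizer (A : Set G) : Subgroup G) := by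
        refine Nat.mul_le_mul he (Nat.le_of_dvd Nat.card_pos (Subgroup.card_dvd_of_le ?_))
        refine le_inf (inf_le_right.trans inf_le_left) fun x hx => ?_
        exact Subgroup.mem_centralizer_iff.2 fun a ha =>
          commute_of_isElementaryAbelian hA.1 ha (hB (Subgroup.mem_inf.1 hx).1)
  · refine (le_of_eq ?_).trans bot_le
    rw [Subgroup.commutator_eq_bot_iff_le_centralizer]
    exact fun a ha => Subgroup.mem_centralizer_iff.2 fun b hb =>
      commute_of_isElementaryAbelian hA.1 hb ha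
  · rw [hA.1.2 a ha]; exact one_mem _
where
  card_sup_of_le_normalizer' {B C : Subgroup G} (hcom : C ≤ Subgroup.centralizer (B : Set G)) :
      Nat.card (B ⊔ C : Subgroup G) * Nat.card (B ⊓ C : Subgroup G) = Nat.card B * Nat.card C := by
    have hn : ∀ X : Subgroup G, X ≤ B ⊔ C → B ≤ Subgroup.normalizer (C : Set G) := fun _ _ =>
      (Subgroup.le_centralizer_iff.1 hcom).trans (Subgroup.centralizer_le_normalizer _)
    haveI : (C.subgroupOf (B ⊔ C)).Normal := (Subgroup.normal_subgroupOf_iff_le_normalizer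
      le_sup_right).2 (sup_le (hn ⊥ bot_le) Subgroup.le_normalizer)
    have h := card_sup_mul_card_inf (B.subgroupOf (B ⊔ C)) (C.subgroupOf (B ⊔ C))
    rwa [← Subgroup.subgroupOf_sup le_sup_left le_sup_right, Subgroup.subgroupOf_self,
      Subgroup.card_top, show B.subgroupOf (B ⊔ C) ⊓ C.subgroupOf (B ⊔ C) = (B ⊓ C).subgroupOf (B ⊔ C) from
        (Subgroup.comap_inf B C _).symm, card_subgroupOf (inf_le_left.trans le_sup_left),
      card_subgroupOf le_sup_left, card_subgroupOf le_sup_right] at h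

/-- `Ω₁(Z(S))`. -/
abbrev omegaCenterSylow (p : ℕ) (S : Subgroup G) : Subgroup G := Cfsg.omegaOne p (zOf S)

theorem omegaOne_le (H : Subgroup G) : Cfsg.omegaOne p H ≤ H :=
  (Subgroup.closure_le _).2 fun _ hx => hx.1

theorem omegaOne_map_le {G' : Type*} [Group G'] (f : G →* G') (H : Subgroup G) :
    (Cfsg.omegaOne p H).map f ≤ Cfsg.omegaOne p (H.map f) := by
  rw [Cfsg.omegaOne, Cfsg.omegaOne, MonoidHom.map_closure]
  refine Subgroup.closure_mono ?_
  rintro _ ⟨x, ⟨hx, hxp⟩, rfl⟩
  exact ⟨⟨x, hx, rfl⟩, by rw [← map_pow, hxp, map_one]⟩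

theorem omegaOne_map_of_injOn {G' : Type*} [Group G'] (f : G →* G') (H : Subgroup G)
    (hinj : Set.InjOn f (H : Set G)) :
    (Cfsg.omegaOne p H).map f = Cfsg.omegaOne p (H.map f) := by
  refine le_antisymm (omegaOne_map_le f H) ((Subgroup.closure_le _).2 ?_)
  rintro _ ⟨⟨x, hx, rfl⟩, hxp⟩
  exact ⟨x, Subgroup.subset_closure ⟨hx, hinj (pow_mem hx p) (one_mem H)
    (by rw [map_pow, map_one]; exact hxp)⟩, rfl⟩

theorem isElementaryAbelian_omegaOne {H : Subgroup G}
    (hH : ∀ a ∈ H, ∀ b ∈ H, a * b = b * a) : Cfsg.IsElementaryAbelian p (Cfsg.omegaOne p H) := by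
  refine ⟨⟨⟨fun a b => Subtype.ext (hH a (omegaOne_le H a.2) b (omegaOne_le H b.2))⟩⟩, fun a ha => ?_⟩
  refine Subgroup.closure_induction (fun x hx => hx.2) (one_pow p) (fun x y hx hy ex ey => ?_)
    (fun x _ ex => by rw [inv_pow, ex, inv_one]) ha
  rw [(show Commute x y from hH x (omegaOne_le H hx) y (omegaOne_le H hy)).mul_pow, ex, ey, one_mul]

theorem omegaCenterSylow_smul [Finite G] [Fact p.Prime] (g : G) (S : Sylow p G) :
    omegaCenterSylow p ((g • S : Sylow p G) : Subgroup G) =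
      MulAut.conj g • omegaCenterSylow p (S : Subgroup G) := by
  rw [Sylow.coe_subgroup_smul, conj_smul_eq_map, conj_smul_eq_map,
    omegaOne_map_of_injOn _ _ (MulAut.conj g).injective.injOn, map_zOf _ (MulAut.conj g).injective]

theorem normal_iSup_omegaCenter [Finite G] [Fact p.Prime] :
    (⨆ S : Sylow p G, omegaCenterSylow p (S : Subgroup G)).Normal := by
  refine normal_of_forall_conj_smul_eq fun g => ?_
  refine Subgroup.eq_of_le_of_card_ge ?_ (by rw [card_conj_smul])
  rw [conj_smul_eq_map, Subgroup.map_iSup]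
  refine iSup_le fun S => le_iSup_of_le (g • S) ?_
  rw [omegaCenterSylow_smul, conj_smul_eq_map]

theorem iSup_omegaCenter_le [Finite G] [Fact p.Prime]
    (hc : Subgroup.centralizer (Cfsg.pCore p G : Set G) ≤ Cfsg.pCore p G) :
    (⨆ S : Sylow p G, omegaCenterSylow p (S : Subgroup G)) ≤ omegaCenterSylow p (Cfsg.pCore p G) := by
  refine iSup_le fun S => (Subgroup.closure_le _).2 fun x hx => Subgroup.subset_closure ⟨?_, hx.2⟩
  have h1 : x ∈ Subgroup.centralizer (Cfsg.pCore p G : Set G) :=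
    Subgroup.centralizer_le (show (Cfsg.pCore p G : Set G) ⊆ _ from pCore_le_sylow S)
      (Subgroup.mem_inf.1 hx.1).2
  exact Subgroup.mem_inf.2 ⟨hc h1, h1⟩

/-- A normal subgroup over `C_G(V)` with `p`-power index centralises `V` if `V` is generated by
fixed points of Sylow subgroups. -/
theorem eq_centralizer_of_generated_by_fixed [Finite G] [hp : Fact p.Prime] {V D : Subgroup G}
    [D.Normal] (hV : V ≤ ⨆ S : Sylow p G, V ⊓ Subgroup.centralizer ((S : Subgroup G) : Set G))
    (hCD : Subgroup.centralizer (V : Set G) ≤ D) {k : ℕ}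
    (hk : (Subgroup.centralizer (V : Set G)).relIndex D = p ^ k) :
    D = Subgroup.centralizer (V : Set G) := by
  set C := Subgroup.centralizer (V : Set G)
  refine le_antisymm ?_ hCD
  rw [Subgroup.le_centralizer_iff]
  refine hV.trans (iSup_le fun S => ?_)
  rw [Subgroup.le_centralizer_iff]
  have hgen : D ≤ ((S : Subgroup G) ⊓ D) ⊔ C := by
    set K := ((S : Subgroup G) ⊓ D) ⊔ C with hK
    have hKD : K ≤ D := sup_le inf_le_right hCD
    rw [← Subgroup.relIndex_eq_one]
    refine Nat.eq_one_iff_not_exists_prime_dvd.2 fun r hr hrd => ?_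
    have h1 : r ∣ p ^ k := hk ▸ hrd.trans (Dvd.intro_left _
      (Subgroup.relIndex_mul_relIndex C K D le_sup_right hKD))
    have hrp : r = p := (Nat.prime_dvd_prime_iff_eq hr hp.out).1 (hr.dvd_of_dvd_pow h1)
    subst hrp
    refine S.not_dvd_index (hrd.trans (dvd_trans ?_ (relIndex_normal_dvd_index (S : Subgroup G) D)))
    rw [← Subgroup.inf_relIndex_right (S : Subgroup G) D]
    exact Subgroup.relIndex_dvd_of_le_left D le_sup_left
  refine hgen.trans (sup_le ?_ (Subgroup.centralizer_le inf_le_left))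
  rw [Subgroup.le_centralizer_iff]
  exact inf_le_right.trans (Subgroup.centralizer_le inf_le_left)

theorem pCore_quotient_centralizer_eq_bot [Finite G] [hp : Fact p.Prime] {V : Subgroup G} [V.Normal]
    (hV : V ≤ ⨆ S : Sylow p G, V ⊓ Subgroup.centralizer ((S : Subgroup G) : Set G)) :
    Cfsg.pCore p (G ⧸ Subgroup.centralizer (V : Set G)) = ⊥ := by
  set C := Subgroup.centralizer (V : Set G)
  haveI := pCore_normal (G ⧸ C) p
  set D := (Cfsg.pCore p (G ⧸ C)).comap (QuotientGroup.mk' C)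
  obtain ⟨k, hk⟩ := IsPGroup.iff_card.1 (pCore_isPGroup (G ⧸ C) p)
  have hCD : C ≤ D := QuotientGroup.le_comap_mk' C _
  have hmapD : D.map (QuotientGroup.mk' C) = Cfsg.pCore p (G ⧸ C) :=
    Subgroup.map_comap_eq_self_of_surjective (QuotientGroup.mk'_surjective C) _
  have hrel : C.relIndex D = p ^ k := by
    have h1 := card_map_mk' C D
    rw [hmapD, inf_eq_right.2 hCD, hk, ← relIndex_mul_card hCD, mul_comm (p ^ k)] at h1
    exact (Nat.eq_of_mul_eq_mul_left Nat.card_pos h1).symm
  have e := eq_centralizer_of_generated_by_fixed (p := p) hV hCD hrel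
  rw [← hmapD, e, QuotientGroup.map_mk'_self]

theorem iSup_omegaCenter_generated [Finite G] [Fact p.Prime] :
    let W := ⨆ S : Sylow p G, omegaCenterSylow p (S : Subgroup G)
    W ≤ ⨆ S : Sylow p G, W ⊓ Subgroup.centralizer ((S : Subgroup G) : Set G) := by
  intro W
  refine iSup_le fun S => le_iSup_of_le S (le_inf (le_iSup (fun S : Sylow p G =>
    omegaCenterSylow p (S : Subgroup G)) S) ((omegaOne_le _).trans inf_le_right))

theorem thompsonFactorizable_iff [Finite G] [hp : Fact p.Prime] (hO : Cfsg.pPrimeCore p G = ⊥) :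
    Cfsg.IsThompsonFactorizable p G ↔ Cfsg.thompsonSubgroup p G ≤
      Subgroup.centralizer ((⨆ S : Sylow p G, omegaCenterSylow p (S : Subgroup G) : Subgroup G) :
        Set G) := by
  set W := ⨆ S : Sylow p G, omegaCenterSylow p (S : Subgroup G)
  constructor
  · intro h
    rw [thompsonSubgroup_eq_iSup_sylow]
    refine iSup_le fun S => ?_
    rw [Subgroup.le_centralizer_iff]
    refine iSup_le fun T => ?_
    obtain ⟨g, rfl⟩ := MulAction.exists_smul_eq G S T
    obtain ⟨x, hx, c, hc, n, hn, e⟩ := h S g⁻¹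
    rw [hO, Subgroup.mem_bot] at hx
    rw [hx, one_mul] at e
    have hg : g = n⁻¹ * c⁻¹ := by rw [← mul_inv_rev, ← e, inv_inv]
    intro z hz
    rw [omegaCenterSylow_smul, mem_conj_smul_iff] at hz
    rw [Subgroup.mem_centralizer_iff]
    intro j hj
    have hj' : n * j * n⁻¹ ∈ (Cfsg.thompsonSubgroupOf p (S : Subgroup G) : Set G) :=
      (Subgroup.mem_normalizer_iff.1 hn j).1 hj
    have hjS : n * j * n⁻¹ ∈ (S : Subgroup G) := thompsonSubgroupOf_le _ hj'
    have h1 : (n * j * n⁻¹) * (g⁻¹ * z * g) = (g⁻¹ * z * g) * (n * j * n⁻¹) :=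
      Subgroup.mem_centralizer_iff.1 (Subgroup.mem_inf.1 (omegaOne_le _ hz)).2 _ hjS
    have h2 : c * (c⁻¹ * (n * z * n⁻¹) * c) = (n * z * n⁻¹) * c := by group
    have h3 : g⁻¹ * z * g = c * (n * z * n⁻¹) * c⁻¹ := by rw [hg]; group
    have h4 : n * z * n⁻¹ = g⁻¹ * z * g := by
      have h5 : (g⁻¹ * z * g) * c = c * (g⁻¹ * z * g) :=
        Subgroup.mem_centralizer_iff.1 hc _ hz
      rw [h3] at h5
      have h6 : (n * z * n⁻¹) = c * (n * z * n⁻¹) * c⁻¹ := by
        refine mul_left_cancel (a := c) ?_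
        rw [← h5]; group
      rw [h3]; exact h6
    rw [← h4] at h1
    calc j * z = n⁻¹ * ((n * j * n⁻¹) * (n * z * n⁻¹)) * n := by group
      _ = n⁻¹ * ((n * z * n⁻¹) * (n * j * n⁻¹)) * n := by rw [h1]
      _ = z * j := by group
  · intro h S g
    set C := Subgroup.centralizer (W : Set G)
    haveI : W.Normal := normal_iSup_omegaCenter
    obtain ⟨T, hT⟩ : ∃ T : Sylow p C, (T : Subgroup C).map C.subtype = (S : Subgroup G) ⊓ C := by
      refine ⟨((S.2.comap_of_injective C.subtype C.subtype_injective).toSylow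
        (fun hd => S.not_dvd_index (hd.trans (relIndex_normal_dvd_index (S : Subgroup G) C)))), ?_⟩
      exact Subgroup.subgroupOf_map_subtype (S : Subgroup G) C
    have hJ : Cfsg.thompsonSubgroupOf p (S : Subgroup G) =
        Cfsg.thompsonSubgroupOf p ((S : Subgroup G) ⊓ C) := by
      have hJC : Cfsg.thompsonSubgroupOf p (S : Subgroup G) ≤ (S : Subgroup G) ⊓ C := by
        refine le_inf (thompsonSubgroupOf_le _) (le_trans ?_ h)
        rw [thompsonSubgroup_eq_iSup_sylow]
        exact le_iSup (fun S : Sylow p G => Cfsg.thompsonSubgroupOf p (S : Subgroup G)) S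
      obtain ⟨A0, hA0⟩ := exists_maxEA (p := p) (S : Subgroup G)
      rw [thompsonSubgroupOf_eq, thompsonSubgroupOf_eq]
      refine le_antisymm (iSup₂_le fun A hA => le_iSup₂_of_le A
        ⟨hA.le_thompsonSubgroupOf.trans hJC, hA.2.1, fun B hB => hA.2.2 B (hB.trans inf_le_left)⟩
        le_rfl) (iSup₂_le fun A hA => ?_)
      exact le_iSup₂_of_le A ⟨hA.1.trans inf_le_left, hA.2.1, fun B hB hBe =>
        (hA0.2.2 B hB hBe).trans (hA.2.2 A0 (hA0.le_thompsonSubgroupOf.trans hJC) hA0.2.1)⟩ le_rfl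
    have hfr : Subgroup.normalizer ((S : Subgroup G) ⊓ C : Subgroup G) ⊔ C = (⊤ : Subgroup G) :=
      hT ▸ Sylow.normalizer_sup_eq_top T
    rw [sup_comm] at hfr
    obtain ⟨c, hc, n, hn, e⟩ : g ∈ (C : Set G) *
        (Subgroup.normalizer ((S : Subgroup G) ⊓ C : Subgroup G) : Subgroup G) := by
      rw [← Subgroup.normal_mul, hfr]; trivial
    refine ⟨1, one_mem _, c, Subgroup.centralizer_le ?_ hc, n, ?_, by rw [one_mul]; exact e.symm⟩
    · exact le_iSup (fun S : Sylow p G => omegaCenterSylow p (S : Subgroup G)) S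
    · rw [hJ]; exact normalizer_le_normalizer_thompsonSubgroupOf _ hn

theorem thompsonFactorizable_quotient [Finite G] [hp : Fact p.Prime] {M : Subgroup G} [M.Normal]
    (hM : M = Cfsg.pPrimeCore p G) :
    Cfsg.IsThompsonFactorizable p G ↔ Cfsg.IsThompsonFactorizable p (G ⧸ M) := by
  subst hM
  set M := Cfsg.pPrimeCore p G
  set q := QuotientGroup.mk' M
  have hq := QuotientGroup.mk'_surjective M
  have hcop : ∀ (S : Sylow p G) (X : Subgroup G), X ≤ (S : Subgroup G) →
      (Nat.card X).Coprime (Nat.card M) := fun S X hX => by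
    obtain ⟨k, hk⟩ := (S.2.to_le hX).exists_card_eq
    rw [hk]
    exact ((pPrimeCore_coprime G p).symm).pow_left k
  have hsol : ∀ (S : Sylow p G) (X : Subgroup G), X ≤ (S : Subgroup G) → Group.IsSolvable X :=
    fun S X hX => by
      haveI := (S.2.to_le hX).isNilpotent
      infer_instance
  have key : ∀ S : Sylow p G,
      Cfsg.thompsonSubgroupOf p ((S : Subgroup G).map q) =
        (Cfsg.thompsonSubgroupOf p (S : Subgroup G)).map q ∧
      omegaCenterSylow p ((S : Subgroup G).map q) = (omegaCenterSylow p (S : Subgroup G)).map q := by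
    intro S
    have hinj : Set.InjOn q ((S : Subgroup G) : Set G) := by
      intro a (ha : a ∈ (S : Subgroup G)) b (hb : b ∈ (S : Subgroup G)) hab
      have h1 : a⁻¹ * b ∈ (S : Subgroup G) ⊓ M :=
        Subgroup.mem_inf.2 ⟨mul_mem (inv_mem ha) hb, QuotientGroup.eq.1 hab⟩
      rw [inf_eq_bot_of_coprime_card (hcop S _ le_rfl), Subgroup.mem_bot] at h1
      exact inv_mul_eq_one.1 h1
    refine ⟨(map_thompsonSubgroupOf q _ hinj).symm, ?_⟩
    rw [omegaOne_map_of_injOn q _ (hinj.mono (zOf_le _))]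
    refine congrArg (Cfsg.omegaOne p) ?_
    ext y
    simp only [Subgroup.mem_inf, Subgroup.mem_centralizer_iff, Subgroup.mem_map, SetLike.mem_coe]
    constructor
    · rintro ⟨⟨x, hx, rfl⟩, hc⟩
      refine ⟨x, ⟨hx, fun s hs => hinj (mul_mem hs hx) (mul_mem hx hs) ?_⟩, rfl⟩
      simpa only [map_mul] using hc _ ⟨s, hs, rfl⟩
    · rintro ⟨x, ⟨hx, hc⟩, rfl⟩
      refine ⟨⟨x, hx, rfl⟩, ?_⟩
      rintro _ ⟨s, hs, rfl⟩
      rw [← map_mul, ← map_mul, hc s hs]
  have hcc : ∀ (c : G) (X : Subgroup G), c ∈ Subgroup.centralizer (X : Set G) →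
      q c ∈ Subgroup.centralizer ((X.map q : Subgroup (G ⧸ M)) : Set (G ⧸ M)) := fun c X hc => by
    rw [Subgroup.mem_centralizer_iff]
    rintro _ ⟨x, hx, rfl⟩
    rw [← map_mul, ← map_mul, Subgroup.mem_centralizer_iff.1 hc x hx]
  constructor
  · intro h S' y
    obtain ⟨S, rfl⟩ := Sylow.mapSurjective_surjective hq p S'
    obtain ⟨g, rfl⟩ := hq y
    obtain ⟨x, hx, c, hc, n, hn, e⟩ := h S g
    have hX : (Sylow.mapSurjective hq S : Subgroup (G ⧸ M)) = (S : Subgroup G).map q := rfl
    refine ⟨1, one_mem _, q c, ?_, q n, ?_, ?_⟩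
    · have k2 : Cfsg.omegaOne p ((S : Subgroup G).map q ⊓
          Subgroup.centralizer (((S : Subgroup G).map q : Subgroup (G ⧸ M)) : Set (G ⧸ M))) =
        (omegaCenterSylow p (S : Subgroup G)).map q := (key S).2
      rw [hX, k2]; exact hcc c _ hc
    · rw [hX, (key S).1]
      exact Subgroup.le_normalizer_map q ⟨n, hn, rfl⟩
    · have hx1 : q x = 1 := (QuotientGroup.eq_one_iff x).2 hx
      rw [one_mul, ← map_mul, e, mul_assoc, map_mul, hx1, one_mul]
  · intro h S g
    have hX : (Sylow.mapSurjective hq S : Subgroup (G ⧸ M)) = (S : Subgroup G).map q := rfl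
    obtain ⟨x, hx, c, hc, n, hn, e⟩ := h (Sylow.mapSurjective hq S) (q g)
    rw [pPrimeCore_quotient_self, Subgroup.mem_bot] at hx
    have k2 : Cfsg.omegaOne p ((S : Subgroup G).map q ⊓
          Subgroup.centralizer (((S : Subgroup G).map q : Subgroup (G ⧸ M)) : Set (G ⧸ M))) =
        (omegaCenterSylow p (S : Subgroup G)).map q := (key S).2
    rw [hX, k2] at hc
    rw [hX, (key S).1] at hn
    obtain ⟨c', hc', rfl⟩ := centralizer_map_mk'_le (hcop S _ ((omegaOne_le _).trans inf_le_left))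
      (hsol S _ ((omegaOne_le _).trans inf_le_left)) hc
    obtain ⟨n', hn', rfl⟩ := normalizer_map_mk'_le (hcop S _ (thompsonSubgroupOf_le _))
      (hsol S _ (thompsonSubgroupOf_le _)) hn
    refine ⟨g * (c' * n')⁻¹, ?_, c', hc', n', hn', by group⟩
    rw [← QuotientGroup.eq_one_iff]
    show q (g * (c' * n')⁻¹) = 1
    rw [map_mul, map_inv, map_mul, e, hx, one_mul, mul_inv_cancel]

end CfsgLib.Solv
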