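import Cfsg.Agent.Solv.SSGHuppert

/-!
Groups all of whose subgroups have subgroups of every order are supersolvable.
-/

set_option autoImplicit false
set_option linter.style.haveILetI false
set_option linter.deprecated false
set_option linter.unusedSectionVars false
set_option maxHeartbeats 800000

open scoped Pointwise

namespace CfsgLib.Solv

universe u v

theorem hasSubgroups_mulEquiv {G : Type u} {G' : Type v} [Group G] [Group G'] (e : G ≃* G')
    (h : Cfsg.HasSubgroupOfEveryOrder G) : Cfsg.HasSubgroupOfEveryOrder G' := fun d hd => by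
  obtain ⟨H, hH⟩ := h d (by rwa [Nat.card_congr e.toEquiv])
  exact ⟨H.map e.toMonoidHom, by
    rw [← hH]; exact (Nat.card_congr (Subgroup.equivMapOfInjective H _ e.injective).toEquiv).symm⟩

theorem hereditary_clt_subgroup {G : Type u} [Group G]
    (h : ∀ H : Subgroup G, Cfsg.HasSubgroupOfEveryOrder H) (K : Subgroup G) :
    ∀ H : Subgroup K, Cfsg.HasSubgroupOfEveryOrder H := fun H =>
  hasSubgroups_mulEquiv (Subgroup.equivMapOfInjective H _ (Subgroup.subtype_injective K)).symm
    (h (H.map K.subtype))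

theorem hasSubgroups_self {G : Type u} [Group G]
    (h : ∀ H : Subgroup G, Cfsg.HasSubgroupOfEveryOrder H) : Cfsg.HasSubgroupOfEveryOrder G :=
  hasSubgroups_mulEquiv Subgroup.topEquiv (h ⊤)

theorem isCoatom_map_of_ker_le {G : Type u} {G' : Type v} [Group G] [Group G'] {f : G →* G'}
    (hf : Function.Surjective f) {M : Subgroup G} (hker : f.ker ≤ M) (hM : IsCoatom M) :
    IsCoatom (M.map f) := by
  refine ⟨fun e => hM.1 (by rw [← Subgroup.comap_map_eq_self hker, e, Subgroup.comap_top]),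
    fun X hX => ?_⟩
  have h1 : M < X.comap f := by
    rw [← Subgroup.comap_map_eq_self hker]
    exact (Subgroup.comap_lt_comap_of_surjective hf).2 hX
  rw [← Subgroup.map_comap_eq_self_of_surjective hf X, hM.2 _ h1, Subgroup.map_top_of_surjective f hf]

theorem isCoatom_of_prime_index {G : Type u} [Group G] [Finite G] {H : Subgroup G}
    (h : H.index.Prime) : IsCoatom H := by
  refine ⟨fun e => h.ne_one (by rw [e, Subgroup.index_top]), fun K hK => ?_⟩
  rcases (Nat.dvd_prime h).1 (Subgroup.index_dvd_of_le hK.le) with h2 | h2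
  · exact Subgroup.index_eq_one.1 h2
  · refine absurd (Subgroup.eq_of_le_of_card_ge hK.le ?_) hK.ne
    have h1 := Subgroup.card_mul_index K
    rw [h2, ← Subgroup.card_mul_index H] at h1
    exact (Nat.eq_of_mul_eq_mul_right h.pos h1).le

theorem card_of_index {G : Type u} [Group G] [Finite G] (Y : Subgroup G) {q : ℕ} (hq : 0 < q)
    (hd : q ∣ Nat.card G) (hY : Nat.card Y = Nat.card G / q) : Y.index = q := by
  have h1 := Subgroup.card_mul_index Y
  rw [hY] at h1
  exact Nat.eq_of_mul_eq_mul_left (Nat.div_pos (Nat.le_of_dvd Nat.card_pos hd) hq)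
    (h1.trans (Nat.div_mul_cancel hd).symm)

theorem clt_sylow_normal {G : Type u} [Group G] [Finite G] (h : Cfsg.HasSubgroupOfEveryOrder G)
    (hsub : ∀ K : Subgroup G, K ≠ ⊤ → SSG K) {p : ℕ} [hp : Fact p.Prime]
    (hpd : p ∣ Nat.card G) (hmax : ∀ q : ℕ, q.Prime → q ∣ Nat.card G → q ≤ p) (P : Sylow p G) :
    (P : Subgroup G).Normal := by
  have h1 : Nat.card G ≠ 1 := fun e => hp.out.ne_one (Nat.dvd_one.1 (e ▸ hpd))
  set q := (Nat.card G).minFac with hqd
  have hq : q.Prime := Nat.minFac_prime h1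
  by_cases hqp : q = p
  · rw [sylow_eq_top_of_primes P fun r hr hrd => le_antisymm (hmax r hr hrd)
      (hqp ▸ Nat.minFac_le_of_dvd hr.two_le hrd)]
    infer_instance
  obtain ⟨M, hMc⟩ := h (Nat.card G / q) (Nat.div_dvd_of_dvd (Nat.minFac_dvd _))
  have hMi : M.index = q := card_of_index M hq.pos (Nat.minFac_dvd _) hMc
  haveI hMn : M.Normal := Subgroup.normal_of_index_eq_minFac_card hMi
  have hMt : M ≠ ⊤ := fun e => hq.ne_one (by rw [← hMi, e, Subgroup.index_top])
  have hPM : (P : Subgroup G) ≤ M := by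
    intro x hx
    rw [← QuotientGroup.eq_one_iff, ← orderOf_eq_one_iff]
    obtain ⟨k, hk⟩ := IsPGroup.iff_card.1 P.2
    refine Nat.eq_one_of_dvd_coprimes ((Nat.coprime_primes hq hp.out).2 hqp |>.pow_right k) ?_ ?_
    · rw [← hMi, Subgroup.index_eq_card]; exact orderOf_dvd_natCard _
    · rw [← hk]
      exact (orderOf_map_dvd (QuotientGroup.mk' M) x).trans (Subgroup.orderOf_dvd_natCard _ hx)
  haveI hPn : ((P.subtype hPM : Sylow p M) : Subgroup M).Normal :=
    ssg_sylow_normal (hsub M hMt)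
      (fun r hr hrd => hmax r hr (hrd.trans (Subgroup.card_subgroup_dvd_card M))) _
  haveI := Sylow.characteristic_of_normal (P.subtype hPM) hPn
  have := normal_map_subtype_of_characteristic ((P.subtype hPM : Sylow p M) : Subgroup M)
  rwa [Sylow.coe_subtype, Subgroup.map_subgroupOf_eq_of_le hPM] at this

theorem clt_maximal_index_prime {G : Type u} [Group G] [Finite G]
    (h : Cfsg.HasSubgroupOfEveryOrder G) (hsub : ∀ K : Subgroup G, K ≠ ⊤ → SSG K) {p : ℕ}
    [hp : Fact p.Prime] (hpd : p ∣ Nat.card G)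
    (hmax : ∀ q : ℕ, q.Prime → q ∣ Nat.card G → q ≤ p) (M : Subgroup G) (hM : IsCoatom M) :
    M.index.Prime := by
  let P : Sylow p G := default
  haveI hPn := clt_sylow_normal h hsub hpd hmax P
  have hPb : (P : Subgroup G) ≠ ⊥ := P.ne_bot_of_dvd_card hpd
  by_cases hPM : (P : Subgroup G) ≤ M
  · obtain ⟨K, hK⟩ := Subgroup.exists_right_complement'_of_coprime (N := (P : Subgroup G))
      P.card_coprime_index
    have hKt : K ≠ ⊤ := fun e => hPb (by
      have := hK.disjoint
      rwa [e, disjoint_top] at this)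
    have hq : SSG (G ⧸ (P : Subgroup G)) := ssg_mulEquiv (hK.symm.QuotientMulEquiv).symm (hsub K hKt)
    set f := QuotientGroup.mk' (P : Subgroup G)
    have hker : f.ker ≤ M := by rw [QuotientGroup.ker_mk']; exact hPM
    rw [← Subgroup.index_map_eq M (QuotientGroup.mk'_surjective _) hker]
    exact ssg_maximal_index_prime hq (isCoatom_map_of_ker_le (QuotientGroup.mk'_surjective _) hker hM)
  have hMP : M ⊔ (P : Subgroup G) = ⊤ := hM.2 _ (left_lt_sup.2 hPM)
  have hindex : ∀ Z : Subgroup G, Z ⊔ (P : Subgroup G) = ⊤ → Z.relIndex (P : Subgroup G) = Z.index := by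
    intro Z hZ
    have hc := card_sup_mul_card_inf Z (P : Subgroup G)
    rw [hZ, Subgroup.card_top, ← Subgroup.card_mul_index Z] at hc
    have h2 := relIndex_mul_card (inf_le_right : Z ⊓ (P : Subgroup G) ≤ P)
    rw [Subgroup.inf_relIndex_right] at h2
    refine Nat.eq_of_mul_eq_mul_right (Nat.card_pos (α := (Z ⊓ (P : Subgroup G) : Subgroup G))) ?_
    rw [mul_comm (Z.relIndex _), h2]
    refine Nat.eq_of_mul_eq_mul_left (Nat.card_pos (α := Z)) ?_
    rw [← hc, mul_assoc]
  set X := M ⊓ (P : Subgroup G) with hXd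
  have hXn : X.Normal := by
    rw [← Subgroup.normalizer_eq_top_iff]
    have hXP : X ≠ (P : Subgroup G) := fun e => hPM (e ▸ inf_le_left)
    have hle : M ≤ Subgroup.normalizer (X : Set G) := le_normalizer_iff_forall_conj_mem.2
      fun m hm x hx => Subgroup.mem_inf.2 ⟨mul_mem (mul_mem hm hx.1) (inv_mem hm), hPn.conj_mem x hx.2 m⟩
    refine hM.2 _ (lt_of_le_of_ne hle fun e => ?_)
    haveI : Group.IsNilpotent (P : Subgroup G) := P.2.isNilpotent
    have hlt : X.subgroupOf (P : Subgroup G) < Subgroup.normalizer ((X.subgroupOf (P : Subgroup G)) : Set P) :=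
      Group.normalizerCondition_of_isNilpotent (G := P) _ (lt_top_iff_ne_top.2 fun e' => hXP
        (le_antisymm inf_le_right (Subgroup.subgroupOf_eq_top.1 e')))
    rw [← Subgroup.subgroupOf_normalizer_eq (inf_le_right : X ≤ (P : Subgroup G)), ← e] at hlt
    exact hlt.ne (by rw [hXd, Subgroup.inf_subgroupOf_right])
  haveI := hXn
  -- a subgroup of index `p`
  obtain ⟨Y, hYc⟩ := h (Nat.card G / p) (Nat.div_dvd_of_dvd hpd)
  have hYi : Y.index = p := card_of_index Y hp.out.pos hpd hYc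
  have hYt : Y ≠ ⊤ := fun e => hp.out.ne_one (by rw [← hYi, e, Subgroup.index_top])
  have hPY : ¬ (P : Subgroup G) ≤ Y := fun hle => P.not_dvd_index (by
    have := Subgroup.index_dvd_of_le hle
    rwa [hYi] at this)
  have hYco : IsCoatom Y := isCoatom_of_prime_index (hYi ▸ hp.out)
  have hYP : Y ⊔ (P : Subgroup G) = ⊤ := hYco.2 _ (left_lt_sup.2 hPY)
  have hP1 : Y.relIndex (P : Subgroup G) = p := (hindex Y hYP).trans hYi
  set P1 := Y ⊓ (P : Subgroup G) with hP1d
  have hP1n : P1.Normal := by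
    rw [← Subgroup.normalizer_eq_top_iff, ← top_le_iff, ← hYP, sup_le_iff]
    refine ⟨le_normalizer_iff_forall_conj_mem.2 fun y hy x hx =>
      Subgroup.mem_inf.2 ⟨mul_mem (mul_mem hy hx.1) (inv_mem hy), hPn.conj_mem x hx.2 y⟩, ?_⟩
    haveI : Group.IsNilpotent (P : Subgroup G) := P.2.isNilpotent
    haveI : (P1.subgroupOf (P : Subgroup G)).Normal := by
      refine Subgroup.NormalizerCondition.normal_of_coatom _
        (Group.normalizerCondition_of_isNilpotent (G := P)) (isCoatom_of_prime_index ?_)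
      show (P1.relIndex (P : Subgroup G)).Prime
      rw [hP1d, Subgroup.inf_relIndex_right, hP1]; exact hp.out
    exact Subgroup.normal_subgroupOf_iff_le_normalizer inf_le_right |>.1 inferInstance
  haveI := hP1n
  have hP1m : ∀ a ∈ P1, a ∈ Y ∧ a ∈ (P : Subgroup G) := fun a ha => Subgroup.mem_inf.1 ha
  have hMi : M.index = M.relIndex (P : Subgroup G) := (hindex M hMP).symm
  by_cases hP1X : P1 ≤ X
  · have h1 : M.relIndex (P : Subgroup G) ∣ p := by
      have h2 := Subgroup.relIndex_dvd_of_le_left (P : Subgroup G) hP1X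
      rw [hXd, hP1d, Subgroup.inf_relIndex_right, Subgroup.inf_relIndex_right] at h2
      exact h2.trans hP1.dvd
    rcases (Nat.dvd_prime hp.out).1 h1 with h2 | h2
    · exact absurd (Subgroup.relIndex_eq_one.1 h2) hPM
    · rw [hMi, h2]; exact hp.out
  have hP1M : ¬ P1 ≤ M := fun hle => hP1X (le_inf hle inf_le_right)
  have hMP1 : P1 ⊔ M = ⊤ := by rw [sup_comm]; exact hM.2 _ (left_lt_sup.2 hP1M)
  by_cases hXY : X ≤ Y
  · refine absurd ?_ hPY
    intro x hx
    obtain ⟨a, ha, m, hm, e⟩ := Subgroup.mem_sup_of_normal_left.1 (hMP1.ge (Subgroup.mem_top x))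
    have hmP : m ∈ (P : Subgroup G) := by
      have := mul_mem (inv_mem (hP1m a ha).2) hx
      rwa [← e, inv_mul_cancel_left] at this
    rw [← e]
    exact mul_mem (hP1m a ha).1 (hXY (Subgroup.mem_inf.2 ⟨hm, hmP⟩))
  -- now `M ⊓ Y` is maximal in `Y`
  have hsup : X ⊔ P1 = (P : Subgroup G) := by
    refine le_antisymm (sup_le inf_le_right inf_le_right) fun x hx => ?_
    obtain ⟨a, ha, m, hm, e⟩ := Subgroup.mem_sup_of_normal_left.1 (hMP1.ge (Subgroup.mem_top x))
    have hmP : m ∈ (P : Subgroup G) := by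
      have := mul_mem (inv_mem (hP1m a ha).2) hx
      rwa [← e, inv_mul_cancel_left] at this
    rw [← e]
    exact mul_mem (Subgroup.mem_sup_right ha) (Subgroup.mem_sup_left (Subgroup.mem_inf.2 ⟨hm, hmP⟩))
  have hMY : IsCoatom (M.subgroupOf Y) := by
    refine ⟨fun e => hP1M (fun x hx => (Subgroup.subgroupOf_eq_top.1 e) hx.1), fun Z hZ => ?_⟩
    set Z' := Z.map Y.subtype with hZ'
    have hZY : Z' ≤ Y := Subgroup.map_subtype_le _
    have hMZ : M ⊓ Y ≤ Z' := by
      rw [← Subgroup.subgroupOf_map_subtype]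
      exact Subgroup.map_mono hZ.le
    have hdec : ∀ z ∈ Y, ∃ a ∈ P1, ∃ m ∈ M ⊓ Y, a * m = z := by
      intro z hz
      obtain ⟨a, ha, m, hm, e⟩ := Subgroup.mem_sup_of_normal_left.1 (hMP1.ge (Subgroup.mem_top z))
      refine ⟨a, ha, m, Subgroup.mem_inf.2 ⟨hm, ?_⟩, e⟩
      have := mul_mem (inv_mem (hP1m a ha).1) hz
      rwa [← e, inv_mul_cancel_left] at this
    -- `(Z' ⊓ P1) ⊔ X` is normalized by `M`
    have hN : M ≤ Subgroup.normalizer ((((Z' ⊓ P1) ⊔ X : Subgroup G)) : Set G) := by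
      have hMYX : M ≤ (M ⊓ Y) ⊔ X := by
        intro m hm
        obtain ⟨y, hy, x, hx, e⟩ := Subgroup.mem_sup_of_normal_right.1
          ((hYco.2 _ (left_lt_sup.2 hXY) : Y ⊔ X = ⊤).ge (Subgroup.mem_top m))
        rw [← e]
        refine mul_mem (Subgroup.mem_sup_left (Subgroup.mem_inf.2 ⟨?_, hy⟩)) (Subgroup.mem_sup_right hx)
        have := mul_mem hm (inv_mem (Subgroup.mem_inf.1 hx).1)
        rwa [← e, mul_inv_cancel_right] at this
      refine hMYX.trans (sup_le ?_ ((le_sup_right).trans Subgroup.le_normalizer))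
      refine le_normalizer_iff_forall_conj_mem.2 fun m hm x hx => ?_
      obtain ⟨a, ha, b, hb, rfl⟩ := Subgroup.mem_sup_of_normal_right.1 hx
      rw [← conj_mul]
      exact mul_mem (Subgroup.mem_sup_left (Subgroup.mem_inf.2
        ⟨mul_mem (mul_mem (hMZ hm) ha.1) (inv_mem (hMZ hm)), hP1n.conj_mem a ha.2 m⟩))
        (Subgroup.mem_sup_right (hXn.conj_mem b hb m))
    obtain ⟨z, hz, hzM⟩ := SetLike.exists_of_lt hZ
    -- it is not contained in `M`
    have hNM : ¬ (Z' ⊓ P1) ⊔ X ≤ M := by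
      intro hle
      obtain ⟨a, ha, m, hm, e⟩ := hdec z z.2
      have haZ : a ∈ Z' := by
        have := mul_mem (Subgroup.mem_map_of_mem Y.subtype hz) (inv_mem (hMZ hm))
        rwa [Subgroup.coe_subtype, ← e, mul_inv_cancel_right] at this
      exact hzM (show (z : G) ∈ M from e ▸ mul_mem (hle (Subgroup.mem_sup_left (Subgroup.mem_inf.2 ⟨haZ, ha⟩))) hm.1)
    have htop : ((Z' ⊓ P1) ⊔ X) ⊔ M = ⊤ := by
      rw [sup_comm]; exact hM.2 _ (left_lt_sup.2 hNM)
    refine top_unique fun y _ => ?_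
    obtain ⟨a, ha, m, hm, e⟩ := hdec y y.2
    have haZ : a ∈ Z' := by
      obtain ⟨n, hn, m', hm', e'⟩ := exists_mul_of_mem_sup hN
        ((show M ⊔ ((Z' ⊓ P1) ⊔ X) = ⊤ by rw [sup_comm, htop]).ge (Subgroup.mem_top a))
      obtain ⟨c, hc, d, hd, rfl⟩ := Subgroup.mem_sup_of_normal_right.1 hn
      have hdm : d * m' ∈ M ⊓ Y := by
        refine Subgroup.mem_inf.2 ⟨mul_mem (Subgroup.mem_inf.1 hd).1 hm', ?_⟩
        have := mul_mem (inv_mem (hP1m c (Subgroup.mem_inf.1 hc).2).1) (hP1m a ha).1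
        rwa [e', mul_assoc, inv_mul_cancel_left] at this
      rw [e', mul_assoc]
      exact mul_mem hc.1 (hMZ hdm)
    obtain ⟨w, hw, hwe⟩ := (e ▸ mul_mem haZ (hMZ hm) : (y : G) ∈ Z')
    rwa [← Subtype.ext hwe]
  have h1 := ssg_maximal_index_prime (hsub Y hYt) hMY
  have h2 : M.relIndex Y = M.index := by
    have hle : (P1 : Subgroup G) ≤ Y := inf_le_left
    refine le_antisymm ?_ ?_
    · calc M.relIndex Y ≤ M.relIndex ⊤ := Subgroup.relIndex_le_of_le_right le_top (by
            rw [Subgroup.relIndex_top_right]; exact Subgroup.index_ne_zero_of_finite)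
        _ = M.index := Subgroup.relIndex_top_right M
    · have h3 : M.relIndex (P1 ⊔ M) = M.relIndex P1 := by
        have hc := card_sup_mul_card_inf M P1
        rw [sup_comm, ← relIndex_mul_card (le_sup_right : M ≤ P1 ⊔ M)] at hc
        have h4 := relIndex_mul_card (inf_le_right : M ⊓ P1 ≤ P1)
        rw [Subgroup.inf_relIndex_right] at h4
        refine Nat.eq_of_mul_eq_mul_right (Nat.card_pos (α := M)) ?_
        refine Nat.eq_of_mul_eq_mul_right (Nat.card_pos (α := (M ⊓ P1 : Subgroup G))) ?_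
        rw [mul_comm (M.relIndex (P1 ⊔ M)), hc, ← h4]; ring
      rw [← Subgroup.relIndex_top_right M, ← hMP1, h3]
      exact Subgroup.relIndex_le_of_le_right hle fun e => Subgroup.index_ne_zero_of_finite (H := M.subgroupOf Y) e
  show M.index.Prime
  rw [← h2]
  exact h1

theorem clt_ssg_aux : ∀ (n : ℕ) (G : Type u) [Group G] [Finite G], Nat.card G = n →
    (∀ H : Subgroup G, Cfsg.HasSubgroupOfEveryOrder H) → SSG G := by
  intro n
  induction n using Nat.strong_induction_on with
  | _ n IH =>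
    intro G _ _ hn h
    rcases subsingleton_or_nontrivial G with hs | hs
    · exact ssg_of_subsingleton
    obtain ⟨p, hp, hpd, hmax⟩ := exists_largest_prime (Finite.one_lt_card (α := G))
    haveI : Fact p.Prime := ⟨hp⟩
    exact maxPrime_ssg fun M hM => clt_maximal_index_prime (hasSubgroups_self h)
      (fun K hK => IH _ (hn ▸ card_lt_of_ne_top hK) K rfl (hereditary_clt_subgroup h K)) hpd hmax M hM

theorem clt_ssg {G : Type u} [Group G] [Finite G]
    (h : ∀ H : Subgroup G, Cfsg.HasSubgroupOfEveryOrder H) : SSG G :=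
  clt_ssg_aux _ G rfl h

end CfsgLib.Solv
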