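import Mathlib.GroupTheory.SchurZassenhaus
import Cfsg.Agent.Solv.MinimalNormal

/-!
The conjugacy half of the Schur–Zassenhaus theorem.
-/

set_option autoImplicit false
set_option linter.style.haveILetI false
set_option linter.deprecated false

open scoped Pointwise IsMulCommutative

namespace CfsgLib.Solv

variable {G : Type*} [Group G]

theorem sup_eq_top_of_card [Finite G] {N H : Subgroup G} (hcop : (Nat.card N).Coprime N.index)
    (hH : Nat.card H = N.index) : Subgroup.IsComplement' N H :=
  Subgroup.isComplement'_of_coprime (by rw [hH, N.card_mul_index]) (by rw [hH]; exact hcop)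

/-- Complements of an abelian normal subgroup of coprime order and index are conjugate by an
element of that subgroup. -/
theorem conj_complement_abelian [Finite G] (N : Subgroup G) [hNn : N.Normal]
    [IsMulCommutative N] (H K : Subgroup G) (hH : Subgroup.IsComplement' N H)
    (hK : Subgroup.IsComplement' N K) (hcop : (Nat.card N).Coprime (Nat.card H)) :
    ∃ d ∈ N, MulAut.conj d • H = K := by
  classical
  haveI := Fintype.ofFinite H
  have hf : ∀ h : H, ∃ n : N, (h : G) * (n : G) ∈ K := by
    intro h
    obtain ⟨⟨⟨n, hn⟩, ⟨k, hk⟩⟩, hnk⟩ := hK.2 (h : G)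
    simp only at hnk
    refine ⟨⟨(h : G)⁻¹ * k, ?_⟩, by simpa using hk⟩
    rw [← hnk]
    simpa [mul_assoc] using hNn.conj_mem _ (inv_mem hn) k⁻¹
  choose f hf using hf
  have huniq : ∀ (h : H) (n : N), (h : G) * (n : G) ∈ K → n = f h := by
    intro h n hn
    have hd : ∀ {x : G}, x ∈ N → x ∈ K → x = 1 := Subgroup.disjoint_def.1 hK.disjoint
    have h1 : ((f h : N) : G)⁻¹ * n ∈ K := by
      simpa [mul_assoc] using mul_mem (inv_mem (hf h)) hn
    exact (Subtype.ext (inv_mul_eq_one.1 (hd (mul_mem (inv_mem (f h).2) n.2) h1))).symm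
  let c : H → N →* N := fun h =>
    { toFun := fun n => ⟨(h : G)⁻¹ * n * h, by simpa using hNn.conj_mem _ n.2 (h : G)⁻¹⟩
      map_one' := Subtype.ext (by simp)
      map_mul' := fun a b => Subtype.ext (by simp [mul_assoc]) }
  have hmul : ∀ a b : H, f (a * b) = c b (f a) * f b := by
    intro a b
    refine (huniq _ _ ?_).symm
    simpa [c, mul_assoc] using mul_mem (hf a) (hf b)
  set P : N := ∏ a : H, f a with hP
  have hsum : ∀ b : H, P = c b P * f b ^ Nat.card H := by
    intro b
    conv_lhs => rw [hP, ← Fintype.prod_equiv (Equiv.mulRight b) (fun a => f (a * b)) f fun a => rfl]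
    simp only [hmul, Finset.prod_mul_distrib, hP, map_prod, Finset.prod_const, Finset.card_univ,
      Nat.card_eq_fintype_card]
  obtain ⟨d, hd⟩ := (powCoprime hcop).surjective P
  replace hd : d ^ Nat.card H = P := hd
  have hfd : ∀ b : H, f b = (c b d)⁻¹ * d := by
    intro b
    apply (powCoprime hcop).injective
    show f b ^ Nat.card H = ((c b d)⁻¹ * d) ^ Nat.card H
    rw [mul_pow, inv_pow, ← map_pow, hd, eq_inv_mul_iff_mul_eq]
    exact (hsum b).symm
  refine ⟨(d : G)⁻¹, inv_mem d.2, Subgroup.eq_of_le_of_card_ge ?_ ?_⟩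
  · intro x hx
    rw [mem_conj_smul_iff] at hx
    have h1 := hf ⟨_, hx⟩
    rw [hfd] at h1
    simpa [c, mul_assoc] using h1
  · rw [card_conj_smul]
    have h1 := hH.card_mul_card
    rw [← hK.card_mul_card] at h1
    exact (Nat.eq_of_mul_eq_mul_left Nat.card_pos h1).ge

theorem schur_zassenhaus_conj_aux : ∀ n : ℕ, ∀ (G : Type*) [Group G] [Finite G], Nat.card G = n →
    ∀ (N : Subgroup G) [N.Normal] (H K : Subgroup G), (Nat.card N).Coprime N.index →
    (Group.IsSolvable N ∨ Group.IsSolvable H) → Nat.card H = N.index → Nat.card K = N.index →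
    ∃ g : G, MulAut.conj g • H = K := by
  intro n
  induction n using Nat.strongRecOn with
  | ind n ih => ?_
  intro G _ _ hG N _ H K hcop hs hH hK
  rcases eq_or_ne N ⊥ with hN | hN
  · subst hN
    rw [Subgroup.index_bot] at hH hK
    exact ⟨1, by rw [H.eq_top_of_card_eq hH, K.eq_top_of_card_eq hK]; simp⟩
  have hHc := sup_eq_top_of_card hcop hH
  have hKc := sup_eq_top_of_card hcop hK
  rcases hs with hs | hs
  · -- `N` solvable
    obtain ⟨M, hM, hMN⟩ := exists_isMinimalNormal_le N hN
    haveI := hM.1
    haveI : IsMulCommutative M := isMulCommutative_of_minimal_solvable hM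
      (haveI := hs
       Group.isSolvable_of_isSolvable_injective (f := Subgroup.inclusion hMN)
        (Subgroup.inclusion_injective hMN))
    set q := QuotientGroup.mk' M
    haveI : (N.map q).Normal := ‹N.Normal›.map q (QuotientGroup.mk'_surjective M)
    have hidx : (N.map q).index = N.index :=
      Subgroup.index_map_eq N (QuotientGroup.mk'_surjective M) (by simpa [q] using hMN)
    have hcard : ∀ X : Subgroup G, Nat.card X = N.index → Nat.card (X.map q) = (N.map q).index := by
      intro X hX
      have h1 := card_map_mk' M X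
      have h2 : X ⊓ M = ⊥ := Subgroup.inf_eq_bot_of_coprime
        (by rw [hX]; exact (hcop.of_dvd_left (Subgroup.card_dvd_of_le hMN)).symm)
      rw [h2, Subgroup.card_bot, mul_one] at h1
      rw [h1, hidx, hX]
    obtain ⟨g, hg⟩ := ih (Nat.card (G ⧸ M)) (hG ▸ card_quotient_lt hM.2.1) (G ⧸ M) rfl (N.map q)
      (H.map q) (K.map q) (by rw [hidx]; exact hcop.of_dvd_left (N.card_map_dvd q))
      (Or.inl (haveI := hs
       Group.isSolvable_of_surjective (q.subgroupMap_surjective N)))
      (hcard H hH) (hcard K hK)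
    obtain ⟨g, rfl⟩ := QuotientGroup.mk'_surjective M g
    set H' := MulAut.conj g • H with hH'
    have hH'c : Nat.card H' = N.index := by rw [hH', card_conj_smul, hH]
    have hmap : H'.map q = K.map q := by
      rw [← hg, hH', conj_smul_eq_map, conj_smul_eq_map, Subgroup.map_map, Subgroup.map_map]
      congr 1
    set L := H' ⊔ M with hL
    have hKL : K ≤ L := by
      have h : K ≤ (H'.map q).comap q := hmap ▸ Subgroup.le_comap_map q K
      rwa [Subgroup.comap_map_eq, QuotientGroup.ker_mk'] at h
    haveI : (M.subgroupOf L).Normal := Subgroup.normal_subgroupOf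
    haveI : IsMulCommutative (M.subgroupOf L) := ⟨⟨fun a b => by
      have h := congrArg Subtype.val
        (mul_comm (⟨(a : L), a.2⟩ : M) (⟨(b : L), b.2⟩ : M))
      exact Subtype.ext (Subtype.ext h)⟩⟩
    have hcopM : (Nat.card M).Coprime N.index := hcop.of_dvd_left (Subgroup.card_dvd_of_le hMN)
    have hcomp : ∀ X : Subgroup G, X ≤ L → Nat.card X = N.index →
        Subgroup.IsComplement' (M.subgroupOf L) (X.subgroupOf L) := by
      intro X hXL hX
      have hH'M : Nat.card L = N.index * Nat.card M := by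
        have := card_sup_mul_card_inf H' M
        rw [Subgroup.inf_eq_bot_of_coprime (by rw [hH'c]; exact hcopM.symm), Subgroup.card_bot,
          mul_one, hH'c] at this
        exact this
      apply Subgroup.isComplement'_of_coprime
      · rw [card_subgroupOf le_sup_right, card_subgroupOf hXL, hX, hH'M, mul_comm]
      · rw [card_subgroupOf le_sup_right, card_subgroupOf hXL, hX]; exact hcopM
    obtain ⟨d, -, hd⟩ := conj_complement_abelian (M.subgroupOf L) (H'.subgroupOf L) (K.subgroupOf L)
      (hcomp H' le_sup_left hH'c) (hcomp K hKL hK)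
      (by rw [card_subgroupOf le_sup_right, card_subgroupOf le_sup_left, hH'c]; exact hcopM)
    refine ⟨(d : G) * g, ?_⟩
    have hd' := congrArg (Subgroup.map L.subtype) hd
    rw [conj_smul_eq_map, Subgroup.map_map, Subgroup.subgroupOf_map_subtype,
      inf_eq_left.2 hKL] at hd'
    rw [← hd', map_mul, mul_smul, ← hH', conj_smul_eq_map]
    conv_lhs => rw [← Subgroup.map_subgroupOf_eq_of_le (le_sup_left : H' ≤ L), Subgroup.map_map]
    rfl
  · -- the complement solvable
    rcases eq_or_ne H ⊥ with hHb | hHb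
    · subst hHb
      rw [Subgroup.card_bot] at hH
      rw [← hH, Subgroup.card_eq_one] at hK
      exact ⟨1, by simp [hK]⟩
    haveI : Nontrivial H := H.nontrivial_iff_ne_bot.2 hHb
    obtain ⟨P₀, p, hp, hP₀, -, -, hP₀p⟩ := exists_minimal_normal_pGroup (G := H)
    haveI := Fact.mk hp
    haveI := hP₀.1
    set P := P₀.map H.subtype with hP
    have hPH : P ≤ H := Subgroup.map_subtype_le P₀
    have hPp : IsPGroup p P := hP₀p.map _
    have hPne : P ≠ ⊥ := by
      rw [hP, Ne, Subgroup.map_eq_bot_iff_of_injective _ H.subtype_injective]; exact hP₀.2.1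
    set A := P ⊔ N with hA
    have hHP : H ≤ Subgroup.normalizer (P : Set G) := by
      rw [le_normalizer_iff_forall_conj_mem]
      rintro h hh _ ⟨x, hx, rfl⟩
      exact ⟨⟨h, hh⟩ * x * ⟨h, hh⟩⁻¹, hP₀.1.conj_mem x hx _, by simp⟩
    have hAn : A.Normal := by
      apply Subgroup.normalizer_eq_top_iff.1
      rw [eq_top_iff, ← hHc.sup_eq_top]
      refine sup_le (le_sup_right.trans Subgroup.le_normalizer) ?_
      refine le_trans ?_ (Subgroup.normalizer_inf_normalizer_le_normalizer_sup (H := P) (K := N))
      exact le_inf hHP (by rw [Subgroup.normalizer_eq_top]; exact le_top)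
    have hdisj : ∀ X : Subgroup G, Nat.card X = N.index → X ⊓ N = ⊥ := fun X hX =>
      Subgroup.inf_eq_bot_of_coprime (by rw [hX]; exact hcop.symm)
    have hAcard : Nat.card A = Nat.card P * Nat.card N := by
      have := card_sup_mul_card_inf P N
      rw [Subgroup.inf_eq_bot_of_coprime ((hcop.symm).of_dvd_left
        (hH ▸ Subgroup.card_dvd_of_le hPH)), Subgroup.card_bot, mul_one] at this
      exact this
    have hKA : Nat.card (K ⊓ A : Subgroup G) = Nat.card P := by
      have h1 := card_sup_mul_card_inf K A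
      have h2 : K ⊔ A = ⊤ := by
        rw [eq_top_iff, ← hKc.sup_eq_top]
        exact sup_le (le_sup_of_le_right le_sup_right) le_sup_left
      rw [h2, Subgroup.card_top, hAcard, ← N.card_mul_index, ← hK] at h1
      apply Nat.eq_of_mul_eq_mul_left (Nat.mul_pos (Nat.card_pos (α := N)) (Nat.card_pos (α := K)))
      rw [h1]; ring
    have hPcard : ¬ p ∣ Nat.card N := by
      intro hpN
      have hpH : p ∣ Nat.card P := by
        obtain ⟨k, hk⟩ := IsPGroup.iff_card.1 hPp
        rw [hk]
        rcases Nat.eq_zero_or_pos k with rfl | hk0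
        · exact absurd (Subgroup.card_eq_one.1 (by simpa using hk)) hPne
        · exact dvd_pow_self p hk0.ne'
      exact hp.not_dvd_one (hcop ▸ Nat.dvd_gcd hpN (hH ▸ hpH.trans (Subgroup.card_dvd_of_le hPH)))
    have hsyl : ∀ X : Subgroup G, X ≤ A → Nat.card X = Nat.card P →
        ∃ S : Sylow p A, (S : Subgroup A) = X.subgroupOf A := by
      intro X hXA hX
      refine ⟨IsPGroup.toSylow (P := X.subgroupOf A) ?_ ?_, rfl⟩
      · obtain ⟨k, hk⟩ := IsPGroup.iff_card.1 hPp
        exact IsPGroup.of_card (n := k) (by rw [card_subgroupOf hXA, hX, hk])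
      · intro h
        have h1 := (X.subgroupOf A).card_mul_index
        rw [card_subgroupOf hXA, hX, hAcard] at h1
        exact hPcard (Nat.eq_of_mul_eq_mul_left Nat.card_pos h1 ▸ h)
    obtain ⟨S, hS⟩ := hsyl P le_sup_left rfl
    obtain ⟨T, hT⟩ := hsyl (K ⊓ A) inf_le_right hKA
    obtain ⟨a, ha⟩ := MulAction.exists_smul_eq A S T
    have ha' := congrArg (fun X : Sylow p A => (X : Subgroup A).map A.subtype) ha
    simp only [Sylow.coe_subgroup_smul, hS, hT] at ha'
    rw [conj_smul_eq_map, Subgroup.map_map,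
      Subgroup.map_subgroupOf_eq_of_le (inf_le_right : K ⊓ A ≤ A)] at ha'
    set H' := MulAut.conj (a : G) • H with hH'
    have hH'c : Nat.card H' = N.index := by rw [hH', card_conj_smul, hH]
    set P' := K ⊓ A with hP'
    have hP'H : P' ≤ H' := by
      rw [← ha']
      rintro _ ⟨x, hx, rfl⟩
      exact ⟨(x : G), hPH hx, rfl⟩
    have hH's : Group.IsSolvable H' :=
      haveI := hs
      Group.isSolvable_of_surjective (f := (Subgroup.equivSMul (MulAut.conj (a : G)) H).toMonoidHom)
        (Subgroup.equivSMul _ H).surjective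
    set L := Subgroup.normalizer (P' : Set G) with hL
    have hnK : K ≤ L := by
      rw [hL, le_normalizer_iff_forall_conj_mem]
      intro k hk x hx
      exact Subgroup.mem_inf.2 ⟨mul_mem (mul_mem hk (Subgroup.mem_inf.1 hx).1) (inv_mem hk),
        hAn.conj_mem _ (Subgroup.mem_inf.1 hx).2 k⟩
    have hH'A : H' ⊓ A = P' := by
      refine (Subgroup.eq_of_le_of_card_ge (le_inf hP'H inf_le_right) ?_).symm
      rw [hKA, show A = MulAut.conj (a : G) • A from
        (conj_smul_eq_self_of_mem_normalizer (Subgroup.le_normalizer a.2)).symm, hH',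
        ← Subgroup.smul_inf, card_conj_smul]
      have h1 := card_map_mk' N (H ⊓ A)
      rw [show (H ⊓ A) ⊓ N = ⊥ from le_bot_iff.1 (hdisj H hH ▸ inf_le_inf_right N inf_le_left),
        Subgroup.card_bot, mul_one] at h1
      rw [← h1]
      refine le_trans (Subgroup.card_le_of_le (Subgroup.map_mono inf_le_right)) ?_
      rw [Subgroup.map_sup, (Subgroup.map_eq_bot_iff (f := QuotientGroup.mk' N) N).2
        (by rw [QuotientGroup.ker_mk']), sup_bot_eq]
      exact Nat.le_of_dvd Nat.card_pos (P.card_map_dvd _)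
    have hnH : H' ≤ L := by
      rw [hL, le_normalizer_iff_forall_conj_mem]
      intro k hk x hx
      rw [← hH'A] at hx ⊢
      exact Subgroup.mem_inf.2 ⟨mul_mem (mul_mem hk (Subgroup.mem_inf.1 hx).1) (inv_mem hk),
        hAn.conj_mem _ (Subgroup.mem_inf.1 hx).2 k⟩
    -- work in `L ⧸ P'`
    set R := P'.subgroupOf L
    haveI : R.Normal := Subgroup.normal_subgroupOf_of_le_normalizer le_rfl
    have hRne : R ≠ ⊥ := fun h => hPne (Subgroup.card_eq_one.1 (by
      rw [← hKA, ← card_subgroupOf (Subgroup.le_normalizer : P' ≤ L)]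
      exact Subgroup.card_eq_one.2 h))
    have hlt : Nat.card (L ⧸ R) < n :=
      hG ▸ (card_quotient_lt hRne).trans_le L.card_le_card_group
    set q := QuotientGroup.mk' R with hq
    set N₁ := (N.subgroupOf L).map q
    haveI : N₁.Normal := Subgroup.Normal.map inferInstance q (QuotientGroup.mk'_surjective _)
    have himg : ∀ X : Subgroup G, X ≤ L → P' ≤ X → Nat.card X = N.index →
        Subgroup.IsComplement' N₁ ((X.subgroupOf L).map q) ∧
          (Nat.card N₁).Coprime (Nat.card ((X.subgroupOf L).map q)) := by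
      intro X hXL hP'X hX
      have hXc := sup_eq_top_of_card hcop hX
      have hco : (Nat.card N₁).Coprime (Nat.card ((X.subgroupOf L).map q)) := by
        refine (hcop.of_dvd_left ?_).of_dvd_right ((Subgroup.card_map_dvd _ _).trans ?_)
        · refine (Subgroup.card_map_dvd _ _).trans ?_
          rw [← Subgroup.inf_subgroupOf_right, card_subgroupOf inf_le_right]
          exact Subgroup.card_dvd_of_le inf_le_left
        · rw [card_subgroupOf hXL, hX]
      refine ⟨Subgroup.isComplement'_of_disjoint_and_mul_eq_univ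
        (disjoint_iff.2 (Subgroup.inf_eq_bot_of_coprime hco)) (Set.eq_univ_of_forall fun y => ?_), hco⟩
      obtain ⟨y, rfl⟩ := QuotientGroup.mk'_surjective R y
      obtain ⟨⟨⟨u, hu⟩, ⟨x, hx⟩⟩, hux⟩ := hXc.2 (y : G)
      simp only at hux
      have huL : u ∈ L := by
        rw [show u = (y : G) * x⁻¹ by rw [← hux]; group]
        exact mul_mem y.2 (inv_mem (hXL hx))
      exact ⟨q ⟨u, huL⟩, ⟨_, hu, rfl⟩, q ⟨x, hXL hx⟩, ⟨_, hx, rfl⟩,
        (map_mul q _ _).symm.trans (congrArg q (Subtype.ext hux))⟩
    have hcK := himg K hnK inf_le_left hK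
    have hcH := himg H' hnH hP'H hH'c
    obtain ⟨g, hg⟩ := ih _ hlt (L ⧸ R) rfl N₁ ((H'.subgroupOf L).map q) ((K.subgroupOf L).map q)
      (by rw [hcK.1.symm.index_eq_card]; exact hcK.2)
      (Or.inr (haveI := hH's
        haveI : Group.IsSolvable (H'.subgroupOf L) := Group.isSolvable_of_isSolvable_injective
          (f := (Subgroup.subgroupOfEquivOfLe hnH).toMonoidHom)
          (Subgroup.subgroupOfEquivOfLe hnH).injective
        Group.isSolvable_of_surjective (f := q.subgroupMap (H'.subgroupOf L))
          (q.subgroupMap_surjective _)))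
      hcH.1.symm.index_eq_card.symm hcK.1.symm.index_eq_card.symm
    obtain ⟨g, rfl⟩ := QuotientGroup.mk'_surjective R g
    refine ⟨(g : G) * (a : G), ?_⟩
    rw [map_mul, mul_smul, ← hH']
    refine Subgroup.eq_of_le_of_card_ge ?_ (by rw [card_conj_smul, hH'c, hK])
    intro x hx
    have hxL : x ∈ L := by
      rw [mem_conj_smul_iff] at hx
      simpa [mul_assoc] using mul_mem (mul_mem g.2 (hnH hx)) (inv_mem g.2)
    have : q ⟨x, hxL⟩ ∈ (K.subgroupOf L).map q := by
      rw [← hg]
      rw [mem_conj_smul_iff] at hx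
      rw [mem_conj_smul_iff, ← map_inv, ← map_mul, ← map_mul]
      exact ⟨_, hx, rfl⟩
    obtain ⟨k, hk, hkx⟩ := this
    obtain ⟨r, hr, hrx⟩ := (QuotientGroup.mk'_eq_mk' R).1 hkx
    have : x = (k : G) * (r : G) := congrArg Subtype.val hrx.symm
    rw [this]
    exact mul_mem hk (inf_le_left (b := A) hr)

/-- Schur–Zassenhaus, conjugacy: subgroups of order `|G : N|` are conjugate when `N` is a normal
subgroup of coprime order and index and `N` or one of these subgroups is solvable. -/
theorem schur_zassenhaus_conj [Finite G] (N : Subgroup G) [N.Normal] (H K : Subgroup G)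
    (hcop : (Nat.card N).Coprime N.index) (hs : Group.IsSolvable N ∨ Group.IsSolvable H)
    (hH : Nat.card H = N.index) (hK : Nat.card K = N.index) :
    ∃ g : G, MulAut.conj g • H = K :=
  schur_zassenhaus_conj_aux _ G rfl N H K hcop hs hH hK

theorem isSolvable_quotient_iff_of_isComplement' {N H : Subgroup G} [N.Normal]
    (hH : Subgroup.IsComplement' N H) : Group.IsSolvable H ↔ Group.IsSolvable (G ⧸ N) := by
  have hinj : Function.Injective ((QuotientGroup.mk' N).comp H.subtype) := by
    rw [← MonoidHom.ker_eq_bot_iff, eq_bot_iff]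
    intro x hx
    rw [MonoidHom.mem_ker] at hx
    exact Subtype.ext (Subgroup.disjoint_def.1 hH.disjoint
      ((QuotientGroup.eq_one_iff (x : G)).1 hx) x.2)
  have hsurj : Function.Surjective ((QuotientGroup.mk' N).comp H.subtype) := by
    intro y
    obtain ⟨y, rfl⟩ := QuotientGroup.mk'_surjective N y
    obtain ⟨⟨⟨u, hu⟩, ⟨x, hx⟩⟩, hux⟩ := hH.2 y
    simp only at hux
    refine ⟨⟨x, hx⟩, ?_⟩
    rw [← hux]
    simp [(QuotientGroup.eq_one_iff u).2 hu]
  exact ⟨fun h => haveI := h; Group.isSolvable_of_surjective hsurj,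
    fun h => haveI := h; Group.isSolvable_of_isSolvable_injective hinj⟩

end CfsgLib.Solv
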