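import Mathlib
import Cfsg.Prelude.Def_PLocal

/-!
Iterated commutator chains in `p`-groups: strict descent, uniserial actions, and the three subgroups lemma
for the lower central series.
-/

set_option autoImplicit false
set_option linter.style.haveILetI false
set_option linter.unusedSectionVars false

open scoped commutatorElement

namespace CfsgLib.Solv.IterComm

open Cfsg

variable {L : Type*} [Group L] [Finite L] {p : ℕ} [hp : Fact p.Prime]

/-- In a nilpotent situation commutation with `G` strictly shrinks a nontrivial subgroup. -/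
theorem commutator_lt {M G : Subgroup L} (hM : IsPGroup p M) (hG : IsPGroup p G)
    (hGM : G ≤ Subgroup.normalizer (M : Set L)) (hne : M ≠ ⊥) : ⁅M, G⁆ < M := by
  have hle : ⁅M, G⁆ ≤ M := Subgroup.commutator_le.2 fun m hm g hg => by
    rw [commutatorElement_def, show m * g * m⁻¹ * g⁻¹ = m * (g * m⁻¹ * g⁻¹) by group]
    exact mul_mem hm ((Subgroup.mem_normalizer_iff.1 (hGM hg) _).1 (inv_mem hm))
  refine lt_of_le_of_ne hle fun he => hne ?_
  have hQ : IsPGroup p (M ⊔ G : Subgroup L) := hM.to_sup_of_normal_left' hG hGM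
  haveI : Group.IsNilpotent (M ⊔ G : Subgroup L) := hQ.isNilpotent
  obtain ⟨c, hc⟩ := ((M ⊔ G : Subgroup L).isNilpotent_iff_lowerCentralSeries).1 inferInstance
  have h : ∀ k, M ≤ (M ⊔ G : Subgroup L).lowerCentralSeries k := by
    intro k
    induction k with
    | zero => exact le_sup_left
    | succ k ih =>
      rw [Subgroup.lowerCentralSeries_succ]
      exact he.ge.trans (Subgroup.commutator_mono ih le_sup_right)
  exact le_bot_iff.1 ((h c).trans hc.le)

/-- `G` normalises the chain, which lies in `N`. -/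
theorem iter_le_and_normal {N G : Subgroup L} (hGN : G ≤ Subgroup.normalizer (N : Set L)) :
    ∀ i, iterCommutator N G i ≤ N ∧ G ≤ Subgroup.normalizer (iterCommutator N G i : Set L)
  | 0 => ⟨le_rfl, hGN⟩
  | i + 1 => by
    obtain ⟨h1, h2⟩ := iter_le_and_normal hGN i
    have hle : iterCommutator N G (i + 1) ≤ iterCommutator N G i :=
      Subgroup.commutator_le.2 fun m hm g hg => by
        rw [commutatorElement_def, show m * g * m⁻¹ * g⁻¹ = m * (g * m⁻¹ * g⁻¹) by group]
        exact mul_mem hm ((Subgroup.mem_normalizer_iff.1 (h2 hg) _).1 (inv_mem hm))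
    refine ⟨hle.trans h1, fun g hg => Subgroup.mem_normalizer_fintype fun x hx => ?_⟩
    have h3 : (iterCommutator N G (i + 1)) ≤
        (iterCommutator N G (i + 1)).comap (MulAut.conj g).toMonoidHom := by
      show ⁅iterCommutator N G i, G⁆ ≤ _
      refine Subgroup.commutator_le.2 fun m hm k hk => Subgroup.mem_comap.2 ?_
      rw [map_commutatorElement]
      exact Subgroup.commutator_mem_commutator ((Subgroup.mem_normalizer_iff.1 (h2 hg) m).1 hm)
        (mul_mem (mul_mem hg hk) (inv_mem hg))
    exact h3 hx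

theorem iter_antitone {N G : Subgroup L} (hGN : G ≤ Subgroup.normalizer (N : Set L)) (i : ℕ) :
    iterCommutator N G (i + 1) ≤ iterCommutator N G i :=
  Subgroup.commutator_le.2 fun m hm g hg => by
    rw [commutatorElement_def, show m * g * m⁻¹ * g⁻¹ = m * (g * m⁻¹ * g⁻¹) by group]
    exact mul_mem hm ((Subgroup.mem_normalizer_iff.1 ((iter_le_and_normal hGN i).2 hg) _).1 (inv_mem hm))

theorem iter_step {N G : Subgroup L} (hN : IsPGroup p N) (hG : IsPGroup p G)
    (hGN : G ≤ Subgroup.normalizer (N : Set L)) {i : ℕ} (hne : iterCommutator N G i ≠ ⊥) :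
    p * Nat.card (iterCommutator N G (i + 1)) ≤ Nat.card (iterCommutator N G i) := by
  obtain ⟨hle, hn⟩ := iter_le_and_normal hGN i
  have hlt : iterCommutator N G (i + 1) < iterCommutator N G i :=
    commutator_lt (hN.to_le hle) hG hn hne
  obtain ⟨a, ha⟩ := IsPGroup.iff_card.1 (hN.to_le hle)
  obtain ⟨b, hb⟩ := IsPGroup.iff_card.1 (hN.to_le (hlt.le.trans hle))
  rw [ha, hb, ← pow_succ']
  refine Nat.pow_le_pow_right hp.out.pos ?_
  by_contra hba
  refine hlt.ne (Subgroup.eq_of_le_of_card_ge hlt.le ?_)
  rw [ha, hb]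
  exact Nat.pow_le_pow_right hp.out.pos (by omega)

theorem iter_bound {N G : Subgroup L} (hN : IsPGroup p N) (hG : IsPGroup p G)
    (hGN : G ≤ Subgroup.normalizer (N : Set L)) : ∀ i, iterCommutator N G i = ⊥ ∨
      p ^ i * Nat.card (iterCommutator N G i) ≤ Nat.card N
  | 0 => Or.inr (by rw [pow_zero, one_mul]; exact le_rfl)
  | i + 1 => by
    by_cases hne : iterCommutator N G i = ⊥
    · exact Or.inl (le_bot_iff.1 ((iter_antitone hGN i).trans hne.le))
    · rcases iter_bound hN hG hGN i with h | h
      · exact absurd h hne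
      · refine Or.inr (le_trans ?_ h)
        rw [pow_succ, mul_assoc]
        exact Nat.mul_le_mul_left _ (iter_step hN hG hGN hne)

theorem iter_eq_bot {N G : Subgroup L} (hN : IsPGroup p N) (hG : IsPGroup p G)
    (hGN : G ≤ Subgroup.normalizer (N : Set L)) {m : ℕ} (hc : Nat.card N ≤ p ^ m) :
    iterCommutator N G m = ⊥ := by
  rcases iter_bound hN hG hGN m with h | h
  · exact h
  · refine Subgroup.eq_bot_of_card_le _ ?_
    exact Nat.le_of_mul_le_mul_left ((h.trans hc).trans (mul_one (p ^ m)).ge) (pow_pos hp.out.pos m)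

theorem iter_mono {N G G' : Subgroup L} (hG : G ≤ G') :
    ∀ i, iterCommutator N G i ≤ iterCommutator N G' i
  | 0 => le_rfl
  | i + 1 => Subgroup.commutator_mono (iter_mono hG i) hG

section lcs

variable {P : Type*} [Group P] [Finite P]

/-- Three subgroups lemma modulo a normal subgroup. -/
theorem commutator_le_of_rotate {A B C R : Subgroup P} [R.Normal] (h1 : ⁅⁅B, C⁆, A⁆ ≤ R)
    (h2 : ⁅⁅C, A⁆, B⁆ ≤ R) : ⁅⁅A, B⁆, C⁆ ≤ R := by
  have key : ∀ X : Subgroup P, X ≤ R ↔ X.map (QuotientGroup.mk' R) = ⊥ := fun X => by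
    rw [Subgroup.map_eq_bot_iff, QuotientGroup.ker_mk']
  rw [key, Subgroup.map_commutator, Subgroup.map_commutator] at h1 h2 ⊢
  exact Subgroup.commutator_commutator_eq_bot_of_rotate h1 h2

theorem iter_succ_left (X G : Subgroup P) : ∀ k, iterCommutator ⁅X, G⁆ G k = iterCommutator X G (k + 1)
  | 0 => rfl
  | k + 1 => by
    show ⁅iterCommutator ⁅X, G⁆ G k, G⁆ = ⁅iterCommutator X G (k + 1), G⁆
    rw [iter_succ_left X G k]

theorem iter_normal (X : Subgroup P) [hX : X.Normal] : ∀ k, (iterCommutator X ⊤ k).Normal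
  | 0 => hX
  | k + 1 => by
    haveI := iter_normal X k
    exact Subgroup.commutator_normal _ _

/-- `[X, γ_{j+1}] ≤ [X, G, …, G]`. -/
theorem commutator_lowerCentralSeries_le : ∀ (j : ℕ) (X : Subgroup P), X.Normal →
    ⁅X, (⊤ : Subgroup P).lowerCentralSeries j⁆ ≤ iterCommutator X ⊤ (j + 1) := by
  intro j
  induction j with
  | zero => intro X _; exact le_rfl
  | succ j ih =>
    intro X hX
    haveI := hX
    haveI := iter_normal X (j + 1 + 1)
    haveI : (⁅X, (⊤ : Subgroup P)⁆).Normal := Subgroup.commutator_normal _ _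
    rw [Subgroup.commutator_comm, Subgroup.lowerCentralSeries_succ]
    refine commutator_le_of_rotate ?_ ?_
    · rw [Subgroup.commutator_comm (⊤ : Subgroup P) X]
      exact (ih _ inferInstance).trans (iter_succ_left X ⊤ (j + 1)).le
    · exact Subgroup.commutator_mono (ih X hX) le_rfl

/-- The index of consecutive lower central terms of `N ≤ γ_n`. -/
theorem pow_le_relIndex {G : Type*} [Group G] [Finite G] (hG : IsPGroup p G) (n : ℕ) (hn : 1 ≤ n)
    (N : Subgroup G) [N.Normal] (hN : N ≤ (⊤ : Subgroup G).lowerCentralSeries (n - 1)) (i : ℕ)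
    (hne : N.lowerCentralSeries (i + 1) ≠ ⊥) :
    p ^ n ≤ (N.lowerCentralSeries (i + 1)).relIndex (N.lowerCentralSeries i) := by
  have hnorm : ∀ k, (N.lowerCentralSeries k).Normal := fun k => by
    induction k with
    | zero => exact ‹N.Normal›
    | succ k ih =>
      rw [Subgroup.lowerCentralSeries_succ]
      haveI := ih
      exact Subgroup.commutator_normal _ _
  set A := N.lowerCentralSeries (i + 1) with hA
  set B := N.lowerCentralSeries i with hB
  haveI : A.Normal := hnorm _
  haveI : B.Normal := hnorm _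
  by_contra hlt
  obtain ⟨n', rfl⟩ : ∃ n', n = n' + 1 := ⟨n - 1, by omega⟩
  rw [Nat.add_sub_cancel] at hN
  have hcard : Nat.card (B.map (QuotientGroup.mk' A)) ≤ p ^ n' := by
    have hAB : A ≤ B := Subgroup.lowerCentralSeries_antitone _ (Nat.le_succ i)
    have h2 : Nat.card (B.map (QuotientGroup.mk' A)) = A.relIndex B := by
      have := Subgroup.relIndex_ker (QuotientGroup.mk' A) (K := B)
      rw [QuotientGroup.ker_mk'] at this
      exact this.symm
    obtain ⟨k, hk⟩ := IsPGroup.iff_card.1 ((hG.to_subgroup B).map (QuotientGroup.mk' A))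
    rw [hk]
    refine Nat.pow_le_pow_right hp.out.pos ?_
    by_contra hk'
    refine hlt ?_
    rw [← h2, hk]
    exact Nat.pow_le_pow_right hp.out.pos (by omega)
  haveI : (B.map (QuotientGroup.mk' A)).Normal :=
    Subgroup.Normal.map inferInstance _ (QuotientGroup.mk'_surjective _)
  have h0 := iter_eq_bot (G := (⊤ : Subgroup (G ⧸ A))) ((hG.to_subgroup B).map (QuotientGroup.mk' A))
    ((hG.to_quotient A).to_subgroup _) (by rw [Subgroup.normalizer_eq_top]) hcard
  have hmap : ∀ k, (iterCommutator B ⊤ k).map (QuotientGroup.mk' A) =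
      iterCommutator (B.map (QuotientGroup.mk' A)) (⊤ : Subgroup (G ⧸ A)) k := by
    intro k
    induction k with
    | zero => rfl
    | succ k ih =>
      show (⁅iterCommutator B ⊤ k, ⊤⁆ : Subgroup G).map _ = ⁅_, _⁆
      rw [Subgroup.map_commutator, ih, Subgroup.map_top_of_surjective _ (QuotientGroup.mk'_surjective A)]
  rw [← hmap, Subgroup.map_eq_bot_iff, QuotientGroup.ker_mk'] at h0
  have h1 : A ≤ ⁅A, (⊤ : Subgroup G)⁆ :=
    calc A = ⁅B, N⁆ := Subgroup.lowerCentralSeries_succ _ _
      _ ≤ ⁅B, (⊤ : Subgroup G).lowerCentralSeries n'⁆ := Subgroup.commutator_mono le_rfl hN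
      _ ≤ iterCommutator B ⊤ (n' + 1) := commutator_lowerCentralSeries_le n' B inferInstance
      _ ≤ ⁅A, (⊤ : Subgroup G)⁆ := Subgroup.commutator_mono h0 le_rfl
  exact (commutator_lt (hG.to_subgroup A) (hG.to_subgroup ⊤)
    (by rw [Subgroup.normalizer_eq_top]) hne).not_ge h1

end lcs

/-- Uniserial actions. -/
theorem uniserial {N G : Subgroup L} (hN : IsPGroup p N) (hG : IsPGroup p G)
    (hGN : G ≤ Subgroup.normalizer (N : Set L)) {n : ℕ} (hn : Nat.card N = p ^ n) :
    ((∀ H : Subgroup L, H ≤ N → G ≤ Subgroup.normalizer (H : Set L) → H ≠ ⊥ → (⁅H, G⁆).relIndex H = p) ↔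
      iterCommutator N G (n - 1) ≠ ⊥ ∨ n = 0) ∧
    ((∀ H : Subgroup L, H ≤ N → G ≤ Subgroup.normalizer (H : Set L) → H ≠ ⊥ → (⁅H, G⁆).relIndex H = p) →
      ∀ H : Subgroup L, H ≤ N → G ≤ Subgroup.normalizer (H : Set L) →
        (∃ i ≤ n, H = iterCommutator N G i) ∧ N ≤ Subgroup.normalizer (H : Set L)) := by
  set S := fun i => iterCommutator N G i with hS
  have hnorm := iter_le_and_normal hGN
  have hbot : iterCommutator N G n = ⊥ := iter_eq_bot hN hG hGN hn.le
  have hfwd : (∀ H : Subgroup L, H ≤ N → G ≤ Subgroup.normalizer (H : Set L) → H ≠ ⊥ →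
      (⁅H, G⁆).relIndex H = p) → ∀ i ≤ n, Nat.card (iterCommutator N G i) = p ^ (n - i) := by
    intro h i
    induction i with
    | zero => intro _; exact hn
    | succ i ih =>
      intro hi
      have hne : iterCommutator N G i ≠ ⊥ := fun h0 => by
        have := ih (by omega)
        rw [h0, Subgroup.card_bot] at this
        exact (Nat.one_lt_pow (by omega : n - i ≠ 0) hp.out.one_lt).ne this
      have h1 := Subgroup.relIndex_mul_relIndex ⊥ _ _ bot_le (iter_antitone hGN i)
      rw [Subgroup.relIndex_bot_left, Subgroup.relIndex_bot_left,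
        show (iterCommutator N G (i + 1)).relIndex (iterCommutator N G i) = p from
          h _ (hnorm i).1 (hnorm i).2 hne, ih (by omega),
        show p ^ (n - i) = p ^ (n - (i + 1)) * p by rw [← pow_succ]; congr 1; omega] at h1
      exact Nat.eq_of_mul_eq_mul_right hp.out.pos h1
  have hcards : iterCommutator N G (n - 1) ≠ ⊥ ∨ n = 0 →
      ∀ i ≤ n, Nat.card (iterCommutator N G i) = p ^ (n - i) := by
    intro hor i hi
    rcases hor with hne | rfl
    swap
    · rw [Nat.le_zero.1 hi]; exact hn
    have hup : ∀ k, k + 1 ≤ n → p ^ (k + 1) ≤ Nat.card (iterCommutator N G (n - 1 - k)) := by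
      intro k
      induction k with
      | zero =>
        intro _
        obtain ⟨a, ha⟩ := IsPGroup.iff_card.1 (hN.to_le (hnorm (n - 1)).1)
        rw [Nat.sub_zero, ha]
        refine Nat.pow_le_pow_right hp.out.pos ?_
        by_contra h0
        exact hne (Subgroup.card_eq_one.1 (by rw [ha, show a = 0 by omega, pow_zero]))
      | succ k ih =>
        intro hk
        have h1 := ih (by omega)
        have hstep := iter_step hN hG hGN (i := n - 1 - (k + 1)) (fun h0 => by
          have hb := (iter_antitone hGN (n - 1 - (k + 1))).trans h0.le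
          rw [show n - 1 - (k + 1) + 1 = n - 1 - k by omega, le_bot_iff] at hb
          rw [hb, Subgroup.card_bot] at h1
          exact absurd h1 (Nat.one_lt_pow (by omega) hp.out.one_lt).not_ge)
        rw [show n - 1 - (k + 1) + 1 = n - 1 - k by omega] at hstep
        rw [pow_succ']
        exact (Nat.mul_le_mul_left p h1).trans hstep
    rcases Nat.lt_or_ge i n with hin | hin
    · refine le_antisymm ?_ (by
        have := hup (n - 1 - i) (by omega)
        rwa [show n - 1 - (n - 1 - i) = i by omega, show n - 1 - i + 1 = n - i by omega] at this)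
      rcases iter_bound hN hG hGN i with h0 | h0
      · rw [h0, Subgroup.card_bot]; exact Nat.one_le_pow _ _ hp.out.pos
      · rw [hn, show p ^ n = p ^ i * p ^ (n - i) by rw [← pow_add]; congr 1; omega] at h0
        exact Nat.le_of_mul_le_mul_left h0 (pow_pos hp.out.pos i)
    · rw [show i = n by omega, hbot, Subgroup.card_bot, Nat.sub_self, pow_zero]
  have hclass : (∀ i ≤ n, Nat.card (iterCommutator N G i) = p ^ (n - i)) →
      ∀ H : Subgroup L, H ≤ N → G ≤ Subgroup.normalizer (H : Set L) →
        ∃ i ≤ n, H = iterCommutator N G i := by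
    intro hc H hHN hGH
    -- the chain is also the chain of `N ⊔ G`
    set Q := N ⊔ G with hQ
    have hQp : IsPGroup p Q := hN.to_sup_of_normal_left' hG hGN
    have hQN : Q ≤ Subgroup.normalizer (N : Set L) := sup_le Subgroup.le_normalizer hGN
    have heq : ∀ i ≤ n, iterCommutator N G i = iterCommutator N Q i := fun i hi => by
      refine Subgroup.eq_of_le_of_card_ge (iter_mono le_sup_right i) ?_
      rw [hc i hi]
      rcases iter_bound hN hQp hQN i with h0 | h0
      · rw [h0, Subgroup.card_bot]; exact Nat.one_le_pow _ _ hp.out.pos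
      · rw [hn, show p ^ n = p ^ i * p ^ (n - i) by rw [← pow_add]; congr 1; omega] at h0
        exact Nat.le_of_mul_le_mul_left h0 (pow_pos hp.out.pos i)
    have hNnorm : ∀ i ≤ n, N ≤ Subgroup.normalizer (iterCommutator N G i : Set L) := fun i hi => by
      rw [heq i hi]
      exact le_sup_left.trans (iter_le_and_normal hQN i).2
    by_cases hH : H = ⊥
    · exact ⟨n, le_rfl, by rw [hH, hbot]⟩
    classical
    have hex : ∃ i, ¬ H ≤ iterCommutator N G (i + 1) := ⟨n - 1, fun h0 => hH (le_bot_iff.1 (by
      rcases Nat.eq_zero_or_pos n with rfl | hpos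
      · exact hHN.trans ((Subgroup.card_eq_one.1 (by rw [hn, pow_zero])).le)
      · rw [Nat.sub_add_cancel hpos, hbot] at h0; exact h0))⟩
    set i := Nat.find hex with hi_def
    have hnot := Nat.find_spec hex
    have hHi : H ≤ iterCommutator N G i := by
      rcases Nat.eq_zero_or_pos i with h0 | hpos
      · rw [h0]; exact hHN
      · have := Nat.find_min hex (show i - 1 < i by omega)
        rw [Nat.sub_add_cancel hpos] at this
        exact not_not.1 this
    have hin : i < n := by
      by_contra hge
      refine hH (le_bot_iff.1 (hHi.trans ?_))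
      have : ∀ k, iterCommutator N G (n + k) ≤ (⊥ : Subgroup L) := fun k => by
        induction k with
        | zero => exact hbot.le
        | succ k ih => exact (iter_antitone hGN (n + k)).trans ih
      rw [show i = n + (i - n) by omega]
      exact this _
    refine ⟨i, hin.le, le_antisymm hHi ?_⟩
    have hsplit : ∀ k, i ≤ k → k < n →
        iterCommutator N G k ≤ (H ⊓ iterCommutator N G k) ⊔ iterCommutator N G (k + 1) := by
      intro k hik hk
      induction k, hik using Nat.le_induction with
      | base =>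
        set T := (H ⊓ iterCommutator N G i) ⊔ iterCommutator N G (i + 1) with hT
        have hTle : T ≤ iterCommutator N G i := sup_le inf_le_right (iter_antitone hGN i)
        have hlt : iterCommutator N G (i + 1) < T := lt_of_le_of_ne le_sup_right fun he =>
          hnot fun x hx => he.ge (Subgroup.mem_sup_left ⟨hx, hHi hx⟩)
        refine (Subgroup.eq_of_le_of_card_ge hTle ?_).ge
        obtain ⟨a, ha⟩ := IsPGroup.iff_card.1 (hN.to_le (hTle.trans (hnorm i).1))
        rw [hc i hin.le, ha]
        refine Nat.pow_le_pow_right hp.out.pos ?_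
        by_contra hlt'
        refine hlt.ne (Subgroup.eq_of_le_of_card_ge hlt.le ?_)
        rw [ha, hc (i + 1) hin]
        exact Nat.pow_le_pow_right hp.out.pos (by omega)
      | succ k hk' ih =>
        have h1 := ih (by omega)
        show ⁅iterCommutator N G k, G⁆ ≤ _
        refine Subgroup.commutator_le.2 fun y hy g hg => ?_
        have hn1 : iterCommutator N G (k + 1) ≤ Subgroup.normalizer (iterCommutator N G (k + 1) : Set L) :=
          Subgroup.le_normalizer
        have hy' := h1 hy
        rw [← SetLike.mem_coe, Subgroup.coe_mul_of_left_le_normalizer_right _ _ (inf_le_left.trans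
          (hHN.trans (hNnorm (k + 1) (by omega))))] at hy'
        obtain ⟨a, ha, c, hcm, rfl⟩ := hy'
        have e : ⁅a * c, g⁆ = (a * ⁅c, g⁆ * a⁻¹) * ⁅a, g⁆ := by
          simp only [commutatorElement_def]; group
        rw [e]
        refine mul_mem (Subgroup.mem_sup_right ?_) (Subgroup.mem_sup_left ⟨?_, ?_⟩)
        · exact (Subgroup.mem_normalizer_iff.1 (hNnorm (k + 2) (by omega) (hHN ha.1)) _).1
            (Subgroup.commutator_mem_commutator hcm hg)
        · rw [commutatorElement_def, show a * g * a⁻¹ * g⁻¹ = a * (g * a⁻¹ * g⁻¹) by group]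
          exact mul_mem ha.1 ((Subgroup.mem_normalizer_iff.1 (hGH hg) _).1 (H.inv_mem ha.1))
        · exact Subgroup.commutator_mem_commutator ha.2 hg
    have hall : ∀ d, d ≤ n - i → iterCommutator N G (n - d) ≤ H := by
      intro d
      induction d with
      | zero => intro _; rw [Nat.sub_zero, hbot]; exact bot_le
      | succ d ih =>
        intro hd
        refine (hsplit (n - (d + 1)) (by omega) (by omega)).trans (sup_le inf_le_left ?_)
        rw [show n - (d + 1) + 1 = n - d by omega]
        exact ih (by omega)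
    have := hall (n - i) le_rfl
    rwa [show n - (n - i) = i by omega] at this
  refine ⟨⟨fun h => ?_, fun hor H hHN hGH hH => ?_⟩, fun h H hHN hGH => ?_⟩
  · rcases Nat.eq_zero_or_pos n with h0 | hpos
    · exact Or.inr h0
    · refine Or.inl fun hb => ?_
      have := hfwd h (n - 1) (by omega)
      rw [hb, Subgroup.card_bot] at this
      exact (Nat.one_lt_pow (by omega : n - (n - 1) ≠ 0) hp.out.one_lt).ne this
  · have hc := hcards hor
    obtain ⟨i, hi, rfl⟩ := hclass hc H hHN hGH
    have hin : i < n := lt_of_le_of_ne hi fun he => hH (by rw [he, hbot])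
    have h1 := Subgroup.relIndex_mul_relIndex ⊥ _ _ bot_le (iter_antitone hGN i)
    rw [Subgroup.relIndex_bot_left, Subgroup.relIndex_bot_left, hc i hi, hc (i + 1) hin,
      show p ^ (n - i) = p ^ (n - (i + 1)) * p by rw [← pow_succ]; congr 1; omega] at h1
    exact Nat.eq_of_mul_eq_mul_left (pow_pos hp.out.pos _) h1
  · have hc := hfwd h
    obtain ⟨i, hi, rfl⟩ := hclass hc H hHN hGH
    refine ⟨⟨i, hi, rfl⟩, ?_⟩
    have hQp : IsPGroup p (N ⊔ G : Subgroup L) := hN.to_sup_of_normal_left' hG hGN
    have hQN : N ⊔ G ≤ Subgroup.normalizer (N : Set L) := sup_le Subgroup.le_normalizer hGN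
    have heq : iterCommutator N G i = iterCommutator N (N ⊔ G) i := by
      refine Subgroup.eq_of_le_of_card_ge (iter_mono le_sup_right i) ?_
      rw [hc i hi]
      rcases iter_bound hN hQp hQN i with h0 | h0
      · rw [h0, Subgroup.card_bot]; exact Nat.one_le_pow _ _ hp.out.pos
      · rw [hn, show p ^ n = p ^ i * p ^ (n - i) by rw [← pow_add]; congr 1; omega] at h0
        exact Nat.le_of_mul_le_mul_left h0 (pow_pos hp.out.pos i)
    rw [heq]
    exact le_sup_left.trans (iter_le_and_normal hQN i).2

end CfsgLib.Solv.IterComm
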