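import Cfsg.Agent.Solv.MinimalNormal
import Cfsg.Prelude.Def_Local

/-! A solvable group is `p`-solvable. -/

set_option autoImplicit false
set_option linter.style.haveILetI false

namespace CfsgLib.Solv

theorem isPSolvable_of_isSolvable_aux (p : ℕ) [Fact p.Prime] : ∀ n : ℕ, ∀ (G : Type*) [Group G]
    [Finite G] [Group.IsSolvable G], Nat.card G ≤ n → Cfsg.IsPSolvable p G := by
  intro n
  induction n with
  | zero => intro G _ _ _ h; exact absurd h (not_le.2 Nat.card_pos)
  | succ n ih =>
    intro G _ _ _ hn
    rcases subsingleton_or_nontrivial G with h | h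
    · exact ⟨0, fun _ => ⊥, rfl, Subsingleton.elim _ _, monotone_const,
        fun _ => inferInstance, fun i => i.elim0⟩
    obtain ⟨M, q, hq, hM, -, -, hMq⟩ := exists_minimal_normal_pGroup (G := G)
    haveI := hM.1
    haveI : Fact q.Prime := ⟨hq⟩
    have hlt : Nat.card (G ⧸ M) ≤ n := by
      have h1 : 2 ≤ Nat.card M := by
        haveI : Nontrivial M := (Subgroup.nontrivial_iff_ne_bot M).2 hM.2.1
        exact Finite.one_lt_card
      have h2 := Subgroup.card_eq_card_quotient_mul_card_subgroup M
      have h3 : 0 < Nat.card (G ⧸ M) := Nat.card_pos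
      nlinarith
    obtain ⟨m, H, h0, hl, hmono, hnorm, hstep⟩ := ih (G ⧸ M) hlt
    have hK0 : (H 0).comap (QuotientGroup.mk' M) = M := by
      rw [h0, MonoidHom.comap_bot, QuotientGroup.ker_mk']
    refine ⟨m + 1, Fin.cons ⊥ (fun i => (H i).comap (QuotientGroup.mk' M)), by simp, ?_, ?_, ?_, ?_⟩
    · rw [← Fin.succ_last, Fin.cons_succ, hl, Subgroup.comap_top]
    · intro a b hab
      induction a using Fin.cases with
      | zero => simp
      | succ a =>
        induction b using Fin.cases with
        | zero => exact absurd hab (not_le.2 (Fin.succ_pos a))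
        | succ b =>
          simp only [Fin.cons_succ]
          exact Subgroup.comap_mono (hmono (Fin.succ_le_succ_iff.1 hab))
    · intro i
      induction i using Fin.cases with
      | zero => simp only [Fin.cons_zero]; infer_instance
      | succ i => simp only [Fin.cons_succ]; exact (hnorm i).comap _
    · intro i
      induction i using Fin.cases with
      | zero =>
        rw [Fin.castSucc_zero, Fin.cons_zero, Fin.cons_succ, hK0, Subgroup.relIndex_bot_left]
        obtain ⟨k, hk⟩ := IsPGroup.iff_card.1 hMq
        rw [hk]
        by_cases hqp : q = p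
        · exact Or.inl ⟨k, by rw [hqp]⟩
        · exact Or.inr (Nat.Coprime.pow_left k ((Nat.coprime_primes hq Fact.out).2 hqp))
      | succ i =>
        rw [Fin.castSucc_succ, Fin.cons_succ, Fin.cons_succ, Subgroup.relIndex_comap,
          Subgroup.map_comap_eq_self_of_surjective (QuotientGroup.mk'_surjective M)]
        exact hstep i

theorem isPSolvable_of_isSolvable (p : ℕ) [Fact p.Prime] (G : Type*) [Group G] [Finite G]
    [Group.IsSolvable G] : Cfsg.IsPSolvable p G :=
  isPSolvable_of_isSolvable_aux p _ G le_rfl

end CfsgLib.Solv
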