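import Cfsg.Agent.Solv.Basic
import Cfsg.Agent.Solv.CoprimeAction
import Cfsg.Agent.Inv.PrimeIndexTI
import Cfsg.Agent.Perm.Basic

/-!
Schmidt's theorem on minimal non-nilpotent groups.
-/

set_option autoImplicit false
set_option linter.style.haveILetI false
set_option linter.deprecated false
set_option linter.unusedSectionVars false

open scoped Pointwise

namespace CfsgLib.Solv

universe u

theorem lt_normalizer_inf_of_nilpotent {G : Type u} [Group G] {D M : Subgroup G}
    (hM : Group.IsNilpotent M) (hD : D < M) :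
    D < Subgroup.normalizer (D : Set G) ⊓ M := by
  refine lt_of_le_of_ne (le_inf Subgroup.le_normalizer hD.le) fun e => ?_
  haveI := hM
  have h := normalizerCondition_of_isNilpotent (G := M) (D.subgroupOf M)
    (lt_of_le_of_ne le_top fun e' => hD.not_ge (Subgroup.subgroupOf_eq_top.1 e'))
  refine h.ne ?_
  rw [← Subgroup.subgroupOf_normalizer_eq hD.le]
  ext x
  simp only [Subgroup.mem_subgroupOf]
  constructor
  · intro hx
    exact Subgroup.le_normalizer hx
  · intro hx
    rw [e]
    exact Subgroup.mem_inf.2 ⟨hx, x.2⟩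

theorem commute_of_isNilpotent {H : Type u} [Group H] [Finite H] (hH : Group.IsNilpotent H)
    {p q : ℕ} (hp : p.Prime) (hq : q.Prime) (hpq : p ≠ q) {A B : Subgroup H} (hA : IsPGroup p A)
    (hB : IsPGroup q B) : A ≤ Subgroup.centralizer (B : Set H) := by
  haveI : Fact p.Prime := ⟨hp⟩
  haveI : Fact q.Prime := ⟨hq⟩
  obtain ⟨P, hP⟩ := hA.exists_le_sylow
  obtain ⟨Q, hQ⟩ := hB.exists_le_sylow
  intro a ha
  haveI := hH
  exact Subgroup.mem_centralizer_iff.2 fun b hb =>
    (Subgroup.commute_of_normal_of_disjoint _ _ (inferInstance : (P : Subgroup H).Normal)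
      (inferInstance : (Q : Subgroup H).Normal)
      (IsPGroup.disjoint_of_ne _ _ hpq _ _ P.2 Q.2) a b (hP ha) (hQ hb)).symm

theorem schmidt_solvable_aux : ∀ (n : ℕ) (G : Type u) [Group G] [Finite G], Nat.card G = n →
    (∀ H : Subgroup G, H ≠ ⊤ → Group.IsNilpotent H) → Group.IsSolvable G := by
  intro n
  induction n using Nat.strong_induction_on with
  | _ n IH =>
    intro G _ _ hn h
    classical
    by_cases hN : ∃ N : Subgroup G, N.Normal ∧ N ≠ ⊥ ∧ N ≠ ⊤
    · obtain ⟨N, hN, hb, ht⟩ := hN
      haveI := hN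
      haveI := h N ht
      haveI : Group.IsSolvable (G ⧸ N) := IH _ (hn ▸ card_quotient_lt hb) _ rfl fun H hH => by
        have hsurj := QuotientGroup.mk'_surjective N
        haveI := h (H.comap (QuotientGroup.mk' N)) fun e => hH (by
          rw [← Subgroup.map_comap_eq_self_of_surjective hsurj H, e,
            Subgroup.map_top_of_surjective _ hsurj])
        have hq := Group.nilpotent_of_surjective ((QuotientGroup.mk' N).subgroupMap
          (H.comap (QuotientGroup.mk' N))) (MonoidHom.subgroupMap_surjective _ _)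
        rwa [Subgroup.map_comap_eq_self_of_surjective hsurj H] at hq
      exact Group.isSolvable_of_ker_le_range N.subtype (QuotientGroup.mk' N)
        (by rw [QuotientGroup.ker_mk', Subgroup.range_subtype])
    simp only [not_exists, not_and, not_not] at hN
    by_contra hns
    have hnorm : ∀ D : Subgroup G, D ≠ ⊥ → D ≠ ⊤ → Subgroup.normalizer (D : Set G) ≠ ⊤ :=
      fun D hb ht e => ht (hN D (Subgroup.normalizer_eq_top_iff.1 e) hb)
    -- distinct maximal subgroups meet trivially
    have htriv : ∀ M M' : Subgroup G, IsCoatom M → IsCoatom M' → M ≠ M' → M ⊓ M' = ⊥ := by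
      by_contra hc
      simp only [not_forall] at hc
      obtain ⟨M0, M0', hM0, hM0', hne0, hD0⟩ := hc
      let S : Set (Subgroup G × Subgroup G) :=
        {q | IsCoatom q.1 ∧ IsCoatom q.2 ∧ q.1 ≠ q.2}
      obtain ⟨q, hq, hmax⟩ := Set.exists_max_image S (fun q => Nat.card ↥(q.1 ⊓ q.2))
        (Set.toFinite _) ⟨(M0, M0'), hM0, hM0', hne0⟩
      obtain ⟨hM, hM', hne⟩ := hq
      set D := q.1 ⊓ q.2 with hD
      have hDb : D ≠ ⊥ := fun e => by
        have := hmax (M0, M0') ⟨hM0, hM0', hne0⟩
        simp only at this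
        rw [e, Subgroup.card_bot] at this
        exact hD0 (Subgroup.eq_bot_of_card_le _ this)
      have hlt1 : D < q.1 := lt_of_le_of_ne inf_le_left fun e => hne
        ((hM.le_iff.1 (e ▸ inf_le_right)).resolve_left hM'.1).symm
      have hlt2 : D < q.2 := lt_of_le_of_ne inf_le_right fun e => hne
        ((hM'.le_iff.1 (e ▸ inf_le_left)).resolve_left hM.1)
      obtain ⟨M3, hM3, hle3⟩ := (eq_top_or_exists_le_coatom _).resolve_left
        (hnorm D hDb (lt_top_iff_ne_top.1 (hlt1.trans_le le_top)))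
      have key : ∀ M : Subgroup G, IsCoatom M → D < M → M3 = M := by
        intro M hM hlt
        by_contra h3
        have h4 := lt_normalizer_inf_of_nilpotent (h M hM.1) hlt
        have h5 : D < M3 ⊓ M := h4.trans_le (inf_le_inf_right _ hle3)
        have := hmax (M3, M) ⟨hM3, hM, h3⟩
        exact absurd (Subgroup.eq_of_le_of_card_ge h5.le this) h5.ne
      exact hne ((key _ hM hlt1).symm.trans (key _ hM' hlt2))
    rcases subsingleton_or_nontrivial G with hs | hs
    · exact hns inferInstance
    by_cases hcyc : IsCyclic G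
    · exact hns (Group.isSolvable_of_comm fun a b =>
        (IsCyclic.isMulCommutative (α := G)).is_comm.comm a b)
    have hbt : (⊥ : Subgroup G) ≠ ⊤ := bot_ne_top
    obtain ⟨M, hM, -⟩ := (eq_top_or_exists_le_coatom (⊥ : Subgroup G)).resolve_left hbt
    obtain ⟨x, hx⟩ := CfsgLib.Perm.exists_forall_not_mem_conj hM.1
    have hx1 : x ≠ 1 := fun e => hx 1 (by simp [e])
    obtain ⟨M', hM', hxM'⟩ := (eq_top_or_exists_le_coatom (Subgroup.zpowers x)).resolve_left
      fun e => hcyc ⟨x, fun y => Subgroup.mem_zpowers_iff.1 (e ▸ Subgroup.mem_top y)⟩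
    -- the two families of conjugates are too large
    have hcoat : ∀ {M : Subgroup G}, IsCoatom M → ∀ g : G, IsCoatom (MulAut.conj g • M) := by
      intro M hM g
      rw [conj_smul_eq_map]
      exact ((MulAut.conj g).mapSubgroup.isCoatom_iff M).2 hM
    have hself : ∀ M : Subgroup G, IsCoatom M → M ≠ ⊥ → ∀ g : G, MulAut.conj g • M = M → g ∈ M :=
      fun M hM hb g hg => by
        have h1 := mem_normalizer_of_conj_smul_eq hg
        rcases hM.le_iff.1 (Subgroup.le_normalizer (H := M)) with h2 | h2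
        · exact absurd h2 (hnorm M hb hM.1)
        · exact h2 ▸ h1
    have hM'b : M' ≠ ⊥ := fun e => hx1 (by simpa [e] using hxM' (Subgroup.mem_zpowers x))
    have hMb : M ≠ ⊥ := fun e => by
      rcases (hM.le_iff (x := M')).1 (e ▸ bot_le) with t | t
      · exact hM'.1 t
      · exact hM'b (t.trans e)
    have hdis : ∀ g : G, MulAut.conj g • M ≠ M' := fun g e => hx g (by
      have := mem_conj_smul_iff.1 (e.ge (hxM' (Subgroup.mem_zpowers x)))
      exact this)
    cases nonempty_fintype G
    haveI : Fintype M := Fintype.ofFinite _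
    haveI : Fintype M' := Fintype.ofFinite _
    haveI : Fintype (G ⧸ M) := Fintype.ofFinite _
    haveI : Fintype (G ⧸ M') := Fintype.ofFinite _
    let f : (G ⧸ M) × {m : M // m ≠ 1} ⊕ (G ⧸ M') × {m : M' // m ≠ 1} → {y : G // y ≠ 1} :=
      Sum.elim (fun q => ⟨q.1.out * ((q.2 : M) : G) * q.1.out⁻¹, fun e => q.2.2 (Subtype.ext (by
          simpa [mul_assoc] using congrArg (fun y => q.1.out⁻¹ * y * q.1.out) e))⟩)
        (fun q => ⟨q.1.out * ((q.2 : M') : G) * q.1.out⁻¹, fun e => q.2.2 (Subtype.ext (by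
          simpa [mul_assoc] using congrArg (fun y => q.1.out⁻¹ * y * q.1.out) e))⟩)
    have hsame : ∀ (M : Subgroup G), IsCoatom M → M ≠ ⊥ →
        ∀ (c d : G ⧸ M) (m n : {m : M // m ≠ 1}),
          c.out * ((m : M) : G) * c.out⁻¹ = d.out * ((n : M) : G) * d.out⁻¹ → c = d ∧ m = n := by
      intro M hM hb c d m n e
      have hcd : c = d := by
        by_contra hne
        have hne' : MulAut.conj c.out • M ≠ MulAut.conj d.out • M := fun e' => hne (by
          have h1 : MulAut.conj (d.out⁻¹ * c.out) • M = M := by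
            rw [map_mul, mul_smul, e', ← mul_smul, ← map_mul, inv_mul_cancel, map_one, one_smul]
          rw [← c.out_eq', ← d.out_eq']
          exact (QuotientGroup.eq.2 (hself M hM hb _ h1)).symm)
        have h1 : c.out * ((m : M) : G) * c.out⁻¹ ∈ MulAut.conj c.out • M ⊓ MulAut.conj d.out • M :=
          Subgroup.mem_inf.2 ⟨mem_conj_smul_iff.2 (by simpa [mul_assoc] using (m : M).2),
            mem_conj_smul_iff.2 (by rw [e]; simpa [mul_assoc] using (n : M).2)⟩
        rw [htriv _ _ (hcoat hM _) (hcoat hM _) hne', Subgroup.mem_bot] at h1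
        exact m.2 (Subtype.ext (by simpa [mul_assoc] using congrArg (fun y => c.out⁻¹ * y * c.out) h1))
      subst hcd
      exact ⟨rfl, Subtype.ext (Subtype.ext (by
        simpa [mul_assoc] using congrArg (fun y => c.out⁻¹ * y * c.out) e))⟩
    have hcross : ∀ (c : G ⧸ M) (d : G ⧸ M') (m : {m : M // m ≠ 1}) (n : {m : M' // m ≠ 1}),
        c.out * ((m : M) : G) * c.out⁻¹ ≠ d.out * ((n : M') : G) * d.out⁻¹ := by
      intro c d m n e
      have hne' : MulAut.conj c.out • M ≠ MulAut.conj d.out • M' := fun e' =>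
        hdis (d.out⁻¹ * c.out)
          (by rw [map_mul, mul_smul, e', ← mul_smul, ← map_mul, inv_mul_cancel, map_one, one_smul])
      have h1 : c.out * ((m : M) : G) * c.out⁻¹ ∈ MulAut.conj c.out • M ⊓ MulAut.conj d.out • M' :=
        Subgroup.mem_inf.2 ⟨mem_conj_smul_iff.2 (by simpa [mul_assoc] using (m : M).2),
          mem_conj_smul_iff.2 (by rw [e]; simpa [mul_assoc] using (n : M').2)⟩
      rw [htriv _ _ (hcoat hM _) (hcoat hM' _) hne', Subgroup.mem_bot] at h1
      exact m.2 (Subtype.ext (by simpa [mul_assoc] using congrArg (fun y => c.out⁻¹ * y * c.out) h1))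
    have hf : Function.Injective f := by
      rintro (⟨c, m⟩ | ⟨c, m⟩) (⟨d, n⟩ | ⟨d, n⟩) e <;> have e' := Subtype.ext_iff.1 e <;>
        simp only [f, Sum.elim_inl, Sum.elim_inr] at e'
      · obtain ⟨rfl, rfl⟩ := hsame M hM hMb c d m n e'; rfl
      · exact absurd e' (hcross c d m n)
      · exact absurd e'.symm (hcross d c n m)
      · obtain ⟨rfl, rfl⟩ := hsame M' hM' hM'b c d m n e'; rfl
    have hle := Fintype.card_le_of_injective f hf
    rw [← Nat.card_eq_fintype_card, ← Nat.card_eq_fintype_card, Nat.card_sum, Nat.card_prod,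
      Nat.card_prod] at hle
    have hc1 : ∀ (X : Type u) [Group X] [Finite X], Nat.card {y : X // y ≠ 1} = Nat.card X - 1 := by
      intro X _ _
      cases nonempty_fintype X
      simp [Nat.card_eq_fintype_card]
    rw [hc1, hc1, hc1] at hle
    have half : ∀ N : Subgroup G, N ≠ ⊥ →
        Nat.card G ≤ 2 * (Nat.card (G ⧸ N) * (Nat.card N - 1)) := by
      intro N hb
      have h1 := Subgroup.card_eq_card_quotient_mul_card_subgroup N
      have h2 : 2 ≤ Nat.card N := (Subgroup.one_lt_card_iff_ne_bot _).2 hb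
      calc Nat.card G = Nat.card (G ⧸ N) * Nat.card N := h1
        _ ≤ Nat.card (G ⧸ N) * (2 * (Nat.card N - 1)) := Nat.mul_le_mul_left _ (by omega)
        _ = _ := by ring
    have h1 := half M hMb
    have h2 := half M' hM'b
    have h3 : 0 < Nat.card G := Nat.card_pos
    omega

/-- Schmidt: a finite group whose proper subgroups are nilpotent is solvable. -/
theorem schmidt_solvable {G : Type u} [Group G] [Finite G]
    (h : ∀ H : Subgroup G, H ≠ ⊤ → Group.IsNilpotent H) : Group.IsSolvable G :=
  schmidt_solvable_aux _ G rfl h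

/-- Schmidt: structure of minimal non-nilpotent groups. -/
theorem schmidt_structure {G : Type u} [Group G] [Finite G]
    (h : ∀ H : Subgroup G, H ≠ ⊤ → Group.IsNilpotent H) (hG : ¬ Group.IsNilpotent G) :
    ∃ p q : ℕ, p.Prime ∧ q.Prime ∧ p ≠ q ∧ ∃ (P : Sylow p G) (Q : Sylow q G),
      IsCyclic P ∧ (Q : Subgroup G).Normal ∧ (P : Subgroup G) ⊔ Q = ⊤ ∧
        ¬ (P : Subgroup G) ≤ Subgroup.centralizer ((Q : Subgroup G) : Set G) := by
  classical
  haveI := schmidt_solvable h
  -- a normal subgroup of prime index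
  obtain ⟨M, hM, hMn⟩ : ∃ M : Subgroup G, IsCoatom M ∧ M.Normal := by
    rcases subsingleton_or_nontrivial G with hs | hs
    · exact absurd (Group.isNilpotent_of_subsingleton (G := G)) hG
    obtain ⟨M, hM, hle⟩ := (eq_top_or_exists_le_coatom (commutator G)).resolve_left
      (Group.IsSolvable.commutator_lt_top_of_nontrivial G).ne
    exact ⟨M, hM, Subgroup.Normal.of_commutator_le G hle⟩
  haveI := hMn
  have hidx := CfsgLib.Inv.card_quotient_prime_of_coatom hM
  set p := M.index with hp
  have hpp : p.Prime := hidx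
  haveI : Fact p.Prime := ⟨hpp⟩
  have hnormal : ∀ (q : ℕ) [Fact q.Prime], q ≠ p → ∀ Q : Sylow q G, (Q : Subgroup G).Normal := by
    intro q hq hqp Q
    have hQM : (Q : Subgroup G) ≤ M := by
      intro x hx
      obtain ⟨k, hk⟩ := Q.2 ⟨x, hx⟩
      have hxk : x ^ q ^ k = 1 := by simpa using congrArg Subtype.val hk
      rw [← QuotientGroup.eq_one_iff, ← orderOf_eq_one_iff]
      refine Nat.eq_one_of_dvd_coprimes (a := q ^ k) (b := p)
        (((Nat.coprime_primes hq.out hpp).2 hqp).pow_left k) ?_ ?_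
      · exact orderOf_dvd_of_pow_eq_one (by rw [← QuotientGroup.mk_pow, hxk, QuotientGroup.mk_one])
      · rw [hp, Subgroup.index_eq_card]; exact orderOf_dvd_natCard _
    haveI := h M hM.1
    have hn : ((Q.subtype hQM : Sylow q M) : Subgroup M).Normal :=
      inferInstance
    haveI := (Q.subtype hQM).characteristic_of_normal hn
    have h2 := normal_map_subtype_of_characteristic (N := M) ((Q.subtype hQM : Sylow q M) : Subgroup M)
    rwa [Sylow.coe_subtype, Subgroup.map_subgroupOf_eq_of_le hQM] at h2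
  let P : Sylow p G := default
  have hPn : ¬ (P : Subgroup G).Normal := by
    intro hPn
    refine hG (((Group.isNilpotent_of_finite_tfae (G := G)).out 0 3).2 fun q hq Q => ?_)
    haveI := hq
    by_cases e : q = p
    · subst e
      haveI := P.unique_of_normal hPn
      exact (Subsingleton.elim P Q) ▸ hPn
    · exact hnormal q e Q
  -- some other Sylow subgroup is not centralised
  obtain ⟨q, hq, hqp, Q, hQc⟩ : ∃ q : ℕ, q.Prime ∧ q ≠ p ∧ ∃ Q : Sylow q G,
      ¬ (P : Subgroup G) ≤ Subgroup.centralizer ((Q : Subgroup G) : Set G) := by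
    by_contra hc
    simp only [not_exists, not_and, not_not] at hc
    refine hPn (Subgroup.normalizer_eq_top_iff.1 (top_unique ?_))
    refine ((Subgroup.card_eq_iff_eq_top _).1 (Nat.dvd_antisymm (Subgroup.card_subgroup_dvd_card _)
      ((Nat.dvd_iff_prime_pow_dvd_dvd _ _).2 fun q k hq hqk => ?_))).ge
    haveI : Fact q.Prime := ⟨hq⟩
    by_cases e : q = p
    · subst e
      exact (Sylow.pow_dvd_card_of_pow_dvd_card P hqk).trans
        (Subgroup.card_dvd_of_le Subgroup.le_normalizer)
    · let Q : Sylow q G := default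
      exact (Sylow.pow_dvd_card_of_pow_dvd_card Q hqk).trans (Subgroup.card_dvd_of_le
        ((Subgroup.le_centralizer_iff.1 (hc q hq e Q)).trans (Subgroup.centralizer_le_normalizer _)))
  haveI : Fact q.Prime := ⟨hq⟩
  haveI := hnormal q hqp Q
  have hcent : ∀ P1 : Subgroup G, P1 ≤ (P : Subgroup G) → P1 ⊔ (Q : Subgroup G) ≠ ⊤ →
      P1 ≤ Subgroup.centralizer ((Q : Subgroup G) : Set G) := by
    intro P1 h1 h2 x hx
    have h3 := commute_of_isNilpotent (h _ h2) hpp hq (fun e => hqp e.symm)
      (A := P1.subgroupOf (P1 ⊔ (Q : Subgroup G))) (B := (Q : Subgroup G).subgroupOf (P1 ⊔ (Q : Subgroup G)))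
      (IsPGroup.comap_of_injective (P.2.to_le h1) _ (Subgroup.subtype_injective _))
      (IsPGroup.comap_of_injective Q.2 _ (Subgroup.subtype_injective _))
    exact Subgroup.mem_centralizer_iff.2 fun y hy => Subtype.ext_iff.1
      (Subgroup.mem_centralizer_iff.1 (h3 (x := ⟨x, Subgroup.mem_sup_left hx⟩) hx)
        ⟨y, Subgroup.mem_sup_right hy⟩ hy)
  have htop : (P : Subgroup G) ⊔ (Q : Subgroup G) = ⊤ := by
    by_contra hne
    exact hQc (hcent _ le_rfl hne)
  refine ⟨p, q, hpp, hq, fun e => hqp e.symm, P, Q, ?_, inferInstance, htop, hQc⟩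
  by_contra hcy
  refine hQc fun x hx => hcent (Subgroup.zpowers x) (Subgroup.zpowers_le.2 hx) (fun e => ?_)
    (Subgroup.mem_zpowers x)
  have hlt : Subgroup.zpowers x < (P : Subgroup G) := lt_of_le_of_ne (Subgroup.zpowers_le.2 hx)
    fun e' => hcy (Subgroup.isCyclic_iff_exists_zpowers_eq_top _ |>.2 ⟨x, e'⟩)
  have h1 := card_sup_dvd_mul (Subgroup.zpowers x) (Q : Subgroup G)
  have h2 := card_sup_mul_card_inf (P : Subgroup G) (Q : Subgroup G)
  rw [htop, Subgroup.card_top, disjoint_iff.1 (IsPGroup.disjoint_of_ne p q (fun e => hqp e.symm) _ _ P.2 Q.2),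
    Subgroup.card_bot, mul_one] at h2
  rw [e, Subgroup.card_top] at h1
  have h3 : Nat.card (Subgroup.zpowers x) < Nat.card (P : Subgroup G) := by
    rcases lt_or_ge (Nat.card (Subgroup.zpowers x)) (Nat.card (P : Subgroup G)) with h' | h'
    · exact h'
    · exact absurd (Subgroup.eq_of_le_of_card_ge hlt.le h') hlt.ne
  have h4 := Nat.le_of_dvd (Nat.mul_pos Nat.card_pos Nat.card_pos) h1
  rw [h2] at h4
  exact absurd (Nat.le_of_mul_le_mul_right h4 Nat.card_pos) (Nat.not_le.2 h3)

end CfsgLib.Solv
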