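import Cfsg.Agent.Solv.TransferTools
import Cfsg.Agent.Solv.CoprimeAction
import Mathlib.GroupTheory.SchurZassenhaus

/-!
When is a Sylow subgroup a direct factor?
-/

set_option autoImplicit false
set_option linter.style.haveILetI false
set_option linter.deprecated false
set_option linter.unusedSectionVars false

open scoped commutatorElement Pointwise

namespace CfsgLib.Solv

variable {G : Type*} [Group G]

/-- A finite subgroup is generated by its elements of prime power order. -/
theorem le_of_forall_prime_power [Finite G] {K C : Subgroup G}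
    (h : ∀ q : ℕ, q.Prime → q ∣ Nat.card K → ∀ y ∈ K, (∃ b : ℕ, orderOf y = q ^ b) → y ∈ C) :
    K ≤ C := by
  have htop : (⊤ : Subgroup K) ≤ C.subgroupOf K := by
    rw [← iSup_sylow_eq_top]
    refine iSup_le fun q => iSup_le fun P => ?_
    intro y hy
    haveI : Fact (q : ℕ).Prime := ⟨q.2⟩
    obtain ⟨b, hb⟩ := IsPGroup.iff_orderOf.1 P.isPGroup' ⟨y, hy⟩
    rw [Subgroup.orderOf_mk] at hb
    rcases Nat.eq_zero_or_pos b with rfl | hb0
    · rw [pow_zero, orderOf_eq_one_iff] at hb
      rw [hb]; exact one_mem _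
    exact h q q.2 ((dvd_pow_self _ hb0.ne').trans (hb ▸ orderOf_dvd_natCard y)) y y.2
      ⟨b, by rw [Subgroup.orderOf_coe, hb]⟩
  exact fun x hx => htop (Subgroup.mem_top ⟨x, hx⟩)

variable {p : ℕ}

theorem sylow_factor_of_commute [Finite G] [hp : Fact p.Prime]
    (h : ∀ x y : G, (∃ a : ℕ, orderOf x = p ^ a) → (∃ q b : ℕ, q.Prime ∧ q ≠ p ∧ orderOf y = q ^ b) →
      x * y = y * x) :
    ∃ (P : Sylow p G) (K : Subgroup G), (P : Subgroup G).Normal ∧ K.Normal ∧
      (P : Subgroup G) ⊓ K = ⊥ ∧ (P : Subgroup G) ⊔ K = ⊤ := by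
  obtain ⟨P⟩ : Nonempty (Sylow p G) := inferInstance
  have hcent : ∀ q b : ℕ, q.Prime → q ≠ p → ∀ y : G, orderOf y = q ^ b →
      y ∈ Subgroup.centralizer ((P : Subgroup G) : Set G) := by
    intro q b hq hqp y hy
    refine Subgroup.mem_centralizer_iff.2 fun x hx => h x y ?_ ⟨q, b, hq, hqp, hy⟩
    obtain ⟨a, ha⟩ := IsPGroup.iff_orderOf.1 P.isPGroup' ⟨x, hx⟩
    exact ⟨a, by rwa [Subgroup.orderOf_mk] at ha⟩
  have hPn : (P : Subgroup G).Normal := by
    refine Subgroup.normalizer_eq_top_iff.1 (top_unique ?_)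
    rw [← iSup_sylow_eq_top]
    refine iSup_le fun q => iSup_le fun Q => ?_
    haveI : Fact (q : ℕ).Prime := ⟨q.2⟩
    by_cases hqp : (q : ℕ) = p
    · intro z hz
      have hzp : ∃ a : ℕ, orderOf z = p ^ a := by
        obtain ⟨b, hb⟩ := IsPGroup.iff_orderOf.1 Q.isPGroup' ⟨z, hz⟩
        exact ⟨b, by rwa [Subgroup.orderOf_mk, hqp] at hb⟩
      have hN : ((P : Subgroup G) ⊔ Subgroup.centralizer ((P : Subgroup G) : Set G)) = ⊤ := by
        refine top_unique ?_
        refine le_of_forall_prime_power fun r hr _ y _ hy => ?_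
        by_cases hrp : r = p
        · subst hrp
          obtain ⟨b, hb⟩ := hy
          obtain ⟨R, hR⟩ := (IsPGroup.of_card (p := r) (n := b) (by rw [Nat.card_zpowers, hb]) :
            IsPGroup r (Subgroup.zpowers y)).exists_le_sylow
          have hP' : (R : Subgroup G) ≤ (P : Subgroup G) ⊔ Subgroup.centralizer ((P : Subgroup G) : Set G) := by
            obtain ⟨g, hg⟩ := MulAction.exists_smul_eq G P R
            have hgen : ∀ g : G, g ∈ Subgroup.normalizer ((P : Subgroup G) : Set G) →
                MulAut.conj g • (P : Subgroup G) ≤ (P : Subgroup G) := fun g hg => by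
              rw [conj_smul_eq_self_of_mem_normalizer hg]
            -- Frattini-free argument: `|P ⊔ C(P)|` has full `p'`-part and full `p`-part
            have hidx : ((P : Subgroup G) ⊔ Subgroup.centralizer ((P : Subgroup G) : Set G)).index = 1 := by
              refine Nat.eq_one_iff_not_exists_prime_dvd.2 fun s hs hsd => ?_
              haveI : Fact s.Prime := ⟨hs⟩
              obtain ⟨S⟩ : Nonempty (Sylow s G) := inferInstance
              have hle : ∃ T : Sylow s G,
                  (T : Subgroup G) ≤ (P : Subgroup G) ⊔ Subgroup.centralizer ((P : Subgroup G) : Set G) := by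
                by_cases hsr : s = r
                · subst hsr; exact ⟨P, le_sup_left⟩
                · refine ⟨S, le_trans (fun w hw => ?_) le_sup_right⟩
                  obtain ⟨c, hc⟩ := IsPGroup.iff_orderOf.1 S.isPGroup' ⟨w, hw⟩
                  exact hcent s c hs hsr w (by rwa [Subgroup.orderOf_mk] at hc)
              obtain ⟨T, hT⟩ := hle
              exact T.not_dvd_index (hsd.trans (Subgroup.index_dvd_of_le hT))
            rw [Subgroup.index_eq_one.1 hidx]; exact le_top
          exact hP' (hR (Subgroup.mem_zpowers y))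
        · exact Subgroup.mem_sup_right (hy.elim fun b hb => hcent r b hr hrp y hb)
      have hle : (P : Subgroup G) ⊔ Subgroup.centralizer ((P : Subgroup G) : Set G) ≤
          Subgroup.normalizer ((P : Subgroup G) : Set G) :=
        sup_le Subgroup.le_normalizer (Subgroup.centralizer_le_normalizer _)
      exact hle (hN ▸ Subgroup.mem_top z)
    · intro z hz
      obtain ⟨b, hb⟩ := IsPGroup.iff_orderOf.1 Q.isPGroup' ⟨z, hz⟩
      exact Subgroup.centralizer_le_normalizer _
        (hcent q b (q.2) hqp z (by rwa [Subgroup.orderOf_mk] at hb))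
  haveI := hPn
  obtain ⟨K, hK⟩ := Subgroup.exists_right_complement'_of_coprime P.card_coprime_index
  have hKc : K ≤ Subgroup.centralizer ((P : Subgroup G) : Set G) := by
    refine le_of_forall_prime_power fun q hq hqd y _ hy => ?_
    obtain ⟨b, hb⟩ := hy
    refine hcent q b hq (fun e => ?_) y hb
    subst e
    exact P.not_dvd_index (hK.symm.index_eq_card ▸ hqd)
  refine ⟨P, K, hPn, Subgroup.normalizer_eq_top_iff.1 (top_unique (hK.sup_eq_top ▸ sup_le ?_
    Subgroup.le_normalizer)), hK.disjoint.eq_bot, hK.sup_eq_top⟩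
  exact (Subgroup.le_centralizer_iff.1 hKc).trans (Subgroup.centralizer_le_normalizer _)

/-- The elements of the two kinds, in a direct product decomposition. -/
theorem mem_of_sylow_factor [Finite G] [hp : Fact p.Prime] {P : Sylow p G} {K : Subgroup G}
    (hPn : (P : Subgroup G).Normal) (hKn : K.Normal) (hd : (P : Subgroup G) ⊓ K = ⊥)
    (hs : (P : Subgroup G) ⊔ K = ⊤) :
    (∀ x : G, (∃ a : ℕ, orderOf x = p ^ a) → x ∈ (P : Subgroup G)) ∧
      ∀ y : G, (∃ q b : ℕ, q.Prime ∧ q ≠ p ∧ orderOf y = q ^ b) → y ∈ K := by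
  haveI := hPn
  haveI := hKn
  refine ⟨fun x ⟨a, ha⟩ => ?_, fun y ⟨q, b, hq, hqp, hy⟩ => ?_⟩
  · obtain ⟨R, hR⟩ := (IsPGroup.of_card (p := p) (n := a) (by rw [Nat.card_zpowers, ha]) :
      IsPGroup p (Subgroup.zpowers x)).exists_le_sylow
    obtain ⟨g, hg⟩ := MulAction.exists_smul_eq G P R
    rw [← hg, Sylow.smul_eq_of_normal] at hR
    exact hR (Subgroup.mem_zpowers x)
  · rw [← QuotientGroup.eq_one_iff]
    refine orderOf_eq_one_iff.1 (Nat.eq_one_of_dvd_coprimes (k := orderOf (QuotientGroup.mk' K y))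
      (a := q ^ b) (b := Nat.card (P : Subgroup G)) ?_ (hy ▸ orderOf_map_dvd _ y) ?_)
    · obtain ⟨j, hj⟩ := P.isPGroup'.exists_card_eq
      rw [hj]
      exact Nat.Coprime.pow _ _ ((Nat.coprime_primes hq hp.out).2 hqp)
    · refine (orderOf_dvd_natCard _).trans ?_
      have h1 := card_map_mk' K (P : Subgroup G)
      rw [hd, Subgroup.card_bot, mul_one] at h1
      have h2 : (P : Subgroup G).map (QuotientGroup.mk' K) = ⊤ := by
        rw [← Subgroup.map_top_of_surjective (QuotientGroup.mk' K) (QuotientGroup.mk'_surjective K),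
          ← hs, Subgroup.map_sup, QuotientGroup.map_mk'_self, sup_bot_eq]
      rw [h2, Subgroup.card_top] at h1
      rw [h1]

end CfsgLib.Solv
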