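import Cfsg.Agent.Solv.SubnormalJoin
import Cfsg.Agent.Solv.SylowFactor
import Cfsg.Agent.Solv.MinNonNilp
import Cfsg.Agent.Perm.MinClass

/-!
Baer's theorem on left Engel elements and the characterisation of the hypercentre.
-/

set_option autoImplicit false
set_option linter.style.haveILetI false
set_option linter.deprecated false
set_option linter.unusedSectionVars false

open scoped Pointwise

namespace CfsgLib.Solv

universe u

/-- The `n`-fold commutator `[x, g, …, g]`. -/
def engelIter {G : Type u} [Group G] (g : G) : ℕ → G → G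
  | 0, x => x
  | n + 1, x => engelIter g n (x * g * x⁻¹ * g⁻¹)

theorem foldl_replicate_eq_engelIter {G : Type u} [Group G] (g : G) : ∀ (n : ℕ) (x : G),
    (List.replicate n g).foldl (fun a b => a * b * a⁻¹ * b⁻¹) x = engelIter g n x
  | 0, _ => rfl
  | n + 1, x => by
    rw [List.replicate_succ, List.foldl_cons, engelIter]
    exact foldl_replicate_eq_engelIter g n _

theorem map_engelIter {G H : Type u} [Group G] [Group H] (f : G →* H) (g : G) : ∀ (n : ℕ) (x : G),
    f (engelIter g n x) = engelIter (f g) n (f x)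
  | 0, _ => rfl
  | n + 1, x => by
    rw [engelIter, engelIter, map_engelIter f g n]
    simp

theorem engelIter_mem {G : Type u} [Group G] {N : Subgroup G} {g : G} (hg : g ∈ N) :
    ∀ (n : ℕ) (x : G), x ∈ Subgroup.normalizer (N : Set G) → ∀ k, n = k + 1 →
      engelIter g n x ∈ N := by
  intro n
  induction n with
  | zero => intro x _ k hk; omega
  | succ n ih =>
    intro x hx k _
    have h1 : x * g * x⁻¹ * g⁻¹ ∈ N :=
      mul_mem ((Subgroup.mem_normalizer_iff.1 hx g).1 hg) (inv_mem hg)
    rw [engelIter]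
    cases n with
    | zero => exact h1
    | succ m => exact ih _ (Subgroup.le_normalizer h1) m rfl

theorem engelIter_lcs {G : Type u} [Group G] (g : G) : ∀ (n i : ℕ) (x : G),
    x ∈ (⊤ : Subgroup G).lowerCentralSeries i →
      engelIter g n x ∈ (⊤ : Subgroup G).lowerCentralSeries (i + n)
  | 0, _, _, hx => hx
  | n + 1, i, x, hx => by
    rw [engelIter, show i + (n + 1) = i + 1 + n by omega]
    refine engelIter_lcs g n (i + 1) _ ?_
    rw [Subgroup.lowerCentralSeries_succ]
    exact Subgroup.commutator_mem_commutator hx (Subgroup.mem_top g)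

/-- Left Engel. -/
def IsLeftEngel {G : Type u} [Group G] (g : G) : Prop := ∀ x : G, ∃ n, engelIter g n x = 1

theorem isLeftEngel_of_nilpotent_closures {G : Type u} [Group G] (g : G)
    (h : ∀ x : G, Group.IsNilpotent ↥(Subgroup.closure ({x, g} : Set G))) : IsLeftEngel g := by
  intro x
  set H := Subgroup.closure ({x, g} : Set G)
  haveI : Group.IsNilpotent H := h x
  obtain ⟨n, hn⟩ := Subgroup.nilpotent_iff_lowerCentralSeries.1 (inferInstance : Group.IsNilpotent H)
  set g' : H := ⟨g, Subgroup.subset_closure (Set.mem_insert_of_mem _ rfl)⟩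
  have h1 := engelIter_lcs g' n 0 ⟨x, Subgroup.subset_closure (Set.mem_insert _ _)⟩ (Subgroup.mem_top _)
  rw [zero_add, hn, Subgroup.mem_bot] at h1
  exact ⟨n, by
    have := congrArg H.subtype h1
    rwa [map_engelIter, map_one] at this⟩

theorem isLeftEngel_of_mem_fitting {G : Type u} [Group G] [Finite G] {g : G}
    (hg : g ∈ Cfsg.fittingSubgroup G) : IsLeftEngel g := by
  intro x
  haveI := fittingSubgroup_normal (G := G)
  haveI := fittingSubgroup_isNilpotent (G := G)
  set F := Cfsg.fittingSubgroup G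
  obtain ⟨n, hn⟩ := Subgroup.nilpotent_iff_lowerCentralSeries.1 (inferInstance : Group.IsNilpotent F)
  have hx : x * g * x⁻¹ * g⁻¹ ∈ F :=
    mul_mem ((fittingSubgroup_normal (G := G)).conj_mem g hg x) (inv_mem hg)
  refine ⟨n + 1, ?_⟩
  have h1 := engelIter_lcs (⟨g, hg⟩ : F) n 0 ⟨_, hx⟩ (Subgroup.mem_top _)
  rw [zero_add, hn, Subgroup.mem_bot] at h1
  have := congrArg F.subtype h1
  rwa [map_engelIter, map_one] at this

theorem isNilpotent_zpowers {G : Type u} [Group G] (g : G) : Group.IsNilpotent (Subgroup.zpowers g) := by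
  haveI : IsMulCommutative (Subgroup.zpowers g) := IsCyclic.isMulCommutative
  letI : CommGroup (Subgroup.zpowers g) :=
    { (inferInstance : Group (Subgroup.zpowers g)) with mul_comm := IsMulCommutative.is_comm.comm }
  infer_instance

theorem isSubnormal_of_isNilpotent {G : Type u} [Group G] [Finite G] [Group.IsNilpotent G]
    (H : Subgroup G) : H.IsSubnormal := by
  induction hk : Nat.card G - Nat.card H using Nat.strong_induction_on generalizing H with
  | _ k ih =>
    by_cases hH : H = ⊤
    · exact hH ▸ Subgroup.IsSubnormal.top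
    have hlt := normalizerCondition_of_isNilpotent (G := G) H (lt_top_iff_ne_top.2 hH)
    have hcard : Nat.card H < Nat.card ↥(Subgroup.normalizer (H : Set G)) := by
      rcases lt_or_ge (Nat.card H) (Nat.card ↥(Subgroup.normalizer (H : Set G))) with h' | h'
      · exact h'
      · exact absurd (Subgroup.eq_of_le_of_card_ge hlt.le h') hlt.ne
    have hle := Subgroup.card_le_card_group (Subgroup.normalizer (H : Set G))
    exact Subgroup.IsSubnormal.step H _ hlt.le (ih _ (by omega) _ rfl)
      ((Subgroup.normal_subgroupOf_iff_le_normalizer hlt.le).2 le_rfl)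

theorem isSubnormal_of_mem_fitting {G : Type u} [Group G] [Finite G] {g : G}
    (hg : g ∈ Cfsg.fittingSubgroup G) : (Subgroup.zpowers g).IsSubnormal := by
  haveI := fittingSubgroup_normal (G := G)
  haveI := fittingSubgroup_isNilpotent (G := G)
  exact Subgroup.IsSubnormal.trans (Subgroup.zpowers_le.2 hg) (isSubnormal_of_isNilpotent _)
    (fittingSubgroup_normal (G := G)).isSubnormal

theorem baer_engel_aux : ∀ (n : ℕ) (G : Type u) [Group G] [Finite G], Nat.card G = n →
    ∀ g : G, IsLeftEngel g → g ∈ Cfsg.fittingSubgroup G := by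
  intro n
  induction n using Nat.strong_induction_on with
  | _ n IH =>
    intro G _ _ hn g hg
    by_contra hgF
    have hsub : ∀ H : Subgroup G, ∀ hgH : g ∈ H, H ≠ ⊤ → (⟨g, hgH⟩ : H) ∈ Cfsg.fittingSubgroup H := by
      intro H hgH hH
      refine IH _ (hn ▸ card_lt_of_ne_top hH) H rfl _ fun x => ?_
      obtain ⟨k, hk⟩ := hg x
      exact ⟨k, H.subtype_injective (by rw [map_engelIter, map_one]; exact hk)⟩
    have hprop : ∀ H : Subgroup G, Subgroup.zpowers g ≤ H → H ≠ ⊤ →
        ((Subgroup.zpowers g).subgroupOf H).IsSubnormal := by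
      intro H hle hH
      have hgH : g ∈ H := hle (Subgroup.mem_zpowers g)
      have e : (Subgroup.zpowers g).subgroupOf H = Subgroup.zpowers (⟨g, hgH⟩ : H) := by
        ext y
        simp only [Subgroup.mem_subgroupOf, Subgroup.mem_zpowers_iff, Subtype.ext_iff,
          SubgroupClass.coe_zpow]
      rw [e]
      exact isSubnormal_of_mem_fitting (hsub H hgH hH)
    rcases zipper _ hprop with hs | ⟨M, hM⟩
    · exact hgF (nilpotent_subnormal_le_fittingSubgroup hs (isNilpotent_zpowers g) (Subgroup.mem_zpowers g))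
    have htop : Subgroup.zpowers g ≠ ⊤ := fun e => hgF
      (nilpotent_subnormal_le_fittingSubgroup (e ▸ Subgroup.IsSubnormal.top :
        (Subgroup.zpowers g).IsSubnormal) (isNilpotent_zpowers g) (Subgroup.mem_zpowers g))
    obtain ⟨K, hK, hgK⟩ := (eq_top_or_exists_le_coatom _).resolve_left htop
    obtain rfl := hM K hK hgK
    have hgK' : g ∈ K := hgK (Subgroup.mem_zpowers g)
    -- some conjugate of `g` lies outside the unique maximal subgroup
    obtain ⟨x, hx⟩ : ∃ x : G, x * g * x⁻¹ ∉ K := by
      by_contra hc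
      simp only [not_exists, not_not] at hc
      set N := Subgroup.normalClosure ({g} : Set G)
      have hNK : N ≤ K := (Subgroup.closure_le _).2 fun y hy => by
        obtain ⟨a, rfl, hc'⟩ := Group.mem_conjugatesOfSet_iff.1 hy
        obtain ⟨c, rfl⟩ := isConj_iff.1 hc'
        exact hc c
      have hgN : g ∈ N := Subgroup.subset_normalClosure rfl
      haveI : N.Normal := Subgroup.normalClosure_normal
      have h1 := hsub N hgN fun e => hK.1 (top_unique (e.symm.le.trans hNK))
      exact hgF ((map_fittingSubgroup_subtype_eq_inf N ▸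
        Subgroup.mem_map_of_mem N.subtype h1 : g ∈ _ ⊓ _) |> fun h => by
          rcases Subgroup.mem_inf.1 h with ⟨h1, h2⟩
          assumption)
    have hstep : ∀ c : G, c * g * c⁻¹ ∈ K → c ∈ K := by
      intro c hc
      have hco : IsCoatom (MulAut.conj c • K) := by
        rw [conj_smul_eq_map]
        exact ((MulAut.conj c).mapSubgroup.isCoatom_iff K).2 hK
      have hco' : IsCoatom (MulAut.conj c⁻¹ • K) := by
        rw [conj_smul_eq_map]
        exact ((MulAut.conj c⁻¹).mapSubgroup.isCoatom_iff K).2 hK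
      have h1 : Subgroup.zpowers g ≤ MulAut.conj c⁻¹ • K := Subgroup.zpowers_le.2
        (mem_conj_smul_iff.2 (by simpa [mul_assoc] using hc))
      have h2 := hM _ hco' h1
      have h3 := mem_normalizer_of_conj_smul_eq h2
      rcases hK.le_iff.1 (Subgroup.le_normalizer (H := K)) with h4 | h4
      · exfalso
        haveI hKn : K.Normal := Subgroup.normalizer_eq_top_iff.1 h4
        exact hx (hKn.conj_mem g hgK' x)
      · have h5 := inv_mem (h4 ▸ h3 : c⁻¹ ∈ K)
        rwa [inv_inv] at h5
    obtain ⟨m, hm⟩ := hg x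
    have hback : ∀ (m : ℕ) (c : G), engelIter g m c ∈ K → c ∈ K := by
      intro m
      induction m with
      | zero => exact fun c h => h
      | succ m ih =>
        intro c h
        exact hstep c (by simpa using mul_mem (ih _ h) hgK')
    have hxK : x ∈ K := hback m x (hm ▸ one_mem K)
    exact hx (mul_mem (mul_mem hxK hgK') (inv_mem hxK))

/-- Baer: the left Engel elements of a finite group form the Fitting subgroup. -/
theorem mem_fittingSubgroup_iff_isLeftEngel {G : Type u} [Group G] [Finite G] {g : G} :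
    g ∈ Cfsg.fittingSubgroup G ↔ IsLeftEngel g :=
  ⟨isLeftEngel_of_mem_fitting, baer_engel_aux _ G rfl g⟩

theorem isNilpotent_closure_pair_of_hypercenter {G : Type u} [Group G] {g : G} (x : G) {n : ℕ}
    (hg : g ∈ Subgroup.upperCentralSeries G n) :
    Group.IsNilpotent ↥(Subgroup.closure ({x, g} : Set G)) := by
  set H := Subgroup.closure ({x, g} : Set G)
  have hle : ∀ k, (Subgroup.upperCentralSeries G k).subgroupOf H ≤ Subgroup.upperCentralSeries H k := by
    intro k
    induction k with
    | zero => intro y hy; exact Subgroup.mem_bot.2 (Subtype.ext (Subgroup.mem_bot.1 hy))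
    | succ k ih =>
      intro y hy
      rw [Subgroup.mem_upperCentralSeries_succ_iff]
      intro z
      exact ih (Subgroup.mem_subgroupOf.2
        (Subgroup.mem_upperCentralSeries_succ_iff.1 (Subgroup.mem_subgroupOf.1 hy) (z : G)))
  set Z := Subgroup.upperCentralSeries H n with hZ
  have hx : x ∈ H := Subgroup.subset_closure (Set.mem_insert _ _)
  have hgH : g ∈ H := Subgroup.subset_closure (Set.mem_insert_of_mem _ rfl)
  have hgZ : (⟨g, hgH⟩ : H) ∈ Z := hle n hg
  have hgen : ∀ y : H, (QuotientGroup.mk y : H ⧸ Z) ∈ Subgroup.zpowers (QuotientGroup.mk ⟨x, hx⟩ : H ⧸ Z) := by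
    rintro ⟨y, hy⟩
    induction hy using Subgroup.closure_induction with
    | mem y hy =>
      rcases hy with rfl | hy
      · exact Subgroup.mem_zpowers _
      · rw [Set.mem_singleton_iff] at hy
        subst hy
        have e : (QuotientGroup.mk (⟨y, hgH⟩ : H) : H ⧸ Z) = 1 := (QuotientGroup.eq_one_iff _).2 hgZ
        rw [e]; exact one_mem _
    | one => exact one_mem _
    | mul a b ha hb iha ihb => exact mul_mem iha ihb
    | inv a ha iha => exact inv_mem iha
  refine ⟨n + 1, top_unique fun y _ => ?_⟩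
  rw [Subgroup.mem_upperCentralSeries_succ_iff]
  intro z
  rw [← QuotientGroup.eq_one_iff]
  obtain ⟨i, hi⟩ := Subgroup.mem_zpowers_iff.1 (hgen y)
  obtain ⟨j, hj⟩ := Subgroup.mem_zpowers_iff.1 (hgen z)
  simp only [commutatorElement_def, QuotientGroup.mk_mul, QuotientGroup.mk_inv]
  rw [← hi, ← hj]
  group

theorem mem_iSup_upperCentralSeries {G : Type u} [Group G] [Finite G] {g : G} :
    g ∈ (⨆ n : ℕ, Subgroup.upperCentralSeries G n) ↔ ∃ n, g ∈ Subgroup.upperCentralSeries G n :=
  Subgroup.mem_iSup_of_directed (Subgroup.upperCentralSeries_mono G).directed_le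

/-- Elements generating nilpotent subgroups with every element form the hypercentre. -/
theorem mem_hypercenter_iff {G : Type u} [Group G] [Finite G] {g : G} :
    (∀ x : G, Group.IsNilpotent ↥(Subgroup.closure ({x, g} : Set G))) ↔
      g ∈ (⨆ n : ℕ, Subgroup.upperCentralSeries G n) := by
  classical
  refine ⟨fun h => ?_, fun h x => ?_⟩
  swap
  · obtain ⟨n, hn⟩ := mem_iSup_upperCentralSeries.1 h
    exact isNilpotent_closure_pair_of_hypercenter x hn
  set U := ⨆ n : ℕ, Subgroup.upperCentralSeries G n with hU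
  obtain ⟨k, hk⟩ : ∃ k, ∀ n, Subgroup.upperCentralSeries G n ≤ Subgroup.upperCentralSeries G k := by
    obtain ⟨k, -, hk⟩ := Set.exists_max_image (Set.univ : Set (Subgroup G))
      (fun H => if (∃ n, H = Subgroup.upperCentralSeries G n) then Nat.card H else 0)
      Set.finite_univ ⟨⊥, trivial⟩
    by_cases hkk : ∃ n, k = Subgroup.upperCentralSeries G n
    · obtain ⟨m, rfl⟩ := hkk
      refine ⟨m, fun n => ?_⟩
      rcases le_total n m with h' | h'
      · exact Subgroup.upperCentralSeries_mono G h'
      · have h1 := hk (Subgroup.upperCentralSeries G n) trivial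
        rw [if_pos ⟨n, rfl⟩, if_pos ⟨m, rfl⟩] at h1
        exact (Subgroup.eq_of_le_of_card_ge (Subgroup.upperCentralSeries_mono G h') h1).ge
    · have h1 := hk (Subgroup.upperCentralSeries G 0) trivial
      rw [if_pos ⟨0, rfl⟩, if_neg hkk] at h1
      exact absurd h1 (Nat.not_le.2 Nat.card_pos)
  have hUk : U = Subgroup.upperCentralSeries G k := le_antisymm (iSup_le hk) (le_iSup _ k)
  haveI : U.Normal := hUk ▸ inferInstance
  have hcen : Subgroup.center (G ⧸ U) = ⊥ := by
    rw [eq_bot_iff]
    intro y hy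
    obtain ⟨y, rfl⟩ := QuotientGroup.mk_surjective y
    rw [Subgroup.mem_bot, QuotientGroup.eq_one_iff]
    refine (le_iSup _ (k + 1) : Subgroup.upperCentralSeries G (k + 1) ≤ U) ?_
    rw [Subgroup.mem_upperCentralSeries_succ_iff]
    intro z
    have e : (QuotientGroup.mk (y * z * y⁻¹ * z⁻¹) : G ⧸ U) = 1 := by
      simp only [QuotientGroup.mk_mul, QuotientGroup.mk_inv]
      rw [← Subgroup.mem_center_iff.1 hy (QuotientGroup.mk z)]
      group
    rw [QuotientGroup.eq_one_iff] at e
    rw [← hUk]
    exact e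
  -- it suffices to treat `p`-elements
  have hF : g ∈ Cfsg.fittingSubgroup G :=
    mem_fittingSubgroup_iff_isLeftEngel.2 (isLeftEngel_of_nilpotent_closures g h)
  suffices key : Subgroup.zpowers g ≤ U from key (Subgroup.mem_zpowers g)
  refine le_of_forall_prime_power fun p hp _ y hy ⟨b, hb⟩ => ?_
  haveI : Fact p.Prime := ⟨hp⟩
  haveI hpn : (Cfsg.pCore p G).Normal := pCore_normal G p
  haveI := fittingSubgroup_normal (G := G)
  have hcomm : ∀ x : G, (orderOf x).Coprime p → x * y = y * x := by
    intro x hx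
    haveI := h x
    obtain ⟨i, rfl⟩ := Subgroup.mem_zpowers_iff.1 hy
    set H := Subgroup.closure ({x, g} : Set G)
    let x' : H := ⟨x, Subgroup.subset_closure (Set.mem_insert _ _)⟩
    let g' : H := ⟨g, Subgroup.subset_closure (Set.mem_insert_of_mem _ rfl)⟩
    have h1 : Subgroup.zpowers x' ≤ Subgroup.centralizer ((Subgroup.zpowers (g' ^ i) : Subgroup H) : Set H) := by
      refine le_of_forall_prime_power fun q hq _ z hz ⟨c, hc⟩ => ?_
      by_cases hqp : q = p
      · subst hqp
        have : orderOf z ∣ orderOf x := by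
          rw [← Nat.card_zpowers x, ← Subgroup.orderOf_coe z]
          obtain ⟨j, rfl⟩ := Subgroup.mem_zpowers_iff.1 hz
          exact Subgroup.orderOf_dvd_natCard _ (by simpa [x'] using Subgroup.zpow_mem_zpowers x j)
        have h2 := Nat.eq_one_of_dvd_coprimes (hx.pow_right c) this (hc ▸ dvd_rfl)
        rw [orderOf_eq_one_iff.1 h2]
        exact one_mem _
      · exact commute_of_isNilpotent (h x) hq hp hqp (A := Subgroup.zpowers z)
          (IsPGroup.of_card (n := c) (by rw [Nat.card_zpowers, hc]))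
          (IsPGroup.of_card (n := b) (by rw [Nat.card_zpowers, ← Subgroup.orderOf_coe]; simpa [g'] using hb))
          (Subgroup.mem_zpowers z)
    have h5 := congrArg Subtype.val (Subgroup.mem_centralizer_iff.1 (h1 (Subgroup.mem_zpowers x')) _
      (Subgroup.mem_zpowers (g' ^ i)))
    simp only [Subgroup.coe_mul, SubgroupClass.coe_zpow] at h5
    exact h5.symm
  have hyp : y ∈ Cfsg.pCore p G := by
    have hs : (Subgroup.zpowers y).IsSubnormal := by
      obtain ⟨i, rfl⟩ := Subgroup.mem_zpowers_iff.1 hy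
      exact isSubnormal_of_mem_fitting (zpow_mem hF i)
    have hpg : IsPGroup p (Subgroup.zpowers y) := IsPGroup.of_card (n := b) (by rw [Nat.card_zpowers, hb])
    have h1 := piNat_subnormal_le_piCore (π := {p}) hs (PiNat.of_isPGroup hpg rfl)
    haveI := Cfsg.piCore_normal ({p} : Set ℕ) G
    refine le_pCore (N := Cfsg.piCore {p} G) ?_ (h1 (Subgroup.mem_zpowers y))
    refine IsPGroup.of_card (n := (Nat.card (Cfsg.piCore {p} G)).primeFactorsList.length) ?_
    exact Nat.eq_prime_pow_of_unique_prime_dvd Nat.card_pos.ne'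
      fun hq hd => piNat_card_piCore (π := {p}) (G := G) _ hq hd
  -- the subgroup of `p`-elements of `O_p` commuting with all `p'`-elements
  let N : Subgroup G :=
    { carrier := {z | z ∈ Cfsg.pCore p G ∧ ∀ x : G, (orderOf x).Coprime p → x * z = z * x}
      mul_mem' := fun {a b} ha hb => ⟨mul_mem ha.1 hb.1, fun x hx =>
        (Commute.mul_right (ha.2 x hx) (hb.2 x hx))⟩
      one_mem' := ⟨one_mem _, fun x _ => by simp⟩
      inv_mem' := fun {a} ha => ⟨inv_mem ha.1, fun x hx => Commute.inv_right (ha.2 x hx)⟩ }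
  haveI hNn : N.Normal := ⟨fun z hz c => ⟨hpn.conj_mem z hz.1 c, fun x hx => by
    have h2 := hz.2 (c⁻¹ * x * c) (by
      rwa [show orderOf (c⁻¹ * x * c) = orderOf x by
        simpa using (MulEquiv.orderOf_eq (MulAut.conj c⁻¹) x)])
    have h3 := congrArg (fun w => c * w * c⁻¹) h2
    simpa [mul_assoc] using h3⟩⟩
  have hyN : y ∈ N := ⟨hyp, hcomm⟩
  suffices hNU : N ≤ U from hNU hyN
  by_contra hNU
  set f := QuotientGroup.mk' U
  haveI : (N.map f).Normal := hNn.map f (QuotientGroup.mk'_surjective U)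
  obtain ⟨P⟩ : Nonempty (Sylow p (G ⧸ U)) := inferInstance
  have hNp : IsPGroup p (N.map f) :=
    ((pCore_isPGroup G p).to_le fun z (hz : z ∈ N) => hz.1).map f
  have hNP : N.map f ≤ (P : Subgroup (G ⧸ U)) := by
    obtain ⟨Q, hQ⟩ := hNp.exists_le_sylow
    obtain ⟨a, rfl⟩ := MulAction.exists_smul_eq (G ⧸ U) Q P
    intro z hz
    rw [Sylow.coe_subgroup_smul, mem_conj_smul_iff]
    have := hQ ((inferInstance : (N.map f).Normal).conj_mem z hz a⁻¹)
    simpa [mul_assoc] using this
  have hne : (N.map f).subgroupOf (P : Subgroup (G ⧸ U)) ≠ ⊥ := by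
    intro e
    refine hNU ?_
    have : N.map f = ⊥ := by
      rw [← Subgroup.map_subgroupOf_eq_of_le hNP, e, Subgroup.map_bot]
    rw [Subgroup.map_eq_bot_iff, QuotientGroup.ker_mk'] at this
    exact this
  obtain ⟨⟨z, hz⟩, hz1⟩ := Subgroup.ne_bot_iff_exists_ne_one.1
    (CfsgLib.Perm.inf_center_ne_bot P.2 ((N.map f).subgroupOf (P : Subgroup (G ⧸ U))) hne)
  obtain ⟨hzN, hzc⟩ := Subgroup.mem_inf.1 hz
  have hzcen : (z : G ⧸ U) ∈ Subgroup.center (G ⧸ U) := by
    rw [Subgroup.mem_center_iff]
    intro w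
    set C := Subgroup.centralizer ({(z : G ⧸ U)} : Set (G ⧸ U)) with hC
    have hPC : (P : Subgroup (G ⧸ U)) ≤ C := fun v hv => Subgroup.mem_centralizer_singleton_iff.2
      (Subtype.ext_iff.1 (Subgroup.mem_center_iff.1 hzc ⟨v, hv⟩))
    have htop : C = ⊤ := by
      refine (Subgroup.card_eq_iff_eq_top _).1 (Nat.dvd_antisymm (Subgroup.card_subgroup_dvd_card _)
        ((Nat.dvd_iff_prime_pow_dvd_dvd _ _).2 fun q k hq hqk => ?_))
      haveI : Fact q.Prime := ⟨hq⟩
      by_cases e : q = p
      · subst e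
        exact (Sylow.pow_dvd_card_of_pow_dvd_card P hqk).trans (Subgroup.card_dvd_of_le hPC)
      · let Q : Sylow q (G ⧸ U) := default
        refine (Sylow.pow_dvd_card_of_pow_dvd_card Q hqk).trans (Subgroup.card_dvd_of_le fun v hv => ?_)
        obtain ⟨c, hc⟩ := IsPGroup.iff_orderOf.1 Q.2 ⟨v, hv⟩
        rw [← Subgroup.orderOf_coe] at hc
        obtain ⟨u, rfl⟩ := QuotientGroup.mk_surjective v
        obtain ⟨a, r, hqr, hor⟩ := Nat.exists_eq_pow_mul_and_not_dvd (orderOf_pos u).ne' q hq.ne_one
        have hco : (q ^ a).Coprime r := ((hq.coprime_iff_not_dvd).2 hqr).pow_left a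
        obtain ⟨i, -, hi1, hi0, -, -⟩ : ∃ i _v : ℕ, i ≡ 1 [MOD q ^ a] ∧ i ≡ 0 [MOD r] ∧ True ∧ True :=
          ⟨(Nat.chineseRemainder hco 1 0 : ℕ), 0, (Nat.chineseRemainder hco 1 0).2.1,
            (Nat.chineseRemainder hco 1 0).2.2, trivial, trivial⟩
        have hca : c ≤ a := by
          have h1 : q ^ c ∣ q ^ a * r := hor ▸ hc ▸ orderOf_map_dvd f u
          exact (Nat.pow_dvd_pow_iff_le_right hq.one_lt).1
            ((((hq.coprime_iff_not_dvd).2 hqr).pow_left c).dvd_of_dvd_mul_right h1)
        have hord : (orderOf (u ^ i)).Coprime p := by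
          have h1 : (u ^ i) ^ q ^ a = 1 := by
            obtain ⟨w', hw'⟩ := (Nat.modEq_zero_iff_dvd).1 hi0
            rw [← pow_mul, hw', mul_comm r, mul_assoc, mul_comm, mul_comm r, ← hor, pow_mul,
              pow_orderOf_eq_one, one_pow]
          exact Nat.Coprime.coprime_dvd_left (orderOf_dvd_of_pow_eq_one h1)
            (((Nat.coprime_primes hq hp).2 e).pow_left a)
        have himg : f (u ^ i) = f u := by
          rw [map_pow]
          have h1 : f u ^ q ^ a = 1 := orderOf_dvd_iff_pow_eq_one.1 (hc ▸ pow_dvd_pow q hca)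
          rw [pow_eq_pow_mod i h1, hi1, ← pow_eq_pow_mod 1 h1, pow_one]
        obtain ⟨v', hv', e'⟩ := Subgroup.mem_map.1 (Subgroup.mem_subgroupOf.1 hzN)
        rw [hC, Subgroup.mem_centralizer_singleton_iff]
        change f u * (z : G ⧸ U) = (z : G ⧸ U) * f u
        rw [← e', ← himg, ← map_mul, ← map_mul, hv'.2 _ hord]
    exact Subgroup.mem_centralizer_singleton_iff.1 (htop.ge (Subgroup.mem_top w) : w ∈ C)
  rw [hcen, Subgroup.mem_bot] at hzcen
  exact hz1 (Subtype.ext (Subtype.ext hzcen))

end CfsgLib.Solv
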