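import Cfsg.Agent.Solv.Basic
import Mathlib.FieldTheory.Finite.GaloisField
import Mathlib.Algebra.Module.ZMod
import Mathlib.LinearAlgebra.Eigenspace.Minpoly

/-!
Eigenvectors for endomorphisms of order dividing `p - 1` of elementary abelian `p`-groups.
-/

set_option autoImplicit false
set_option linter.style.haveILetI false
set_option linter.deprecated false
set_option linter.unusedSectionVars false

namespace CfsgLib.Solv

open Polynomial in
theorem exists_eigen {N : Type*} [CommGroup N] [Finite N] [Nontrivial N] {p : ℕ} [Fact p.Prime]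
    (he : ∀ x : N, x ^ p = 1) (f : N →* N) (hf : ∀ x, f^[p - 1] x = x) :
    ∃ x : N, x ≠ 1 ∧ ∃ c : ℕ, f x = x ^ c := by
  have hsm : ∀ x : Additive N, p • x = 0 := fun x => by
    apply Additive.toMul.injective
    show x.toMul ^ p = 1
    exact he x.toMul
  haveI : Module (ZMod p) (Additive N) := AddCommGroup.zmodModule hsm
  let F : Module.End (ZMod p) (Additive N) := (MonoidHom.toAdditive f).toZModLinearMap p
  have hp1 : p - 1 + 1 = p := Nat.succ_pred_eq_of_pos (Fact.out : p.Prime).pos
  have hF : (aeval (R := ZMod p) (A := Module.End (ZMod p) (Additive N)) F) (X ^ p - X) = (0 : Module.End (ZMod p) (Additive N)) := by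
    rw [map_sub, map_pow, aeval_X, sub_eq_zero]
    have h0 : F ^ (p - 1) = 1 := by
      refine LinearMap.ext fun v => ?_
      rw [Module.End.pow_apply]
      have h1 : ∀ (n : ℕ), F^[n] v = Additive.ofMul (f^[n] v.toMul) := by
        intro n
        induction n with
        | zero => rfl
        | succ n ih =>
          rw [Function.iterate_succ_apply', Function.iterate_succ_apply', ih]
          rfl
      rw [h1, hf]
      rfl
    calc F ^ p = F ^ (p - 1) * F ^ 1 := by rw [← pow_add]; exact congrArg (F ^ ·) hp1.symm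
      _ = F := by rw [h0, one_mul, pow_one]
  have hsp : Splits (X ^ p - X : (ZMod p)[X]) := by
    simpa [ZMod.card p] using FiniteField.splits_X_pow_card_sub_X (p := p) (K := ZMod p)
  have hne : (X ^ p - X : (ZMod p)[X]) ≠ 0 :=
    FiniteField.X_pow_card_sub_X_ne_zero (ZMod p) (Fact.out : p.Prime).one_lt
  have hint : IsIntegral (ZMod p) F := Algebra.IsIntegral.isIntegral F
  obtain ⟨μ, hμ⟩ := (hsp.of_dvd hne (minpoly.dvd _ F hF)).exists_eval_eq_zero
    (minpoly.degree_pos hint).ne'
  obtain ⟨v, hv⟩ := (Module.End.hasEigenvalue_of_isRoot hμ).exists_hasEigenvector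
  refine ⟨v.toMul, fun e => hv.2 (Additive.toMul.injective e), μ.val, ?_⟩
  have h1 : F v = μ.val • v := by
    rw [hv.apply_eq_smul, ← Nat.cast_smul_eq_nsmul (ZMod p), ZMod.natCast_zmod_val]
  have h2 := congrArg Additive.toMul h1
  rw [toMul_nsmul] at h2
  exact h2

end CfsgLib.Solv
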