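import Cfsg.Agent.Solv.Generation
import Mathlib.GroupTheory.PGroup

/-!
Groups of operators acting without fixed points.
-/

set_option autoImplicit false
set_option linter.style.haveILetI false
set_option linter.deprecated false

open scoped Pointwise commutatorElement

namespace CfsgLib.Solv

variable {G : Type*} [Group G]

/-- A group acting without fixed points has order prime to the group it acts on. -/
theorem coprime_of_fpf [Finite G] {A V : Subgroup G}
    (hAV : A ≤ Subgroup.normalizer (V : Set G))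
    (hfpf : ∀ a ∈ A, a ≠ 1 → V ⊓ Subgroup.centralizer {a} = ⊥) :
    (Nat.card A).Coprime (Nat.card V) := by
  refine Nat.coprime_of_dvd fun r hr hrA hrV => ?_
  haveI := Fact.mk hr
  obtain ⟨a, ha⟩ := exists_prime_orderOf_dvd_card' (G := A) r hrA
  have hao : orderOf (a : G) = r := by rw [Subgroup.orderOf_coe, ha]
  have ha1 : (a : G) ≠ 1 := fun h => hr.one_lt.ne (by rw [← hao, h, orderOf_one])
  letI : MulAction (Subgroup.zpowers (a : G)) V :=
    { smul := fun b v => ⟨(b : G) * v * (b : G)⁻¹, le_normalizer_iff_forall_conj_mem.1 hAV b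
        (Subgroup.zpowers_le.2 a.2 b.2) v v.2⟩
      one_smul := fun v => Subtype.ext (by show ((1 : Subgroup.zpowers (a : G)) : G) * v * _ = v; simp)
      mul_smul := fun b c v => Subtype.ext (by
        show ((b * c : Subgroup.zpowers (a : G)) : G) * v * _ = b * (c * v * (c : G)⁻¹) * (b : G)⁻¹
        simp [mul_assoc]) }
  have hcard : Nat.card (Subgroup.zpowers (a : G)) = r := by rw [Nat.card_zpowers, hao]
  have hP : IsPGroup r (Subgroup.zpowers (a : G)) := IsPGroup.of_card (n := 1) (by rw [hcard, pow_one])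
  have h1 : Subsingleton (MulAction.fixedPoints (Subgroup.zpowers (a : G)) V) := by
    refine ⟨fun x y => ?_⟩
    have key : ∀ z : MulAction.fixedPoints (Subgroup.zpowers (a : G)) V, (z.1 : G) = 1 := by
      intro z
      have hz := congrArg Subtype.val (z.2 ⟨a, Subgroup.mem_zpowers _⟩)
      change (a : G) * z.1 * (a : G)⁻¹ = z.1 at hz
      have : (z.1 : G) ∈ V ⊓ Subgroup.centralizer {(a : G)} := by
        refine Subgroup.mem_inf.2 ⟨z.1.2, Subgroup.mem_centralizer_singleton_iff.2 ?_⟩
        exact (mul_inv_eq_iff_eq_mul.1 hz).symm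
      rwa [hfpf a a.2 ha1, Subgroup.mem_bot] at this
    exact Subtype.ext (Subtype.ext ((key x).trans (key y).symm))
  have h2 : (⟨1, one_mem V⟩ : V) ∈ MulAction.fixedPoints (Subgroup.zpowers (a : G)) V :=
    fun b => Subtype.ext (by show (b : G) * 1 * (b : G)⁻¹ = 1; simp)
  have h3 : Nat.card (MulAction.fixedPoints (Subgroup.zpowers (a : G)) V) = 1 := by
    haveI : Nonempty (MulAction.fixedPoints (Subgroup.zpowers (a : G)) V) := ⟨⟨_, h2⟩⟩
    exact Nat.card_unique
  have h4 := hP.card_modEq_card_fixedPoints V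
  rw [h3] at h4
  have h5 : Nat.card V ≡ 0 [MOD r] := Nat.modEq_zero_iff_dvd.2 hrV
  exact hr.one_lt.ne' (Nat.dvd_one.1 (Nat.modEq_zero_iff_dvd.1 (h4.symm.trans h5)))

/-- An abelian group of operators without fixed points on a nontrivial group is cyclic. -/
theorem isCyclic_of_fpf_abelian [Finite G] {A V : Subgroup G} [IsMulCommutative A] (hV : V ≠ ⊥)
    (hAV : A ≤ Subgroup.normalizer (V : Set G))
    (hfpf : ∀ a ∈ A, a ≠ 1 → V ⊓ Subgroup.centralizer {a} = ⊥) : IsCyclic A := by
  by_contra hA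
  exact hV (le_bot_iff.1 (le_of_noncyclic_centralizers hA hAV (coprime_of_fpf hAV hfpf)
    fun a ha ha1 => (hfpf a ha ha1).le))

/-- The relation behind `pq`: a normal subgroup `Q` of `A` of prime order and an element
`x ∉ Q` such that `A` is their product and every element of `Q x` has prime order `p`. -/
theorem pow_card_eq_one_of_fpf_coset [Finite G] {A V : Subgroup G} [IsMulCommutative V]
    (hAV : A ≤ Subgroup.normalizer (V : Set G))
    (hfpf : ∀ a ∈ A, a ≠ 1 → V ⊓ Subgroup.centralizer {a} = ⊥)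
    {Q : Subgroup A} [hQn : Q.Normal] (hQ : Q ≠ ⊥) {p : ℕ} [Fact p.Prime] (x : A)
    (hidx : Q.index = p) (hxQ : x ∉ Q) (hord : ∀ u ∈ Q, (u * x) ^ p = 1) :
    ∀ v ∈ V, v ^ Nat.card Q = 1 := by
  classical
  open scoped IsMulCommutative in
  intro v hv
  haveI := Fintype.ofFinite A
  haveI := Fintype.ofFinite Q
  have hp := (Fact.out : p.Prime)
  let c : A → V →* V := fun a =>
    { toFun := fun v => ⟨(a : G) * v * (a : G)⁻¹,
        le_normalizer_iff_forall_conj_mem.1 hAV a a.2 v v.2⟩
      map_one' := Subtype.ext (by simp)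
      map_mul' := fun x y => Subtype.ext (by simp [mul_assoc]) }
  have hcm : ∀ a b : A, ∀ w : V, c a (c b w) = c (a * b) w := fun a b w =>
    Subtype.ext (by simp [c, mul_assoc])
  have fixone : ∀ (a : A), a ≠ 1 → ∀ w : V, c a w = w → w = 1 := by
    intro a ha w hw
    have h : (w : G) ∈ V ⊓ Subgroup.centralizer {(a : G)} := by
      refine Subgroup.mem_inf.2 ⟨w.2, Subgroup.mem_centralizer_singleton_iff.2 ?_⟩
      have hw' := congrArg Subtype.val hw
      change (a : G) * (w : G) * (a : G)⁻¹ = w at hw'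
      exact (mul_inv_eq_iff_eq_mul.1 hw').symm
    rw [hfpf a a.2 (fun h => ha (Subtype.ext h)), Subgroup.mem_bot] at h
    exact Subtype.ext h
  set w : V := ⟨v, hv⟩
  have hsumQ : ∀ z : A, ∏ u : Q, c ((u : A) * z) w = 1 := by
    intro z
    obtain ⟨u₀, hu₀, hu₀1⟩ := Q.bot_or_exists_ne_one.resolve_left hQ
    refine fixone u₀ hu₀1 _ ?_
    rw [map_prod]
    refine Fintype.prod_equiv (Equiv.mulLeft (⟨u₀, hu₀⟩ : Q)) _ _ fun u => ?_
    rw [hcm]
    simp [mul_assoc]
  have hcyc : ∀ u : Q, ∏ k ∈ Finset.range p, c (((u : A) * x) ^ k) w = 1 := by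
    intro u
    have hne : (u : A) * x ≠ 1 := fun h => hxQ (by
      rw [eq_inv_of_mul_eq_one_right h]; exact inv_mem u.2)
    refine fixone _ hne _ ?_
    rw [map_prod]
    simp only [hcm, ← pow_succ']
    have h := Finset.prod_range_succ' (fun k => c (((u : A) * x) ^ k) w) p
    rw [Finset.prod_range_succ, hord u u.2, pow_zero] at h
    exact (mul_right_cancel h).symm
  have hbij : ∀ k : ℕ, k ∈ Finset.range p → k ≠ 0 →
      ∏ u : Q, c (((u : A) * x) ^ k) w = 1 := by
    intro k hk hk0
    have hcop : Nat.Coprime p k :=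
      (Nat.Prime.coprime_iff_not_dvd hp).2
        (Nat.not_dvd_of_pos_of_lt (Nat.pos_of_ne_zero hk0) (Finset.mem_range.1 hk))
    have hmem : ∀ u : Q, ((u : A) * x) ^ k * (x ^ k)⁻¹ ∈ Q := by
      intro u
      rw [← QuotientGroup.eq_one_iff]
      simp [(QuotientGroup.eq_one_iff (u : A)).2 u.2]
    have hinj : Function.Injective (fun u : Q => (⟨_, hmem u⟩ : Q)) := by
      intro u u' he
      have h1 : ((u : A) * x) ^ k = ((u' : A) * x) ^ k := mul_right_cancel (congrArg Subtype.val he)
      obtain ⟨m, hm⟩ := Nat.exists_mul_mod_eq_one_of_coprime hcop.symm hp.one_lt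
      have h2 : ∀ y : A, y ^ p = 1 → (y ^ k) ^ m = y := fun y hy => by
        rw [← pow_mul, ← Nat.mod_add_div (k * m) p, hm.2, pow_add, pow_mul, hy, one_pow, mul_one,
          pow_one]
      have h3 : (u : A) * x = (u' : A) * x := by
        rw [← h2 _ (hord u u.2), h1, h2 _ (hord u' u'.2)]
      exact Subtype.ext (mul_right_cancel h3)
    rw [← hsumQ (x ^ k)]
    exact Fintype.prod_equiv (Equiv.ofBijective _ (Finite.injective_iff_bijective.1 hinj)) _ _
      fun u => by simp
  have h1 : ∏ u : Q, ∏ k ∈ Finset.range p, c (((u : A) * x) ^ k) w = 1 :=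
    Finset.prod_eq_one fun u _ => hcyc u
  rw [Finset.prod_comm, ← Finset.mul_prod_erase _ _ (Finset.mem_range.2 hp.pos),
    Finset.prod_eq_one (s := (Finset.range p).erase 0) fun k hk =>
      hbij k (Finset.mem_erase.1 hk).2 (Finset.mem_erase.1 hk).1, mul_one] at h1
  have h2 : w ^ Nat.card Q = 1 := by
    have hc1 : ∀ u : Q, c (((u : A) * x) ^ 0) w = w := fun u => Subtype.ext (by simp [c])
    simp only [hc1, Finset.prod_const, Finset.card_univ] at h1
    rwa [Nat.card_eq_fintype_card]
  exact congrArg Subtype.val h2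

theorem isCyclic_of_fpf_card_eq_mul [Finite G] {A V : Subgroup G} [IsMulCommutative V] (hV : V ≠ ⊥)
    (hAV : A ≤ Subgroup.normalizer (V : Set G))
    (hfpf : ∀ a ∈ A, a ≠ 1 → V ⊓ Subgroup.centralizer {a} = ⊥)
    {p q : ℕ} (hp : p.Prime) (hq : q.Prime) (hcard : Nat.card A = p * q) : IsCyclic A := by
  wlog hpq : p ≤ q generalizing p q
  · exact this hq hp (by rw [hcard, mul_comm]) (le_of_not_ge hpq)
  haveI := Fact.mk hp
  haveI := Fact.mk hq
  by_cases hab : IsMulCommutative A
  · exact isCyclic_of_fpf_abelian hV hAV hfpf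
  rcases eq_or_ne p q with rfl | hne
  · exact absurd (IsPGroup.isMulCommutative_of_card_eq_prime_sq (G := A) (p := p)
      (by rw [hcard, sq])) hab
  exfalso
  have hlt : p < q := lt_of_le_of_ne hpq hne
  obtain ⟨S⟩ : Nonempty (Sylow q A) := inferInstance
  have hS : Nat.card S = q := by
    rw [S.card_eq_multiplicity, hcard, Nat.factorization_mul hp.ne_zero hq.ne_zero,
      Finsupp.add_apply, hq.factorization_self, hp.factorization,
      Finsupp.single_eq_of_ne (Ne.symm hne), zero_add, pow_one]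
  set Q := (S : Subgroup A) with hQdef
  have hidx : Q.index = p := by
    have h := Q.card_mul_index
    rw [hcard, show Nat.card Q = q from hS, mul_comm p q] at h
    exact Nat.eq_of_mul_eq_mul_left hq.pos h
  haveI hQn : Q.Normal := Subgroup.normal_of_index_eq_minFac_card (by
    rw [hidx, hcard]
    refine le_antisymm ?_ (Nat.minFac_le_of_dvd hp.two_le (dvd_mul_right p q))
    obtain ⟨r, hr, hrd⟩ : ∃ r, r.Prime ∧ (p * q).minFac = r ∧ r ∣ p * q :=
      ⟨_, Nat.minFac_prime (by nlinarith [hp.two_le, hq.two_le]), rfl, Nat.minFac_dvd _⟩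
    rw [hrd.1]
    rcases hr.dvd_mul.1 hrd.2 with h | h
    · rw [(Nat.prime_dvd_prime_iff_eq hr hp).1 h]
    · rw [(Nat.prime_dvd_prime_iff_eq hr hq).1 h]; exact hpq)
  have hQne : Q ≠ ⊥ := fun h => by
    have h' : Nat.card Q = q := hS
    rw [h, Subgroup.card_bot] at h'
    exact hq.one_lt.ne h'
  obtain ⟨x, hxQ⟩ : ∃ x, x ∉ Q := by
    by_contra h
    rw [not_exists_not] at h
    rw [(Subgroup.eq_top_iff' Q).2 h, Subgroup.index_top] at hidx
    exact hp.one_lt.ne hidx
  have hord : ∀ u ∈ Q, (u * x) ^ p = 1 := by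
    intro u hu
    have hnot : u * x ∉ Q := fun h => hxQ ((Q.mul_mem_cancel_left hu).1 h)
    have hd : orderOf (u * x) ∣ p * q := hcard ▸ orderOf_dvd_natCard _
    obtain ⟨d₁, d₂, h1, h2, he⟩ := exists_dvd_and_dvd_of_dvd_mul hd
    rcases (Nat.dvd_prime hq).1 h2 with rfl | rfl
    · exact orderOf_dvd_iff_pow_eq_one.1 (by rw [he, mul_one]; exact h1)
    · rcases (Nat.dvd_prime hp).1 h1 with rfl | rfl
      · refine absurd ?_ hnot
        rw [one_mul] at he
        have hz : IsPGroup d₂ (Subgroup.zpowers (u * x)) :=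
          IsPGroup.of_card (n := 1) (by rw [Nat.card_zpowers, he, pow_one])
        obtain ⟨T, hT⟩ := hz.exists_le_sylow
        obtain ⟨g, hg⟩ := MulAction.exists_smul_eq A S T
        rw [Sylow.smul_eq_of_normal] at hg
        rw [hQdef, hg]
        exact hT (Subgroup.mem_zpowers _)
      · refine absurd ?_ hab
        haveI : IsCyclic A := isCyclic_of_orderOf_eq_card (u * x) (by rw [he, hcard])
        exact ⟨⟨fun a b => IsCyclic.commGroup.mul_comm a b⟩⟩
  have hexp := pow_card_eq_one_of_fpf_coset hAV hfpf hQne x hidx hxQ hord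
  obtain ⟨v, hv, hv1⟩ := V.bot_or_exists_ne_one.resolve_left hV
  refine hv1 ?_
  have h1 : orderOf (⟨v, hv⟩ : V) = 1 := Nat.eq_one_of_dvd_coprimes
    ((coprime_of_fpf hAV hfpf).coprime_dvd_left (hS ▸ Subgroup.card_subgroup_dvd_card Q : q ∣ Nat.card A))
    (orderOf_dvd_of_pow_eq_one (Subtype.ext (by simpa [show Nat.card Q = q from hS] using hexp v hv)))
    (orderOf_dvd_natCard _)
  exact congrArg Subtype.val (orderOf_eq_one_iff.1 h1)

end CfsgLib.Solv
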