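import Cfsg.Agent.Solv.Frobenius
import Cfsg.Agent.Solv.FixedPointFree

/-!
A group acting without fixed points is not a Frobenius group; consequences for Frobenius
complements.
-/

set_option autoImplicit false
set_option linter.style.haveILetI false
set_option linter.deprecated false

open scoped Pointwise commutatorElement

namespace CfsgLib.Solv

variable {G : Type*} [Group G]

theorem frobenius_conj {H : Subgroup G} (hH : Cfsg.IsFrobeniusComplement H) (x : G) :
    Cfsg.IsFrobeniusComplement (MulAut.conj x • H) := by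
  refine ⟨?_, ?_, fun g hg => ?_⟩
  · intro h
    refine hH.1 ?_
    rw [eq_bot_iff]
    intro y hy
    have : x * y * x⁻¹ ∈ MulAut.conj x • H := by rw [mem_conj_smul_iff]; simpa [mul_assoc] using hy
    rw [h, Subgroup.mem_bot] at this
    rw [Subgroup.mem_bot]
    simpa [mul_assoc] using congrArg (fun z => x⁻¹ * z * x) this
  · intro h
    refine hH.2.1 (eq_top_iff.2 fun y _ => ?_)
    have : x * y * x⁻¹ ∈ MulAut.conj x • H := h ▸ Subgroup.mem_top _
    rw [mem_conj_smul_iff] at this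
    simpa [mul_assoc] using this
  · rw [eq_bot_iff]
    intro z hz
    obtain ⟨h1, h2⟩ := Subgroup.mem_inf.1 hz
    simp only [mem_conj_smul_iff] at h1 h2
    have hx : x⁻¹ * g * x ∉ H := fun h => hg (by rw [mem_conj_smul_iff]; exact h)
    have h3 : x⁻¹ * z * x ∈ H ⊓ MulAut.conj (x⁻¹ * g * x) • H := by
      refine Subgroup.mem_inf.2 ⟨h1, ?_⟩
      rw [mem_conj_smul_iff]
      simpa [mul_assoc] using h2
    rw [hH.2.2 _ hx, Subgroup.mem_bot] at h3
    rw [Subgroup.mem_bot]
    simpa [mul_assoc] using congrArg (fun w => x * w * x⁻¹) h3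

theorem frobenius_of_mulEquiv {G' : Type*} [Group G'] (e : G ≃* G') {H : Subgroup G}
    (hH : Cfsg.IsFrobeniusComplement H) :
    Cfsg.IsFrobeniusComplement (H.map e.toMonoidHom) := by
  refine ⟨?_, ?_, fun g hg => ?_⟩
  · exact fun h => hH.1 ((Subgroup.map_eq_bot_iff_of_injective _ e.injective).1 h)
  · intro h
    refine hH.2.1 (eq_top_iff.2 fun y _ => ?_)
    obtain ⟨z, hz, hzy⟩ : e y ∈ H.map e.toMonoidHom := h ▸ Subgroup.mem_top _
    exact e.injective hzy ▸ hz
  · obtain ⟨g, rfl⟩ := e.surjective g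
    rw [eq_bot_iff]
    intro z hz
    obtain ⟨⟨w, hw, rfl⟩, h2⟩ := Subgroup.mem_inf.1 hz
    rw [mem_conj_smul_iff] at h2
    obtain ⟨u, hu, hue⟩ := h2
    have h3 : g⁻¹ * w * g ∈ H := by
      have : u = g⁻¹ * w * g := e.injective (by simpa using hue)
      exact this ▸ hu
    have hg' : g ∉ H := fun h => hg ⟨g, h, rfl⟩
    have h4 : w ∈ H ⊓ MulAut.conj g • H :=
      Subgroup.mem_inf.2 ⟨hw, by rw [mem_conj_smul_iff]; exact h3⟩
    rw [hH.2.2 _ hg', Subgroup.mem_bot] at h4
    simp [h4]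

/-- An abelian group admits no fixed-point-free action of a group with a Frobenius complement. -/
theorem not_fpf_frobenius_abelian [Finite G] {A V : Subgroup G} [IsMulCommutative V] (hV : V ≠ ⊥)
    (hAV : A ≤ Subgroup.normalizer (V : Set G))
    (hfpf : ∀ a ∈ A, a ≠ 1 → V ⊓ Subgroup.centralizer {a} = ⊥) {B : Subgroup A}
    (hB : Cfsg.IsFrobeniusComplement B) : False := by
  classical
  open scoped IsMulCommutative in
  obtain ⟨v, hv, hv1⟩ := V.bot_or_exists_ne_one.resolve_left hV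
  haveI := Fintype.ofFinite A
  haveI := Fintype.ofFinite B
  haveI := Fintype.ofFinite (A ⧸ B)
  let c : A → V →* V := fun a =>
    { toFun := fun v => ⟨(a : G) * v * (a : G)⁻¹,
        le_normalizer_iff_forall_conj_mem.1 hAV a a.2 v v.2⟩
      map_one' := Subtype.ext (by simp)
      map_mul' := fun x y => Subtype.ext (by simp [mul_assoc]) }
  have hcm : ∀ a b : A, ∀ w : V, c a (c b w) = c (a * b) w := fun a b w =>
    Subtype.ext (by simp [c, mul_assoc])
  have fixone : ∀ (a : A), a ≠ 1 → ∀ w : V, c a w = w → w = 1 := by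
    intro a ha w hw
    have h : (w : G) ∈ V ⊓ Subgroup.centralizer {(a : G)} := by
      refine Subgroup.mem_inf.2 ⟨w.2, Subgroup.mem_centralizer_singleton_iff.2 ?_⟩
      have hw' := congrArg Subtype.val hw
      change (a : G) * (w : G) * (a : G)⁻¹ = w at hw'
      exact (mul_inv_eq_iff_eq_mul.1 hw').symm
    rw [hfpf a a.2 (fun h => ha (Subtype.ext h)), Subgroup.mem_bot] at h
    exact Subtype.ext h
  set w : V := ⟨v, hv⟩
  obtain ⟨N, hNset, -, -⟩ := frobenius_theorem hB
  haveI := Fintype.ofFinite N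
  -- the product over a nontrivial subgroup is trivial
  have hsub : ∀ (S : Subgroup A) [Fintype S], S ≠ ⊥ → ∀ z : V, ∏ s : S, c (s : A) z = 1 := by
    intro S _ hS z
    obtain ⟨u, hu, hu1⟩ := S.bot_or_exists_ne_one.resolve_left hS
    refine fixone u hu1 _ ?_
    rw [map_prod]
    exact Fintype.prod_equiv (Equiv.mulLeft (⟨u, hu⟩ : S)) _ _ fun s => hcm u s z
  have hA : (⊤ : Subgroup A) ≠ ⊥ := fun h => hB.1 (le_bot_iff.1 (le_top.trans h.le))
  have hall : ∏ a : A, c a w = 1 := by
    rw [← hsub ⊤ hA w]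
    exact (Fintype.prod_equiv (Subgroup.topEquiv (G := A)).toEquiv
      (fun s : (⊤ : Subgroup A) => c (s : A) w) (fun a => c a w) fun s => rfl).symm
  have hNne : N ≠ ⊥ := by
    intro h
    have h1 : Nat.card N = B.index := by
      rw [← frobenius_card_kernel hB, ← hNset]; rfl
    rw [h, Subgroup.card_bot] at h1
    exact hB.2.1 (Subgroup.index_eq_one.1 h1.symm)
  have hker : ∏ a ∈ Finset.univ.filter (· ∈ Cfsg.frobeniusKernel B), c a w = 1 := by
    rw [← hsub N hNne w]
    refine Finset.prod_subtype _ (fun x => ?_) _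
    simp [← hNset]
  have hout : ∏ a ∈ Finset.univ.filter (fun a => a ∉ Cfsg.frobeniusKernel B), c a w =
      ∏ p ∈ Finset.univ.filter (fun p : (A ⧸ B) × B => p.2 ≠ 1),
        c (p.1.out * (p.2 : A) * p.1.out⁻¹) w := by
    have hbij := frobenius_compl_bijective hB
    refine (Finset.prod_bij (fun p _ => p.1.out * (p.2 : A) * p.1.out⁻¹) ?_ ?_ ?_ ?_).symm
    · intro p hp
      simp only [Finset.mem_filter, Finset.mem_univ, true_and] at hp ⊢
      exact hbij.mapsTo hp
    · intro p hp q hq he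
      simp only [Finset.mem_filter, Finset.mem_univ, true_and] at hp hq
      exact hbij.injOn hp hq he
    · intro a ha
      simp only [Finset.mem_filter, Finset.mem_univ, true_and] at ha
      obtain ⟨p, hp, hpa⟩ := hbij.surjOn ha
      exact ⟨p, by simpa using hp, hpa⟩
    · intros; rfl
  have hrow : ∀ q : A ⧸ B, ∏ b ∈ Finset.univ.filter (fun b : B => b ≠ 1),
      c (q.out * (b : A) * q.out⁻¹) w = w⁻¹ := by
    intro q
    have h1 : ∏ b : B, c (q.out * (b : A) * q.out⁻¹) w = 1 := by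
      have : ∏ b : B, c (q.out * (b : A) * q.out⁻¹) w =
          c q.out (∏ b : B, c (b : A) (c q.out⁻¹ w)) := by
        rw [map_prod]
        exact Finset.prod_congr rfl fun b _ => by rw [hcm, hcm, mul_assoc]
      rw [this, hsub B hB.1, map_one]
    rw [← Finset.mul_prod_erase _ _ (Finset.mem_univ (1 : B))] at h1
    have h2 : c (q.out * ((1 : B) : A) * q.out⁻¹) w = w := Subtype.ext (by simp [c])
    rw [h2] at h1
    rw [Finset.filter_ne']
    exact eq_inv_of_mul_eq_one_right h1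
  have hidx : w ^ B.index = 1 := by
    have h := Finset.prod_filter_mul_prod_filter_not Finset.univ
      (fun a : A => a ∈ Cfsg.frobeniusKernel B) (fun a => c a w)
    rw [hall, hker, one_mul, hout] at h
    have h2 : (Finset.univ.filter (fun p : (A ⧸ B) × B => p.2 ≠ 1)) =
        Finset.univ ×ˢ (Finset.univ.filter (fun b : B => b ≠ 1)) := by
      ext p; simp
    rw [h2, Finset.prod_product] at h
    simp only [hrow, Finset.prod_const, Finset.card_univ, inv_pow, inv_eq_one] at h
    rwa [← Nat.card_eq_fintype_card] at h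
  have hcop := coprime_of_fpf hAV hfpf
  have ho : orderOf w = 1 := Nat.eq_one_of_dvd_coprimes
    (hcop.coprime_dvd_left B.index_dvd_card) (orderOf_dvd_of_pow_eq_one hidx) (orderOf_dvd_natCard w)
  exact hv1 (congrArg Subtype.val (orderOf_eq_one_iff.1 ho))

/-- If `a` acts on `V` without fixed points, every element of `V a` is a conjugate of `a`. -/
theorem exists_conj_of_fpf [Finite G] {V : Subgroup G} {a : G}
    (ha : a ∈ Subgroup.normalizer (V : Set G)) (hfix : V ⊓ Subgroup.centralizer {a} = ⊥) {v : G}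
    (hv : v ∈ V) : ∃ u ∈ V, u * a * u⁻¹ = v * a := by
  have hmem : ∀ u ∈ V, u * (a * u⁻¹ * a⁻¹) ∈ V := fun u hu =>
    mul_mem hu ((Subgroup.mem_normalizer_iff.1 ha _).1 (inv_mem hu))
  have hinj : Function.Injective (fun u : V => (⟨_, hmem u u.2⟩ : V)) := by
    intro u u' he
    have he' : (u : G) * (a * (u : G)⁻¹ * a⁻¹) = (u' : G) * (a * (u' : G)⁻¹ * a⁻¹) :=
      congrArg Subtype.val he
    have h1 : (u' : G)⁻¹ * u ∈ V ⊓ Subgroup.centralizer {a} := by
      refine Subgroup.mem_inf.2 ⟨mul_mem (inv_mem u'.2) u.2,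
        Subgroup.mem_centralizer_singleton_iff.2 ?_⟩
      have h2 : (u : G) * a * (u : G)⁻¹ = (u' : G) * a * (u' : G)⁻¹ := by
        have := congrArg (· * a) he'
        simpa [mul_assoc] using this
      calc (u' : G)⁻¹ * u * a = (u' : G)⁻¹ * ((u : G) * a * (u : G)⁻¹) * u := by group
        _ = a * ((u' : G)⁻¹ * u) := by rw [h2]; group
    rw [hfix, Subgroup.mem_bot, inv_mul_eq_one] at h1
    exact Subtype.ext h1.symm
  obtain ⟨u, hu⟩ := (Finite.injective_iff_surjective.1 hinj) ⟨v, hv⟩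
  have hu' : (u : G) * (a * (u : G)⁻¹ * a⁻¹) = v := congrArg Subtype.val hu
  exact ⟨u, u.2, by rw [← hu']; simp [mul_assoc]⟩

/-- A group with a Frobenius complement does not act fixed point freely on a nontrivial group. -/
theorem not_fpf_frobenius [Finite G] {A V : Subgroup G} (hV : V ≠ ⊥)
    (hAV : A ≤ Subgroup.normalizer (V : Set G))
    (hfpf : ∀ a ∈ A, a ≠ 1 → V ⊓ Subgroup.centralizer {a} = ⊥) {B : Subgroup A}
    (hB : Cfsg.IsFrobeniusComplement B) : False := by
  have hcop := coprime_of_fpf hAV hfpf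
  set L := V ⊔ A with hL
  have hLN : L ≤ Subgroup.normalizer (V : Set G) := sup_le Subgroup.le_normalizer hAV
  haveI hVn : (V.subgroupOf L).Normal := Subgroup.normal_subgroupOf_of_le_normalizer hLN
  obtain ⟨p, hp, hpV⟩ := Nat.exists_prime_and_dvd (n := Nat.card V)
    (fun h => hV (Subgroup.eq_bot_of_card_eq _ h))
  haveI := Fact.mk hp
  obtain ⟨P⟩ : Nonempty (Sylow p (V.subgroupOf L)) := inferInstance
  set P' := (P : Subgroup (V.subgroupOf L)).map (V.subgroupOf L).subtype with hP'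
  set M := Subgroup.normalizer (P' : Set L) with hM
  have harg : M ⊔ V.subgroupOf L = ⊤ := Sylow.normalizer_sup_eq_top P
  set W := (V.subgroupOf L).subgroupOf M with hW
  haveI : W.Normal := inferInstance
  have hcardL : Nat.card L = Nat.card A * Nat.card V := by
    rw [hL, sup_comm]
    exact card_sup_of_le_normalizer hAV hcop
  have hVL : Nat.card (V.subgroupOf L) = Nat.card V := card_subgroupOf le_sup_left
  have hidxV : (V.subgroupOf L).index = Nat.card A := by
    have h := (V.subgroupOf L).index_mul_card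
    rw [hVL, hcardL] at h
    exact Nat.eq_of_mul_eq_mul_right Nat.card_pos h
  have hidxW : W.index = Nat.card A := by
    rw [← hidxV]
    show (V.subgroupOf L).relIndex M = _
    rw [← Subgroup.relIndex_sup_right, harg, Subgroup.relIndex_top_right]
  have hWcop : (Nat.card W).Coprime W.index := by
    rw [hidxW]
    refine hcop.symm.coprime_dvd_left ?_
    rw [← hVL]
    exact Subgroup.card_comap_dvd_of_injective _ _ M.subtype_injective
  obtain ⟨C, hC⟩ := Subgroup.exists_right_complement'_of_coprime hWcop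
  set C' := (C.map M.subtype).map L.subtype with hC'
  have hcardC : Nat.card C' = Nat.card A := by
    rw [hC', card_map_subtype, card_map_subtype, ← hidxW, hC.symm.index_eq_card]
  have hC'L : C' ≤ L := Subgroup.map_subtype_le _
  have hC'V : C' ⊓ V = ⊥ := Subgroup.inf_eq_bot_of_coprime (hcardC ▸ hcop)
  -- elements of the new complement are conjugates of elements of `A`
  have hdec : ∀ x : C', ∃ a : A, (x : G) * (a : G)⁻¹ ∈ V := by
    intro x
    have hx : (x : G) ∈ A ⊔ V := by rw [sup_comm]; exact hC'L x.2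
    obtain ⟨v, hv, a, ha, he⟩ := exists_mul_of_mem_sup hAV hx
    exact ⟨⟨a, ha⟩, by rw [he, mul_inv_cancel_right]; exact hv⟩
  choose e he using hdec
  have huniq : ∀ a a' : A, ∀ x : G, x * (a : G)⁻¹ ∈ V → x * (a' : G)⁻¹ ∈ V → a = a' := by
    intro a a' x h h'
    have h1 : (a : G) * (a' : G)⁻¹ ∈ A ⊓ V := by
      refine Subgroup.mem_inf.2 ⟨mul_mem a.2 (inv_mem a'.2), ?_⟩
      have := mul_mem (inv_mem h) h'
      simpa [mul_assoc] using this
    rw [Subgroup.inf_eq_bot_of_coprime hcop, Subgroup.mem_bot, mul_inv_eq_one] at h1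
    exact Subtype.ext h1
  let f : C' →* A :=
    { toFun := e
      map_one' := huniq _ _ 1 (by simpa using he 1) (by simp)
      map_mul' := fun x y => by
        refine huniq _ _ ((x * y : C') : G) (he _) ?_
        have h2 := le_normalizer_iff_forall_conj_mem.1 hAV (e x) (e x).2 _ (he y)
        have h3 := mul_mem (he x) h2
        simpa [mul_assoc] using h3 }
  have hfinj : Function.Injective f := by
    rw [← MonoidHom.ker_eq_bot_iff, eq_bot_iff]
    intro x hx
    have h1 : (x : G) ∈ C' ⊓ V := Subgroup.mem_inf.2 ⟨x.2, by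
      have := he x
      rw [show e x = 1 from hx] at this
      simpa using this⟩
    rw [hC'V, Subgroup.mem_bot] at h1
    exact Subgroup.mem_bot.2 (Subtype.ext h1)
  have hfbij : Function.Bijective f := hfinj.bijective_of_nat_card_le hcardC.ge
  have hB' := frobenius_of_mulEquiv (MulEquiv.ofBijective f hfbij).symm hB
  -- the centre of the Sylow subgroup
  set Q := P'.map L.subtype with hQ
  have hQp : IsPGroup p Q := (P.2.map _).map _
  set Z := (Subgroup.center Q).map Q.subtype with hZ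
  have hQV : Q ≤ V := by
    rintro _ ⟨y, hy, rfl⟩
    obtain ⟨z, -, rfl⟩ := hy
    exact z.2
  have hQne : Q ≠ ⊥ := by
    rw [hQ, Ne, Subgroup.map_eq_bot_iff_of_injective _ L.subtype_injective, hP',
      Subgroup.map_eq_bot_iff_of_injective _ (Subgroup.subtype_injective _)]
    intro h
    have hdvd : p ∣ Nat.card (V.subgroupOf L) := hVL.symm ▸ hpV
    exact P.not_dvd_index (by rw [h, Subgroup.index_bot]; exact hdvd)
  have hZne : Z ≠ ⊥ := by
    haveI := hQp
    haveI : Nontrivial Q := Q.nontrivial_iff_ne_bot.2 hQne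
    haveI := hQp.center_nontrivial
    rw [hZ, Ne, Subgroup.map_eq_bot_iff_of_injective _ Q.subtype_injective]
    exact (Subgroup.nontrivial_iff_ne_bot _).1 inferInstance
  haveI hZc : IsMulCommutative Z := by
    refine ⟨⟨fun x y => Subtype.ext ?_⟩⟩
    obtain ⟨a, ha, hae⟩ := x.2
    obtain ⟨b, hb, hbe⟩ := y.2
    show (x : G) * y = y * x
    rw [← hae, ← hbe]
    exact congrArg Subtype.val (Subgroup.mem_center_iff.1 hb a)
  have hC'Z : C' ≤ Subgroup.normalizer (Z : Set G) := by
    rw [le_normalizer_iff_forall_conj_mem]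
    rintro x ⟨m, ⟨c, hc, rfl⟩, rfl⟩ _ ⟨z, hz, rfl⟩
    have hnorm : ∀ y ∈ Q, ((c : L) : G) * y * ((c : L) : G)⁻¹ ∈ Q := by
      rintro _ ⟨y, hy, rfl⟩
      exact ⟨(c : L) * y * (c : L)⁻¹, (Subgroup.mem_normalizer_iff.1 c.2 y).1 hy, rfl⟩
    refine ⟨⟨((c : L) : G) * z * ((c : L) : G)⁻¹, hnorm z z.2⟩, ?_, rfl⟩
    rw [SetLike.mem_coe, Subgroup.mem_center_iff]
    intro y
    have hy' : ((c : L) : G)⁻¹ * y * ((c : L) : G) ∈ Q := by
      obtain ⟨y', hy', hye⟩ := y.2
      have h1 := (Subgroup.mem_normalizer_iff.1 (inv_mem c.2) y').1 hy'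
      exact ⟨_, h1, by simp [← hye]⟩
    have h2 : ((c : L) : G)⁻¹ * y * ((c : L) : G) * z = z * (((c : L) : G)⁻¹ * y * ((c : L) : G)) :=
      congrArg Subtype.val (Subgroup.mem_center_iff.1 hz ⟨_, hy'⟩)
    refine Subtype.ext ?_
    have h3 := congrArg (fun t => ((c : L) : G) * t * ((c : L) : G)⁻¹) h2
    simpa [mul_assoc] using h3
  refine not_fpf_frobenius_abelian (A := C') hZne hC'Z (fun x hx hx1 => ?_) hB'
  rw [eq_bot_iff]
  intro z hz
  obtain ⟨hzZ, hzx⟩ := Subgroup.mem_inf.1 hz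
  have hzV : z ∈ V := hQV (Subgroup.map_subtype_le _ hzZ)
  set a := e ⟨x, hx⟩
  have ha1 : (a : G) ≠ 1 := fun h => hx1 (congrArg Subtype.val (hfinj
    (show f ⟨x, hx⟩ = f 1 by rw [map_one]; exact Subtype.ext h)))
  obtain ⟨u, hu, hue⟩ := exists_conj_of_fpf (hAV a.2) (hfpf a a.2 ha1) (he ⟨x, hx⟩)
  rw [inv_mul_cancel_right] at hue
  change u * (a : G) * u⁻¹ = x at hue
  have h1 : u⁻¹ * z * u ∈ V ⊓ Subgroup.centralizer {(a : G)} := by
    refine Subgroup.mem_inf.2 ⟨mul_mem (mul_mem (inv_mem hu) hzV) hu,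
      Subgroup.mem_centralizer_singleton_iff.2 ?_⟩
    have hzx' := Subgroup.mem_centralizer_singleton_iff.1 hzx
    rw [← hue] at hzx'
    have h4 := congrArg (fun t => u⁻¹ * t * u) hzx'
    simpa [mul_assoc] using h4
  rw [hfpf a a.2 ha1, Subgroup.mem_bot] at h1
  exact Subgroup.mem_bot.2 (by simpa [mul_assoc] using congrArg (fun t => u * t * u⁻¹) h1)

/-- Two Frobenius complements meeting nontrivially, the smaller inside the larger. -/
theorem frobenius_le_conj_of_card_le [Finite G] {H H₀ : Subgroup G}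
    (hH : Cfsg.IsFrobeniusComplement H) (hH₀ : Cfsg.IsFrobeniusComplement H₀)
    (hle : Nat.card H₀ ≤ Nat.card H) : ∃ g : G, MulAut.conj g • H₀ ≤ H := by
  classical
  haveI := Fintype.ofFinite G
  obtain ⟨x, hx, hx₀⟩ : ∃ x, x ∉ Cfsg.frobeniusKernel H ∧ x ∉ Cfsg.frobeniusKernel H₀ := by
    by_contra hc
    push Not at hc
    have h1 := frobenius_card_compl hH
    have h2 := frobenius_card_kernel hH₀
    have h3 : Nat.card {x : G // x ∉ Cfsg.frobeniusKernel H} < Nat.card (Cfsg.frobeniusKernel H₀) := by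
      rw [Nat.card_eq_fintype_card, Nat.card_eq_fintype_card]
      refine Fintype.card_lt_of_injective_of_notMem
        (fun x => (⟨x.1, hc x.1 x.2⟩ : Cfsg.frobeniusKernel H₀))
        (fun a b hab => Subtype.ext (congrArg (fun z : Cfsg.frobeniusKernel H₀ => (z : G)) hab))
        (b := ⟨1, Or.inl rfl⟩) ?_
      rintro ⟨x, hx⟩
      exact x.2 (by rw [show (x.1 : G) = 1 from congrArg Subtype.val hx]; exact Or.inl rfl)
    rw [h1, h2] at h3
    have hi := H.index_mul_card
    have hi₀ := H₀.index_mul_card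
    have hb : 2 ≤ Nat.card H := H.one_lt_card_iff_ne_bot.2 hH.1
    have hb₀ : 2 ≤ Nat.card H₀ := H₀.one_lt_card_iff_ne_bot.2 hH₀.1
    obtain ⟨m, hm⟩ : ∃ m, Nat.card H = m + 2 := ⟨_, (Nat.sub_add_cancel hb).symm⟩
    obtain ⟨m₀, hm₀⟩ : ∃ m₀, Nat.card H₀ = m₀ + 2 := ⟨_, (Nat.sub_add_cancel hb₀).symm⟩
    rw [hm, show m + 2 - 1 = m + 1 from rfl] at h3
    rw [hm] at hi
    rw [hm₀] at hi₀
    nlinarith
  rw [mem_frobeniusKernel_iff] at hx hx₀
  push Not at hx hx₀
  obtain ⟨hx1, g, hg⟩ := hx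
  obtain ⟨-, k, hk⟩ := hx₀
  set H₁ := MulAut.conj (g⁻¹ * k) • H₀
  have hH₁ : Cfsg.IsFrobeniusComplement H₁ := frobenius_conj hH₀ _
  refine ⟨g⁻¹ * k, ?_⟩
  set y := g⁻¹ * x * g with hy
  have hy1 : y ≠ 1 := fun h => hx1 (by simpa [hy, mul_assoc] using congrArg (fun t => g * t * g⁻¹) h)
  have hyH₁ : y ∈ H₁ := by
    rw [mem_conj_smul_iff, hy]
    simpa [mul_assoc] using hk
  show H₁ ≤ H
  by_contra hnle
  have hS1 : H.subgroupOf H₁ ≠ ⊤ := fun h => hnle (Subgroup.subgroupOf_eq_top.1 h)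
  have hHle : ¬ H ≤ H₁ := fun h => by
    have hc : Nat.card H₁ ≤ Nat.card H := by rw [card_conj_smul]; exact hle
    exact hnle (Subgroup.eq_of_le_of_card_ge h hc).ge
  set S := H₁.subgroupOf H with hS
  have hSfrob : Cfsg.IsFrobeniusComplement S := by
    refine ⟨?_, fun h => hHle (Subgroup.subgroupOf_eq_top.1 h), fun l hl => ?_⟩
    · intro h
      have : (⟨y, hg⟩ : H) ∈ S := Subgroup.mem_subgroupOf.2 hyH₁
      rw [h, Subgroup.mem_bot] at this
      exact hy1 (congrArg Subtype.val this)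
    · rw [eq_bot_iff]
      intro z hz
      obtain ⟨h1, h2⟩ := Subgroup.mem_inf.1 hz
      rw [mem_conj_smul_iff, Subgroup.mem_subgroupOf] at h2
      rw [Subgroup.mem_subgroupOf] at h1
      have hl' : (l : G) ∉ H₁ := fun h => hl (Subgroup.mem_subgroupOf.2 h)
      have h3 : (z : G) ∈ H₁ ⊓ MulAut.conj (l : G) • H₁ :=
        Subgroup.mem_inf.2 ⟨h1, by rw [mem_conj_smul_iff]; simpa using h2⟩
      rw [hH₁.2.2 _ hl', Subgroup.mem_bot] at h3
      exact Subgroup.mem_bot.2 (Subtype.ext h3)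
  obtain ⟨N, hNset, hNn, hNc⟩ := frobenius_theorem hH
  haveI := hNn
  have hNne : N ≠ ⊥ := fun h => hH.2.1 (by
    have := hNc.sup_eq_top
    rwa [h, bot_sup_eq] at this)
  refine not_fpf_frobenius (A := H) hNne (fun a _ => by
    rw [Subgroup.normalizer_eq_top_iff.2 hNn]; exact Subgroup.mem_top a) (fun a ha ha1 => ?_) hSfrob
  rw [eq_bot_iff]
  intro n hn
  obtain ⟨hnN, hnC⟩ := Subgroup.mem_inf.1 hn
  have hcomm := Subgroup.mem_centralizer_singleton_iff.1 hnC
  have hconj : n * a * n⁻¹ = a := by rw [hcomm, mul_inv_cancel_right]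
  have hnH : n ∈ H := frobenius_mem_of_conj_mem hH ha (by rw [hconj]; exact ha) ha1
  have : n ∈ N ⊓ H := Subgroup.mem_inf.2 ⟨hnN, hnH⟩
  rwa [hNc.disjoint.eq_bot] at this

/-- A Frobenius complement is contained in no larger one. -/
theorem frobenius_eq_of_le [Finite G] {A B : Subgroup G} (hA : Cfsg.IsFrobeniusComplement A)
    (hB : Cfsg.IsFrobeniusComplement B) (h : A ≤ B) : A = B := by
  by_contra hne
  obtain ⟨N, -, hNn, hNc⟩ := frobenius_theorem hB
  haveI := hNn
  have hNne : N ≠ ⊥ := fun h => hB.2.1 (by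
    have := hNc.sup_eq_top
    rwa [h, bot_sup_eq] at this)
  refine not_fpf_frobenius (A := B) (B := A.subgroupOf B) hNne (fun a _ => by
    rw [Subgroup.normalizer_eq_top_iff.2 hNn]; exact Subgroup.mem_top a) (fun a ha ha1 => ?_)
    ⟨?_, fun htop => hne (le_antisymm h (Subgroup.subgroupOf_eq_top.1 htop)), fun l hl => ?_⟩
  · rw [eq_bot_iff]
    intro n hn
    obtain ⟨hnN, hnC⟩ := Subgroup.mem_inf.1 hn
    have hcomm := Subgroup.mem_centralizer_singleton_iff.1 hnC
    have hconj : n * a * n⁻¹ = a := by rw [hcomm, mul_inv_cancel_right]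
    have hnH : n ∈ B := frobenius_mem_of_conj_mem hB ha (by rw [hconj]; exact ha) ha1
    have : n ∈ N ⊓ B := Subgroup.mem_inf.2 ⟨hnN, hnH⟩
    rwa [hNc.disjoint.eq_bot] at this
  · intro hbot
    obtain ⟨y, hy, hy1⟩ := A.bot_or_exists_ne_one.resolve_left hA.1
    have : (⟨y, h hy⟩ : B) ∈ A.subgroupOf B := Subgroup.mem_subgroupOf.2 hy
    rw [hbot, Subgroup.mem_bot] at this
    exact hy1 (congrArg Subtype.val this)
  · rw [eq_bot_iff]
    intro z hz
    obtain ⟨h1, h2⟩ := Subgroup.mem_inf.1 hz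
    rw [mem_conj_smul_iff, Subgroup.mem_subgroupOf] at h2
    rw [Subgroup.mem_subgroupOf] at h1
    have hl' : (l : G) ∉ A := fun h => hl (Subgroup.mem_subgroupOf.2 h)
    have h3 : (z : G) ∈ A ⊓ MulAut.conj (l : G) • A :=
      Subgroup.mem_inf.2 ⟨h1, by rw [mem_conj_smul_iff]; simpa using h2⟩
    rw [hA.2.2 _ hl', Subgroup.mem_bot] at h3
    exact Subgroup.mem_bot.2 (Subtype.ext h3)

end CfsgLib.Solv
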