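import Cfsg.Agent.Inv.CharPLocal
import Cfsg.Agent.Solv.CoprimeAction
import Cfsg.Agent.Solv.Permutable

/-!
Basic facts on components, the layer and the generalized Fitting subgroup.
-/

set_option autoImplicit false
set_option linter.style.haveILetI false
set_option linter.deprecated false
set_option linter.unusedSectionVars false

open scoped commutatorElement Pointwise
open CfsgLib.Inv

namespace CfsgLib.Solv

variable {G : Type*} [Group G]

theorem quasisimple_commutator_of_simple_quotient
    (hs : IsSimpleGroup (G ⧸ Subgroup.center G))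
    (hna : ¬ IsMulCommutative (G ⧸ Subgroup.center G)) :
    commutator G ⊔ Subgroup.center G = ⊤ ∧ Cfsg.IsQuasisimple (commutator G) := by
  set Z := Subgroup.center G
  set D := commutator G
  haveI := hs
  have htop : D ⊔ Z = ⊤ := by
    rcases (Subgroup.Normal.map (inferInstance : D.Normal) _
      (QuotientGroup.mk'_surjective Z)).eq_bot_or_eq_top with h | h
    · refine absurd ⟨⟨fun a b => ?_⟩⟩ hna
      obtain ⟨a, rfl⟩ := QuotientGroup.mk'_surjective Z a
      obtain ⟨b, rfl⟩ := QuotientGroup.mk'_surjective Z b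
      have h1 : QuotientGroup.mk' Z ⁅a, b⁆ = 1 := Subgroup.mem_bot.1 (h.le
        (Subgroup.mem_map_of_mem _ (Subgroup.commutator_mem_commutator (Subgroup.mem_top a)
          (Subgroup.mem_top b))))
      rw [map_commutatorElement, commutatorElement_eq_one_iff_mul_comm] at h1
      exact h1
    · have := congrArg (Subgroup.comap (QuotientGroup.mk' Z)) h
      rwa [Subgroup.comap_map_eq, QuotientGroup.ker_mk', Subgroup.comap_top] at this
  have hdec : ∀ g : G, ∃ d ∈ D, ∃ z ∈ Z, g = d * z := fun g => by
    obtain ⟨d, hd, z, hz, e⟩ : g ∈ (D : Set G) * (Z : Set G) := by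
      rw [← Subgroup.mul_normal, htop]; trivial
    exact ⟨d, hd, z, hz, e.symm⟩
  have hperf : ⁅D, D⁆ = D := by
    refine le_antisymm (Subgroup.commutator_le_left D D) ?_
    show commutator G ≤ _
    rw [commutator_def, Subgroup.commutator_le]
    intro a _ b _
    obtain ⟨d, hd, z, hz, rfl⟩ := hdec a
    obtain ⟨e, he, w, hw, rfl⟩ := hdec b
    have hz' := Subgroup.mem_center_iff.1 hz
    have hw' := Subgroup.mem_center_iff.1 hw
    have : ⁅d * z, e * w⁆ = ⁅d, e⁆ := by
      simp only [commutatorElement_def, mul_inv_rev]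
      calc d * z * (e * w) * (z⁻¹ * d⁻¹) * (w⁻¹ * e⁻¹)
          = d * (z * (e * w)) * z⁻¹ * d⁻¹ * w⁻¹ * e⁻¹ := by group
        _ = d * ((e * w) * z) * z⁻¹ * d⁻¹ * w⁻¹ * e⁻¹ := by rw [hz' (e * w)]
        _ = d * e * (w * d⁻¹) * w⁻¹ * e⁻¹ := by group
        _ = d * e * (d⁻¹ * w) * w⁻¹ * e⁻¹ := by rw [hw' d⁻¹]
        _ = _ := by group
    rw [this]
    exact Subgroup.commutator_mem_commutator hd he
  refine ⟨htop, Subgroup.isPerfect_iff.2 hperf, ?_⟩
  have hcen : Subgroup.center D = Z.subgroupOf D := by
    ext x
    rw [Subgroup.mem_subgroupOf, Subgroup.mem_center_iff, Subgroup.mem_center_iff]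
    constructor
    · intro hx g
      obtain ⟨d, hd, z, hz, rfl⟩ := hdec g
      have h1 : d * (x : G) = x * d := congrArg Subtype.val (hx ⟨d, hd⟩)
      calc d * z * (x : G) = d * (z * x) := mul_assoc _ _ _
        _ = d * (x * z) := by rw [Subgroup.mem_center_iff.1 hz x]
        _ = x * (d * z) := by rw [← mul_assoc, h1, mul_assoc]
    · exact fun hx y => Subtype.ext (hx y)
  have hsurj : Function.Surjective ((QuotientGroup.mk' Z).comp D.subtype) := fun q => by
    obtain ⟨g, rfl⟩ := QuotientGroup.mk'_surjective Z q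
    obtain ⟨d, hd, z, hz, rfl⟩ := hdec g
    exact ⟨⟨d, hd⟩, QuotientGroup.eq.2 (by simpa using hz)⟩
  have hker : ((QuotientGroup.mk' Z).comp D.subtype).ker = Subgroup.center D := by
    rw [hcen]; ext x; simp [Subgroup.mem_subgroupOf]
  exact ((QuotientGroup.quotientMulEquivOfEq hker.symm).trans
    (QuotientGroup.quotientKerEquivOfSurjective _ hsurj)).isSimpleGroup_congr.2 hs

theorem component_commute_invariant_solvable [Finite G] {L H : Subgroup G}
    (hL : Cfsg.IsComponent L) (hs : Group.IsSolvable H)
    (hinv : L ≤ Subgroup.normalizer (H : Set G)) : ⁅L, H⁆ = ⊥ := by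
  set N := L ⊔ H
  haveI : (H.subgroupOf N).Normal := (Subgroup.normal_subgroupOf_iff_le_normalizer le_sup_right).2
    (sup_le hinv Subgroup.le_normalizer)
  haveI := hs
  have h := component_commute_solvable (isComponent_subgroupOf hL (le_sup_left : L ≤ N))
    (inferInstance : (H.subgroupOf N).Normal).isSubnormal
    (Group.isSolvable_of_surjective
      (f := (Subgroup.subgroupOfEquivOfLe (le_sup_right : H ≤ N)).symm.toMonoidHom)
      (Subgroup.subgroupOfEquivOfLe (le_sup_right : H ≤ N)).symm.surjective)
  rwa [← map_commutator_eq_bot, Subgroup.subgroupOf_map_subtype, Subgroup.subgroupOf_map_subtype,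
    inf_eq_left.2 (le_sup_left : L ≤ N), inf_eq_left.2 (le_sup_right : H ≤ N)] at h

theorem hom_eq_one_of_perfect {A : Type*} [Group A] (hperf : commutator G = ⊤) (f : G →* A)
    (hA : ∀ x y : G, f x * f y = f y * f x) (x : G) : f x = 1 := by
  have h : commutator G ≤ f.ker := by
    rw [commutator_def, Subgroup.commutator_le]
    intro a _ b _
    rw [MonoidHom.mem_ker, map_commutatorElement, commutatorElement_eq_one_iff_mul_comm]
    exact hA a b
  exact (h (hperf.ge (Subgroup.mem_top x)) :)

theorem center_layer_eq [Finite G] :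
    (Subgroup.center (Cfsg.layer G)).map (Cfsg.layer G).subtype =
      Cfsg.fittingSubgroup G ⊓ Cfsg.layer G := by
  refine le_antisymm (le_inf ?_ (Subgroup.map_subtype_le _)) fun x hx => ?_
  · haveI := layer_normal (G := G)
    haveI := normal_map_subtype_of_characteristic (Subgroup.center (Cfsg.layer G))
    refine le_fittingSubgroup ?_
    haveI : Group.IsNilpotent (Subgroup.center (Cfsg.layer G)) := by
      open scoped IsMulCommutative in infer_instance
    exact Group.nilpotent_of_mulEquiv
      (Subgroup.equivMapOfInjective (Subgroup.center (Cfsg.layer G)) _ (Cfsg.layer G).subtype_injective)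
  · obtain ⟨hxF, hxE⟩ := Subgroup.mem_inf.1 hx
    refine ⟨⟨x, hxE⟩, Subgroup.mem_center_iff.2 fun y => Subtype.ext ?_, rfl⟩
    exact (Subgroup.mem_centralizer_iff.1
      (Subgroup.commutator_eq_bot_iff_le_centralizer.1 layer_commute_fitting y.2) x hxF).symm

theorem centralizer_fitting_le_iff [Finite G] :
    Subgroup.centralizer (Cfsg.fittingSubgroup G : Set G) ≤ Cfsg.fittingSubgroup G ↔
      Cfsg.layer G = ⊥ := by
  constructor
  · intro h
    rw [layer_eq_bot_iff]
    intro K hK
    haveI := fitting_nilpotent (G := G)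
    exact component_not_le_solvable hK (H := Cfsg.fittingSubgroup G) inferInstance
      (((component_le_layer hK).trans
        (Subgroup.commutator_eq_bot_iff_le_centralizer.1 layer_commute_fitting)).trans h)
  · intro h
    have e : Cfsg.generalizedFittingSubgroup G = Cfsg.fittingSubgroup G := by
      rw [Cfsg.generalizedFittingSubgroup, h, bot_sup_eq]
    exact e ▸ centralizer_genFitting_le

theorem genFitting_inf_normal [Finite G] (B : Subgroup G) [hBn : B.Normal] :
    Cfsg.generalizedFittingSubgroup G ⊓ B = (Cfsg.generalizedFittingSubgroup B).map B.subtype := by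
  refine le_antisymm ?_ ?_
  swap
  · refine le_inf ?_ (Subgroup.map_subtype_le _)
    rw [Cfsg.generalizedFittingSubgroup, Subgroup.map_sup]
    exact sup_le_sup (layer_map_subtype_le hBn.isSubnormal) (fitting_subnormal_map_le hBn.isSubnormal)
  set EB := (Cfsg.layer B).map B.subtype
  set E' : Subgroup G := sSup {K : Subgroup G | Cfsg.IsComponent K ∧ ¬ K ≤ B}
  have hE'B : E' ≤ Subgroup.centralizer (B : Set G) := sSup_le fun K hK =>
    Subgroup.commutator_eq_bot_iff_le_centralizer.1 ((component_le_or_commute hK.1 B).resolve_left hK.2)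
  have hE'E : E' ≤ Cfsg.layer G := sSup_le fun K hK => component_le_layer hK.1
  have hEB : EB ≤ Cfsg.layer G := layer_map_subtype_le hBn.isSubnormal
  have hEdec : Cfsg.layer G ≤ EB ⊔ E' := by
    refine sSup_le fun K hK => ?_
    by_cases hKB : K ≤ B
    · refine le_trans (fun x hx => ?_) le_sup_left
      exact ⟨⟨x, hKB hx⟩, component_le_layer (isComponent_subgroupOf hK hKB) hx, rfl⟩
    · exact le_sup_of_le_right (le_sSup ⟨hK, hKB⟩)
  intro x hx
  obtain ⟨hxF, hxB⟩ := Subgroup.mem_inf.1 hx
  haveI := fittingSubgroup_normal G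
  obtain ⟨e, he, f, hf, rfl⟩ : x ∈ (Cfsg.layer G : Set G) * (Cfsg.fittingSubgroup G : Set G) := by
    rw [← Subgroup.mul_normal]; exact hxF
  have hcomm : ∀ a ∈ EB, ∀ b ∈ E', a * b = b * a := fun a ha b hb =>
    Subgroup.mem_centralizer_iff.1 (hE'B hb) a (Subgroup.map_subtype_le _ ha)
  have hperm : (EB : Set G) * (E' : Set G) = (E' : Set G) * (EB : Set G) := by
    ext z
    constructor
    · rintro ⟨a, ha, b, hb, rfl⟩; exact ⟨b, hb, a, ha, (hcomm a ha b hb).symm⟩
    · rintro ⟨b, hb, a, ha, rfl⟩; exact ⟨a, ha, b, hb, hcomm a ha b hb⟩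
  obtain ⟨e1, he1, e2, he2, e12⟩ : e ∈ (EB : Set G) * (E' : Set G) := by
    rw [← coe_sup_of_permute hperm]; exact hEdec he
  have e12' : e1 * e2 = e := e12
  subst e12'
  have he1B : e1 ∈ B := Subgroup.map_subtype_le _ he1
  have hyB : e2 * f ∈ B := by
    have e' : e1⁻¹ * (e1 * e2 * f) = e2 * f := by group
    exact e' ▸ mul_mem (inv_mem he1B) hxB
  -- `e2` is central in the layer, hence lies in `F(G)`
  have hfE : ∀ y ∈ Cfsg.layer G, f * y = y * f := fun y hy =>
    Subgroup.mem_centralizer_iff.1
      (Subgroup.commutator_eq_bot_iff_le_centralizer.1 layer_commute_fitting hy) f hf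
  have he2c : ∀ y ∈ E', e2 * y = y * e2 := by
    intro y hy
    have h1 : e2 * f * y = y * (e2 * f) := Subgroup.mem_centralizer_iff.1 (hE'B hy) _ hyB
    refine mul_right_cancel (b := f) ?_
    calc e2 * y * f = e2 * (f * y) := by rw [mul_assoc, hfE y (hE'E hy)]
      _ = y * e2 * f := by rw [← mul_assoc, h1, mul_assoc]
  have he2F : e2 ∈ Cfsg.fittingSubgroup G := by
    have hcen : Cfsg.layer G ≤ Subgroup.centralizer ({e2} : Set G) := by
      refine hEdec.trans (sup_le (fun y hy => ?_) fun y hy => ?_)
      · rw [Subgroup.mem_centralizer_iff]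
        rintro z rfl
        exact (hcomm y hy z he2).symm
      · rw [Subgroup.mem_centralizer_iff]
        rintro z rfl
        exact he2c y hy
    have h2 : e2 ∈ (Subgroup.center (Cfsg.layer G)).map (Cfsg.layer G).subtype :=
      ⟨⟨e2, hE'E he2⟩, Subgroup.mem_center_iff.2 fun y => Subtype.ext
        (Subgroup.mem_centralizer_iff.1 (hcen y.2) e2 rfl).symm, rfl⟩
    rw [center_layer_eq] at h2
    exact (Subgroup.mem_inf.1 h2).1
  rw [Cfsg.generalizedFittingSubgroup, Subgroup.map_sup,
    map_fittingSubgroup_subtype_eq_inf B]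
  show e1 * e2 * f ∈ _
  rw [mul_assoc]
  exact Subgroup.mul_mem_sup he1 (Subgroup.mem_inf.2 ⟨mul_mem he2F hf, hyB⟩)

theorem genFitting_inf_subnormal [Finite G] {S : Subgroup G} (hS : S.IsSubnormal) :
    Cfsg.generalizedFittingSubgroup G ⊓ S = (Cfsg.generalizedFittingSubgroup S).map S.subtype := by
  refine le_antisymm ?_ ?_
  swap
  · refine le_inf ?_ (Subgroup.map_subtype_le _)
    rw [Cfsg.generalizedFittingSubgroup, Subgroup.map_sup]
    exact sup_le_sup (layer_map_subtype_le hS) (fitting_subnormal_map_le hS)
  induction hS with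
  | top =>
    rintro x ⟨hx, -⟩
    have h : (Cfsg.generalizedFittingSubgroup G).map (Subgroup.topEquiv (G := G)).symm.toMonoidHom ≤
        Cfsg.generalizedFittingSubgroup (⊤ : Subgroup G) := by
      rw [Cfsg.generalizedFittingSubgroup, Subgroup.map_sup]
      exact sup_le_sup (layer_map_le _) (map_fittingSubgroup_le (MulEquiv.surjective _))
    exact ⟨_, h ⟨x, hx, rfl⟩, rfl⟩
  | step A B hAB _ hn ih =>
    haveI := hn
    intro x hx
    obtain ⟨hxF, hxA⟩ := Subgroup.mem_inf.1 hx
    obtain ⟨y, hy, e⟩ := ih (Subgroup.mem_inf.2 ⟨hxF, hAB hxA⟩)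
    have e' : (y : G) = x := e
    have hy2 : y ∈ A.subgroupOf B := by rw [Subgroup.mem_subgroupOf, e']; exact hxA
    obtain ⟨z, hz, ez⟩ := (genFitting_inf_normal (A.subgroupOf B)).le (Subgroup.mem_inf.2 ⟨hy, hy2⟩)
    have h : (Cfsg.generalizedFittingSubgroup (A.subgroupOf B)).map
        (Subgroup.subgroupOfEquivOfLe hAB).toMonoidHom ≤ Cfsg.generalizedFittingSubgroup A := by
      rw [Cfsg.generalizedFittingSubgroup, Subgroup.map_sup]
      exact sup_le_sup (layer_map_le _) (map_fittingSubgroup_le (MulEquiv.surjective _))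
    refine ⟨_, h ⟨z, hz, rfl⟩, ?_⟩
    show ((z : B) : G) = x
    rw [← e', ← ez]
    rfl

theorem derivedSeries_genFitting_eq_layer [Finite G] :
    (⨅ n : ℕ, (derivedSeries (Cfsg.generalizedFittingSubgroup G) n).map
      (Cfsg.generalizedFittingSubgroup G).subtype) = Cfsg.layer G := by
  set F := Cfsg.generalizedFittingSubgroup G
  set E := Cfsg.layer G
  refine le_antisymm ?_ (le_iInf fun n => ?_)
  · haveI := layer_normal (G := G)
    haveI := fittingSubgroup_normal G
    set f : F →* G ⧸ E := (QuotientGroup.mk' E).comp F.subtype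
    set g : Cfsg.fittingSubgroup G →* G ⧸ E :=
      (QuotientGroup.mk' E).comp (Cfsg.fittingSubgroup G).subtype
    have hrange : f.range ≤ g.range := by
      rintro _ ⟨x, rfl⟩
      obtain ⟨e, he, y, hy, hxy⟩ : (x : G) ∈ (E : Set G) * (Cfsg.fittingSubgroup G : Set G) := by
        rw [← Subgroup.normal_mul]; exact x.2
      refine ⟨⟨y, hy⟩, ?_⟩
      show QuotientGroup.mk' E y = QuotientGroup.mk' E (x : G)
      rw [← (show e * y = (x : G) from hxy), map_mul,
        show QuotientGroup.mk' E e = 1 from (QuotientGroup.eq_one_iff e).2 he, one_mul]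
    haveI := fitting_nilpotent (G := G)
    haveI : Group.IsSolvable g.range := Group.isSolvable_of_surjective g.rangeRestrict_surjective
    haveI : Group.IsSolvable f.range :=
      Group.isSolvable_of_isSolvable_injective (Subgroup.inclusion_injective hrange)
    obtain ⟨n, hn⟩ := (Group.isSolvable_def f.range).1 inferInstance
    refine (iInf_le _ n).trans ?_
    rintro _ ⟨x, hx, rfl⟩
    have h1 : f.rangeRestrict x = 1 := by
      rw [← Subgroup.mem_bot, ← hn, ← map_derivedSeries_eq f.rangeRestrict_surjective n]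
      exact Subgroup.mem_map_of_mem _ hx
    exact (QuotientGroup.eq_one_iff _).1 (congrArg Subtype.val h1 :)
  · induction n with
    | zero =>
      intro x hx
      exact ⟨⟨x, layer_le_genFitting hx⟩, Subgroup.mem_top _, rfl⟩
    | succ n ih =>
      rw [derivedSeries_succ, Subgroup.map_commutator]
      exact (layer_perfect (G := G)).ge.trans (Subgroup.commutator_mono ih ih)

theorem perfect_layer_subnormal [Finite G] {A : Subgroup G} (hsn : A.IsSubnormal)
    (hA : Cfsg.layer A = ⊤) :
    A ≤ Cfsg.layer G ∧ (A.subgroupOf (Cfsg.layer G)).Normal := by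
  have hle : A ≤ Cfsg.layer G := fun x hx =>
    layer_map_subtype_le hsn ⟨⟨x, hx⟩, hA.ge (Subgroup.mem_top _), rfl⟩
  refine ⟨hle, (Subgroup.normal_subgroupOf_iff_le_normalizer hle).2 fun g hg => ?_⟩
  refine mem_normalizer_of_conj_smul_eq (Subgroup.eq_of_le_of_card_ge ?_ (by rw [card_conj_smul]))
  intro y hy
  obtain ⟨a, ha, rfl⟩ := (conj_smul_eq_map g A) ▸ hy
  have h : Cfsg.layer A ≤
      (A.comap (MulAut.conj g).toMonoidHom).comap A.subtype := by
    refine sSup_le fun K hK k hk => ?_
    have hn := le_normalizer_iff_forall_conj_mem.1 (component_normal_in_layer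
      (isComponent_map_subtype hsn hK)) g hg (k : G) ⟨k, hk, rfl⟩
    show g * (k : G) * g⁻¹ ∈ A
    exact Subgroup.map_subtype_le K hn
  exact h (hA.ge (Subgroup.mem_top (⟨a, ha⟩ : A)))

theorem card_le_factorial_genFitting [Finite G] :
    Nat.card G ≤ Nat.factorial (Nat.card (Cfsg.generalizedFittingSubgroup G)) := by
  classical
  set F := Cfsg.generalizedFittingSubgroup G
  haveI : F.Normal := genFitting_normal (G := G)
  set φ : G →* MulAut F := MulAut.conjNormal
  have hker : Nat.card φ.ker ≤ Nat.card F := by
    refine Subgroup.card_le_of_le fun g hg => centralizer_genFitting_le ?_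
    rw [Subgroup.mem_centralizer_iff]
    intro x hx
    have h1 : (φ g ⟨x, hx⟩ : F) = ⟨x, hx⟩ := by rw [MonoidHom.mem_ker.1 hg]; rfl
    have h2 : g * x * g⁻¹ = x := congrArg Subtype.val h1
    exact (mul_inv_eq_iff_eq_mul.1 h2).symm
  have haut : Nat.card (MulAut F) ≤ Nat.factorial (Nat.card F - 1) := by
    haveI := Fintype.ofFinite F
    let ψ : MulAut F → Equiv.Perm {x : F // x ≠ 1} := fun α =>
      α.toEquiv.subtypeEquiv fun x => by
        show x ≠ 1 ↔ α x ≠ 1
        rw [ne_eq, ne_eq, EmbeddingLike.map_eq_one_iff]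
    refine (Nat.card_le_card_of_injective ψ fun α β e => ?_).trans (le_of_eq ?_)
    · refine MulEquiv.ext fun x => ?_
      by_cases hx : x = 1
      · rw [hx, map_one, map_one]
      · exact congrArg Subtype.val (DFunLike.congr_fun e ⟨x, hx⟩)
    · rw [Nat.card_perm, Nat.card_eq_fintype_card, Nat.card_eq_fintype_card,
        Fintype.card_subtype_compl, Fintype.card_subtype_eq]
  have h1 : Nat.card φ.range ≤ Nat.card (MulAut F) := Subgroup.card_le_card_group _
  have h2 : Nat.card G = Nat.card φ.range * Nat.card φ.ker := by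
    rw [← Subgroup.index_ker φ, Subgroup.index_mul_card]
  calc Nat.card G = Nat.card φ.range * Nat.card φ.ker := h2
    _ ≤ Nat.factorial (Nat.card F - 1) * Nat.card F := Nat.mul_le_mul (h1.trans haut) hker
    _ = _ := by rw [mul_comm, Nat.mul_factorial_pred (Nat.card_pos (α := F)).ne']

theorem layer_normalizer_of_le_pCore [Finite G] {p : ℕ} [hp : Fact p.Prime] {P : Subgroup G}
    (hP : P ≤ Cfsg.pCore p G) :
    (Cfsg.layer (Subgroup.normalizer (P : Set G))).map (Subgroup.normalizer (P : Set G)).subtype =
      Cfsg.layer G := by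
  set N := Subgroup.normalizer (P : Set G)
  set Q := Cfsg.pCore p G
  haveI := pCore_normal G p
  have hQsol : Group.IsSolvable Q := by
    haveI := (pCore_isPGroup G p).isNilpotent; infer_instance
  have hEN : Cfsg.layer G ≤ N := (layer_le_centralizer_of_solvable (pCore_normal G p).isSubnormal
    hQsol).trans ((Subgroup.centralizer_le hP).trans (Subgroup.centralizer_le_normalizer _))
  refine le_antisymm ?_ (sSup_le fun K hK => ?_)
  swap
  · have hKN := (component_le_layer hK).trans hEN
    exact fun x hx => ⟨⟨x, hKN hx⟩, component_le_layer (isComponent_subgroupOf hK hKN) hx, rfl⟩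
  rw [Subgroup.map_le_iff_le_comap]
  refine sSup_le fun K hK => ?_
  rw [← Subgroup.map_le_iff_le_comap]
  set K' := K.map N.subtype with hK'
  by_contra hne
  have hKN : K' ≤ N := Subgroup.map_subtype_le K
  -- `K` centralises the layer
  have hKE : K' ≤ Subgroup.centralizer (Cfsg.layer G : Set G) := by
    haveI := layer_normal (G := G)
    rcases component_le_or_commute hK ((Cfsg.layer G).subgroupOf N) with h | h
    · exact absurd ((Subgroup.map_mono h).trans_eq (by
        rw [Subgroup.subgroupOf_map_subtype, inf_eq_left.2 hEN])) hne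
    · have := map_commutator_eq_bot.2 h
      rw [Subgroup.subgroupOf_map_subtype, inf_eq_left.2 hEN] at this
      exact Subgroup.commutator_eq_bot_iff_le_centralizer.1 this
  -- `K` centralises every `O_q(G)`
  have hKq : ∀ q : ℕ, q.Prime → K' ≤ Subgroup.centralizer (Cfsg.pCore q G : Set G) := by
    intro q hq
    haveI := Fact.mk hq
    haveI := pCore_normal G q
    by_cases hqp : q = p
    · subst hqp
      have hQNp : IsPGroup q (Q ⊓ N : Subgroup G) := (pCore_isPGroup G q).to_le inf_le_left
      have hQNs : Group.IsSolvable ((Q ⊓ N).subgroupOf N) := by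
        haveI := (hQNp.comap_of_injective N.subtype N.subtype_injective).isNilpotent
        exact (inferInstance : Group.IsSolvable ((Q ⊓ N).comap N.subtype))
      haveI : ((Q ⊓ N).subgroupOf N).Normal := by
        rw [Subgroup.inf_subgroupOf_right]; infer_instance
      have hKQN : K' ≤ Subgroup.centralizer ((Q ⊓ N : Subgroup G) : Set G) := by
        have h := map_commutator_eq_bot.2 (component_commute_solvable hK
          (inferInstance : ((Q ⊓ N).subgroupOf N).Normal).isSubnormal hQNs)
        rw [Subgroup.subgroupOf_map_subtype, inf_eq_left.2 (inf_le_right : Q ⊓ N ≤ N)] at h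
        exact Subgroup.commutator_eq_bot_iff_le_centralizer.1 h
      -- prime power elements of order prime to `q` centralise `Q`
      have hel : ∀ x ∈ K', (orderOf x).Coprime q → x ∈ Subgroup.centralizer (Q : Set G) := by
        intro x hx hxo
        have hPx : P ≤ Subgroup.centralizer (Subgroup.zpowers x : Set G) := by
          rw [Subgroup.le_centralizer_iff, Subgroup.zpowers_le]
          refine Subgroup.centralizer_le ?_ (hKQN hx)
          exact fun y hy => Subgroup.mem_inf.2 ⟨hP hy, Subgroup.le_normalizer hy⟩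
        have h := thompson_pq ((pCore_isPGroup G q).to_le hP) (Q := Subgroup.zpowers x)
          (by rw [Nat.card_zpowers]; exact hxo) hPx Q (pCore_isPGroup G q)
          (hP.trans Subgroup.le_normalizer) (Subgroup.normalizer_eq_top Q ▸ le_top) ?_
        · exact h (Subgroup.mem_zpowers x)
        · intro y hy
          obtain ⟨hyQ, hyP⟩ := Subgroup.mem_inf.1 hy
          refine Subgroup.mem_centralizer_iff.2 ?_
          rintro _ ⟨i, rfl⟩
          have h1 : y * x = x * y := Subgroup.mem_centralizer_iff.1 (hKQN hx) y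
            (Subgroup.mem_inf.2 ⟨hyQ, Subgroup.centralizer_le_normalizer _ hyP⟩)
          exact ((show Commute y x from h1).zpow_right i).symm
      -- and they generate the perfect group `K`
      set C := (Subgroup.centralizer (Q : Set G)).subgroupOf K'
      haveI hCn : C.Normal := by
        haveI : (Subgroup.centralizer (Q : Set G)).Normal := inferInstance
        exact Subgroup.normal_subgroupOf
      have hpq : IsPGroup q (K' ⧸ C) := by
        refine IsPGroup.of_card (Nat.eq_prime_pow_of_unique_prime_dvd Nat.card_pos.ne'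
          fun {r} hr hrd => ?_)
        by_contra hrq
        haveI := Fact.mk hr
        obtain ⟨y, hy⟩ := exists_prime_orderOf_dvd_card' (G := K' ⧸ C) r hrd
        obtain ⟨k, rfl⟩ := QuotientGroup.mk_surjective y
        have hrk : r ∣ orderOf (k : G) := by
          rw [← hy, Subgroup.orderOf_coe]; exact orderOf_map_dvd (QuotientGroup.mk' C) k
        -- take the `q'`-part of `k`
        set n := orderOf (k : G) with hn
        have hn0 : n ≠ 0 := (orderOf_pos _).ne'
        have hx : (k : G) ^ (q ^ n.factorization q) ∈ Subgroup.centralizer (Q : Set G) := by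
          refine hel _ (pow_mem k.2 _) ?_
          rw [orderOf_pow_of_dvd (pow_ne_zero _ hq.ne_zero) (Nat.ordProj_dvd n q)]
          exact (Nat.coprime_ordCompl hq hn0).symm
        have hx' : (QuotientGroup.mk k : K' ⧸ C) ^ (q ^ n.factorization q) = 1 := by
          rw [← QuotientGroup.mk_pow, QuotientGroup.eq_one_iff]; exact hx
        have h1 := orderOf_dvd_of_pow_eq_one hx'
        rw [hy] at h1
        exact hrq ((Nat.prime_dvd_prime_iff_eq hr hq).1 (hr.dvd_of_dvd_pow h1))
      haveI := hpq.isNilpotent
      have hperf : commutator K' = ⊤ :=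
        (quasisimple_congr (K.equivMapOfInjective _ N.subtype_injective) hK.2).1.commutator_eq_top
      intro x hx
      have h2 : C = ⊤ := by
        by_contra hC
        haveI : Nontrivial (K' ⧸ C) := QuotientGroup.nontrivial_iff.2 hC
        have h3 := (inferInstance : Group.IsSolvable (K' ⧸ C)).commutator_lt_top_of_nontrivial
        rw [← map_derivedSeries_one_eq (QuotientGroup.mk'_surjective C), hperf,
          Subgroup.map_top_of_surjective _ (QuotientGroup.mk'_surjective C)] at h3
        exact h3.ne rfl
      exact (h2.ge (Subgroup.mem_top (⟨x, hx⟩ : K')) :)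
    · have hqN : Cfsg.pCore q G ≤ N := by
        refine le_trans ?_ (Subgroup.centralizer_le_normalizer _)
        refine le_trans ?_ (Subgroup.centralizer_le hP)
        rw [← Subgroup.commutator_eq_bot_iff_le_centralizer, eq_bot_iff]
        exact (Subgroup.commutator_le_inf _ _).trans (IsPGroup.disjoint_of_ne q p hqp _ _
          (pCore_isPGroup G q) (pCore_isPGroup G p)).le_bot
      haveI : Group.IsSolvable ((Cfsg.pCore q G).subgroupOf N) := by
        haveI := ((pCore_isPGroup G q).comap_of_injective N.subtype N.subtype_injective).isNilpotent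
        exact (inferInstance : Group.IsSolvable ((Cfsg.pCore q G).comap N.subtype))
      haveI : ((Cfsg.pCore q G).subgroupOf N).Normal := Subgroup.normal_subgroupOf
      have h := map_commutator_eq_bot.2 (component_commute_solvable hK
        (inferInstance : ((Cfsg.pCore q G).subgroupOf N).Normal).isSubnormal inferInstance)
      rw [Subgroup.subgroupOf_map_subtype, inf_eq_left.2 hqN] at h
      exact Subgroup.commutator_eq_bot_iff_le_centralizer.1 h
  -- so `K` centralises, hence lies in, `F*(G)`, and is commutative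
  have hKF : K' ≤ Subgroup.centralizer (Cfsg.generalizedFittingSubgroup G : Set G) := by
    rw [Subgroup.le_centralizer_iff, Cfsg.generalizedFittingSubgroup]
    refine sup_le (Subgroup.le_centralizer_iff.1 hKE) ?_
    rw [fittingSubgroup_eq_iSup_pCore]
    exact iSup_le fun q => Subgroup.le_centralizer_iff.1 (hKq q q.2)
  have hcomm : ∀ a ∈ K', ∀ b ∈ K', a * b = b * a := fun a ha b hb =>
    Subgroup.mem_centralizer_iff.1 (hKF hb) a (centralizer_genFitting_le (hKF ha))
  exact quasisimple_not_solvable
    (quasisimple_congr (K.equivMapOfInjective _ N.subtype_injective) hK.2)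
    (Group.isSolvable_of_comm fun a b => Subtype.ext (hcomm a a.2 b b.2))
where
  map_derivedSeries_one_eq {H H' : Type _} [Group H] [Group H'] {f : H →* H'}
      (hf : Function.Surjective f) : (commutator H).map f = commutator H' := by
    rw [commutator_def, commutator_def, Subgroup.map_commutator, Subgroup.map_top_of_surjective f hf]

end CfsgLib.Solv
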