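import Cfsg.Agent.Solv.MinimalNormal
import Mathlib.GroupTheory.IsSubnormal

/-!
Subnormal subgroups: minimal normal subgroups normalise them; consequences for maximal subgroups.
-/

set_option autoImplicit false
set_option linter.style.haveILetI false
set_option linter.deprecated false
set_option linter.unusedSectionVars false

open scoped commutatorElement Pointwise

namespace CfsgLib.Solv

universe u

theorem minimalNormal_le_normalizer_subnormal_aux : ∀ (n : ℕ) (G : Type u) [Group G] [Finite G],
    Nat.card G = n → ∀ T L : Subgroup G, T.IsSubnormal → IsMinimalNormal L →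
      L ≤ Subgroup.normalizer (T : Set G) := by
  intro n
  induction n using Nat.strong_induction_on with
  | _ n IH =>
    intro G _ _ hn T L hT hL
    rcases hT.lt_normal with rfl | ⟨N, hN, hTN, hNtop⟩
    · rw [show Subgroup.normalizer ((⊤ : Subgroup G) : Set G) = ⊤ from Subgroup.normalizer_eq_top _]
      exact le_top
    haveI := hN
    haveI := hL.1
    rcases hL.eq_or_inf_eq_bot (N := N) with hle | hd
    · obtain ⟨L0, hL0, hL0le⟩ := exists_isMinimalNormal_le (L.subgroupOf N)
        (fun hb => hL.2.1 (by
          rw [← Subgroup.map_subgroupOf_eq_of_le hle, hb, Subgroup.map_bot]))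
      set S : Subgroup G := ⨆ g : G, MulAut.conj g • L0.map N.subtype with hS
      have hSn : S.Normal := normal_of_forall_conj_smul_eq fun a => by
        rw [hS, conj_smul_eq_map, Subgroup.map_iSup]
        simp only [← conj_smul_eq_map, ← mul_smul, ← map_mul]
        exact (Equiv.mulLeft a).iSup_comp (g := fun g => MulAut.conj g • L0.map N.subtype)
      have hconjN : ∀ g : G, MulAut.conj g • L0.map N.subtype ≤ N := fun g x hx => by
        rw [mem_conj_smul_iff] at hx
        obtain ⟨y, _, e⟩ := hx
        have := hN.conj_mem y y.2 g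
        rw [show (y : G) = g⁻¹ * x * g from e] at this
        simpa [mul_assoc] using this
      have hSL : S ≤ L := iSup_le fun g x hx => by
        rw [mem_conj_smul_iff] at hx
        obtain ⟨y, hy, e⟩ := hx
        have := hL.1.conj_mem y (hL0le hy) g
        rw [show (y : G) = g⁻¹ * x * g from e] at this
        simpa [mul_assoc] using this
      have hS1 : L0.map N.subtype ≤ S := le_trans (le_of_eq (by rw [map_one, one_smul]))
        (le_iSup (fun g => MulAut.conj g • L0.map N.subtype) 1)
      have hSeq : S = L := (hL.2.2 S hSn hSL).resolve_left fun hb => hL0.2.1 (by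
        rw [hb, le_bot_iff, Subgroup.map_eq_bot_iff_of_injective _ N.subtype_injective] at hS1
        exact hS1)
      rw [← hSeq]
      refine iSup_le fun g => ?_
      set T' := MulAut.conj g⁻¹ • T with hT'
      have hT'N : T' ≤ N := fun x hx => by
        rw [hT', mem_conj_smul_iff, inv_inv] at hx
        have := hN.conj_mem _ (hTN hx) g⁻¹
        simpa [mul_assoc] using this
      have hT's : (T'.subgroupOf N).IsSubnormal :=
        (hT.smul (g := MulAut.conj g⁻¹)).subgroupOf
      have hlt : Nat.card N < n := hn ▸ card_lt_of_ne_top hNtop.ne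
      have hind := IH _ hlt N rfl (T'.subgroupOf N) L0 hT's hL0
      intro x hx
      rw [mem_conj_smul_iff] at hx
      obtain ⟨y, hy, e⟩ := hx
      have hy' : (y : G) ∈ Subgroup.normalizer (T' : Set G) := Subgroup.mem_normalizer_iff.2 fun z => by
        constructor
        · intro hz
          exact (Subgroup.mem_normalizer_iff.1 (hind hy) ⟨z, hT'N hz⟩).1 hz
        · intro hz
          have hzN : z ∈ N := by
            have := hN.conj_mem _ (hT'N hz) (y : G)⁻¹
            simpa [mul_assoc] using this
          exact (Subgroup.mem_normalizer_iff.1 (hind hy) ⟨z, hzN⟩).2 hz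
      refine mem_normalizer_of_conj_smul_eq ?_
      have e' : x = g * (y : G) * g⁻¹ := by
        rw [show (y : G) = g⁻¹ * x * g from e]; group
      have h2 : MulAut.conj (y : G) • T' = T' := conj_smul_eq_self_of_mem_normalizer hy'
      rw [hT', ← mul_smul, ← map_mul] at h2
      rw [e', map_mul, map_mul, mul_smul, mul_smul, ← mul_smul (MulAut.conj (y : G)), ← map_mul, h2,
        ← mul_smul, ← map_mul, mul_inv_cancel, map_one, one_smul]
    · intro x hx
      have hc : ∀ t ∈ T, x * t = t * x := fun t ht =>
        Subgroup.commute_of_normal_of_disjoint L N hL.1 hN (disjoint_iff.2 hd) x t hx (hTN ht)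
      exact Subgroup.centralizer_le_normalizer _ (Subgroup.mem_centralizer_iff.2 fun t ht => (hc t ht).symm)

/-- A minimal normal subgroup normalises every subnormal subgroup. -/
theorem minimalNormal_le_normalizer_subnormal {G : Type u} [Group G] [Finite G] {T L : Subgroup G}
    (hT : T.IsSubnormal) (hL : IsMinimalNormal L) : L ≤ Subgroup.normalizer (T : Set G) :=
  minimalNormal_le_normalizer_subnormal_aux _ G rfl T L hT hL

/-- A subnormal subgroup inside a maximal subgroup lies in its core. -/
theorem subnormal_le_normalCore {G : Type u} [Group G] [Finite G] {M N : Subgroup G}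
    (hM : IsCoatom M) (hN : N.IsSubnormal) (hNM : N ≤ M) : N ≤ M.normalCore := by
  set f := QuotientGroup.mk' M.normalCore with hf
  have hfs : Function.Surjective f := QuotientGroup.mk'_surjective _
  have hker : f.ker ≤ M := by rw [hf, QuotientGroup.ker_mk']; exact M.normalCore_le
  have hcomap : (M.map f).comap f = M := Subgroup.comap_map_eq_self hker
  rcases subsingleton_or_nontrivial (G ⧸ M.normalCore) with hs | hs
  · exfalso
    refine hM.1 (top_unique fun x _ => M.normalCore_le ?_)
    rw [← QuotientGroup.eq_one_iff]
    exact Subsingleton.elim _ _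
  obtain ⟨L, hL⟩ := exists_isMinimalNormal (G := G ⧸ M.normalCore)
  have hnorm := minimalNormal_le_normalizer_subnormal (hN.map hfs) hL
  have hLM : ¬ L ≤ M.map f := fun h => by
    haveI := hL.1
    have h1 : L.comap f ≤ M.normalCore :=
      Subgroup.normal_le_normalCore.2 ((Subgroup.comap_mono h).trans hcomap.le)
    refine hL.2.1 (le_bot_iff.1 ?_)
    rw [← Subgroup.map_comap_eq_self_of_surjective hfs L]
    refine (Subgroup.map_mono h1).trans (le_of_eq ?_)
    rw [Subgroup.map_eq_bot_iff, hf, QuotientGroup.ker_mk']
  have hsup : L ⊔ M.map f = ⊤ := by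
    have h1 : M < (L ⊔ M.map f).comap f := lt_of_le_of_ne
      (hcomap.symm.le.trans (Subgroup.comap_mono le_sup_right)) fun e => hLM (by
        have h3 := Subgroup.map_comap_eq_self_of_surjective hfs (L ⊔ M.map f)
        rw [← e] at h3
        exact le_trans le_sup_left h3.symm.le)
    have h2 := hM.2 _ h1
    rw [← Subgroup.map_comap_eq_self_of_surjective hfs (L ⊔ M.map f), h2,
      Subgroup.map_top_of_surjective f hfs]
  intro x hx
  show ∀ g : G, g * x * g⁻¹ ∈ M
  intro g
  haveI := hL.1
  have hg : f g ∈ L ⊔ M.map f := hsup ▸ Subgroup.mem_top _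
  obtain ⟨m, hm, l, hl, e⟩ := Subgroup.mem_sup_of_normal_right.1 (sup_comm L (M.map f) ▸ hg)
  rw [← hcomap, Subgroup.mem_comap, map_mul, map_mul, map_inv, ← e]
  have h1 : l * f x * l⁻¹ ∈ N.map f :=
    (Subgroup.mem_normalizer_iff.1 (hnorm hl) (f x)).1 ⟨x, hx, rfl⟩
  have h2 : m * l * f x * (m * l)⁻¹ = m * (l * f x * l⁻¹) * m⁻¹ := by group
  rw [h2]
  exact mul_mem (mul_mem hm (Subgroup.map_mono hNM h1)) (inv_mem hm)

end CfsgLib.Solv
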