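import Cfsg.Agent.Solv.PGroups

/-!
The Thompson subgroup `J(P)` inside an ambient group, replacement, quadratic elements.
-/

set_option autoImplicit false
set_option linter.style.haveILetI false
set_option linter.deprecated false
set_option linter.unusedSectionVars false

open scoped commutatorElement Pointwise

namespace CfsgLib.Solv

variable {G G' : Type*} [Group G] [Group G'] {p : ℕ}

/-- `A` is an elementary abelian subgroup of `P` of largest order. -/
def MaxEA (p : ℕ) (P A : Subgroup G) : Prop :=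
  A ≤ P ∧ Cfsg.IsElementaryAbelian p A ∧
    ∀ B : Subgroup G, B ≤ P → Cfsg.IsElementaryAbelian p B → Nat.card B ≤ Nat.card A

theorem isElementaryAbelian_map {f : G →* G'} {A : Subgroup G} (h : Cfsg.IsElementaryAbelian p A) :
    Cfsg.IsElementaryAbelian p (A.map f) := by
  haveI := h.1
  refine ⟨Subgroup.map_isMulCommutative A f, ?_⟩
  rintro _ ⟨a, ha, rfl⟩
  rw [← map_pow, h.2 a ha, map_one]

theorem isElementaryAbelian_of_le {A B : Subgroup G} (h : Cfsg.IsElementaryAbelian p B) (hle : A ≤ B) :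
    Cfsg.IsElementaryAbelian p A :=
  ⟨⟨⟨fun a b => Subtype.ext (congrArg Subtype.val
    (h.1.is_comm.comm ⟨a, hle a.2⟩ ⟨b, hle b.2⟩) :)⟩⟩, fun a ha => h.2 a (hle ha)⟩

theorem isElementaryAbelian_subgroupOf {A H : Subgroup G} (h : Cfsg.IsElementaryAbelian p A) :
    Cfsg.IsElementaryAbelian p (A.subgroupOf H) :=
  ⟨⟨⟨fun x y => Subtype.ext (Subtype.ext (congrArg Subtype.val
    (h.1.is_comm.comm ⟨_, x.2⟩ ⟨_, y.2⟩) :))⟩⟩, fun a ha => Subtype.ext (h.2 _ ha)⟩

theorem thompsonSubgroupOf_eq (p : ℕ) (P : Subgroup G) :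
    Cfsg.thompsonSubgroupOf p P = ⨆ A, ⨆ (_ : MaxEA p P A), A := by
  refine le_antisymm ?_ (iSup₂_le fun A hA => ?_)
  · rw [Cfsg.thompsonSubgroupOf, Subgroup.map_le_iff_le_comap]
    refine sSup_le fun A hA => ?_
    rw [← Subgroup.map_le_iff_le_comap]
    refine le_iSup₂_of_le (A.map P.subtype)
      ⟨Subgroup.map_subtype_le A, isElementaryAbelian_map hA.1, fun B hB hBe => ?_⟩ le_rfl
    rw [card_map_subtype, ← card_subgroupOf hB]
    exact hA.2 _ (isElementaryAbelian_subgroupOf hBe)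
  · obtain ⟨hAP, hAe, hmax⟩ := hA
    have hmem : A.subgroupOf P ∈ Cfsg.maxElementaryAbelianSubgroups p P := by
      refine ⟨isElementaryAbelian_subgroupOf hAe, fun B hBe => ?_⟩
      rw [card_subgroupOf hAP, ← card_map_subtype]
      exact hmax _ (Subgroup.map_subtype_le B) (isElementaryAbelian_map hBe)
    intro a ha
    exact ⟨⟨a, hAP ha⟩, le_sSup hmem (show (⟨a, hAP ha⟩ : P) ∈ A.subgroupOf P from ha), rfl⟩

theorem MaxEA.le_thompsonSubgroupOf {P A : Subgroup G} (h : MaxEA p P A) :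
    A ≤ Cfsg.thompsonSubgroupOf p P := by
  rw [thompsonSubgroupOf_eq]; exact le_iSup₂_of_le A h le_rfl

theorem thompsonSubgroupOf_le (P : Subgroup G) : Cfsg.thompsonSubgroupOf p P ≤ P :=
  Subgroup.map_subtype_le _

theorem exists_maxEA [Finite G] (P : Subgroup G) : ∃ A, MaxEA p P A := by
  obtain ⟨A, ⟨hA1, hA2⟩, hA3⟩ := Set.exists_max_image
    {A : Subgroup G | A ≤ P ∧ Cfsg.IsElementaryAbelian p A} (fun A => Nat.card A) (Set.toFinite _)
    ⟨⊥, bot_le, ⟨⟨fun a b => Subsingleton.elim _ _⟩⟩, fun a ha => by rw [Subgroup.mem_bot.1 ha, one_pow]⟩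
  exact ⟨A, hA1, hA2, fun B h1 h2 => hA3 B ⟨h1, h2⟩⟩

/-- A map injective on `P` carries `J(P)` to the Thompson subgroup of the image. -/
theorem map_thompsonSubgroupOf [Finite G] (f : G →* G') (P : Subgroup G)
    (hinj : Set.InjOn f (P : Set G)) :
    (Cfsg.thompsonSubgroupOf p P).map f = Cfsg.thompsonSubgroupOf p (P.map f) := by
  have hcard : ∀ A : Subgroup G, A ≤ P → Nat.card (A.map f) = Nat.card A := fun A hA =>
    (Nat.card_congr (Equiv.Set.imageOfInjOn f (A : Set G) (hinj.mono hA))).symm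
  have hback : ∀ B : Subgroup G', B ≤ P.map f → Cfsg.IsElementaryAbelian p B →
      ∃ A : Subgroup G, A ≤ P ∧ Cfsg.IsElementaryAbelian p A ∧ A.map f = B := by
    intro B hB hBe
    refine ⟨B.comap f ⊓ P, inf_le_right, ⟨⟨⟨fun x y => Subtype.ext ?_⟩⟩, fun x hx => ?_⟩, ?_⟩
    · obtain ⟨hx1, hx2⟩ := Subgroup.mem_inf.1 x.2
      obtain ⟨hy1, hy2⟩ := Subgroup.mem_inf.1 y.2
      refine hinj (mul_mem hx2 hy2) (mul_mem hy2 hx2) ?_
      show f ((x : G) * y) = f ((y : G) * x)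
      rw [map_mul, map_mul]
      exact congrArg Subtype.val (hBe.1.is_comm.comm ⟨_, hx1⟩ ⟨_, hy1⟩)
    · obtain ⟨hx1, hx2⟩ := Subgroup.mem_inf.1 hx
      refine hinj (pow_mem hx2 p) (one_mem P) ?_
      rw [map_pow, map_one]; exact hBe.2 _ hx1
    · refine le_antisymm ?_ fun b hb => ?_
      · rintro _ ⟨x, hx, rfl⟩; exact (Subgroup.mem_inf.1 hx).1
      · obtain ⟨x, hx, rfl⟩ := hB hb
        exact ⟨x, Subgroup.mem_inf.2 ⟨hb, hx⟩, rfl⟩
  refine le_antisymm ?_ ?_
  · rw [thompsonSubgroupOf_eq, Subgroup.map_iSup]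
    refine iSup_le fun A => ?_
    rw [Subgroup.map_iSup]
    refine iSup_le fun ⟨hAP, hAe, hmax⟩ => MaxEA.le_thompsonSubgroupOf
      ⟨Subgroup.map_mono hAP, isElementaryAbelian_map hAe, fun B hB hBe => ?_⟩
    obtain ⟨A', hA', hA'e, rfl⟩ := hback B hB hBe
    rw [hcard A' hA', hcard A hAP]
    exact hmax A' hA' hA'e
  · rw [thompsonSubgroupOf_eq p (P.map f)]
    refine iSup₂_le fun B ⟨hB, hBe, hmax⟩ => ?_
    obtain ⟨A, hA, hAe, rfl⟩ := hback B hB hBe
    refine Subgroup.map_mono (MaxEA.le_thompsonSubgroupOf ⟨hA, hAe, fun A' hA' hA'e => ?_⟩)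
    rw [← hcard A hA, ← hcard A' hA']
    exact hmax _ (Subgroup.map_mono hA') (isElementaryAbelian_map hA'e)

theorem map_conj_thompsonSubgroupOf [Finite G] (g : G) (P : Subgroup G) :
    (Cfsg.thompsonSubgroupOf p P).map (MulAut.conj g).toMonoidHom =
      Cfsg.thompsonSubgroupOf p (P.map (MulAut.conj g).toMonoidHom) :=
  map_thompsonSubgroupOf _ P (MulAut.conj g).injective.injOn

theorem normalizer_le_normalizer_thompsonSubgroupOf [Finite G] (P : Subgroup G) :
    Subgroup.normalizer (P : Set G) ≤ Subgroup.normalizer (Cfsg.thompsonSubgroupOf p P : Set G) := by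
  intro g hg
  refine mem_normalizer_of_conj_smul_eq ?_
  rw [conj_smul_eq_map, map_conj_thompsonSubgroupOf, ← conj_smul_eq_map g P,
    conj_smul_eq_self_of_mem_normalizer hg]

theorem exists_orderOf_eq [Finite G] [hp : Fact p.Prime] {P : Subgroup G} (hP : IsPGroup p P)
    (hne : P ≠ ⊥) : ∃ x ∈ P, orderOf x = p := by
  haveI : Nontrivial P := (Subgroup.nontrivial_iff_ne_bot P).2 hne
  obtain ⟨k, hk0, hk⟩ := hP.nontrivial_iff_card.1 inferInstance
  obtain ⟨x, hx⟩ := exists_prime_orderOf_dvd_card' (G := P) p (hk ▸ dvd_pow_self p hk0.ne')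
  exact ⟨x, x.2, by rw [Subgroup.orderOf_coe, hx]⟩

theorem thompsonSubgroupOf_ne_bot [Finite G] [hp : Fact p.Prime] {P : Subgroup G} (hP : IsPGroup p P)
    (hne : P ≠ ⊥) : Cfsg.thompsonSubgroupOf p P ≠ ⊥ := by
  intro hb
  obtain ⟨A, hA⟩ := exists_maxEA (p := p) P
  have hAb : A = ⊥ := le_bot_iff.1 (hb ▸ hA.le_thompsonSubgroupOf)
  obtain ⟨x, hx, hxo⟩ := exists_orderOf_eq hP hne
  have h := hA.2.2 (Subgroup.zpowers x) (Subgroup.zpowers_le.2 hx)
    ⟨inferInstance, fun a ⟨i, hi⟩ => by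
      rw [← hi, ← zpow_natCast, ← zpow_mul, mul_comm, zpow_mul, zpow_natCast, ← hxo,
        pow_orderOf_eq_one, one_zpow]⟩
  rw [hAb, Subgroup.card_bot, Nat.card_zpowers, hxo] at h
  exact absurd hp.out.one_lt (not_lt.2 h)

/-- If `J(P) ≤ U` for a normal subgroup `U ≤ P`, then `J(P)` is normal. -/
theorem thompsonSubgroupOf_normal_of_le [Finite G] {P U : Subgroup G} [U.Normal] (hUP : U ≤ P)
    (hle : ∀ A, MaxEA p P A → A ≤ U) : (Cfsg.thompsonSubgroupOf p P).Normal := by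
  have e : Cfsg.thompsonSubgroupOf p P = Cfsg.thompsonSubgroupOf p U := by
    obtain ⟨A0, hA0⟩ := exists_maxEA (p := p) P
    rw [thompsonSubgroupOf_eq, thompsonSubgroupOf_eq]
    refine le_antisymm (iSup₂_le fun A hA => le_iSup₂_of_le A
      ⟨hle A hA, hA.2.1, fun B hB => hA.2.2 B (hB.trans hUP)⟩ le_rfl) (iSup₂_le fun A hA => ?_)
    exact le_iSup₂_of_le A ⟨hA.1.trans hUP, hA.2.1, fun B hB hBe =>
      (hA0.2.2 B hB hBe).trans (hA.2.2 A0 (hle A0 hA0) hA0.2.1)⟩ le_rfl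
  rw [e, ← Subgroup.normalizer_eq_top_iff, eq_top_iff,
    ← Subgroup.normalizer_eq_top (H := U)]
  exact normalizer_le_normalizer_thompsonSubgroupOf U

/-- Thompson replacement: if an abelian normal elementary subgroup `V ≤ P` does not normalise a
largest elementary abelian `A`, some other one meets `V` in more and normalises `A`. -/
theorem thompson_replacement [Finite G] [Fact p.Prime] {P V A : Subgroup G} [V.Normal]
    (hP : IsPGroup p P) (hVP : V ≤ P) (hV : Cfsg.IsElementaryAbelian p V) (hA : MaxEA p P A)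
    (hnot : ¬ V ≤ Subgroup.normalizer (A : Set G)) :
    ∃ B, MaxEA p P B ∧ A ⊓ V < B ⊓ V ∧ B ≤ Subgroup.normalizer (A : Set G) := by
  have hVc : ∀ {x y : G}, x ∈ V → y ∈ V → x * y = y * x := fun hx hy =>
    congrArg Subtype.val (hV.1.is_comm.comm ⟨_, hx⟩ ⟨_, hy⟩)
  have hAc : ∀ {x y : G}, x ∈ A → y ∈ A → x * y = y * x := fun hx hy =>
    congrArg Subtype.val (hA.2.1.1.is_comm.comm ⟨_, hx⟩ ⟨_, hy⟩)
  set N := V ⊓ Subgroup.normalizer (A : Set G) with hN
  -- an element of `V` outside `N` fixed by `A` modulo `N`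
  set L := V ⊔ A with hL
  have hLP : L ≤ P := sup_le hVP hA.1
  have hNn : (N.subgroupOf L).Normal := by
    rw [Subgroup.normal_subgroupOf_iff_le_normalizer (inf_le_left.trans le_sup_left)]
    refine sup_le (fun v hv => Subgroup.centralizer_le_normalizer _ ?_) fun a ha => ?_
    · exact Subgroup.mem_centralizer_iff.2 fun n hn => hVc (Subgroup.mem_inf.1 hn).1 hv
    · exact le_normalizer_iff_forall_conj_mem.2 (fun a ha n hn => Subgroup.mem_inf.2
        ⟨(inferInstance : V.Normal).conj_mem n (Subgroup.mem_inf.1 hn).1 a,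
          mul_mem (mul_mem (Subgroup.le_normalizer ha) (Subgroup.mem_inf.1 hn).2)
            (inv_mem (Subgroup.le_normalizer ha))⟩) ha
  haveI := hNn
  have hnle : ¬ V.subgroupOf L ≤ N.subgroupOf L := fun h => hnot fun v hv =>
    (Subgroup.mem_inf.1 (h (show (⟨v, Subgroup.mem_sup_left hv⟩ : L) ∈ V.subgroupOf L from hv))).2
  obtain ⟨⟨v, hvL⟩, hv, hvN, -, hvg⟩ := exists_central_mod (hP.to_le hLP) hnle
  have hvV : v ∈ V := by
    have hNV : N.subgroupOf L ≤ V.subgroupOf L := fun y hy => (Subgroup.mem_inf.1 hy).1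
    rw [sup_eq_left.2 hNV] at hv
    exact hv
  have hvA : v ∉ Subgroup.normalizer (A : Set G) := fun h => hvN (Subgroup.mem_inf.2 ⟨hvV, h⟩)
  have hcN : ∀ a ∈ A, ⁅v, a⁆ ∈ N := fun a ha => hvg ⟨a, Subgroup.mem_sup_right ha⟩
  set M := Subgroup.closure ((fun a => ⁅v, a⁆) '' (A : Set G)) with hM
  have hMN : M ≤ N := (Subgroup.closure_le _).2 (by rintro _ ⟨a, ha, rfl⟩; exact hcN a ha)
  have hMV : M ≤ V := hMN.trans inf_le_left
  set C := A ⊓ Subgroup.centralizer (M : Set G) with hC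
  have hMC : ∀ m ∈ M, ∀ c ∈ C, m * c = c * m := fun m hm c hc =>
    Subgroup.mem_centralizer_iff.1 (Subgroup.mem_inf.1 hc).2 m hm
  have hCM : C ≤ Subgroup.normalizer (M : Set G) :=
    (inf_le_right : C ≤ _).trans (Subgroup.centralizer_le_normalizer _)
  set B := C ⊔ M with hB
  have hBmem : ∀ b ∈ B, ∃ c ∈ C, ∃ m ∈ M, b = c * m := by
    intro b hb
    rw [← SetLike.mem_coe, Subgroup.coe_mul_of_left_le_normalizer_right C M hCM] at hb
    obtain ⟨c, hc, m, hm, rfl⟩ := hb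
    exact ⟨c, hc, m, hm, rfl⟩
  have hBea : Cfsg.IsElementaryAbelian p B := by
    refine ⟨⟨⟨fun x y => Subtype.ext ?_⟩⟩, fun b hb => ?_⟩
    · obtain ⟨c, hc, m, hm, ex⟩ := hBmem x x.2
      obtain ⟨c', hc', m', hm', ey⟩ := hBmem y y.2
      show (x : G) * y = y * x
      rw [ex, ey]
      have h1 : Commute c c' := hAc (Subgroup.mem_inf.1 hc).1 (Subgroup.mem_inf.1 hc').1
      have h2 : Commute m c' := hMC m hm c' hc'
      have h3 : Commute c m' := (hMC m' hm' c hc).symm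
      have h4 : Commute m m' := hVc (hMV hm) (hMV hm')
      exact ((h1.mul_right h3).mul_left (h2.mul_right h4)).eq
    · obtain ⟨c, hc, m, hm, rfl⟩ := hBmem b hb
      rw [(show Commute c m from (hMC m hm c hc).symm).mul_pow, hA.2.1.2 c (Subgroup.mem_inf.1 hc).1,
        hV.2 m (hMV hm), one_mul]
  have hBP : B ≤ P := sup_le (inf_le_left.trans hA.1) (hMV.trans hVP)
  have hBN : B ≤ Subgroup.normalizer (A : Set G) :=
    sup_le (inf_le_left.trans Subgroup.le_normalizer) (hMN.trans inf_le_right)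
  -- the order does not drop
  have hgen : ∀ x ∈ A, ⁅v, x⁆ ∈ M := fun x hx => Subgroup.subset_closure ⟨x, hx, rfl⟩
  have hinj : C.relIndex A ≤ (A ⊓ M).relIndex M := by
    let φ : A → (M ⧸ (A ⊓ M).subgroupOf M) := fun a => QuotientGroup.mk ⟨⁅v, (a : G)⁆, hgen a a.2⟩
    refine Nat.card_le_card_of_injective (fun q : A ⧸ C.subgroupOf A => φ q.out) fun q q' he => ?_
    rw [← QuotientGroup.out_eq' q, ← QuotientGroup.out_eq' q']
    refine QuotientGroup.eq.2 ?_
    set a := q.out with ha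
    set b := q'.out with hb
    have hm : ⁅v, (a : G)⁆⁻¹ * ⁅v, (b : G)⁆ ∈ A :=
      (Subgroup.mem_inf.1 (QuotientGroup.eq.1 he : _ ∈ (A ⊓ M).subgroupOf M)).1
    show (a : G)⁻¹ * b ∈ C
    set w := (a : G)⁻¹ * b with hw
    have hwA : w ∈ A := mul_mem (inv_mem a.2) b.2
    have hvwA : ⁅v, w⁆ ∈ A := by
      have e2 : ⁅v, (a : G)⁆⁻¹ * ⁅v, (b : G)⁆ = (a : G) * ⁅v, w⁆ * (a : G)⁻¹ := by
        rw [hw]; simp [commutatorElement_def, mul_assoc]
      rw [e2] at hm
      have := mul_mem (mul_mem (inv_mem a.2) hm) a.2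
      simpa [mul_assoc] using this
    refine Subgroup.mem_inf.2 ⟨hwA, ?_⟩
    suffices hle : M ≤ Subgroup.centralizer ({w} : Set G) from
      Subgroup.mem_centralizer_iff.2 fun m hm' => Subgroup.mem_centralizer_singleton_iff.1 (hle hm')
    refine (Subgroup.closure_le _).2 ?_
    rintro _ ⟨c, hc, rfl⟩
    refine Subgroup.mem_centralizer_singleton_iff.2 ?_
    set z := ⁅w, v⁆ with hz
    have hzA : z ∈ A := by rw [hz, ← commutatorElement_inv]; exact inv_mem hvwA
    have hzV : z ∈ V := by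
      rw [hz, commutatorElement_def]
      exact mul_mem ((inferInstance : V.Normal).conj_mem v hvV w) (inv_mem hvV)
    have key : w * ⁅v, c⁆ * w⁻¹ = ⁅v, c⁆ := by
      calc w * ⁅v, c⁆ * w⁻¹ = (w * v * w⁻¹) * ((w * c * w⁻¹) * (w * v * w⁻¹)⁻¹ * (w * c * w⁻¹)⁻¹) := by
            simp [commutatorElement_def, mul_assoc]
        _ = (z * v) * (c * (z * v)⁻¹ * c⁻¹) := by
            rw [hAc hwA hc, mul_inv_cancel_right, conj_eq_commutator_mul]
        _ = z * v * c * v⁻¹ * (z⁻¹ * c⁻¹) := by group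
        _ = z * v * c * v⁻¹ * (c⁻¹ * z⁻¹) := by rw [hAc (inv_mem hzA) (inv_mem hc)]
        _ = z * ⁅v, c⁆ * z⁻¹ := by simp [commutatorElement_def, mul_assoc]
        _ = ⁅v, c⁆ := by rw [hVc hzV (hMV (hgen c hc)), mul_inv_cancel_right]
    calc ⁅v, c⁆ * w = w * ⁅v, c⁆ * w⁻¹ * w := by rw [key]
      _ = w * ⁅v, c⁆ := by group
  have hcard : Nat.card A ≤ Nat.card B := by
    let f : C × M →* G := MonoidHom.noncommCoprod C.subtype M.subtype fun c m => (hMC m m.2 c c.2).symm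
    have hrange : f.range ≤ B := by
      rintro _ ⟨⟨c, m⟩, rfl⟩
      exact mul_mem (Subgroup.mem_sup_left c.2) (Subgroup.mem_sup_right m.2)
    have hker : Nat.card f.ker ≤ Nat.card (A ⊓ M : Subgroup G) := by
      refine Nat.card_le_card_of_injective (fun x => ⟨((x : C × M).1 : G), Subgroup.mem_inf.2
        ⟨(Subgroup.mem_inf.1 (x : C × M).1.2).1, ?_⟩⟩) fun x y he => ?_
      · have h1 : ((x : C × M).1 : G) * ((x : C × M).2 : G) = 1 := x.2
        rw [eq_inv_of_mul_eq_one_left h1]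
        exact inv_mem (x : C × M).2.2
      · have h1 : ((x : C × M).1 : G) * ((x : C × M).2 : G) = 1 := x.2
        have h2 : ((y : C × M).1 : G) * ((y : C × M).2 : G) = 1 := y.2
        have h3 : (((x : C × M).1 : C) : G) = (((y : C × M).1 : C) : G) :=
          congrArg (fun t : (A ⊓ M : Subgroup G) => (t : G)) he
        rw [h3, ← h2] at h1
        exact Subtype.ext (Prod.ext (Subtype.ext h3) (Subtype.ext (mul_left_cancel h1)))
    have h1 := f.ker.card_mul_index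
    rw [Subgroup.index_ker, Nat.card_prod] at h1
    have h2 : Nat.card C * Nat.card M ≤ Nat.card (A ⊓ M : Subgroup G) * Nat.card B :=
      h1 ▸ Nat.mul_le_mul hker (Subgroup.card_le_of_le hrange)
    rw [← relIndex_mul_card (inf_le_right : A ⊓ M ≤ M)] at h2
    rw [← relIndex_mul_card (inf_le_left : C ≤ A)]
    refine le_trans (Nat.mul_le_mul_left _ hinj) ?_
    refine Nat.le_of_mul_le_mul_left ?_ (Nat.card_pos (α := (A ⊓ M : Subgroup G)))
    calc _ = Nat.card C * (Nat.card (A ⊓ M : Subgroup G) * (A ⊓ M).relIndex M) := by ring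
      _ ≤ _ := h2
  refine ⟨B, ⟨hBP, hBea, fun B' hB' hB'e => (hA.2.2 B' hB' hB'e).trans hcard⟩, ?_, hBN⟩
  refine lt_of_le_of_ne (fun x hx => Subgroup.mem_inf.2 ⟨Subgroup.mem_sup_left (Subgroup.mem_inf.2
    ⟨(Subgroup.mem_inf.1 hx).1, Subgroup.mem_centralizer_iff.2 fun m hm =>
      hVc (hMV hm) (Subgroup.mem_inf.1 hx).2⟩), (Subgroup.mem_inf.1 hx).2⟩) fun he => hvA ?_
  refine mem_normalizer_of_conj_smul_eq (Subgroup.eq_of_le_of_card_ge ?_ (card_conj_smul v A).ge)
  intro x hx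
  rw [mem_conj_smul_iff] at hx
  have hm : ⁅v, v⁻¹ * x * v⁆ ∈ A := (Subgroup.mem_inf.1 (he.ge (Subgroup.mem_inf.2
    ⟨Subgroup.mem_sup_right (hgen _ hx), hMV (hgen _ hx)⟩))).1
  have := mul_mem hm hx
  simpa [commutatorElement_def, mul_assoc] using this

end CfsgLib.Solv
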