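import Cfsg.Agent.Solv.Basic
import Mathlib.GroupTheory.Complement

/-!
Maschke's theorem for coprime actions on abelian groups, and eigenvectors of automorphisms of
exponent dividing `p - 1`.
-/

set_option autoImplicit false
set_option linter.style.haveILetI false
set_option linter.deprecated false
set_option linter.unusedSectionVars false

open scoped Pointwise

namespace CfsgLib.Solv

variable {G : Type*} [Group G]

/-- Maschke: an invariant subgroup with a complement has an invariant complement. -/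
theorem exists_invariant_complement [Finite G] (V A U : Subgroup G) (hVab : IsMulCommutative V)
    (hAV : A ≤ Subgroup.normalizer (V : Set G)) (hcop : (Nat.card A).Coprime (Nat.card V))
    (hUV : U ≤ V) (hAU : A ≤ Subgroup.normalizer (U : Set G)) (W : Subgroup G) (hWV : W ≤ V)
    (hUW : U ⊓ W = ⊥) (hUWV : U ⊔ W = V) :
    ∃ W' : Subgroup G, W' ≤ V ∧ A ≤ Subgroup.normalizer (W' : Set G) ∧ U ⊓ W' = ⊥ ∧ U ⊔ W' = V := by
  classical
  open scoped IsMulCommutative in
  haveI := Fintype.ofFinite A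
  haveI hWn : (W.subgroupOf V).Normal := ⟨fun w hw v => by
    rw [mul_comm v w, mul_inv_cancel_right]; exact hw⟩
  haveI hUn : (U.subgroupOf V).Normal := ⟨fun w hw v => by
    rw [mul_comm v w, mul_inv_cancel_right]; exact hw⟩
  have hdec : ∀ v : V, ∃ u : V, (u : G) ∈ U ∧ ((u⁻¹ * v : V) : G) ∈ W := by
    intro v
    have h1 : v ∈ U.subgroupOf V ⊔ W.subgroupOf V := by
      rw [← Subgroup.subgroupOf_sup hUV hWV, hUWV, Subgroup.subgroupOf_self]; trivial
    obtain ⟨u, hu, w, hw, rfl⟩ := Subgroup.mem_sup_of_normal_right.1 h1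
    exact ⟨u, hu, by rw [inv_mul_cancel_left]; exact hw⟩
  choose π hπU hπW using hdec
  have huniq : ∀ v u : V, (u : G) ∈ U → ((u⁻¹ * v : V) : G) ∈ W → π v = u := by
    intro v u hu hw
    have h1 : ((u⁻¹ * π v : V) : G) ∈ U ⊓ W := Subgroup.mem_inf.2
      ⟨mul_mem (inv_mem hu) (hπU v), by
        have h2 := mul_mem hw (inv_mem (hπW v))
        rw [← InvMemClass.coe_inv, ← Subgroup.coe_mul] at h2
        have e : (u⁻¹ * v) * ((π v)⁻¹ * v)⁻¹ = u⁻¹ * π v := by group
        rwa [e] at h2⟩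
    rw [hUW, Subgroup.mem_bot] at h1
    exact (inv_mul_eq_one.1 (Subtype.ext h1)).symm
  have hπmul : ∀ v w : V, π (v * w) = π v * π w := fun v w => huniq _ _ (mul_mem (hπU v) (hπU w)) (by
    have e : (π v * π w)⁻¹ * (v * w) = ((π v)⁻¹ * v) * ((π w)⁻¹ * w) := by
      rw [mul_inv, mul_mul_mul_comm]
    rw [e]; exact mul_mem (hπW v) (hπW w))
  let c : G → V → V := fun a v => if h : a ∈ A then
    ⟨a * v * a⁻¹, le_normalizer_iff_forall_conj_mem.1 hAV a h v v.2⟩ else v
  have hc : ∀ a ∈ A, ∀ v : V, ((c a v : V) : G) = a * v * a⁻¹ := fun a ha v => by simp [c, ha]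
  have hcmul : ∀ a ∈ A, ∀ v w : V, c a (v * w) = c a v * c a w := fun a ha v w => Subtype.ext (by
    rw [Subgroup.coe_mul, hc a ha, hc a ha, hc a ha, Subgroup.coe_mul]; group)
  have hccomp : ∀ a ∈ A, ∀ b ∈ A, ∀ v : V, c (a * b) v = c a (c b v) := fun a ha b hb v =>
    Subtype.ext (by rw [hc _ (mul_mem ha hb), hc a ha, hc b hb]; group)
  let φ : V →* V :=
    { toFun := fun v => ∏ a : A, c a (π (c (a : G)⁻¹ v))
      map_one' := by
        refine Finset.prod_eq_one fun a _ => ?_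
        have e1 : c (a : G)⁻¹ 1 = 1 := Subtype.ext (by rw [hc _ (inv_mem a.2)]; simp)
        have e2 : π 1 = 1 := huniq 1 1 (one_mem U) (by simp)
        rw [e1, e2]; exact Subtype.ext (by rw [hc _ a.2]; simp)
      map_mul' := fun v w => by
        rw [← Finset.prod_mul_distrib]
        refine Finset.prod_congr rfl fun a _ => ?_
        rw [hcmul _ (inv_mem a.2), hπmul, hcmul _ a.2] }
  have hcU : ∀ a ∈ A, ∀ v : V, (v : G) ∈ U → ((c a v : V) : G) ∈ U := fun a ha v hv => by
    rw [hc a ha]; exact le_normalizer_iff_forall_conj_mem.1 hAU a ha _ hv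
  have hφU : ∀ v, ((φ v : V) : G) ∈ U := fun v => by
    have : φ v ∈ U.subgroupOf V := Subgroup.prod_mem _ fun a _ => hcU _ a.2 _ (hπU _)
    exact this
  have hφfix : ∀ u : V, (u : G) ∈ U → φ u = u ^ Nat.card A := fun u hu => by
    show ∏ a : A, c a (π (c (a : G)⁻¹ u)) = _
    rw [Nat.card_eq_fintype_card, ← Finset.card_univ, ← Finset.prod_const]
    refine Finset.prod_congr rfl fun a _ => ?_
    rw [huniq _ _ (hcU _ (inv_mem a.2) u hu) (by simp), ← hccomp _ a.2 _ (inv_mem a.2),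
      mul_inv_cancel]
    exact Subtype.ext (by rw [hc _ (one_mem A)]; simp)
  have hφeq : ∀ a ∈ A, ∀ v, φ (c a v) = c a (φ v) := fun a ha v => by
    let ca : V →* V := MonoidHom.mk' (c a) (hcmul a ha)
    show ∏ b : A, c b (π (c (b : G)⁻¹ (c a v))) = ca (∏ b : A, c b (π (c (b : G)⁻¹ v)))
    rw [map_prod]
    refine (Fintype.prod_equiv (Equiv.mulLeft (⟨a, ha⟩ : A)) _ _ fun b => ?_).symm
    show c a (c b (π (c (b : G)⁻¹ v))) = c (a * b) (π (c ((a * b : G))⁻¹ (c a v)))
    rw [← hccomp _ (inv_mem (mul_mem ha b.2)) _ ha, mul_inv_rev, inv_mul_cancel_right,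
      hccomp a ha b b.2]
  refine ⟨φ.ker.map V.subtype, Subgroup.map_subtype_le _, ?_, ?_, ?_⟩
  · rw [le_normalizer_iff_forall_conj_mem]
    rintro a ha _ ⟨v, hv, rfl⟩
    refine ⟨c a v, ?_, hc a ha v⟩
    show φ (c a v) = 1
    rw [hφeq a ha, show φ v = 1 from hv]
    exact Subtype.ext (by rw [hc a ha]; simp)
  · rw [eq_bot_iff]
    intro x hx
    obtain ⟨hxU, ⟨v, hv, rfl⟩⟩ := Subgroup.mem_inf.1 hx
    have h1 : v ^ Nat.card A = 1 := (hφfix v hxU).symm.trans hv
    have h2 : v = 1 := orderOf_eq_one_iff.1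
      (Nat.eq_one_of_dvd_coprimes hcop (orderOf_dvd_of_pow_eq_one h1) (orderOf_dvd_natCard v))
    simp [h2]
  · refine le_antisymm (sup_le hUV (Subgroup.map_subtype_le _)) fun x hx => ?_
    set e := powCoprime (G := V) hcop.symm with he
    set u := e.symm (φ ⟨x, hx⟩) with hu
    have hu1 : u ^ Nat.card A = φ ⟨x, hx⟩ := e.apply_symm_apply _
    have huU : (u : G) ∈ U := by
      obtain ⟨k, hk⟩ : ∃ k : ℕ, u = (φ ⟨x, hx⟩) ^ k := by
        have h1 : (orderOf u).Coprime (Nat.card A) :=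
          (hcop.coprime_dvd_right (orderOf_dvd_natCard u)).symm
        obtain ⟨k, hk⟩ := exists_pow_eq_self_of_coprime h1.symm
        exact ⟨k, by rw [← hu1, hk]⟩
      rw [hk]
      exact (U.subgroupOf V).pow_mem (hφU _) k
    have hker : u⁻¹ * ⟨x, hx⟩ ∈ φ.ker := by
      rw [MonoidHom.mem_ker, map_mul, map_inv, hφfix u huU, hu1, inv_mul_cancel]
    have := mul_mem (Subgroup.mem_sup_left (T := φ.ker.map V.subtype) huU)
      (Subgroup.mem_sup_right (S := U) (Subgroup.mem_map_of_mem V.subtype hker))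
    simpa using this

end CfsgLib.Solv
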