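import Cfsg.Agent.Solv.SSGBasic
import Cfsg.Agent.Solv.Maschke
import Cfsg.Agent.Solv.Maximal
import Cfsg.Agent.Solv.CoprimeAction
import Cfsg.Agent.Solv.PComplement
import Cfsg.Agent.Solv.FittingBasic

/-!
Supersolvable groups: Huppert's criterion and related theorems.
-/

set_option autoImplicit false
set_option linter.style.haveILetI false
set_option linter.deprecated false
set_option linter.unusedSectionVars false
set_option maxHeartbeats 400000

open scoped Pointwise

namespace CfsgLib.Solv

universe u

theorem ne_bot_of_card_prime {G : Type u} [Group G] {A : Subgroup G} (h : (Nat.card A).Prime) :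
    A ≠ ⊥ := fun e => by
  rw [e, Subgroup.card_bot] at h
  exact Nat.not_prime_one h

theorem exists_largest_prime {n : ℕ} (hn : 1 < n) :
    ∃ p, p.Prime ∧ p ∣ n ∧ ∀ q : ℕ, q.Prime → q ∣ n → q ≤ p := by
  have hne : n.primeFactors.Nonempty := Nat.nonempty_primeFactors.2 hn
  refine ⟨n.primeFactors.max' hne, ?_, ?_, fun q hq hd => Finset.le_max' _ _ ?_⟩
  · exact (Nat.mem_primeFactors.1 (Finset.max'_mem _ hne)).1
  · exact (Nat.mem_primeFactors.1 (Finset.max'_mem _ hne)).2.1
  · exact Nat.mem_primeFactors.2 ⟨hq, hd, by omega⟩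

theorem pgroup_normal_le_sylow {G : Type u} [Group G] [Finite G] {p : ℕ} [Fact p.Prime]
    {A : Subgroup G} [A.Normal] (hA : IsPGroup p A) (P : Sylow p G) : A ≤ (P : Subgroup G) :=
  (le_pCore hA).trans (pCore_le_sylow P)

theorem card_comap_mk' {G : Type u} [Group G] [Finite G] (N : Subgroup G) [N.Normal]
    (H : Subgroup (G ⧸ N)) :
    Nat.card (H.comap (QuotientGroup.mk' N)) = Nat.card H * Nat.card N := by
  have h1 := Subgroup.card_mul_index (H.comap (QuotientGroup.mk' N))
  rw [H.index_comap_of_surjective (QuotientGroup.mk'_surjective N)] at h1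
  have h2 := Subgroup.card_mul_index H
  have h3 := Subgroup.card_eq_card_quotient_mul_card_subgroup N
  refine Nat.eq_of_mul_eq_mul_right (Nat.pos_of_ne_zero H.index_ne_zero_of_finite) ?_
  rw [h1, h3, ← h2]
  ring

theorem sylow_eq_top_of_primes {G : Type u} [Group G] [Finite G] {p : ℕ} [Fact p.Prime]
    (P : Sylow p G) (h : ∀ q : ℕ, q.Prime → q ∣ Nat.card G → q = p) : (P : Subgroup G) = ⊤ := by
  refine Subgroup.index_eq_one.1 ?_
  by_contra hne
  obtain ⟨q, hq, hd⟩ := Nat.exists_prime_and_dvd hne
  exact P.not_dvd_index (h q hq (hd.trans (Subgroup.index_dvd_card _)) ▸ hd)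

theorem sylow_normal_lift {G : Type u} [Group G] [Finite G] {p : ℕ} [Fact p.Prime]
    (A : Subgroup G) [A.Normal] (hA : IsPGroup p A) (P : Sylow p G)
    (h : ((P.mapSurjective (QuotientGroup.mk'_surjective A) : Sylow p (G ⧸ A)) :
      Subgroup (G ⧸ A)).Normal) : (P : Subgroup G).Normal := by
  have e : (P : Subgroup G) = ((P : Subgroup G).map (QuotientGroup.mk' A)).comap (QuotientGroup.mk' A) := by
    rw [Subgroup.comap_map_eq_self]
    rw [QuotientGroup.ker_mk']
    exact pgroup_normal_le_sylow hA P
  rw [e]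
  exact h.comap _

theorem exists_normal_largest_aux : ∀ (n : ℕ) (G : Type u) [Group G] [Finite G], Nat.card G = n →
    SSG G → ∀ p : ℕ, p.Prime → p ∣ Nat.card G → (∀ q : ℕ, q.Prime → q ∣ Nat.card G → q ≤ p) →
      ∃ A : Subgroup G, A.Normal ∧ Nat.card A = p := by
  intro n
  induction n using Nat.strong_induction_on with
  | _ n IH =>
    intro G _ _ hn h p hp hpd hmax
    haveI : Fact p.Prime := ⟨hp⟩
    haveI : Nontrivial G := Finite.one_lt_card_iff_nontrivial.1
      (hp.one_lt.trans_le (Nat.le_of_dvd Nat.card_pos hpd))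
    obtain ⟨A, hA, hAp⟩ := exists_normal_prime h
    haveI := hA
    by_cases hAe : Nat.card A = p
    · exact ⟨A, hA, hAe⟩
    have hd : p ∣ Nat.card (G ⧸ A) := by
      rw [Subgroup.card_eq_card_quotient_mul_card_subgroup A] at hpd
      refine ((Nat.Coprime.dvd_of_dvd_mul_right ?_) hpd)
      exact (Nat.coprime_primes hp hAp).2 (Ne.symm hAe)
    obtain ⟨B, hB, hBc⟩ := IH _ (hn ▸ card_quotient_lt (ne_bot_of_card_prime hAp)) _ rfl
      (ssg_quotient A h) p hp hd
      (fun q hq hqd => hmax q hq (hqd.trans (Subgroup.card_quotient_dvd_card A)))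
    set X := B.comap (QuotientGroup.mk' A)
    haveI : X.Normal := hB.comap _
    have hXc : Nat.card X = p * Nat.card A := by rw [card_comap_mk', hBc]
    obtain ⟨P⟩ : Nonempty (Sylow p X) := inferInstance
    have hPc : Nat.card (P : Subgroup X) = p := by
      rw [P.card_eq_multiplicity, hXc, Nat.factorization_mul hp.ne_zero hAp.ne_zero, Finsupp.add_apply,
        hp.factorization_self, Nat.factorization_eq_zero_of_not_dvd
          (fun hd' => hAe ((Nat.prime_dvd_prime_iff_eq hp hAp).1 hd').symm), pow_one]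
    have hcount := card_sylow_modEq_one p X
    have hidx : (P : Subgroup X).index = Nat.card A := by
      have h1 := Subgroup.card_mul_index (P : Subgroup X)
      rw [hPc, hXc] at h1
      exact Nat.eq_of_mul_eq_mul_left hp.pos h1
    have hone : Nat.card (Sylow p X) = 1 := by
      have h2 := P.card_dvd_index
      rw [hidx] at h2
      rcases hAp.eq_one_or_self_of_dvd _ h2 with h3 | h3
      · exact h3
      · exfalso
        rw [h3] at hcount
        have hlt : Nat.card A < p := lt_of_le_of_ne (hmax _ hAp (Subgroup.card_subgroup_dvd_card A)) hAe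
        exact hAp.ne_one (by
          have := hcount
          rwa [Nat.ModEq, Nat.mod_eq_of_lt hlt, Nat.mod_eq_of_lt hp.one_lt] at this)
    haveI hsub : Subsingleton (Sylow p X) := (Nat.card_eq_one_iff_unique.1 hone).1
    haveI := P.characteristic_of_normal (Sylow.normal_of_subsingleton P)
    exact ⟨_, normal_map_subtype_of_characteristic (P : Subgroup X), by rw [card_map_subtype, hPc]⟩

theorem exists_normal_largest {G : Type u} [Group G] [Finite G] (h : SSG G) {p : ℕ} (hp : p.Prime)
    (hpd : p ∣ Nat.card G) (hmax : ∀ q : ℕ, q.Prime → q ∣ Nat.card G → q ≤ p) :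
    ∃ A : Subgroup G, A.Normal ∧ Nat.card A = p :=
  exists_normal_largest_aux _ G rfl h p hp hpd hmax

theorem ssg_sylow_normal_aux : ∀ (n : ℕ) (G : Type u) [Group G] [Finite G], Nat.card G = n →
    SSG G → ∀ (p : ℕ) [Fact p.Prime], (∀ q : ℕ, q.Prime → q ∣ Nat.card G → q ≤ p) →
      ∀ P : Sylow p G, (P : Subgroup G).Normal := by
  intro n
  induction n using Nat.strong_induction_on with
  | _ n IH =>
    intro G _ _ hn h p hp hmax P
    by_cases hpd : p ∣ Nat.card G
    swap
    · have : (P : Subgroup G) = ⊥ := Subgroup.eq_bot_of_card_eq _ (by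
        rw [P.card_eq_multiplicity, Nat.factorization_eq_zero_of_not_dvd hpd, pow_zero])
      rw [this]; infer_instance
    obtain ⟨A, hA, hAc⟩ := exists_normal_largest h hp.out hpd hmax
    haveI := hA
    refine sylow_normal_lift A (IsPGroup.of_card (n := 1) (by rw [hAc, pow_one])) P ?_
    exact IH _ (hn ▸ card_quotient_lt (ne_bot_of_card_prime (hAc ▸ hp.out))) _ rfl (ssg_quotient A h)
      p (fun q hq hqd => hmax q hq (hqd.trans (Subgroup.card_quotient_dvd_card A))) _

theorem ssg_sylow_normal {G : Type u} [Group G] [Finite G] (h : SSG G) {p : ℕ} [Fact p.Prime]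
    (hmax : ∀ q : ℕ, q.Prime → q ∣ Nat.card G → q ≤ p) (P : Sylow p G) : (P : Subgroup G).Normal :=
  ssg_sylow_normal_aux _ G rfl h p hmax P

theorem ssg_maximal_index_prime_aux : ∀ (n : ℕ) (G : Type u) [Group G] [Finite G],
    Nat.card G = n → SSG G → ∀ M : Subgroup G, IsCoatom M → M.index.Prime := by
  intro n
  induction n using Nat.strong_induction_on with
  | _ n IH =>
    intro G _ _ hn h M hM
    haveI : Nontrivial G := by
      by_contra hs
      rw [not_nontrivial_iff_subsingleton] at hs
      exact hM.1 (Subsingleton.elim _ _)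
    obtain ⟨A, hA, hAp⟩ := exists_normal_prime h
    haveI := hA
    haveI : Fact (Nat.card A).Prime := ⟨hAp⟩
    haveI : IsCyclic A := isCyclic_of_prime_card rfl
    haveI : IsMulCommutative A := IsCyclic.isMulCommutative
    by_cases hle : A ≤ M
    · have hs := QuotientGroup.mk'_surjective A
      have hk : (QuotientGroup.mk' A).ker ≤ M := by rw [QuotientGroup.ker_mk']; exact hle
      have hco : IsCoatom (M.map (QuotientGroup.mk' A)) := by
        refine ⟨fun e => hM.1 ?_, fun X hX => ?_⟩
        · rw [← Subgroup.comap_map_eq_self hk, e, Subgroup.comap_top]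
        · have h1 : M < X.comap (QuotientGroup.mk' A) := by
            rw [← Subgroup.comap_map_eq_self hk]
            exact (Subgroup.comap_lt_comap_of_surjective hs).2 hX
          rw [← Subgroup.map_comap_eq_self_of_surjective hs X, hM.2 _ h1,
            Subgroup.map_top_of_surjective _ hs]
      have h2 := IH _ (hn ▸ card_quotient_lt (ne_bot_of_card_prime hAp)) _ rfl (ssg_quotient A h) _ hco
      rwa [← Subgroup.index_comap_of_surjective _ hs, Subgroup.comap_map_eq_self hk] at h2
    · have hmin : ∀ K : Subgroup G, K.Normal → K ≤ A → K = ⊥ ∨ K = A := fun K _ hKA => by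
        rcases hAp.eq_one_or_self_of_dvd _ (Subgroup.card_dvd_of_le hKA) with h1 | h1
        · exact Or.inl (Subgroup.eq_bot_of_card_eq _ h1)
        · exact Or.inr (Subgroup.eq_of_le_of_card_ge hKA h1.ge)
      rw [(isComplement'_of_isCoatom hmin hM hle).index_eq_card]
      exact hAp

theorem ssg_maximal_index_prime {G : Type u} [Group G] [Finite G] (h : SSG G) {M : Subgroup G}
    (hM : IsCoatom M) : M.index.Prime :=
  ssg_maximal_index_prime_aux _ G rfl h M hM

theorem ssg_derived_nilpotent_aux : ∀ (n : ℕ) (G : Type u) [Group G] [Finite G],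
    Nat.card G = n → SSG G → Group.IsNilpotent (commutator G) := by
  intro n
  induction n using Nat.strong_induction_on with
  | _ n IH =>
    intro G _ _ hn h
    rcases subsingleton_or_nontrivial G with hs | hs
    · exact inferInstance
    obtain ⟨A, hA, hAp⟩ := exists_normal_prime h
    haveI := hA
    haveI : Fact (Nat.card A).Prime := ⟨hAp⟩
    haveI : IsCyclic A := isCyclic_of_prime_card rfl
    haveI := IH _ (hn ▸ card_quotient_lt (ne_bot_of_card_prime hAp)) _ rfl (ssg_quotient A h)
    set f := QuotientGroup.mk' A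
    let ψ : commutator G →* commutator (G ⧸ A) := MonoidHom.codRestrict
      (f.comp (commutator G).subtype) _ fun x => by
        have h1 : (commutator G).map f ≤ commutator (G ⧸ A) := by
          rw [commutator_def, commutator_def, Subgroup.map_commutator]
          exact Subgroup.commutator_mono le_top le_top
        exact h1 (Subgroup.mem_map_of_mem f x.2)
    refine Subgroup.isNilpotent_of_ker_le_center ψ fun x hx => ?_
    have hxA : (x : G) ∈ A := (QuotientGroup.eq_one_iff _).1 (Subtype.ext_iff.1 hx)
    rw [Subgroup.mem_center_iff]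
    intro y
    exact Subtype.ext (Subgroup.mem_centralizer_iff.1 (commutator_le_centralizer_cyclic A y.2) x hxA).symm

theorem ssg_derived_nilpotent {G : Type u} [Group G] [Finite G] (h : SSG G) :
    Group.IsNilpotent (commutator G) :=
  ssg_derived_nilpotent_aux _ G rfl h

theorem ssg_ordered_chain {G : Type u} [Group G] [Finite G] (h : SSG G) :
    ∀ (k : ℕ) (N : Subgroup G), N.Normal → N.index = k →
      ∀ B : ℕ, (∀ q : ℕ, q.Prime → q ∣ k → q ≤ B) →
      ∃ (n : ℕ) (H : Fin (n + 1) → Subgroup G), H 0 = N ∧ H (Fin.last n) = ⊤ ∧ (∀ i, (H i).Normal) ∧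
        (∀ i : Fin n, H i.castSucc ≤ H i.succ ∧ ((H i.castSucc).relIndex (H i.succ)).Prime) ∧
        (∀ i : Fin n, (H i.castSucc).relIndex (H i.succ) ≤ B) ∧
        ∀ i j : Fin n, i ≤ j →
          (H j.castSucc).relIndex (H j.succ) ≤ (H i.castSucc).relIndex (H i.succ) := by
  intro k
  induction k using Nat.strong_induction_on with
  | _ k IH =>
    intro N hN hk B hB
    by_cases hk1 : k = 1
    · exact ⟨0, fun _ => ⊤, (Subgroup.index_eq_one.1 (hk.trans hk1)).symm, rfl,
        fun _ => inferInstance, fun i => i.elim0, fun i => i.elim0, fun i => i.elim0⟩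
    have hk0 : k ≠ 0 := hk ▸ Subgroup.index_ne_zero_of_finite
    obtain ⟨p, hp, hpd, hmax⟩ := exists_largest_prime (n := k) (by omega)
    haveI := hN
    obtain ⟨A, hA, hAc⟩ := exists_normal_largest (ssg_quotient N h) hp
      (by rwa [← Subgroup.index_eq_card, hk]) (by rwa [← Subgroup.index_eq_card, hk])
    set T := A.comap (QuotientGroup.mk' N)
    have hNT : N ≤ T := by
      intro x hx
      show QuotientGroup.mk' N x ∈ A
      rw [QuotientGroup.mk'_apply, (QuotientGroup.eq_one_iff x).2 hx]
      exact one_mem A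
    have hrel : N.relIndex T = p := by
      refine Nat.eq_of_mul_eq_mul_left (Nat.card_pos (α := N)) ?_
      rw [relIndex_mul_card hNT, card_comap_mk', hAc, mul_comm]
    have hTk : p * T.index = k := by rw [← hrel, Subgroup.relIndex_mul_index hNT, hk]
    have hTlt : T.index < k := by
      rw [← hTk]
      exact lt_mul_of_one_lt_left (Nat.pos_of_ne_zero Subgroup.index_ne_zero_of_finite) hp.one_lt
    obtain ⟨n, H, h0, hl, hn, hs, hb, hmono⟩ := IH _ hTlt T (hA.comap _) rfl p
      (fun q hq hd => hmax q hq (hd.trans (Dvd.intro_left _ hTk)))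
    refine ⟨n + 1, Fin.cons N H, rfl, ?_, ?_, ?_, ?_, ?_⟩
    · rw [← Fin.succ_last, Fin.cons_succ, hl]
    · intro i
      induction i using Fin.cases with
      | zero => exact hN
      | succ i => rw [Fin.cons_succ]; exact hn i
    · intro i
      induction i using Fin.cases with
      | zero =>
        rw [Fin.cons_succ, Fin.castSucc_zero, Fin.cons_zero, h0]
        exact ⟨hNT, hrel ▸ hp⟩
      | succ i =>
        rw [Fin.cons_succ, Fin.castSucc_succ, Fin.cons_succ]
        exact hs i
    · intro i
      induction i using Fin.cases with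
      | zero =>
        rw [Fin.cons_succ, Fin.castSucc_zero, Fin.cons_zero, h0, hrel]
        exact hB p hp hpd
      | succ i =>
        rw [Fin.cons_succ, Fin.castSucc_succ, Fin.cons_succ]
        exact (hb i).trans (hB p hp hpd)
    · intro i j hij
      induction i using Fin.cases with
      | zero =>
        induction j using Fin.cases with
        | zero => exact le_rfl
        | succ j =>
          rw [Fin.cons_succ, Fin.cons_succ, Fin.castSucc_succ, Fin.cons_succ, Fin.castSucc_zero,
            Fin.cons_zero, h0, hrel]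
          exact hb j
      | succ i =>
        induction j using Fin.cases with
        | zero => exact absurd hij (by simp [Fin.le_iff_val_le_val])
        | succ j =>
          rw [Fin.cons_succ, Fin.cons_succ, Fin.castSucc_succ, Fin.cons_succ, Fin.castSucc_succ,
            Fin.cons_succ]
          exact hmono i j (Fin.succ_le_succ_iff.1 hij)

theorem ssg_clt_aux : ∀ (n : ℕ) (G : Type u) [Group G] [Finite G], Nat.card G = n → SSG G →
    ∀ d : ℕ, d ∣ n → ∃ H : Subgroup G, Nat.card H = d := by
  intro n
  induction n using Nat.strong_induction_on with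
  | _ n IH =>
    intro G _ _ hn h d hd
    have hn0 : 0 < n := hn ▸ Nat.card_pos
    by_cases hn1 : n = 1
    · exact ⟨⊥, by rw [Subgroup.card_bot]; exact (Nat.dvd_one.1 (hn1 ▸ hd)).symm⟩
    obtain ⟨p, hp, hpd, hmax⟩ := exists_largest_prime (n := n) (by omega)
    obtain ⟨A, hA, hAc⟩ := exists_normal_largest h hp (hn ▸ hpd) (hn ▸ hmax)
    haveI := hA
    haveI : Fact p.Prime := ⟨hp⟩
    have hq : Nat.card (G ⧸ A) * p = n := by
      rw [← hn, Subgroup.card_eq_card_quotient_mul_card_subgroup A, hAc]
    have hlt : Nat.card (G ⧸ A) < n := hn ▸ card_quotient_lt (ne_bot_of_card_prime (hAc ▸ hp))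
    by_cases hdp : p ∣ d
    · obtain ⟨e, rfl⟩ := hdp
      obtain ⟨Y, hY⟩ := IH _ hlt (G ⧸ A) rfl (ssg_quotient A h) e
        ((Nat.mul_dvd_mul_iff_left hp.pos).1 (by rw [mul_comm p (Nat.card (G ⧸ A)), hq]; exact hd))
      exact ⟨Y.comap (QuotientGroup.mk' A), by rw [card_comap_mk', hY, hAc, mul_comm]⟩
    · obtain ⟨Y, hY⟩ := IH _ hlt (G ⧸ A) rfl (ssg_quotient A h) d
        ((Nat.Coprime.dvd_of_dvd_mul_right ((hp.coprime_iff_not_dvd.2 hdp).symm)) (hq.symm ▸ hd))
      set X := Y.comap (QuotientGroup.mk' A)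
      have hX : Nat.card X = d * p := by rw [card_comap_mk', hY, hAc]
      have hAX : A ≤ X := by
        intro x hx
        show QuotientGroup.mk' A x ∈ Y
        rw [QuotientGroup.mk'_apply, (QuotientGroup.eq_one_iff x).2 hx]
        exact one_mem Y
      have hAXc : Nat.card (A.subgroupOf X) = p := by rw [card_subgroupOf hAX, hAc]
      have hidx : (A.subgroupOf X).index = d := by
        have h1 := Subgroup.card_mul_index (A.subgroupOf X)
        rw [hAXc, hX, mul_comm d p] at h1
        exact Nat.eq_of_mul_eq_mul_left hp.pos h1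
      obtain ⟨K, hK⟩ := Subgroup.exists_right_complement'_of_coprime (N := A.subgroupOf X)
        (by rw [hAXc, hidx]; exact hp.coprime_iff_not_dvd.2 hdp)
      exact ⟨K.map X.subtype, by rw [card_map_subtype, ← hK.symm.index_eq_card, hidx]⟩

theorem ssg_of_isPGroup_aux : ∀ (n : ℕ) (G : Type u) [Group G] [Finite G], Nat.card G = n →
    Group.IsNilpotent G → SSG G := by
  intro n
  induction n using Nat.strong_induction_on with
  | _ n IH =>
    intro G _ _ hn hnil
    haveI := hnil
    rcases subsingleton_or_nontrivial G with hs | hs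
    · exact ssg_of_subsingleton
    obtain ⟨z, hz⟩ := Subgroup.ne_bot_iff_exists_ne_one.1 (Group.IsNilpotent.center_ne_bot (G := G))
    haveI : (Subgroup.zpowers (z : G)).Normal := ⟨fun x hx g => by
      rwa [Subgroup.mem_center_iff.1 ((Subgroup.zpowers_le.2 z.2) hx) g, mul_inv_cancel_right]⟩
    refine ssg_of_cyclic_normal (Subgroup.zpowers (z : G)) (IH _ (hn ▸ card_quotient_lt fun e => hz
      (Subtype.ext (Subgroup.mem_bot.1 (e ▸ Subgroup.mem_zpowers (z : G))))) _ rfl inferInstance)

theorem ssg_of_isNilpotent {G : Type u} [Group G] [Finite G] (h : Group.IsNilpotent G) : SSG G :=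
  ssg_of_isPGroup_aux _ G rfl h

theorem ssg_two_mul_prime_pow_aux : ∀ (k : ℕ) (G : Type u) [Group G] [Finite G] (p : ℕ),
    p.Prime → p ≠ 2 → Nat.card G = 2 * p ^ k → SSG G := by
  intro k
  induction k with
  | zero =>
    intro G _ _ p hp hp2 hG
    haveI : Fact (Nat.Prime 2) := ⟨Nat.prime_two⟩
    exact ssg_of_isNilpotent (IsPGroup.of_card (p := 2) (n := 1) (by simpa using hG)).isNilpotent
  | succ k IH =>
    intro G _ _ p hp hp2 hG
    haveI : Fact p.Prime := ⟨hp⟩
    obtain ⟨P⟩ : Nonempty (Sylow p G) := inferInstance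
    have hPc : Nat.card (P : Subgroup G) = p ^ (k + 1) := by
      rw [P.card_eq_multiplicity, hG, Nat.factorization_mul (by norm_num) (pow_ne_zero _ hp.ne_zero),
        Finsupp.add_apply, Nat.Prime.factorization_pow hp, Finsupp.single_eq_same,
        Nat.factorization_eq_zero_of_not_dvd
          (fun hd => hp2 ((Nat.prime_dvd_prime_iff_eq hp Nat.prime_two).1 hd)), zero_add]
    have hPi : (P : Subgroup G).index = 2 := by
      have h1 := Subgroup.card_mul_index (P : Subgroup G)
      rw [hPc, hG, mul_comm 2] at h1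
      exact Nat.eq_of_mul_eq_mul_left (Nat.pow_pos hp.pos) h1
    haveI hPn : (P : Subgroup G).Normal := Subgroup.normal_of_index_eq_two hPi
    set Z := (Subgroup.center (P : Subgroup G)).map (P : Subgroup G).subtype with hZ
    have hZn : Z.Normal := normal_map_subtype_of_characteristic _
    have hZP : Z ≤ (P : Subgroup G) := Subgroup.map_subtype_le _
    have hZc : ∀ z ∈ Z, ∀ y ∈ (P : Subgroup G), y * z = z * y := by
      rintro _ ⟨z, hz, rfl⟩ y hy
      exact Subtype.ext_iff.1 (Subgroup.mem_center_iff.1 hz ⟨y, hy⟩)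
    haveI : Nontrivial (P : Subgroup G) := Finite.one_lt_card_iff_nontrivial.1
      (by rw [hPc]; exact Nat.one_lt_pow (Nat.succ_ne_zero k) hp.one_lt)
    haveI := P.2.isNilpotent
    have hZne : Z ≠ ⊥ := by
      rw [hZ, Ne, Subgroup.map_eq_bot_iff_of_injective _ (Subgroup.subtype_injective _)]
      exact Group.IsNilpotent.center_ne_bot _
    obtain ⟨⟨x, hxZ⟩, hx⟩ := exists_prime_orderOf_dvd_card' (G := Z) p (by
      obtain ⟨j, hj⟩ := IsPGroup.iff_card.1 (P.2.to_le hZP)
      rw [hj]
      exact dvd_pow_self p fun e => hZne (Subgroup.eq_bot_of_card_eq _ (by rw [hj, e, pow_zero])))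
    rw [Subgroup.orderOf_mk] at hx
    obtain ⟨t, ht⟩ : ∃ t, t ∉ (P : Subgroup G) := by
      by_contra hc
      simp only [not_exists, not_not] at hc
      rw [Subgroup.index_eq_one.2 (top_unique fun y _ => hc y)] at hPi
      omega
    have htt : t * t ∈ (P : Subgroup G) := Subgroup.mul_self_mem_of_index_two hPi t
    obtain ⟨z, hzZ, hzo, hzt⟩ : ∃ z ∈ Z, orderOf z = p ∧ t * z * t⁻¹ ∈ Subgroup.zpowers z := by
      set x' := t * x * t⁻¹
      have hx'Z : x' ∈ Z := hZn.conj_mem x hxZ t
      by_cases hy : x * x' = 1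
      · exact ⟨x, hxZ, hx, ⟨-1, by simp [(mul_eq_one_iff_inv_eq.1 hy)]; rfl⟩⟩
      · refine ⟨x * x', mul_mem hxZ hx'Z, ?_, ⟨1, ?_⟩⟩
        · refine orderOf_eq_prime ?_ hy
          have hc : Commute x x' := hZc x' hx'Z x (hZP hxZ)
          rw [hc.mul_pow]
          have h1 : x' ^ p = 1 := by
            rw [show x' = MulAut.conj t x from rfl, ← map_pow, ← hx, pow_orderOf_eq_one, map_one]
          rw [h1, ← hx, pow_orderOf_eq_one, one_mul]
        · have h2 : t * x' * t⁻¹ = x := by
            have h3 := hZc x hxZ (t * t) htt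
            calc t * (t * x * t⁻¹) * t⁻¹ = (t * t) * x * (t * t)⁻¹ := by group
              _ = x := by rw [h3, mul_inv_cancel_right]
          show (x * x') ^ (1 : ℤ) = t * (x * x') * t⁻¹
          rw [zpow_one, show t * (x * x') * t⁻¹ = x' * (t * x' * t⁻¹) by
            show _ = (t * x * t⁻¹) * _; group, h2]
          exact hZc x' hx'Z x (hZP hxZ)
    haveI : (Subgroup.zpowers z).Normal := Subgroup.normalizer_eq_top_iff.1 (by
      have hPN : (P : Subgroup G) ≤ Subgroup.normalizer (Subgroup.zpowers z : Set G) := fun y hy =>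
        Subgroup.centralizer_le_normalizer _ (Subgroup.mem_centralizer_iff.2 fun w hw => by
          obtain ⟨i, rfl⟩ := Subgroup.mem_zpowers_iff.1 hw
          exact ((Commute.zpow_right (hZc z hzZ y hy) i)).symm)
      have htN : t ∈ Subgroup.normalizer (Subgroup.zpowers z : Set G) := by
        refine mem_normalizer_of_conj_smul_eq (Subgroup.eq_of_le_of_card_ge ?_ (card_conj_smul _ _).ge)
        intro w hw
        rw [mem_conj_smul_iff] at hw
        obtain ⟨i, hi⟩ := Subgroup.mem_zpowers_iff.1 hw
        have : w = (t * z * t⁻¹) ^ i := by rw [conj_zpow, hi]; group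
        rw [this]
        exact zpow_mem hzt i
      refine top_unique fun g _ => ?_
      by_cases hg : g ∈ (P : Subgroup G)
      · exact hPN hg
      · have h1 : t⁻¹ * g ∈ (P : Subgroup G) := by
          rw [Subgroup.mul_mem_iff_of_index_two hPi, inv_mem_iff]
          exact iff_of_false ht hg
        have := mul_mem htN (hPN h1)
        rwa [mul_inv_cancel_left] at this)
    refine ssg_of_cyclic_normal (Subgroup.zpowers z) (IH _ p hp hp2 ?_)
    have h1 := Subgroup.card_eq_card_quotient_mul_card_subgroup (Subgroup.zpowers z)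
    rw [hG, Nat.card_zpowers, hzo, pow_succ, ← mul_assoc] at h1
    exact (Nat.eq_of_mul_eq_mul_right hp.pos h1).symm

end CfsgLib.Solv
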