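import Cfsg.Agent.Solv.ProductLemmas
import Cfsg.Agent.Solv.FittingBasic
import Cfsg.Agent.Solv.SSGTheorems

/-!
A nilpotent Hall subgroup of a solvable group without normal `π'`-subgroups: either it is normal
or one of its Sylow subgroups centralises a nontrivial `π'`-element.
-/

set_option autoImplicit false
set_option linter.style.haveILetI false
set_option linter.deprecated false
set_option linter.unusedSectionVars false

open scoped Pointwise commutatorElement

namespace CfsgLib.Solv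

variable {G : Type*} [Group G]

theorem normal_le_of_piNat_hall [Finite G] {π : Set ℕ} {A N : Subgroup G} [N.Normal]
    (hA : PiNat π (Nat.card A)) (hAi : PiNat πᶜ A.index) (hN : PiNat π (Nat.card N)) : N ≤ A := by
  have h1 : PiNat π (Nat.card (A ⊔ N : Subgroup G)) := (hA.mul hN).of_dvd (card_sup_dvd_mul A N)
  have h2 := Nat.le_of_dvd Nat.card_pos (card_dvd_card_hall hAi h1)
  exact le_sup_right.trans (Subgroup.eq_of_le_of_card_ge le_sup_left h2).ge

theorem sylow_fitting_le_pCore [Finite G] {p : ℕ} [Fact p.Prime]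
    (P : Sylow p (Cfsg.fittingSubgroup G)) :
    (P : Subgroup (Cfsg.fittingSubgroup G)).map (Cfsg.fittingSubgroup G).subtype ≤ Cfsg.pCore p G := by
  haveI := fittingSubgroup_normal G
  haveI := fittingSubgroup_isNilpotent (G := G)
  haveI := Sylow.characteristic_of_normal P inferInstance
  haveI := normal_map_subtype_of_characteristic (P : Subgroup (Cfsg.fittingSubgroup G))
  exact le_pCore (P.2.map _)

theorem mem_pCore_of_mem_fitting [Finite G] {p k : ℕ} [hp : Fact p.Prime] {x : G}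
    (hx : x ∈ Cfsg.fittingSubgroup G) (hxp : x ^ p ^ k = 1) : x ∈ Cfsg.pCore p G := by
  haveI := fittingSubgroup_isNilpotent (G := G)
  let P : Sylow p (Cfsg.fittingSubgroup G) := default
  refine sylow_fitting_le_pCore P ⟨⟨x, hx⟩, ?_, rfl⟩
  have hX : IsPGroup p (Subgroup.zpowers (⟨x, hx⟩ : Cfsg.fittingSubgroup G)) := by
    intro y
    obtain ⟨i, hi⟩ := Subgroup.mem_zpowers_iff.1 y.2
    refine ⟨k, Subtype.ext (Subtype.ext ?_)⟩
    show ((y : Cfsg.fittingSubgroup G) : G) ^ p ^ k = 1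
    rw [← hi, SubgroupClass.coe_zpow, ← zpow_natCast, ← zpow_mul, mul_comm, zpow_mul, zpow_natCast,
      hxp, one_zpow]
  obtain ⟨Q, hQ⟩ := hX.exists_le_sylow
  haveI : Subsingleton (Sylow p (Cfsg.fittingSubgroup G)) := by
    haveI := P.unique_of_normal inferInstance
    infer_instance
  rw [Subsingleton.elim P Q]
  exact hQ (Subgroup.mem_zpowers _)

theorem fittingSubgroup_le_hall [Finite G] {A : Subgroup G} (hAh : (Nat.card A).Coprime A.index)
    (h : ∀ q : ℕ, q.Prime → ¬ q ∣ Nat.card A → Cfsg.pCore q G = ⊥) :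
    Cfsg.fittingSubgroup G ≤ A := by
  rw [fittingSubgroup_eq_iSup_pCore]
  refine iSup_le fun q => ?_
  by_cases hq : (q : ℕ) ∣ Nat.card A
  · haveI := Fact.mk q.2
    haveI := pCore_normal G (q : ℕ)
    exact normal_le_of_piNat_hall (π := {r | r ∣ Nat.card A}) (fun r _ hr => hr)
      (fun r hr hd hm => hr.ne_one (Nat.eq_one_of_dvd_coprimes hAh hm hd))
      (PiNat.of_isPGroup (pCore_isPGroup G (q : ℕ)) hq)
  · rw [h q q.2 hq]; exact bot_le

theorem exists_qpart [Finite G] {q : ℕ} [hq : Fact q.Prime] {G' : Type*} [Group G'] (f : G →* G')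
    {c : G} {k : ℕ} (hfc : f c ≠ 1) (hck : f c ^ q ^ k = 1) :
    ∃ e ∈ Subgroup.zpowers c, e ≠ 1 ∧ ∃ j, orderOf e = q ^ j := by
  set n := orderOf c with hn
  have hn0 : n ≠ 0 := (orderOf_pos c).ne'
  set m := n / q ^ n.factorization q with hm
  have hco : q.Coprime m := Nat.coprime_ordCompl hq.out hn0
  refine ⟨c ^ m, Subgroup.npow_mem_zpowers c m, fun e => hfc ?_, n.factorization q, ?_⟩
  · rw [← orderOf_eq_one_iff]
    exact Nat.eq_one_of_dvd_coprimes (hco.pow_left k) (orderOf_dvd_of_pow_eq_one hck)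
      (orderOf_dvd_of_pow_eq_one (by rw [← map_pow, e, map_one]))
  · rw [orderOf_pow_of_dvd (Nat.pos_iff_ne_zero.1 (Nat.ordCompl_pos q hn0)) (Nat.ordCompl_dvd n q)]
    exact Nat.div_eq_of_eq_mul_left (Nat.ordCompl_pos q hn0) (Nat.ordProj_mul_ordCompl_eq_self n q).symm

theorem hall_normal_or_centralized [Finite G] [Group.IsSolvable G] (A : Subgroup G)
    (hA : Group.IsNilpotent A) (hAh : (Nat.card A).Coprime A.index)
    (htwo : ∀ r : ℕ, ∃ s : ℕ, s.Prime ∧ s ∣ Nat.card A ∧ s ≠ r)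
    (hcore : ∀ q : ℕ, q.Prime → ¬ q ∣ Nat.card A → Cfsg.pCore q G = ⊥) :
    A.Normal ∨ ∃ s q : ℕ, s.Prime ∧ q.Prime ∧ s ∣ Nat.card A ∧ ¬ q ∣ Nat.card A ∧
      ∃ e : G, e ≠ 1 ∧ (∃ j, orderOf e = q ^ j) ∧
        ∀ a ∈ A, (∃ j, orderOf a = s ^ j) → e * a = a * e := by
  set F := Cfsg.fittingSubgroup G with hF
  haveI := fittingSubgroup_normal G
  have hFA : F ≤ A := fittingSubgroup_le_hall hAh hcore
  by_cases hAF : A ≤ F
  · left
    rw [le_antisymm hAF hFA]
    infer_instance
  right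
  set f := QuotientGroup.mk' F with hf
  have hs := QuotientGroup.mk'_surjective F
  have hπbot : ∀ u : ℕ, u.Prime → u ∣ Nat.card A → Cfsg.pCore u (G ⧸ F) = ⊥ := by
    intro u hu hud
    haveI := Fact.mk hu
    haveI := pCore_normal (G ⧸ F) u
    set X := (Cfsg.pCore u (G ⧸ F)).comap f
    have hXA : X ≤ A := by
      refine normal_le_of_piNat_hall (π := {r | r ∣ Nat.card A}) (fun r _ hr => hr)
        (fun r hr hd hm => hr.ne_one (Nat.eq_one_of_dvd_coprimes hAh hm hd)) ?_
      intro r hr hd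
      rw [card_comap_mk', hr.dvd_mul] at hd
      rcases hd with hd | hd
      · obtain ⟨j, hj⟩ := IsPGroup.iff_card.1 (pCore_isPGroup (G ⧸ F) u)
        rw [hj] at hd
        rw [(Nat.prime_dvd_prime_iff_eq hr hu).1 (hr.dvd_of_dvd_pow hd)]
        exact hud
      · exact hd.trans (Subgroup.card_dvd_of_le hFA)
    haveI : Group.IsNilpotent X := by
      haveI := hA
      exact Group.nilpotent_of_mulEquiv (Subgroup.subgroupOfEquivOfLe hXA)
    have hXF : X ≤ F := le_fittingSubgroup inferInstance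
    rw [← Subgroup.map_comap_eq_self_of_surjective hs (Cfsg.pCore u (G ⧸ F)),
      Subgroup.map_eq_bot_iff, QuotientGroup.ker_mk']
    exact hXF
  have hcopF : ∀ x ∈ Cfsg.fittingSubgroup (G ⧸ F), ∀ a ∈ A, f a = x → x = 1 := by
    intro x hx a ha e
    by_contra hne
    obtain ⟨u, hu, hud⟩ := Nat.exists_prime_and_dvd (fun h => hne (orderOf_eq_one_iff.1 h))
    haveI := Fact.mk hu
    have hua : u ∣ Nat.card A := hud.trans
      ((e ▸ orderOf_map_dvd f a : orderOf x ∣ orderOf a).trans (Subgroup.orderOf_dvd_natCard A ha))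
    have huF : u ∣ Nat.card (Cfsg.fittingSubgroup (G ⧸ F)) :=
      hud.trans (Subgroup.orderOf_dvd_natCard _ hx)
    let P : Sylow u (Cfsg.fittingSubgroup (G ⧸ F)) := default
    have h1 := sylow_fitting_le_pCore P
    rw [hπbot u hu hua, le_bot_iff,
      Subgroup.map_eq_bot_iff_of_injective _ (Subgroup.subtype_injective _)] at h1
    exact P.ne_bot_of_dvd_card huF h1
  obtain ⟨r, q, hr, hq, hqA, a, ha, har, o, ho, hoa⟩ : ∃ r q : ℕ, r.Prime ∧ q.Prime ∧
      ¬ q ∣ Nat.card A ∧ ∃ a ∈ A, (∃ j, orderOf a = r ^ j) ∧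
        ∃ o, f o ∈ Cfsg.pCore q (G ⧸ F) ∧ ⁅o, a⁆ ∉ F := by
    by_contra hc
    simp only [not_exists, not_and, not_not] at hc
    haveI : Group.IsSolvable (G ⧸ F) := Group.isSolvable_of_surjective hs
    have hle : A ≤ (Subgroup.centralizer (Cfsg.fittingSubgroup (G ⧸ F) : Set (G ⧸ F))).comap f := by
      refine le_of_forall_prime_power fun r hr _ a ha ⟨j, hj⟩ => ?_
      show f a ∈ Subgroup.centralizer _
      have : Cfsg.fittingSubgroup (G ⧸ F) ≤ Subgroup.centralizer {f a} := by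
        rw [fittingSubgroup_eq_iSup_pCore]
        refine iSup_le fun u x hx => ?_
        rw [Subgroup.mem_centralizer_iff]
        rintro y rfl
        by_cases huA : (u : ℕ) ∣ Nat.card A
        · rw [hπbot u u.2 huA, Subgroup.mem_bot] at hx
          subst hx; simp
        · obtain ⟨o, rfl⟩ := hs x
          have h1 := (QuotientGroup.eq_one_iff _).2 (hc r u hr u.2 huA a ha ⟨j, hj⟩ o hx)
          have h2 : f ⁅o, a⁆ = 1 := h1
          rw [map_commutatorElement, commutatorElement_eq_one_iff_mul_comm] at h2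
          exact h2.symm
      exact Subgroup.mem_centralizer_iff.2 fun x hx =>
        (Subgroup.mem_centralizer_iff.1 (this hx) (f a) rfl).symm
    refine hAF fun a ha => ?_
    rw [← QuotientGroup.eq_one_iff]
    exact hcopF _ (centralizer_fittingSubgroup_le (hle ha)) a ha rfl
  obtain ⟨s, hsp, hsA, hsr⟩ := htwo r
  refine ⟨s, q, hsp, hq, hsA, hqA, ?_⟩
  haveI := Fact.mk hsp; haveI := Fact.mk hq; haveI := Fact.mk hr
  haveI := pCore_normal G s
  haveI := pCore_normal (G ⧸ F) q
  set E := Subgroup.centralizer (Cfsg.pCore s G : Set G) with hE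
  have hcentA : ∀ u : ℕ, u.Prime → ∀ x ∈ A, (orderOf x).Coprime u →
      x ∈ Subgroup.centralizer (Cfsg.pCore u G : Set G) := by
    intro u hu x hx hco
    haveI := Fact.mk hu
    by_cases hud : u ∣ Nat.card A
    · obtain ⟨P, hP, hPA⟩ := exists_sylow_le_nilpotent_hall hA hAh (p := u) hud
      exact Subgroup.centralizer_le (pCore_le_sylow P) ((hPA x hx).2 hco)
    · rw [hcore u hu hud]
      exact Subgroup.mem_centralizer_iff.2 fun y hy => by
        rw [Subgroup.mem_bot.1 hy]; simp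
  obtain ⟨j, hj⟩ := har
  have haE : a ∈ E := hcentA s hsp a ha (by
    rw [hj]; exact ((Nat.coprime_primes hr hsp).2 hsr.symm).pow_left j)
  haveI hEn : E.Normal := by rw [hE]; infer_instance
  set O := (Cfsg.pCore q (G ⧸ F)).comap f
  haveI : O.Normal := Subgroup.Normal.comap inferInstance f
  have hcE : ⁅o, a⁆ ∈ E ⊓ O := by
    refine Subgroup.mem_inf.2 ⟨?_, ?_⟩
    · rw [commutatorElement_def]; exact mul_mem (hEn.conj_mem a haE o) (inv_mem haE)
    · rw [commutatorElement_def, show o * a * o⁻¹ * a⁻¹ = o * (a * o⁻¹ * a⁻¹) by group]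
      exact mul_mem ho (Subgroup.Normal.conj_mem ‹O.Normal› _ (inv_mem (show o ∈ O from ho)) a)
  obtain ⟨hc1, hc2⟩ := Subgroup.mem_inf.1 hcE
  obtain ⟨k, hk⟩ := pCore_isPGroup (G ⧸ F) q ⟨f ⁅o, a⁆, hc2⟩
  obtain ⟨e, hec, he1, hej⟩ := exists_qpart (q := q) f (k := k) (c := ⁅o, a⁆)
    (fun h => hoa ((QuotientGroup.eq_one_iff _).1 h)) (by simpa using congrArg Subtype.val hk)
  have heE : e ∈ E := Subgroup.zpowers_le.2 hc1 hec
  refine ⟨e, he1, hej, fun b hb hbj => ?_⟩
  obtain ⟨i, hi⟩ := hbj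
  set c := e * b * e⁻¹ * b⁻¹ with hcd
  have hcF : c ∈ F := by
    refine centralizer_fittingSubgroup_le ?_
    have : Cfsg.fittingSubgroup G ≤ Subgroup.centralizer {c} := by
      rw [fittingSubgroup_eq_iSup_pCore]
      refine iSup_le fun u x hx => ?_
      rw [Subgroup.mem_centralizer_iff]
      rintro y rfl
      haveI := pCore_normal G (u : ℕ)
      haveI hCn : (Subgroup.centralizer (Cfsg.pCore (u : ℕ) G : Set G)).Normal := inferInstance
      have hcu : c ∈ Subgroup.centralizer (Cfsg.pCore (u : ℕ) G : Set G) := by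
        by_cases hus : (u : ℕ) = s
        · rw [hus, hcd, show e * b * e⁻¹ * b⁻¹ = e * (b * e⁻¹ * b⁻¹) by group]
          exact mul_mem heE (hEn.conj_mem _ (inv_mem heE) b)
        · have hb' : b ∈ Subgroup.centralizer (Cfsg.pCore (u : ℕ) G : Set G) := hcentA u u.2 b hb (by
            rw [hi]; exact ((Nat.coprime_primes hsp u.2).2 fun h => hus h.symm).pow_left i)
          rw [hcd]
          exact mul_mem (hCn.conj_mem b hb' e) (inv_mem hb')
      exact (Subgroup.mem_centralizer_iff.1 hcu x hx).symm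
    exact Subgroup.mem_centralizer_iff.2 fun x hx =>
      (Subgroup.mem_centralizer_iff.1 (this hx) c rfl).symm
  have hbe : e * b * e⁻¹ = c * b := by rw [hcd]; group
  -- `c` is an `s`-element of the Fitting subgroup
  obtain ⟨P, hPA, hPn⟩ := exists_sylow_le_nilpotent_hall hA hAh (p := s) hsA
  have hmemP : ∀ x ∈ A, (∃ i, orderOf x = s ^ i) → x ∈ (P : Subgroup G) := by
    intro x hx ⟨i, hxi⟩
    set L := Subgroup.normalizer ((P : Subgroup G) : Set G)
    haveI : ((P : Subgroup G).subgroupOf L).Normal := Subgroup.normal_in_normalizer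
    haveI := (P.subtype Subgroup.le_normalizer : Sylow s L).unique_of_normal
      (by rw [Sylow.coe_subtype]; infer_instance)
    have hX : IsPGroup s (Subgroup.zpowers (⟨x, (hPn x hx).1⟩ : L)) :=
      IsPGroup.of_card (n := i) (by rw [Nat.card_zpowers, Subgroup.orderOf_mk, hxi])
    obtain ⟨Q, hQ⟩ := hX.exists_le_sylow
    rw [Subsingleton.elim Q (P.subtype Subgroup.le_normalizer)] at hQ
    exact hQ (Subgroup.mem_zpowers _)
  have hcP : c ∈ (P : Subgroup G) := by
    have h1 : e * b * e⁻¹ ∈ (P : Subgroup G) := hmemP _ (hbe ▸ mul_mem (hFA hcF) hb)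
      ⟨i, by rw [← MulAut.conj_apply, MulEquiv.orderOf_eq, hi]⟩
    rw [hcd]
    exact mul_mem h1 (inv_mem (hmemP b hb ⟨i, hi⟩))
  obtain ⟨l, hl⟩ := P.2 ⟨c, hcP⟩
  have hcl : c ^ s ^ l = 1 := by simpa using congrArg Subtype.val hl
  have hec' : e * c * e⁻¹ = c := by
    rw [← Subgroup.mem_centralizer_iff.1 heE c (mem_pCore_of_mem_fitting hcF hcl), mul_inv_cancel_right]
  have hpow : ∀ n : ℕ, e ^ n * b * (e ^ n)⁻¹ = c ^ n * b := by
    intro n
    induction n with
    | zero => simp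
    | succ n ih =>
      calc e ^ (n + 1) * b * (e ^ (n + 1))⁻¹ = e * (e ^ n * b * (e ^ n)⁻¹) * e⁻¹ := by
            rw [pow_succ']; group
        _ = e * (c ^ n * b) * e⁻¹ := by rw [ih]
        _ = (e * c ^ n * e⁻¹) * (e * b * e⁻¹) := by simp only [mul_assoc, inv_mul_cancel_left]
        _ = (e * c * e⁻¹) ^ n * (e * b * e⁻¹) := by rw [conj_pow]
        _ = c ^ (n + 1) * b := by rw [hec', hbe, pow_succ, ← mul_assoc]
  have h1 := hpow (orderOf e)
  rw [pow_orderOf_eq_one, inv_one, one_mul, mul_one] at h1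
  obtain ⟨j', hj'⟩ := hej
  have hc1' : c = 1 := orderOf_eq_one_iff.1 (Nat.eq_one_of_dvd_coprimes
    (((Nat.coprime_primes hsp hq).2 fun h => hqA (h ▸ hsA)).pow l j')
    (orderOf_dvd_of_pow_eq_one hcl) (hj' ▸ orderOf_dvd_of_pow_eq_one (mul_eq_right.1 h1.symm)))
  rw [hc1', one_mul] at hbe
  exact mul_inv_eq_iff_eq_mul.1 hbe

end CfsgLib.Solv
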