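import Cfsg.Agent.Solv.Basic
import Cfsg.Agent.Solv.Hall
import Cfsg.Agent.Solv.CoprimeAction
import Cfsg.Agent.Solv.PGroups
import Cfsg.Agent.Perm.HallHigman
import Cfsg.Prelude.Def_Local

/-!
Criteria for `p`-length at most one.
-/

set_option autoImplicit false

open scoped Pointwise

namespace CfsgLib.Solv.PLen

variable {G : Type*} [Group G] [Finite G] {p : ℕ} [hp : Fact p.Prime]

/-- `p`-length at most one once the index of `O_p` modulo `O_{p'}` is prime to `p`. -/
theorem pLengthLE_one_of_index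
    [(Cfsg.pPrimeCore p G).Normal]
    (h : ¬ p ∣ (Cfsg.pCore p (G ⧸ Cfsg.pPrimeCore p G)).index) : Cfsg.PLengthLE p 1 G := by
  set U1 := (Cfsg.upperPSeries p G 1).1 with hU1
  have hU1' : U1 = Cfsg.pPrimeCore p G := by
    show (Cfsg.pPrimeCore p (G ⧸ (⊥ : Subgroup G))).comap (QuotientGroup.mk' ⊥) = _
    rw [← CfsgLib.Solv.map_pPrimeCore_equiv (p := p) (QuotientGroup.quotientBot (G := G)).symm]
    exact Subgroup.comap_map_eq_self_of_injective (f := QuotientGroup.mk' (⊥ : Subgroup G))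
          (fun a b hab => by simpa [QuotientGroup.eq, inv_mul_eq_one] using hab) _
  have e := QuotientGroup.quotientMulEquivOfEq hU1'
  have h1 : ¬ p ∣ (Cfsg.pCore p (G ⧸ U1)).index := by
    rw [← CfsgLib.Solv.map_pCore_equiv (p := p) e.symm]
    simpa [Subgroup.index_map_equiv] using h
  set U2 := (Cfsg.upperPSeries p G 2).1 with hU2
  have hU2' : U2 = (Cfsg.pCore p (G ⧸ U1)).comap (QuotientGroup.mk' U1) := rfl
  have hcop : (Nat.card (⊤ : Subgroup (G ⧸ U2))).Coprime p := by
    rw [Subgroup.card_top, Nat.coprime_comm, hp.out.coprime_iff_not_dvd, ← Subgroup.index_eq_card, hU2',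
      Subgroup.index_comap_of_surjective _ (QuotientGroup.mk'_surjective _)]
    exact h1
  show (Cfsg.pPrimeCore p (G ⧸ U2)).comap (QuotientGroup.mk' U2) = ⊤
  rw [eq_top_iff.2 (CfsgLib.Solv.le_pPrimeCore (N := ⊤) hcop), Subgroup.comap_top]

/-- A complement of a normal subgroup `U` in a larger normal subgroup with coprime index. -/
theorem exists_complement_in {U K : Subgroup G} [U.Normal] (hUK : U ≤ K)
    (hcop : (Nat.card U).Coprime (U.relIndex K)) :
    ∃ Q : Subgroup G, Q ≤ K ∧ Q ⊔ U = K ∧ (Nat.card Q).Coprime (Nat.card U) := by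
  haveI : (U.subgroupOf K).Normal := inferInstance
  obtain ⟨Q0, hQ0⟩ := Subgroup.exists_right_complement'_of_coprime (N := U.subgroupOf K)
    (by rwa [CfsgLib.Solv.card_subgroupOf hUK])
  refine ⟨Q0.map K.subtype, Subgroup.map_subtype_le _, ?_, ?_⟩
  · conv_lhs => arg 2; rw [← Subgroup.map_subgroupOf_eq_of_le hUK]
    rw [← Subgroup.map_sup, sup_comm, hQ0.sup_eq_top, ← MonoidHom.range_eq_map, Subgroup.range_subtype]
  · rw [CfsgLib.Solv.card_map_subtype, ← hQ0.symm.index_eq_card]
    exact hcop.symm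

/-- Frattini argument for coprime complements. -/
theorem sup_normalizer_eq_top {U K Q : Subgroup G} [U.Normal] [K.Normal] (hsup : Q ⊔ U = K)
    (hcop : (Nat.card Q).Coprime (Nat.card U)) (hs : Group.IsSolvable U ∨ Group.IsSolvable Q) :
    U ⊔ Subgroup.normalizer (Q : Set G) = ⊤ := by
  refine eq_top_iff.2 fun g _ => ?_
  have hKg : MulAut.conj g • K = K := Subgroup.Normal.conjAct inferInstance g
  have hUg : MulAut.conj g • U = U := Subgroup.Normal.conjAct inferInstance g
  have hXY : Q ⊔ U = MulAut.conj g • Q ⊔ U := by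
    rw [hsup]
    conv_lhs => rw [← hKg, ← hsup, Subgroup.smul_sup, hUg]
  obtain ⟨c, hc, hcQ⟩ := CfsgLib.Solv.conj_complement_in_sup hXY hcop
    (by rw [CfsgLib.Solv.card_conj_smul]; exact hcop) hs
  have hn : c⁻¹ * g ∈ Subgroup.normalizer (Q : Set G) := by
    refine CfsgLib.Solv.mem_normalizer_of_conj_smul_eq ?_
    rw [map_mul, mul_smul, ← hcQ, ← mul_smul, ← map_mul, inv_mul_cancel, map_one, one_smul]
  have hle : Q ⊔ U ≤ U ⊔ Subgroup.normalizer (Q : Set G) :=
    sup_le (Subgroup.le_normalizer.trans le_sup_right) le_sup_left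
  have := mul_mem (hle hc) (Subgroup.mem_sup_right hn : c⁻¹ * g ∈ U ⊔ Subgroup.normalizer (Q : Set G))
  simpa using this

/-- The preimage of `O_{p'}(G/U)` is invariant under automorphisms fixing `U`. -/
theorem mem_comap_pPrimeCore_of_aut {U : Subgroup G} [U.Normal] (a : MulAut G)
    (ha : U.map a.toMonoidHom = U) {x : G}
    (hx : x ∈ (Cfsg.pPrimeCore p (G ⧸ U)).comap (QuotientGroup.mk' U)) :
    a x ∈ (Cfsg.pPrimeCore p (G ⧸ U)).comap (QuotientGroup.mk' U) := by
  rw [Subgroup.mem_comap] at hx ⊢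
  have := CfsgLib.Solv.map_pPrimeCore_equiv (p := p) (QuotientGroup.congr U U a ha)
  rw [← this]
  exact ⟨_, hx, rfl⟩

theorem pPrimeCore_ne_bot_of_pCore_eq_bot [Nontrivial G] (hG : Cfsg.IsPSolvable p G)
    (h : Cfsg.pCore p G = ⊥) : Cfsg.pPrimeCore p G ≠ ⊥ := by
  intro h0
  have h1 := CfsgLib.Perm.centralizer_pCore_le_of_pSolvable hG h0
  rw [h, Subgroup.coe_bot] at h1
  obtain ⟨x, hx⟩ := exists_ne (1 : G)
  exact hx (Subgroup.mem_bot.1 (h1 (Subgroup.mem_centralizer_iff.2 fun y hy => by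
    rw [Set.mem_singleton_iff.1 hy, one_mul, mul_one])))

/-- Gaschütz–Yen when `O_{p'}` is trivial. -/
theorem not_dvd_index_pCore (hG : Cfsg.IsPSolvable p G) (hO : Cfsg.pPrimeCore p G = ⊥) (hp2 : p ≠ 2)
    (H : ∀ x y : G, orderOf x = p → orderOf y = p → ∃ a : MulAut G, a x ∈ Subgroup.zpowers y ∧
      y ∈ Subgroup.zpowers (a x)) :
    ¬ p ∣ (Cfsg.pCore p G).index := by
  intro hdiv
  haveI hUn : (Cfsg.pCore p G).Normal := CfsgLib.Solv.pCore_normal G p
  haveI hUc : (Cfsg.pCore p G).Characteristic := CfsgLib.Solv.pCore_characteristic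
  set U := Cfsg.pCore p G with hU
  have hUp : IsPGroup p U := CfsgLib.Solv.pCore_isPGroup G p
  have hcU := CfsgLib.Perm.centralizer_pCore_le_of_pSolvable hG hO
  have hUmap : ∀ a : MulAut G, U.map a.toMonoidHom = U := fun a =>
    Subgroup.characteristic_iff_map_eq.1 hUc a
  have hUne : Nontrivial U := by
    rw [Subgroup.nontrivial_iff_ne_bot]
    intro h0
    rw [h0, Subgroup.index_bot] at hdiv
    obtain ⟨x, hx⟩ := exists_prime_orderOf_dvd_card' p hdiv
    have hx1 : x ∈ U := hcU (Subgroup.mem_centralizer_iff.2 fun y hy => by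
      rw [show y = 1 from Subgroup.mem_bot.1 (h0 ▸ hy), one_mul, mul_one])
    rw [h0, Subgroup.mem_bot] at hx1
    exact hp.out.one_lt.ne' (by rw [← hx, hx1, orderOf_one])
  -- every element of order `p` lies in the centre of `U`
  have hcen : ∀ x : G, orderOf x = p → x ∈ U ∧ ∀ u ∈ U, Commute u x := by
    haveI := hUp.center_nontrivial
    obtain ⟨k, hk0, hk⟩ := (hUp.to_subgroup (Subgroup.center U)).nontrivial_iff_card.1 inferInstance
    obtain ⟨z, hz⟩ := exists_prime_orderOf_dvd_card' p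
      (show p ∣ Nat.card (Subgroup.center U) by rw [hk]; exact dvd_pow_self p (by omega))
    let z0 : G := ((z : U) : G)
    have hz0 : orderOf z0 = p := by
      show orderOf ((z : U) : G) = p
      rw [Subgroup.orderOf_coe, Subgroup.orderOf_coe]
      exact hz
    intro x hx
    obtain ⟨a, -, h2⟩ := H z0 x hz0 hx
    obtain ⟨n, hn⟩ := Subgroup.mem_zpowers_iff.1 h2
    have hmem : z0 ^ n ∈ U := zpow_mem (z : U).2 n
    have hx' : x = a (z0 ^ n) := by rw [map_zpow, hn]
    refine ⟨hx' ▸ (hUmap a).le (Subgroup.mem_map_of_mem _ hmem), fun u hu => ?_⟩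
    obtain ⟨w, hw, rfl⟩ := (hUmap a).ge hu
    have hcz : Commute w z0 := congrArg Subtype.val (Subgroup.mem_center_iff.1 z.2 ⟨w, hw⟩)
    rw [hx']
    exact (hcz.zpow_right n).map a
  -- the preimage of the `p'`-core of `G/U`
  haveI := CfsgLib.Solv.pPrimeCore_normal (G ⧸ U) p
  set K := (Cfsg.pPrimeCore p (G ⧸ U)).comap (QuotientGroup.mk' U) with hK
  have hUK : U ≤ K := QuotientGroup.le_comap_mk' U _
  have hrel : (Nat.card U).Coprime (U.relIndex K) := by
    obtain ⟨m, hm⟩ := IsPGroup.iff_card.1 hUp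
    rw [hm]
    refine Nat.Coprime.pow_left m ?_
    have h2 := CfsgLib.Solv.relIndex_mul_card hUK
    have h3 := CfsgLib.Solv.card_map_mk' U K
    rw [Subgroup.map_comap_eq_self_of_surjective (QuotientGroup.mk'_surjective U), inf_eq_right.2 hUK] at h3
    have : U.relIndex K = Nat.card (Cfsg.pPrimeCore p (G ⧸ U)) :=
      Nat.eq_of_mul_eq_mul_left (Nat.card_pos (α := U)) ((h2.trans h3.symm).trans (mul_comm _ _))
    rw [this]
    exact (CfsgLib.Solv.pPrimeCore_coprime _ p).symm
  obtain ⟨Q, hQK, hQU, hQcop⟩ := exists_complement_in hUK hrel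
  have hKne : ¬ K ≤ U := by
    intro hle
    haveI : Nontrivial (G ⧸ U) := Finite.one_lt_card_iff_nontrivial.1 (by
      rw [← Subgroup.index_eq_card]
      exact lt_of_lt_of_le hp.out.one_lt (Nat.le_of_dvd (Nat.pos_of_ne_zero Subgroup.index_ne_zero_of_finite) hdiv))
    refine pPrimeCore_ne_bot_of_pCore_eq_bot (CfsgLib.Perm.isPSolvable_quotient hG U)
      CfsgLib.Solv.pCore_quotient_self ?_
    rw [← Subgroup.map_comap_eq_self_of_surjective (QuotientGroup.mk'_surjective U)
      (Cfsg.pPrimeCore p (G ⧸ U)), Subgroup.map_eq_bot_iff, QuotientGroup.ker_mk']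
    exact hle
  -- no element of order `p` centralises `Q`
  have hno : ∀ x : G, orderOf x = p → x ∉ Subgroup.centralizer (Q : Set G) := by
    intro x hx hxQ
    have hxK : ∀ k ∈ K, Commute k x := by
      intro k hk
      rw [← hQU] at hk
      refine (show Q ⊔ U ≤ Subgroup.centralizer ({x} : Set G) from sup_le ?_ ?_) hk x rfl |>.symm
      · intro q hq
        exact Subgroup.mem_centralizer_singleton_iff.2 (Subgroup.mem_centralizer_iff.1 hxQ q hq)
      · intro u hu
        exact Subgroup.mem_centralizer_singleton_iff.2 ((hcen x hx).2 u hu)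
    have hall : ∀ y : G, orderOf y = p → ∀ k ∈ K, Commute k y := by
      intro y hy k hk
      obtain ⟨a, -, h2⟩ := H x y hx hy
      obtain ⟨n, hn⟩ := Subgroup.mem_zpowers_iff.1 h2
      have hk' : a.symm k ∈ K := mem_comap_pPrimeCore_of_aut a.symm (hUmap a.symm) hk
      have := ((hxK _ hk').zpow_right n).map a
      rwa [map_zpow, hn, MulEquiv.apply_symm_apply] at this
    refine hKne ?_
    rw [← hQU]
    refine sup_le (fun q hq => hcU ?_) le_rfl
    let φ : MulAut ↥U := (MulAut.conjNormal (H := U)) q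
    have hφ : φ = 1 := by
      refine CfsgLib.Solv.aut_eq_one_of_fix_omega hp2 hUp ?_ fun u hu => ?_
      · refine Nat.Coprime.coprime_dvd_left (orderOf_map_dvd (MulAut.conjNormal (H := U)) q) ?_
        refine Nat.Coprime.coprime_dvd_left (Subgroup.orderOf_dvd_natCard Q hq) ?_
        obtain ⟨k, hk0, hk⟩ := hUp.nontrivial_iff_card.1 hUne
        rw [hk] at hQcop
        exact hQcop.coprime_dvd_right (dvd_pow_self p (by omega))
      · by_cases hu1 : u = 1
        · rw [hu1, map_one]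
        · refine Subtype.ext ?_
          show q * (u : G) * q⁻¹ = u
          rw [(hall (u : G) (by rw [Subgroup.orderOf_coe]; exact orderOf_eq_prime hu hu1) q (hQK hq)).eq,
            mul_inv_cancel_right]
    exact Subgroup.mem_centralizer_iff.2 fun u hu => by
      have := congrArg (fun f : MulAut ↥U => ((f ⟨u, hu⟩ : ↥U) : G)) hφ
      change q * u * q⁻¹ = u at this
      exact (mul_inv_eq_iff_eq_mul.1 this).symm
  -- the normaliser of `Q` covers `G/U`
  haveI : Group.IsSolvable U := by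
    haveI := hUp.isNilpotent
    infer_instance
  set N := Subgroup.normalizer (Q : Set G) with hN
  have hsup : U ⊔ N = ⊤ := sup_normalizer_eq_top hQU hQcop (Or.inl inferInstance)
  have hpN : p ∣ Nat.card N := by
    refine hdiv.trans ?_
    have h1 := U.relIndex_dvd_card N
    rwa [← Subgroup.relIndex_sup_right, sup_comm, hsup, Subgroup.relIndex_top_right] at h1
  obtain ⟨x, hx⟩ := exists_prime_orderOf_dvd_card' p hpN
  have hxo : orderOf (x : G) = p := by rw [Subgroup.orderOf_coe]; exact hx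
  refine hno _ hxo (CfsgLib.Solv.mem_centralizer_of_mem_normalizer ?_ ?_ (hcen _ hxo).1 x.2)
  · rw [Subgroup.normalizer_eq_top]; exact le_top
  · exact Subgroup.inf_eq_bot_of_coprime hQcop

theorem exists_lift {M : Subgroup G} [M.Normal] (hM : (Nat.card M).Coprime p) {z : G ⧸ M}
    (hz : orderOf z = p) : ∃ x : G, orderOf x = p ∧ Subgroup.zpowers (x : G ⧸ M) = Subgroup.zpowers z := by
  set L := (Subgroup.zpowers z).comap (QuotientGroup.mk' M) with hL
  have hML : M ≤ L := QuotientGroup.le_comap_mk' M _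
  have hc := CfsgLib.Solv.card_map_mk' M L
  rw [Subgroup.map_comap_eq_self_of_surjective (QuotientGroup.mk'_surjective M), inf_eq_right.2 hML,
    Nat.card_zpowers, hz] at hc
  obtain ⟨x, hx⟩ := exists_prime_orderOf_dvd_card' (G := L) p (hc ▸ dvd_mul_right p _)
  refine ⟨x, by rw [Subgroup.orderOf_coe]; exact hx, ?_⟩
  refine Subgroup.eq_of_le_of_card_ge (Subgroup.zpowers_le.2 x.2) ?_
  rw [Nat.card_zpowers, Nat.card_zpowers, hz]
  rcases (Nat.dvd_prime hp.out).1 ((orderOf_map_dvd (QuotientGroup.mk' M) (x : G)).trans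
    (by rw [Subgroup.orderOf_coe, hx])) with h | h
  · exfalso
    have hxM : (x : G) ∈ M := (QuotientGroup.eq_one_iff _).1 (orderOf_eq_one_iff.1 h)
    have h2 := Subgroup.orderOf_dvd_natCard M hxM
    rw [Subgroup.orderOf_coe, hx] at h2
    exact hp.out.not_dvd_one (hM ▸ Nat.dvd_gcd h2 dvd_rfl)
  · exact h.ge

theorem gaschutz_yen (hp2 : p ≠ 2) (hG : Cfsg.IsPSolvable p G)
    (htrans : ∀ U V : Subgroup G, Nat.card U = p → Nat.card V = p →
      ∃ a : MulAut G, U.map a.toMonoidHom = V) :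
    Cfsg.PLengthLE p 1 G := by
  haveI hMn : (Cfsg.pPrimeCore p G).Normal := CfsgLib.Solv.pPrimeCore_normal G p
  haveI hMc : (Cfsg.pPrimeCore p G).Characteristic := CfsgLib.Solv.pPrimeCore_characteristic
  set M := Cfsg.pPrimeCore p G
  refine pLengthLE_one_of_index (not_dvd_index_pCore (CfsgLib.Perm.isPSolvable_quotient hG _)
    CfsgLib.Solv.pPrimeCore_quotient_self hp2 fun u v hu hv => ?_)
  obtain ⟨x, hx, hxu⟩ := exists_lift (CfsgLib.Solv.pPrimeCore_coprime G p) hu
  obtain ⟨y, hy, hyv⟩ := exists_lift (CfsgLib.Solv.pPrimeCore_coprime G p) hv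
  obtain ⟨a, ha⟩ := htrans (Subgroup.zpowers x) (Subgroup.zpowers y) (by rw [Nat.card_zpowers, hx])
    (by rw [Nat.card_zpowers, hy])
  let b : MulAut (G ⧸ M) := QuotientGroup.congr M M a (Subgroup.characteristic_iff_map_eq.1 hMc a)
  refine ⟨b, ?_⟩
  have h1 : Subgroup.zpowers (b u) = Subgroup.zpowers v := by
    rw [← hyv, show b u = b.toMonoidHom u from rfl, ← MonoidHom.map_zpowers, ← hxu, MonoidHom.map_zpowers,
      show b.toMonoidHom (x : G ⧸ M) = ((a x : G) : G ⧸ M) from rfl,
      show ((a x : G) : G ⧸ M) = QuotientGroup.mk' M (a x) from rfl, ← MonoidHom.map_zpowers,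
      show a x = a.toMonoidHom x from rfl, ← MonoidHom.map_zpowers, ha, MonoidHom.map_zpowers]
    rfl
  exact ⟨h1 ▸ Subgroup.mem_zpowers _, h1 ▸ Subgroup.mem_zpowers _⟩

end CfsgLib.Solv.PLen
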