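import Cfsg.Agent.Solv.CoprimeAction
import Cfsg.Agent.Solv.FittingBasic

/-!
The balance lemma for solvable groups.
-/

set_option autoImplicit false
set_option linter.style.haveILetI false
set_option linter.deprecated false
set_option linter.unusedSectionVars false

open scoped commutatorElement Pointwise

namespace CfsgLib.Solv

theorem le_pPrimeCore_of_centralizes {G : Type*} [Group G] [Finite G] [Group.IsSolvable G] {p : ℕ}
    [hp : Fact p.Prime] {P Q : Subgroup G} (hP : IsPGroup p P) (hQ : (Nat.card Q).Coprime p)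
    (hQP : Q ≤ Subgroup.centralizer (P : Set G))
    (hN : Subgroup.centralizer (P : Set G) ≤ Subgroup.normalizer (Q : Set G)) : Q ≤ Cfsg.pPrimeCore p G := by
  haveI := pPrimeCore_normal G p
  set M := Cfsg.pPrimeCore p G with hM
  let π : G →* G ⧸ M := QuotientGroup.mk' M
  have hπ : ∀ g : G, π g = 1 ↔ g ∈ M := fun g => QuotientGroup.eq_one_iff g
  haveI := pCore_normal (G ⧸ M) p
  set U := Cfsg.pCore p (G ⧸ M) with hU
  have hQc : (Nat.card (Q.map π)).Coprime p := hQ.of_dvd_left (Q.card_map_dvd π)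
  have hQU : U ⊓ Q.map π = ⊥ := by
    refine inf_eq_bot_of_coprime_card ?_
    obtain ⟨n, hn⟩ := IsPGroup.iff_card.1 (pCore_isPGroup (G ⧸ M) p)
    rw [hn]
    exact hQc.symm.pow_left n
  have hPM : (Nat.card P).Coprime (Nat.card M) := by
    obtain ⟨n, hn⟩ := IsPGroup.iff_card.1 hP
    rw [hn]
    exact (pPrimeCore_coprime G p).symm.pow_left n
  have hPs : Group.IsSolvable P := haveI := hP.isNilpotent; inferInstance
  have hC : U ⊓ Subgroup.centralizer (P.map π : Set (G ⧸ M)) ≤ Subgroup.centralizer (Q.map π : Set (G ⧸ M)) := by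
    intro u hu
    obtain ⟨huU, huC⟩ := Subgroup.mem_inf.1 hu
    obtain ⟨g, rfl⟩ : ∃ g, π g = u := QuotientGroup.mk'_surjective M u
    have hgM : ∀ x ∈ P, g * x * g⁻¹ * x⁻¹ ∈ M := fun x hx => by
      rw [← hπ, map_mul, map_mul, map_mul, map_inv, map_inv,
        ← Subgroup.mem_centralizer_iff.1 huC (π x) (Subgroup.mem_map_of_mem π hx)]
      group
    have hsup : P ⊔ M = (MulAut.conj g • P) ⊔ M := by
      refine le_antisymm (sup_le (fun x hx => ?_) le_sup_right) (sup_le (fun y hy => ?_) le_sup_right)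
      · rw [show x = (g * x * g⁻¹ * x⁻¹)⁻¹ * (g * x * g⁻¹) by group]
        exact mul_mem (Subgroup.mem_sup_right (inv_mem (hgM x hx)))
          (Subgroup.mem_sup_left (mem_conj_smul_iff.2 (by simpa [mul_assoc] using hx)))
      · rw [mem_conj_smul_iff] at hy
        have h1 := hgM _ hy
        rw [show y = (g * (g⁻¹ * y * g) * g⁻¹ * (g⁻¹ * y * g)⁻¹) * (g⁻¹ * y * g) by group]
        exact mul_mem (Subgroup.mem_sup_right h1) (Subgroup.mem_sup_left hy)
    obtain ⟨k, hk, hkP⟩ := conj_complement_in_sup hsup hPM (by rwa [card_conj_smul]) (Or.inr hPs)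
    obtain ⟨m, hm, x, hx, rfl⟩ := exists_mul_of_mem_sup
      (le_top.trans (Subgroup.normalizer_eq_top_iff.2 (pPrimeCore_normal G p)).ge) hk
    rw [map_mul, mul_smul, conj_smul_eq_self_of_mem_normalizer (Subgroup.le_normalizer hx)] at hkP
    have hnorm : m⁻¹ * g ∈ Subgroup.normalizer (P : Set G) := mem_normalizer_of_conj_smul_eq (by
      rw [map_mul, mul_smul, ← hkP, smul_smul, ← map_mul, inv_mul_cancel, map_one, one_smul])
    have himg : π (m⁻¹ * g) = π g := by rw [map_mul, map_inv, (hπ m).2 hm, inv_one, one_mul]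
    have hcent : m⁻¹ * g ∈ Subgroup.centralizer (P : Set G) := by
      rw [Subgroup.mem_centralizer_iff]
      intro y hy
      have h1 : m⁻¹ * g * y * (m⁻¹ * g)⁻¹ * y⁻¹ ∈ P ⊓ M := by
        refine Subgroup.mem_inf.2 ⟨mul_mem ((Subgroup.mem_normalizer_iff.1 hnorm y).1 hy) (inv_mem hy), ?_⟩
        rw [← hπ, map_mul, map_mul, map_mul, map_inv, map_inv, himg,
          ← Subgroup.mem_centralizer_iff.1 huC (π y) (Subgroup.mem_map_of_mem π hy)]
        group
      rw [inf_eq_bot_of_coprime_card hPM, Subgroup.mem_bot] at h1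
      exact (mul_inv_eq_iff_eq_mul.1 (mul_inv_eq_one.1 h1)).symm
    rw [Subgroup.mem_centralizer_iff]
    rintro _ ⟨z, hz, rfl⟩
    have h2 : π g * π z * (π g)⁻¹ * (π z)⁻¹ ∈ U ⊓ Q.map π := by
      refine Subgroup.mem_inf.2 ⟨?_, ?_⟩
      · have := mul_mem huU ((pCore_normal (G ⧸ M) p).conj_mem _ (inv_mem huU) (π z))
        simpa [mul_assoc] using this
      · refine mul_mem ?_ (inv_mem (Subgroup.mem_map_of_mem π hz))
        rw [← himg, ← map_mul, ← map_inv, ← map_mul]
        exact Subgroup.mem_map_of_mem π ((Subgroup.mem_normalizer_iff.1 (hN hcent) z).1 hz)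
    rw [hQU, Subgroup.mem_bot] at h2
    exact (mul_inv_eq_iff_eq_mul.1 (mul_inv_eq_one.1 h2)).symm
  have hPQ : P.map π ≤ Subgroup.centralizer (Q.map π : Set (G ⧸ M)) := by
    rintro _ ⟨x, hx, rfl⟩
    rw [Subgroup.mem_centralizer_iff]
    rintro _ ⟨y, hy, rfl⟩
    show π y * π x = π x * π y
    rw [← map_mul, ← map_mul, (Subgroup.mem_centralizer_iff.1 (hQP hy) x hx)]
  have hnU : ∀ B : Subgroup (G ⧸ M), B ≤ Subgroup.normalizer (U : Set (G ⧸ M)) := fun B =>
    le_top.trans (Subgroup.normalizer_eq_top_iff.2 (pCore_normal (G ⧸ M) p)).ge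
  have h1 := thompson_pq (hP.map π) hQc hPQ U (pCore_isPGroup (G ⧸ M) p) (hnU _) (hnU _) hC
  have h2 : Q.map π ≤ U := h1.trans (centralizer_pCore_le pPrimeCore_quotient_self)
  have h3 : Q.map π = ⊥ := le_bot_iff.1 (hQU ▸ le_inf h2 le_rfl)
  rwa [Subgroup.map_eq_bot_iff, QuotientGroup.ker_mk'] at h3

/-- In a solvable group `O_{p'}(C(a))` lies in the `p'`-core for a `p`-element `a`. -/
theorem inf_centralizer_le_centralizerPPrimeCore {G : Type*} [Group G] [Finite G] {p : ℕ} [Fact p.Prime]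
    {a b : G} (ha : ∃ k : ℕ, a ^ p ^ k = 1) (hab : a * b = b * a)
    (hsolv : Group.IsSolvable ↥(Subgroup.centralizer ({b} : Set G))) :
    Cfsg.centralizerPPrimeCore p a ⊓ Subgroup.centralizer {b} ≤ Cfsg.centralizerPPrimeCore p b := by
  set H := Subgroup.centralizer ({b} : Set G) with hH
  haveI := hsolv
  set Q := (Cfsg.centralizerPPrimeCore p a ⊓ H).subgroupOf H with hQ
  have haH : a ∈ H := Subgroup.mem_centralizer_singleton_iff.2 hab
  set P := (Subgroup.zpowers a).subgroupOf H with hP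
  have hPp : IsPGroup p P := by
    refine IsPGroup.comap_of_injective ?_ H.subtype H.subtype_injective
    rintro ⟨_, i, rfl⟩
    obtain ⟨k, hk⟩ := ha
    refine ⟨k, Subtype.ext ?_⟩
    simp only [SubmonoidClass.coe_pow, OneMemClass.coe_one]
    rw [← zpow_natCast, ← zpow_mul, mul_comm, zpow_mul, zpow_natCast, hk, one_zpow]
  have hQc : (Nat.card Q).Coprime p := by
    rw [hQ, card_subgroupOf inf_le_right]
    refine Nat.Coprime.of_dvd_left (Subgroup.card_dvd_of_le inf_le_left) ?_
    rw [Cfsg.centralizerPPrimeCore, card_map_subtype]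
    exact pPrimeCore_coprime _ p
  have hQP : Q ≤ Subgroup.centralizer (P : Set ↥H) := by
    intro z hz
    rw [Subgroup.mem_centralizer_iff]
    intro w hw
    obtain ⟨i, hi⟩ := Subgroup.mem_zpowers_iff.1 (show (w : G) ∈ Subgroup.zpowers a from hw)
    have hzc : (z : G) ∈ Subgroup.centralizer {a} := Subgroup.map_subtype_le _ (Subgroup.mem_inf.1 hz).1
    refine Subtype.ext ?_
    show (w : G) * z = z * w
    rw [← hi]
    exact ((show Commute a z from (Subgroup.mem_centralizer_singleton_iff.1 hzc).symm).zpow_left i).eq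
  have hN : Subgroup.centralizer (P : Set ↥H) ≤ Subgroup.normalizer (Q : Set ↥H) := by
    intro g hg
    have hga : (g : G) ∈ Subgroup.centralizer {a} := Subgroup.mem_centralizer_singleton_iff.2
      (congrArg Subtype.val (Subgroup.mem_centralizer_iff.1 hg ⟨a, haH⟩ (Subgroup.mem_zpowers a))).symm
    refine Subgroup.mem_normalizer_fintype fun z hz => ?_
    obtain ⟨⟨u, hu, he⟩, -⟩ := Subgroup.mem_inf.1 hz
    refine Subgroup.mem_inf.2 ⟨?_, (g * z * g⁻¹).2⟩
    haveI := pPrimeCore_normal ↥(Subgroup.centralizer ({a} : Set G)) p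
    refine ⟨⟨g, hga⟩ * u * ⟨g, hga⟩⁻¹, Subgroup.Normal.conj_mem inferInstance u hu _, ?_⟩
    show (g : G) * u * (g : G)⁻¹ = (g : G) * z * (g : G)⁻¹
    rw [show (u : G) = z from he]
  have := Subgroup.map_mono (f := H.subtype) (le_pPrimeCore_of_centralizes hPp hQc hQP hN)
  rwa [hQ, Subgroup.map_subgroupOf_eq_of_le inf_le_right] at this

end CfsgLib.Solv
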