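import Cfsg.Agent.Solv.PGroups

/-!
Normal subgroups of order `p ^ 2` of `p`-groups: the centralizer has index at most `p`.
-/

set_option autoImplicit false
set_option linter.style.haveILetI false

open scoped commutatorElement

namespace CfsgLib.Solv

/-- In a `p`-group the centralizer of a normal subgroup of order `p ^ 2` has index dividing `p`. -/
theorem index_centralizer_normal_sq {G : Type*} [Group G] [Finite G] {p : ℕ} [hp : Fact p.Prime]
    (hG : IsPGroup p G) (E : Subgroup G) [E.Normal] (hE : Nat.card E = p ^ 2) :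
    (Subgroup.centralizer (E : Set G)).index ∣ p := by
  have hEb : ¬ E ≤ ⊥ := fun h => by
    rw [le_bot_iff.1 h, Subgroup.card_bot] at hE
    exact (Nat.one_lt_pow two_ne_zero hp.out.one_lt).ne hE
  obtain ⟨z, hz, hz1, hzp, hzc⟩ := exists_central_mod hG hEb
  rw [sup_bot_eq] at hz
  rw [Subgroup.mem_bot] at hz1 hzp
  have hzC : z ∈ Subgroup.center G := Subgroup.mem_center_iff.2 fun g =>
    (commutatorElement_eq_one_iff_mul_comm.1 (Subgroup.mem_bot.1 (hzc g))).symm
  set M := Subgroup.zpowers z with hM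
  have hMC : M ≤ Subgroup.center G := Subgroup.zpowers_le.2 hzC
  have hMc : Nat.card M = p := by rw [hM, Nat.card_zpowers]; exact orderOf_eq_prime hzp hz1
  haveI : M.Normal := ⟨fun n hn g => by rwa [Subgroup.mem_center_iff.1 (hMC hn) g, mul_inv_cancel_right]⟩
  have hnle : ¬ E ≤ M := fun h => by
    have := Subgroup.card_le_of_le h
    rw [hE, hMc] at this
    nlinarith [hp.out.two_le]
  obtain ⟨e, he, heM, -, hec⟩ := exists_central_mod hG hnle
  rw [sup_eq_left.2 (Subgroup.zpowers_le.2 hz)] at he
  have hgen : Subgroup.zpowers e ⊔ M = E := by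
    refine Subgroup.eq_of_le_of_card_ge (sup_le (Subgroup.zpowers_le.2 he) (Subgroup.zpowers_le.2 hz)) ?_
    rw [hE]
    have hlt : M < Subgroup.zpowers e ⊔ M :=
      lt_of_le_of_ne le_sup_right fun h => heM (h ▸ Subgroup.mem_sup_left (Subgroup.mem_zpowers e))
    obtain ⟨k, hk⟩ := (hG.to_subgroup (Subgroup.zpowers e ⊔ M)).exists_card_eq
    rw [hk]
    refine Nat.pow_le_pow_right hp.out.pos ?_
    by_contra hk2
    have h1 := Nat.pow_le_pow_right hp.out.pos (show k ≤ 1 by omega)
    rw [pow_one, ← hk, ← hMc] at h1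
    exact hlt.ne (Subgroup.eq_of_le_of_card_ge hlt.le h1)
  let f : G →* M :=
    { toFun := fun s => ⟨⁅e, s⁆, hec s⟩
      map_one' := Subtype.ext (commutatorElement_one_right e)
      map_mul' := fun s t => Subtype.ext (by
        show ⁅e, s * t⁆ = ⁅e, s⁆ * ⁅e, t⁆
        have h := Subgroup.mem_center_iff.1 (hMC (hec t)) s
        calc ⁅e, s * t⁆ = ⁅e, s⁆ * (s * ⁅e, t⁆) * s⁻¹ := by simp only [commutatorElement_def]; group
          _ = _ := by rw [h]; group) }
  have hle : f.ker ≤ Subgroup.centralizer (E : Set G) := by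
    intro s hs
    have h1 : ⁅e, s⁆ = 1 := congrArg Subtype.val hs
    have hEle : E ≤ Subgroup.centralizer ({s} : Set G) := by
      rw [← hgen, sup_le_iff, Subgroup.zpowers_le]
      exact ⟨Subgroup.mem_centralizer_singleton_iff.2 (commutatorElement_eq_one_iff_mul_comm.1 h1),
        hMC.trans fun x hx => Subgroup.mem_centralizer_singleton_iff.2 (Subgroup.mem_center_iff.1 hx s).symm⟩
    exact Subgroup.mem_centralizer_iff.2 fun x hx => Subgroup.mem_centralizer_singleton_iff.1 (hEle hx)
  refine (Subgroup.index_dvd_of_le hle).trans ?_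
  rw [Subgroup.index_ker]
  exact (Subgroup.card_subgroup_dvd_card f.range).trans (dvd_of_eq hMc)

end CfsgLib.Solv
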