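import Cfsg.Agent.Solv.Basic
import Cfsg.Agent.Solv.Hall
import Cfsg.Agent.Solv.CoprimeAction
import Cfsg.Agent.Solv.PGroups
import Cfsg.Agent.Solv.Generation
import Cfsg.Agent.Solv.FittingBasic
import Cfsg.Agent.Solv.PLengthOne
import Cfsg.Agent.Perm.MinClass

/-!
Solvable groups with one class of involutions: the Sylow 2-subgroup is normal modulo `O(G)`.
-/

set_option autoImplicit false

open scoped Pointwise commutatorElement

namespace CfsgLib.Solv.InvConj

variable {G : Type*} [Group G] [Finite G]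

theorem two_pow_half_dvd {k s : ℕ} (h : 2 ^ k ∣ s ^ 2) : 2 ^ ((k + 1) / 2) ∣ s := by
  rcases Nat.eq_zero_or_pos s with rfl | hs
  · exact dvd_zero _
  rw [Nat.prime_two.pow_dvd_iff_le_factorization hs.ne']
  rw [Nat.prime_two.pow_dvd_iff_le_factorization (pow_ne_zero _ hs.ne'), Nat.factorization_pow] at h
  simp only [Finsupp.smul_apply, smul_eq_mul] at h
  omega

/-- Sum of a sign character over a finite group. -/
theorem sum_hom_eq (H : Type*) [Group H] [Fintype H] (f : H →* ℤˣ) :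
    (∑ x : H, ((f x : ℤˣ) : ℤ)) = if f = 1 then (Nat.card H : ℤ) else 0 := by
  classical
  split_ifs with h
  · subst h; simp [Nat.card_eq_fintype_card]
  · obtain ⟨a, ha⟩ : ∃ a, f a ≠ 1 := by
      by_contra hc
      push Not at hc
      exact h (MonoidHom.ext hc)
    have e : (∑ x : H, ((f (a * x) : ℤˣ) : ℤ)) = ∑ x : H, ((f x : ℤˣ) : ℤ) :=
      Fintype.sum_equiv (Equiv.mulLeft a) _ _ fun x => rfl
    simp only [map_mul, Units.val_mul, ← Finset.mul_sum] at e
    rcases Int.units_eq_one_or (f a) with h1 | h1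
    · exact absurd h1 ha
    · rw [h1, Units.val_neg, Units.val_one] at e
      omega

/-- If all involutions lie in the central subgroup `V` and all squares lie in `V`, then
`|E : V| ≤ |V| ^ 2`. -/
theorem card_le_of_squares (E : Type*) [Group E] [Finite E] (hE : IsPGroup 2 E) (V : Subgroup E)
    (hc : V ≤ Subgroup.center E) (hsq : ∀ x : E, x ^ 2 ∈ V) (hinv : ∀ x : E, x ^ 2 = 1 ↔ x ∈ V) :
    Nat.card E ≤ Nat.card V * Nat.card V * Nat.card V := by
  classical
  haveI := Fintype.ofFinite E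
  have hcm : ∀ v ∈ V, ∀ x : E, Commute x v := fun v hv x => Subgroup.mem_center_iff.1 (hc hv) x
  have hV2 : ∀ v : V, v ^ 2 = 1 := fun v => Subtype.ext ((hinv v).2 v.2)
  haveI : IsMulCommutative V := ⟨⟨fun a b => Subtype.ext (hcm _ b.2 (a : E)).eq⟩⟩
  open scoped IsMulCommutative in
  let sq : E → V := fun x => ⟨x ^ 2, hsq x⟩
  have hcmem : ∀ z x : E, x⁻¹ * z * x * z⁻¹ ∈ V := fun z x => by
    rw [show x⁻¹ * z * x * z⁻¹ = (x⁻¹) ^ 2 * (x * z) ^ 2 * (z⁻¹) ^ 2 by simp only [sq, pow_two]; group]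
    exact mul_mem (mul_mem (hsq _) (hsq _)) (hsq _)
  let c : E → E →* V := fun z =>
    { toFun := fun x => ⟨x⁻¹ * z * x * z⁻¹, hcmem z x⟩
      map_one' := Subtype.ext (by simp)
      map_mul' := fun a b => Subtype.ext (by
        show (a * b)⁻¹ * z * (a * b) * z⁻¹ = (a⁻¹ * z * a * z⁻¹) * (b⁻¹ * z * b * z⁻¹)
        have h1 := (hcm _ (hcmem z a) b⁻¹).eq
        calc (a * b)⁻¹ * z * (a * b) * z⁻¹ = b⁻¹ * (a⁻¹ * z * a * z⁻¹) * (z * b * z⁻¹) := by group
          _ = (a⁻¹ * z * a * z⁻¹) * b⁻¹ * (z * b * z⁻¹) := by rw [h1]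
          _ = _ := by group) }
  have hkey : ∀ x z : E, sq x * sq (x * z) = sq z * c z x := by
    intro x z
    refine Subtype.ext ?_
    show x ^ 2 * (x * z) ^ 2 = z ^ 2 * (x⁻¹ * z * x * z⁻¹)
    have hx4 : x ^ 2 * x ^ 2 = 1 := by rw [← pow_two]; exact (hinv _).2 (hsq x)
    rw [show (x * z) ^ 2 = x ^ 2 * ((x⁻¹ * z * x * z⁻¹) * z ^ 2) by simp only [pow_two]; group,
      ← mul_assoc (x ^ 2), hx4, one_mul]
    exact (hcm _ (hsq z) _).eq
  haveI : Fintype (V →* ℤˣ) := Fintype.ofFinite _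
  let S : (V →* ℤˣ) → ℤ := fun χ => ∑ x : E, ((χ (sq x) : ℤˣ) : ℤ)
  obtain ⟨e, he⟩ := IsPGroup.iff_card.1 hE
  obtain ⟨r, hr⟩ := IsPGroup.iff_card.1 (hE.to_subgroup V)
  have hdvd : ∀ χ, 2 ^ ((e + r + 1) / 2) ∣ (S χ).natAbs := by
    intro χ
    refine two_pow_half_dvd ?_
    rw [pow_add, ← he, ← hr]
    let c' : E → E →* ℤˣ := fun z => χ.comp (c z)
    have hcadd : ∀ z w, c' (z * w) = c' z * c' w := by
      intro z w
      ext x
      show ((χ (c (z * w) x) : ℤˣ) : ℤ) = _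
      have : c (z * w) x = c z x * c w x := by
        refine Subtype.ext ?_
        show x⁻¹ * (z * w) * x * (z * w)⁻¹ = (x⁻¹ * z * x * z⁻¹) * (x⁻¹ * w * x * w⁻¹)
        have h1 := (hcm _ (hcmem w x) z).eq
        calc x⁻¹ * (z * w) * x * (z * w)⁻¹ = (x⁻¹ * z * x) * (x⁻¹ * w * x * w⁻¹) * z⁻¹ := by group
          _ = (x⁻¹ * z * x * z⁻¹) * (z * (x⁻¹ * w * x * w⁻¹)) * z⁻¹ := by group
          _ = (x⁻¹ * z * x * z⁻¹) * ((x⁻¹ * w * x * w⁻¹) * z) * z⁻¹ := by rw [h1]
          _ = _ := by group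
      rw [this, map_mul]
      rfl
    let rad : Subgroup E := (MonoidHom.mk' c' hcadd).ker
    let g : rad →* ℤˣ :=
      { toFun := fun z => χ (sq z)
        map_one' := by
          rw [show sq ((1 : rad) : E) = 1 from Subtype.ext (one_pow 2), map_one]
        map_mul' := fun a b => by
          have h1 : χ (sq (a : E)) * χ (sq ((a : E) * b)) = χ (sq (b : E)) := by
            rw [← map_mul, hkey, map_mul]
            have : c' (b : E) (a : E) = 1 := by
              rw [show c' (b : E) = 1 from b.2, MonoidHom.one_apply]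
            show _ * c' (b : E) (a : E) = _
            rw [this, mul_one]
          rw [Subgroup.coe_mul]
          calc χ (sq ((a : E) * b)) = χ (sq (a : E)) * (χ (sq (a : E)) * χ (sq ((a : E) * b))) := by
                rw [← mul_assoc, Int.units_mul_self, one_mul]
            _ = _ := by rw [h1] }
    have hS : S χ * S χ = (Nat.card E : ℤ) * ∑ z : rad, ((g z : ℤˣ) : ℤ) := by
      calc S χ * S χ = ∑ x : E, ∑ z : E, ((χ (sq x) : ℤˣ) : ℤ) * ((χ (sq (x * z)) : ℤˣ) : ℤ) := by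
            rw [Finset.sum_mul]
            refine Finset.sum_congr rfl fun x _ => ?_
            rw [Finset.mul_sum]
            exact (Fintype.sum_equiv (Equiv.mulLeft x) _ _ fun z => rfl).symm
        _ = ∑ z : E, ((χ (sq z) : ℤˣ) : ℤ) * ∑ x : E, ((c' z x : ℤˣ) : ℤ) := by
            rw [Finset.sum_comm]
            refine Finset.sum_congr rfl fun z _ => ?_
            rw [Finset.mul_sum]
            refine Finset.sum_congr rfl fun x _ => ?_
            rw [← Units.val_mul, ← map_mul, hkey, map_mul, Units.val_mul]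
            rfl
        _ = ∑ z : E, if z ∈ rad then (Nat.card E : ℤ) * ((χ (sq z) : ℤˣ) : ℤ) else 0 := by
            refine Finset.sum_congr rfl fun z _ => ?_
            rw [sum_hom_eq E (c' z)]
            have : (z ∈ rad) ↔ c' z = 1 := Iff.rfl
            by_cases h : c' z = 1
            · rw [if_pos h, if_pos (this.2 h), mul_comm]
            · rw [if_neg h, if_neg (fun hh => h (this.1 hh)), mul_zero]
        _ = _ := by
            rw [← Finset.sum_filter, Finset.mul_sum]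
            exact Finset.sum_subtype _ (fun z => by simp) (fun z => (Nat.card E : ℤ) * ((χ (sq z) : ℤˣ) : ℤ))
    have hVrad : V ≤ rad := fun v hv => by
      show c' v = 1
      ext x
      show ((χ (c v x) : ℤˣ) : ℤ) = _
      have : c v x = 1 := Subtype.ext (by
        show x⁻¹ * v * x * v⁻¹ = 1
        rw [mul_assoc x⁻¹ v x, ← (hcm v hv x).eq]; group)
      rw [this, map_one]
      rfl
    have h2 : (((Nat.card E * Nat.card V : ℕ)) : ℤ) ∣ S χ * S χ := by
      rw [hS, Nat.cast_mul]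
      refine mul_dvd_mul_left _ ?_
      rw [sum_hom_eq]
      split_ifs
      · exact Int.natCast_dvd_natCast.2 (Subgroup.card_dvd_of_le hVrad)
      · exact dvd_zero _
    rw [Int.natCast_dvd, Int.natAbs_mul] at h2
    rwa [pow_two]
  haveI : HasEnoughRootsOfUnity ℤ 2 := ⟨⟨-1, IsPrimitiveRoot.neg_one 0 (by norm_num)⟩, inferInstance⟩
  open scoped IsMulCommutative in
  haveI : HasEnoughRootsOfUnity ℤ (Monoid.exponent V) :=
    HasEnoughRootsOfUnity.of_dvd ℤ (Monoid.exponent_dvd_of_forall_pow_eq_one hV2)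
  open scoped IsMulCommutative in
  have horth : ∀ v : V, (∑ χ : V →* ℤˣ, ((χ v : ℤˣ) : ℤ)) = if v = 1 then (Nat.card V : ℤ) else 0 := by
    intro v
    obtain ⟨eqv⟩ := CommGroup.monoidHom_mulEquiv_of_hasEnoughRootsOfUnity V ℤ
    have h := sum_hom_eq (V →* ℤˣ) (MonoidHom.eval v)
    rw [Nat.card_congr eqv.toEquiv] at h
    refine h.trans ?_
    by_cases hv : v = 1
    · rw [if_pos hv, if_pos]
      ext χ
      simp [hv]
    · rw [if_neg hv, if_neg]
      intro hc'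
      obtain ⟨φ, hφ⟩ := CommGroup.exists_apply_ne_one_of_hasEnoughRootsOfUnity V ℤ hv
      exact hφ (DFunLike.congr_fun hc' φ)
  have htot : (∑ χ : V →* ℤˣ, S χ) = (Nat.card V : ℤ) * Nat.card V := by
    rw [Finset.sum_comm]
    simp only [horth]
    rw [← Finset.sum_filter, Finset.sum_const, nsmul_eq_mul]
    congr 1
    rw [Nat.card_eq_fintype_card (α := V), ← Fintype.card_coe]
    push_cast
    refine congrArg Nat.cast (Fintype.card_congr (Equiv.subtypeEquivRight fun x => ?_))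
    simp [sq, Subtype.ext_iff, hinv]
  have hdiv : (2 : ℤ) ^ ((e + r + 1) / 2) ∣ ∑ χ : V →* ℤˣ, S χ := Finset.dvd_sum fun χ _ => by
    have := Int.natCast_dvd.2 (hdvd χ)
    exact_mod_cast this
  rw [htot] at hdiv
  have hdiv' : 2 ^ ((e + r + 1) / 2) ∣ Nat.card V * Nat.card V := by exact_mod_cast hdiv
  rw [hr, ← pow_add, Nat.pow_dvd_pow_iff_le_right (by norm_num)] at hdiv'
  rw [he, hr, ← pow_add, ← pow_add]
  exact Nat.pow_le_pow_right (by norm_num) (by omega)

theorem fitting_le_pPrimeCore {p : ℕ} [hp : Fact p.Prime] (h : Cfsg.pCore p G = ⊥) :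
    Cfsg.fittingSubgroup G ≤ Cfsg.pPrimeCore p G := by
  rw [CfsgLib.Solv.fittingSubgroup_eq_iSup_pCore]
  refine iSup_le fun q => ?_
  haveI := Fact.mk q.2
  by_cases hq : (q : ℕ) = p
  · rw [hq, h]; exact bot_le
  haveI := CfsgLib.Solv.pCore_normal G (q : ℕ)
  refine CfsgLib.Solv.le_pPrimeCore ?_
  obtain ⟨k, hk⟩ := IsPGroup.iff_card.1 (CfsgLib.Solv.pCore_isPGroup G (q : ℕ))
  rw [hk]
  exact ((Nat.coprime_primes q.2 hp.out).2 hq).pow_left k

theorem centralizer_pPrimeCore_le [Group.IsSolvable G] {p : ℕ} [hp : Fact p.Prime] (h : Cfsg.pCore p G = ⊥) :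
    Subgroup.centralizer (Cfsg.pPrimeCore p G : Set G) ≤ Cfsg.pPrimeCore p G :=
  ((Subgroup.centralizer_le (fitting_le_pPrimeCore h)).trans CfsgLib.Solv.centralizer_fittingSubgroup_le).trans
    (fitting_le_pPrimeCore h)

theorem exists_pow_eq_invol {P : Subgroup G} (hP : IsPGroup 2 P) {u : G} (hu : u ∈ P)
    (hu2 : u ^ 2 ≠ 1) : ∃ m : ℕ, (u ^ m) ^ 2 ≠ 1 ∧ ((u ^ m) ^ 2) ^ 2 = 1 := by
  obtain ⟨k, hk⟩ := IsPGroup.iff_orderOf.1 hP ⟨u, hu⟩
  rw [Subgroup.orderOf_mk] at hk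
  obtain ⟨j, rfl⟩ : ∃ j, k = j + 2 := by
    refine ⟨k - 2, ?_⟩
    by_contra hc
    have : k ≤ 1 := by omega
    refine hu2 (orderOf_dvd_iff_pow_eq_one.1 ?_)
    rw [hk]
    exact (pow_dvd_pow 2 this).trans (by simp)
  refine ⟨2 ^ j, fun h => ?_, ?_⟩
  · rw [← pow_mul, ← pow_succ, ← orderOf_dvd_iff_pow_eq_one, hk,
      Nat.pow_dvd_pow_iff_le_right (by norm_num)] at h
    omega
  · rw [← pow_mul, ← pow_mul, show 2 ^ j * (2 * 2) = 2 ^ (j + 2) by ring, ← hk]
    exact pow_orderOf_eq_one u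

/-- All involutions form a central elementary subgroup of `O₂(G)`. -/
theorem exists_involution_group [Group.IsSolvable G] (hO : Cfsg.pPrimeCore 2 G = ⊥) (heven : 2 ∣ Nat.card G)
    (hconj : ∀ x y : G, x ≠ 1 → x ^ 2 = 1 → y ≠ 1 → y ^ 2 = 1 → IsConj x y) :
    ∃ V : Subgroup G, V.Normal ∧ (∀ x : G, x ∈ V ↔ x ^ 2 = 1) ∧ V ≤ Cfsg.pCore 2 G ∧
      ∀ u ∈ Cfsg.pCore 2 G, ∀ v ∈ V, Commute u v := by
  haveI := CfsgLib.Solv.pCore_normal G 2
  have hUp : IsPGroup 2 (Cfsg.pCore 2 G) := CfsgLib.Solv.pCore_isPGroup G 2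
  set U := Cfsg.pCore 2 G
  haveI : Nontrivial U := by
    rw [Subgroup.nontrivial_iff_ne_bot]
    intro h0
    have h1 := centralizer_pPrimeCore_le h0
    rw [hO, Subgroup.coe_bot] at h1
    obtain ⟨x, hx⟩ := exists_prime_orderOf_dvd_card' 2 heven
    have hx1 : x = 1 := Subgroup.mem_bot.1 (h1 (Subgroup.mem_centralizer_iff.2 fun y hy => by
      rw [Set.mem_singleton_iff.1 hy, one_mul, mul_one]))
    rw [hx1, orderOf_one] at hx
    exact absurd hx (by norm_num)
  haveI := hUp.center_nontrivial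
  obtain ⟨k, hk0, hk⟩ := (hUp.to_subgroup (Subgroup.center U)).nontrivial_iff_card.1 inferInstance
  obtain ⟨z, hz⟩ := exists_prime_orderOf_dvd_card' 2
    (show 2 ∣ Nat.card (Subgroup.center U) by rw [hk]; exact dvd_pow_self 2 (by omega))
  obtain ⟨hz2, hz1⟩ := orderOf_eq_prime_iff.1 hz
  have hzu : ((z : U) : G) ^ 2 = 1 := congrArg (fun t : Subgroup.center U => ((t : U) : G)) hz2
  have hzne : ((z : U) : G) ≠ 1 := fun h => hz1 (Subtype.ext (Subtype.ext h))
  have hcen : ∀ x : G, x ≠ 1 → x ^ 2 = 1 → x ∈ U ∧ ∀ u ∈ U, Commute u x := by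
    intro x hx1 hx2
    obtain ⟨c, rfl⟩ := isConj_iff.1 (hconj _ x hzne hzu hx1 hx2)
    refine ⟨Subgroup.Normal.conj_mem inferInstance _ (z : U).2 c, fun u hu => ?_⟩
    have hu' : c⁻¹ * u * c ∈ U := by simpa using Subgroup.Normal.conj_mem ‹U.Normal› u hu c⁻¹
    have := (congrArg Subtype.val (Subgroup.mem_center_iff.1 z.2 ⟨_, hu'⟩) : c⁻¹ * u * c * (z : U) = (z : U) * (c⁻¹ * u * c))
    have h2 := (show Commute (c⁻¹ * u * c) ((z : U) : G) from this).map (MulAut.conj c)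
    simpa [MulAut.conj_apply, mul_assoc] using h2
  have hcomm : ∀ a b : G, a ^ 2 = 1 → b ^ 2 = 1 → Commute a b := by
    intro a b ha hb
    by_cases ha1 : a = 1
    · rw [ha1]; exact Commute.one_left b
    by_cases hb1 : b = 1
    · rw [hb1]; exact Commute.one_right a
    exact (hcen b hb1 hb).2 a (hcen a ha1 ha).1
  let V : Subgroup G :=
    { carrier := {x | x ^ 2 = 1}
      one_mem' := one_pow 2
      mul_mem' := fun {a b} ha hb => by
        show (a * b) ^ 2 = 1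
        rw [(hcomm a b ha hb).mul_pow, ha, hb, one_mul]
      inv_mem' := fun {a} ha => by
        show a⁻¹ ^ 2 = 1
        rw [inv_pow, ha, inv_one] }
  refine ⟨V, ⟨fun n hn g => ?_⟩, fun x => Iff.rfl, fun x hx => ?_, fun u hu v hv => ?_⟩
  · show (g * n * g⁻¹) ^ 2 = 1
    rw [conj_pow, show n ^ 2 = 1 from hn, mul_one, mul_inv_cancel]
  · by_cases hx1 : x = 1
    · rw [hx1]; exact one_mem _
    · exact (hcen x hx1 hx).1
  · by_cases hv1 : v = 1
    · rw [hv1]; exact Commute.one_right u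
    · exact (hcen v hv1 hv).2 u hu

/-- An odd-order element fixing `z` and sending `d` to `d * z` has `z = 1` for a `2`-element `z`. -/
theorem fixed_shift {P : Subgroup G} (hP : IsPGroup 2 P) {q d z : G} (hq : (orderOf q).Coprime 2)
    (hqP : q ∈ Subgroup.normalizer (P : Set G)) (hd : d ∈ P) (hz : z ∈ P) (h : q * d * q⁻¹ = d * z)
    (hqz : Commute q z) : z = 1 := by
  have hn : ∀ m : ℕ, q ^ m * d * (q ^ m)⁻¹ = d * z ^ m := by
    intro m
    induction m with
    | zero => simp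
    | succ m ih =>
      calc q ^ (m + 1) * d * (q ^ (m + 1))⁻¹ = q * (q ^ m * d * (q ^ m)⁻¹) * q⁻¹ := by rw [pow_succ']; group
        _ = (q * d * q⁻¹) * (q * z ^ m * q⁻¹) := by rw [ih]; group
        _ = d * z * z ^ m := by rw [h, (hqz.pow_right m).eq, mul_inv_cancel_right]
        _ = _ := by rw [mul_assoc, ← pow_succ']
  have h1 := hn (orderOf q)
  rw [pow_orderOf_eq_one, one_mul, inv_one, mul_one, left_eq_mul] at h1
  obtain ⟨k, hk⟩ := hP ⟨z, hz⟩
  have hk' : z ^ 2 ^ k = 1 := congrArg Subtype.val hk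
  rw [← orderOf_eq_one_iff]
  exact Nat.eq_one_of_dvd_coprimes (Nat.Coprime.pow_right k hq) (orderOf_dvd_of_pow_eq_one h1)
    (orderOf_dvd_of_pow_eq_one hk')

/-- The centralizer of the involution group has odd index. -/
theorem not_dvd_index_centralizer [Group.IsSolvable G] {V : Subgroup G} [V.Normal]
    (hV : ∀ x : G, x ∈ V ↔ x ^ 2 = 1)
    (hconj : ∀ x y : G, x ≠ 1 → x ^ 2 = 1 → y ≠ 1 → y ^ 2 = 1 → IsConj x y)
    (htwo : ∃ x y : G, x ≠ y ∧ x ≠ 1 ∧ y ≠ 1 ∧ x ∈ V ∧ y ∈ V) :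
    ¬ 2 ∣ (Subgroup.centralizer (V : Set G)).index := by
  set C := Subgroup.centralizer (V : Set G) with hC
  haveI : C.Normal := inferInstance
  -- a normal subgroup centralising one involution centralises all of them
  have hfix : ∀ M : Subgroup G, M.Normal → ∀ v : G, v ∈ V → v ≠ 1 → (∀ m ∈ M, Commute m v) → M ≤ C := by
    intro M hM v hv hv1 hmv m hm
    refine Subgroup.mem_centralizer_iff.2 fun w hw => ?_
    by_cases hw1 : w = 1
    · rw [hw1, one_mul, mul_one]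
    obtain ⟨c, rfl⟩ := isConj_iff.1 (hconj v w hv1 ((hV v).1 hv) hw1 ((hV w).1 hw))
    have := (hmv _ (by simpa using hM.conj_mem m hm c⁻¹ : c⁻¹ * m * c ∈ M)).map (MulAut.conj c)
    simpa [MulAut.conj_apply, mul_assoc] using this.eq.symm
  obtain ⟨a, b, hab, ha1, hb1, haV, hbV⟩ := htwo
  haveI : Nontrivial (G ⧸ C) := by
    rw [← Finite.one_lt_card_iff_nontrivial, ← Subgroup.index_eq_card]
    refine Nat.lt_of_le_of_ne (Nat.one_le_iff_ne_zero.2 Subgroup.index_ne_zero_of_finite) fun h => hab ?_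
    obtain ⟨c, rfl⟩ := isConj_iff.1 (hconj a b ha1 ((hV a).1 haV) hb1 ((hV b).1 hbV))
    have hc : c ∈ C := by rw [Subgroup.index_eq_one.1 h.symm]; exact Subgroup.mem_top c
    rw [← Subgroup.mem_centralizer_iff.1 hc a haV, mul_inv_cancel_right]
  have hVp : IsPGroup 2 V := fun v => ⟨1, Subtype.ext (by simpa using (hV v).1 v.2)⟩
  -- `O₂(G/C) = 1`
  have hO2 : Cfsg.pCore 2 (G ⧸ C) = ⊥ := by
    haveI := CfsgLib.Solv.pCore_normal (G ⧸ C) 2
    set M := (Cfsg.pCore 2 (G ⧸ C)).comap (QuotientGroup.mk' C) with hM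
    obtain ⟨S⟩ : Nonempty (Sylow 2 M) := inferInstance
    haveI : Fact (Nat.Prime 2) := ⟨Nat.prime_two⟩
    set T := (S : Subgroup M).map M.subtype
    have hTp : IsPGroup 2 T := S.2.map _
    haveI hTVp : IsPGroup 2 (T ⊔ V : Subgroup G) := hTp.to_sup_of_normal_right hVp
    haveI : (V.subgroupOf (T ⊔ V)).Normal := inferInstance
    have hVne : V.subgroupOf (T ⊔ V) ≠ ⊥ := by
      intro h0
      have : (⟨a, Subgroup.mem_sup_right haV⟩ : (T ⊔ V : Subgroup G)) ∈ V.subgroupOf (T ⊔ V) := haV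
      rw [h0, Subgroup.mem_bot] at this
      exact ha1 (congrArg Subtype.val this)
    obtain ⟨⟨v, hvm⟩, hne⟩ := (Subgroup.ne_bot_iff_exists_ne_one.1 (CfsgLib.Perm.inf_center_ne_bot hTVp _ hVne))
    have hvV : (v : G) ∈ V := hvm.1
    have hv1 : (v : G) ≠ 1 := fun h => hne (Subtype.ext (Subtype.ext h))
    have hMsup : M ≤ C ⊔ T := by
      have hidx : ((C ⊔ T).subgroupOf M).index = 1 := by
        have hTle : (S : Subgroup M) ≤ (C ⊔ T).subgroupOf M := fun x hx =>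
          Subgroup.mem_sup_right ⟨x, hx, rfl⟩
        have h1 : ((C ⊔ T).subgroupOf M).index ∣ (S : Subgroup M).index := Subgroup.index_dvd_of_le hTle
        have hCM : C ≤ M := QuotientGroup.le_comap_mk' C _
        have h2 : ((C ⊔ T).subgroupOf M).index ∣ (C.subgroupOf M).index :=
          Subgroup.index_dvd_of_le (fun x hx => Subgroup.mem_sup_left hx)
        obtain ⟨k, hk⟩ := IsPGroup.iff_card.1 (CfsgLib.Solv.pCore_isPGroup (G ⧸ C) 2)
        have h3 : (C.subgroupOf M).index = 2 ^ k := by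
          have h4 := CfsgLib.Solv.card_map_mk' C M
          rw [Subgroup.map_comap_eq_self_of_surjective (QuotientGroup.mk'_surjective C), inf_eq_right.2 hCM, hk] at h4
          have h5 := (C.subgroupOf M).card_mul_index
          rw [CfsgLib.Solv.card_subgroupOf hCM] at h5
          exact Nat.eq_of_mul_eq_mul_left Nat.card_pos (h5.trans (h4.symm.trans (mul_comm _ _)))
        rw [h3] at h2
        exact Nat.eq_one_of_dvd_coprimes ((Nat.prime_two.coprime_iff_not_dvd.2 S.not_dvd_index).pow_left k) h2 h1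
      intro m hm
      have := Subgroup.index_eq_one.1 hidx ▸ Subgroup.mem_top (⟨m, hm⟩ : M)
      exact this
    have hMC : M ≤ C := hfix M inferInstance v hvV hv1 fun m hm => by
      refine Subgroup.mem_centralizer_singleton_iff.1 ((hMsup.trans (sup_le ?_ ?_)) hm)
      · intro c hc
        exact Subgroup.mem_centralizer_singleton_iff.2 ((Subgroup.mem_centralizer_iff.1 hc v hvV).symm)
      · intro t ht
        exact Subgroup.mem_centralizer_singleton_iff.2
          (congrArg Subtype.val (Subgroup.mem_center_iff.1 hvm.2 ⟨t, Subgroup.mem_sup_left ht⟩))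
    rw [← Subgroup.map_comap_eq_self_of_surjective (QuotientGroup.mk'_surjective C)
      (Cfsg.pCore 2 (G ⧸ C)), Subgroup.map_eq_bot_iff, QuotientGroup.ker_mk']
    exact hMC
  haveI : Fact (Nat.Prime 2) := ⟨Nat.prime_two⟩
  haveI := CfsgLib.Solv.pPrimeCore_normal (G ⧸ C) 2
  set M := (Cfsg.pPrimeCore 2 (G ⧸ C)).comap (QuotientGroup.mk' C) with hM
  have hCM : C ≤ M := QuotientGroup.le_comap_mk' C _
  have hMC : ¬ M ≤ C := by
    intro hle
    have h0 : Cfsg.pPrimeCore 2 (G ⧸ C) = ⊥ := by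
      rw [← Subgroup.map_comap_eq_self_of_surjective (QuotientGroup.mk'_surjective C)
        (Cfsg.pPrimeCore 2 (G ⧸ C)), Subgroup.map_eq_bot_iff, QuotientGroup.ker_mk']
      exact hle
    have h1 := centralizer_pPrimeCore_le hO2
    rw [h0, Subgroup.coe_bot] at h1
    obtain ⟨x, hx⟩ := exists_ne (1 : G ⧸ C)
    exact hx (Subgroup.mem_bot.1 (h1 (Subgroup.mem_centralizer_iff.2 fun y hy => by
      rw [Set.mem_singleton_iff.1 hy, one_mul, mul_one])))
  have hMidx : Odd (C.relIndex M) := by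
    have h4 := CfsgLib.Solv.card_map_mk' C M
    rw [Subgroup.map_comap_eq_self_of_surjective (QuotientGroup.mk'_surjective C), inf_eq_right.2 hCM] at h4
    have h5 := CfsgLib.Solv.relIndex_mul_card hCM
    have : C.relIndex M = Nat.card (Cfsg.pPrimeCore 2 (G ⧸ C)) :=
      Nat.eq_of_mul_eq_mul_left (Nat.card_pos (α := C)) (h5.trans (h4.symm.trans (mul_comm _ _)))
    rw [this]
    exact Nat.coprime_two_right.1 (CfsgLib.Solv.pPrimeCore_coprime (G ⧸ C) 2)
  haveI : Group.IsSolvable M := inferInstance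
  obtain ⟨R, hR1, hR2⟩ := CfsgLib.Solv.exists_hall (CfsgLib.Solv.PiSolvable.of_isSolvable (G := M) {q | q ≠ 2})
  set Rg := R.map M.subtype with hRg
  have hRM : Rg ≤ M := Subgroup.map_subtype_le R
  have hRodd : Odd (Nat.card Rg) := by
    rw [CfsgLib.Solv.card_map_subtype, Nat.odd_iff, ← Nat.two_dvd_ne_zero]
    exact fun h => hR1 2 Nat.prime_two h rfl
  have hMRC : M ≤ Rg ⊔ C := by
    have hidx : ((Rg ⊔ C).subgroupOf M).index = 1 := by
      have h1 : ((Rg ⊔ C).subgroupOf M).index ∣ R.index :=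
        Subgroup.index_dvd_of_le fun x hx => Subgroup.mem_sup_left ⟨x, hx, rfl⟩
      have h2 : ((Rg ⊔ C).subgroupOf M).index ∣ (C.subgroupOf M).index :=
        Subgroup.index_dvd_of_le (fun x hx => Subgroup.mem_sup_right hx)
      by_contra hne
      obtain ⟨q, hq, hqd⟩ := Nat.exists_prime_and_dvd hne
      have hq2 : q = 2 := not_not.1 (hR2 q hq (hqd.trans h1))
      exact Nat.two_dvd_ne_zero.2 (Nat.odd_iff.1 hMidx) (hq2 ▸ hqd.trans h2)
    intro m hm
    have := Subgroup.index_eq_one.1 hidx ▸ Subgroup.mem_top (⟨m, hm⟩ : M)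
    exact this
  set N := Subgroup.normalizer (Rg : Set G) with hN
  have hnoinv : ¬ 2 ∣ Nat.card N := by
    intro hd
    obtain ⟨x, hx⟩ := exists_prime_orderOf_dvd_card' 2 hd
    obtain ⟨hx2, hx1⟩ := orderOf_eq_prime_iff.1 hx
    have hxV : (x : G) ∈ V := (hV _).2 (congrArg Subtype.val hx2)
    have hxR := CfsgLib.Solv.mem_centralizer_of_mem_normalizer (A := Rg) (K := V)
      (by rw [Subgroup.normalizer_eq_top]; exact le_top)
      (Subgroup.inf_eq_bot_of_coprime (by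
        obtain ⟨k, hk⟩ := IsPGroup.iff_card.1 hVp
        rw [hk]; exact (Nat.coprime_two_right.2 hRodd).pow_right k)) hxV x.2
    refine hMC (hfix M inferInstance x hxV (fun h => hx1 (Subtype.ext h)) fun m hm => ?_)
    refine Subgroup.mem_centralizer_singleton_iff.1 ((hMRC.trans (sup_le ?_ ?_)) hm)
    · intro r hr
      exact Subgroup.mem_centralizer_singleton_iff.2 (Subgroup.mem_centralizer_iff.1 hxR r hr)
    · intro c hc
      exact Subgroup.mem_centralizer_singleton_iff.2 ((Subgroup.mem_centralizer_iff.1 hc x hxV).symm)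
  have hsup : M ⊔ N = ⊤ := by
    refine eq_top_iff.2 fun g _ => ?_
    have hRg' : MulAut.conj g • Rg ≤ M := by
      intro x hx
      rw [CfsgLib.Solv.conj_smul_eq_map] at hx
      obtain ⟨y, hy, rfl⟩ := hx
      exact Subgroup.Normal.conj_mem inferInstance _ (hRM hy) g
    set R' := (MulAut.conj g • Rg).subgroupOf M
    have hc' : Nat.card R' = Nat.card R := by
      rw [CfsgLib.Solv.card_subgroupOf hRg', CfsgLib.Solv.card_conj_smul, CfsgLib.Solv.card_map_subtype]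
    have hi' : R'.index = R.index := by
      have h1 := R'.card_mul_index
      rw [hc', ← R.card_mul_index] at h1
      exact Nat.eq_of_mul_eq_mul_left Nat.card_pos h1
    obtain ⟨m, hm⟩ := CfsgLib.Solv.hall_conj (CfsgLib.Solv.PiSolvable.of_isSolvable (G := M) {q | q ≠ 2})
      hR1 hR2 (K := R') (hc'.symm ▸ hR1) (hi'.symm ▸ hR2)
    have hmn : (m : G)⁻¹ * g ∈ N := by
      refine CfsgLib.Solv.mem_normalizer_of_conj_smul_eq ?_
      have h2 := congrArg (Subgroup.map M.subtype) hm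
      rw [Subgroup.map_subgroupOf_eq_of_le hRg', CfsgLib.Solv.conj_smul_eq_map, Subgroup.map_map,
        show M.subtype.comp (MulAut.conj m).toMonoidHom = (MulAut.conj (m : G)).toMonoidHom.comp M.subtype
          from rfl, ← Subgroup.map_map, ← hRg, ← CfsgLib.Solv.conj_smul_eq_map] at h2
      rw [map_mul, mul_smul, ← h2, ← mul_smul, ← map_mul, inv_mul_cancel, map_one, one_smul]
    have := mul_mem (Subgroup.mem_sup_left m.2 : (m : G) ∈ M ⊔ N) (Subgroup.mem_sup_right hmn)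
    simpa using this
  intro hd
  rw [← Subgroup.relIndex_mul_index hCM] at hd
  rcases (Nat.prime_two.dvd_mul.1 hd) with h | h
  · exact Nat.two_dvd_ne_zero.2 (Nat.odd_iff.1 hMidx) h
  · refine hnoinv (h.trans ?_)
    have h1 := M.relIndex_dvd_card N
    rwa [← Subgroup.relIndex_sup_right, sup_comm, hsup, Subgroup.relIndex_top_right] at h1

/-- A characteristic subgroup of class two and exponent four on which odd automorphisms act faithfully. -/
theorem exists_D {P : Type*} [Group P] [Finite P] (hP : IsPGroup 2 P)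
    (hV : ∀ x : P, x ^ 2 = 1 → ∀ y : P, Commute y x) :
    ∃ D : Subgroup P, D.Characteristic ∧ (∀ x : P, x ^ 2 = 1 → x ∈ D) ∧ (∀ d ∈ D, (d ^ 2) ^ 2 = 1) ∧
      (∀ d ∈ D, ∀ u : P, ⁅u, d⁆ ^ 2 = 1) ∧
      (∀ a : MulAut P, (orderOf a).Coprime 2 → (∀ d ∈ D, a d = d) → a = 1) := by
  haveI : Fact (Nat.Prime 2) := ⟨Nat.prime_two⟩
  obtain ⟨H, hHc, h1, h2, h3⟩ := CfsgLib.Solv.exists_critical hP
  haveI := hHc
  have hsqc : ∀ x ∈ H, ∀ y ∈ H, Commute (x ^ 2) y := fun x hx y hy => by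
    have hz : x ^ 2 ∈ Subgroup.centralizer (H : Set P) :=
      h1 ⟨(⟨x, hx⟩ : H) ^ 2, CfsgLib.Solv.pow_mem_frattini (hP.to_subgroup H) ⟨x, hx⟩, rfl⟩
    exact (Subgroup.mem_centralizer_iff.1 hz y hy).symm
  have hc : ∀ a ∈ H, ∀ u : P, ⁅a, u⁆ ∈ H ∧ ∀ w ∈ H, Commute ⁅a, u⁆ w := fun a ha u => by
    have := Subgroup.mem_inf.1 (h2 (Subgroup.commutator_mem_commutator ha (Subgroup.mem_top u)))
    exact ⟨this.1, fun w hw => (Subgroup.mem_centralizer_iff.1 this.2 w hw).symm⟩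
  have hc2 : ∀ a ∈ H, ∀ b ∈ H, ⁅b, a⁆ ^ 2 = 1 := fun a ha b hb => by
    have e : ⁅b, a ^ 2⁆ = ⁅b, a⁆ ^ 2 := by
      rw [pow_two, pow_two]
      calc ⁅b, a * a⁆ = ⁅b, a⁆ * (a * ⁅b, a⁆ * a⁻¹) := by simp only [commutatorElement_def]; group
        _ = _ := by rw [← ((hc b hb a).2 a ha).eq, mul_inv_cancel_right]
    rw [← e, commutatorElement_eq_one_iff_commute]
    exact (hsqc a ha b hb).symm
  have hmulsq : ∀ a ∈ H, ∀ b ∈ H, (a * b) ^ 2 = ⁅b, a⁆ * (a ^ 2 * b ^ 2) := fun a ha b hb => by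
    calc (a * b) ^ 2 = a * ⁅b, a⁆ * (a * b * b) := by simp only [pow_two, commutatorElement_def]; group
      _ = ⁅b, a⁆ * a * (a * b * b) := by rw [((hc b hb a).2 a ha).eq]
      _ = _ := by simp only [pow_two]; group
  let D : Subgroup P :=
    { carrier := {x | x ∈ H ∧ (x ^ 2) ^ 2 = 1}
      one_mem' := ⟨one_mem _, by simp⟩
      mul_mem' := fun {a b} ha hb => ⟨mul_mem ha.1 hb.1, by
        rw [hmulsq a ha.1 b hb.1, ((hc b hb.1 a).2 _ (mul_mem (pow_mem ha.1 2) (pow_mem hb.1 2))).mul_pow,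
          hc2 a ha.1 b hb.1, one_mul, (hsqc a ha.1 _ (pow_mem hb.1 2)).mul_pow, ha.2, hb.2, one_mul]⟩
      inv_mem' := fun {a} ha => ⟨inv_mem ha.1, by rw [inv_pow, inv_pow, ha.2, inv_one]⟩ }
  have hDc : D.Characteristic := Subgroup.characteristic_iff_le_map.2 fun e x hx =>
    ⟨e.symm x, ⟨CfsgLib.Solv.map_mem_of_characteristic e.symm hx.1, by rw [← map_pow, ← map_pow, hx.2, map_one]⟩,
      e.apply_symm_apply x⟩
  refine ⟨D, hDc, fun x hx => ⟨h3 (Subgroup.mem_centralizer_iff.2 fun y _ => (hV x hx y).eq),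
    by rw [hx, one_pow]⟩, fun d hd => hd.2, fun d hd u => ?_, fun a ha hfix => ?_⟩
  · have hcd : Commute ⁅u, d⁆ d := by
      rw [← commutatorElement_inv d u]
      exact ((hc d hd.1 u).2 d hd.1).inv_left
    have e : u * d ^ 2 * u⁻¹ = ⁅u, d⁆ ^ 2 * d ^ 2 := by
      rw [← hcd.mul_pow, ← conj_pow]
      congr 1
      simp only [commutatorElement_def]; group
    have : u * d ^ 2 * u⁻¹ = d ^ 2 := by rw [(hV _ hd.2 u).eq, mul_inv_cancel_right]
    rw [this] at e
    exact mul_eq_right.1 e.symm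
  · refine CfsgLib.Solv.aut_eq_one_of_fix hP h3 ha fun x => ?_
    obtain ⟨n, hn⟩ : ∃ n, orderOf x = n := ⟨_, rfl⟩
    induction n using Nat.strong_induction_on generalizing x with
    | _ n ih =>
      intro hx
      by_cases hx1 : x = 1
      · rw [hx1, map_one]
      have hxy : a x ^ 2 = x ^ 2 := by
        rw [← map_pow]
        refine ih _ ?_ (x ^ 2) rfl (pow_mem hx 2)
        have hpo : 2 ∣ orderOf x := by
          obtain ⟨k, hk⟩ := (IsPGroup.iff_orderOf.1 hP) x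
          rw [hk]
          refine dvd_pow_self 2 fun h0 => hx1 ?_
          rw [← orderOf_eq_one_iff, hk, h0, pow_zero]
        rw [orderOf_pow_of_dvd two_ne_zero hpo, ← hn]
        exact Nat.div_lt_self (orderOf_pos x) one_lt_two
      have hxH : a x ∈ H := CfsgLib.Solv.map_mem_of_characteristic a hx
      have hzD : x⁻¹ * a x ∈ D := by
        refine ⟨mul_mem (inv_mem hx) hxH, ?_⟩
        rw [hmulsq _ (inv_mem hx) _ hxH, inv_pow, hxy, inv_mul_cancel, mul_one]
        exact hc2 _ (inv_mem hx) _ hxH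
      have := CfsgLib.Solv.eq_one_of_fixed_shift hP ha (x := x) (z := x⁻¹ * a x) (by group) (hfix _ hzD)
      exact (inv_mul_eq_one.1 this).symm

omit [Finite G] in
theorem comm_mul_left {a b c : G} (h : Commute a ⁅b, c⁆) : ⁅a * b, c⁆ = ⁅b, c⁆ * ⁅a, c⁆ := by
  calc ⁅a * b, c⁆ = a * ⁅b, c⁆ * a⁻¹ * ⁅a, c⁆ := by simp only [commutatorElement_def]; group
    _ = _ := by rw [h.eq, mul_inv_cancel_right]

omit [Finite G] in
theorem comm_mul_right {a b c : G} (h : Commute b ⁅a, c⁆) : ⁅a, b * c⁆ = ⁅a, b⁆ * ⁅a, c⁆ := by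
  calc ⁅a, b * c⁆ = ⁅a, b⁆ * (b * ⁅a, c⁆ * b⁻¹) := by simp only [commutatorElement_def]; group
    _ = _ := by rw [h.eq, mul_inv_cancel_right]

/-- The configuration left over at the end is impossible. -/
theorem no_configuration (T W X L : Subgroup G) (hT2 : ∀ t ∈ T, t * t = 1) (hXW : X ≤ W)
    (hWc : ∀ a ∈ W, ∀ b ∈ W, Commute a b) (hXT : ∀ x ∈ X, ∀ t ∈ T, Commute x t)
    (hcm : ∀ t ∈ T, ∀ d ∈ W, ⁅t, d⁆ ∈ X) (hgen : X ≤ ⁅W, T⁆) (hX3 : 3 ≤ Nat.card X)
    (hWcard : Nat.card W ≤ Nat.card T * Nat.card X)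
    (hLT : ∀ l ∈ L, ∀ t ∈ T, l * t * l⁻¹ ∈ T) (hLW : ∀ l ∈ L, ∀ d ∈ W, l * d * l⁻¹ ∈ W)
    (htr : ∀ t ∈ T, t ≠ 1 → ∀ t' ∈ T, t' ≠ 1 → ∃ l ∈ L, l * t * l⁻¹ = t')
    (hfix : ∀ d ∈ W, (∀ t ∈ T, Commute t d) → d ∈ X)
    (hB : ∃ B ≤ T, (∃ a ∈ T, B ⊔ Subgroup.zpowers a = T) ∧
      ∃ u ∈ W, u ∉ X ∧ ∀ b ∈ B, Commute b u) : False := by
  classical
  have hTc : ∀ a ∈ T, ∀ b ∈ T, Commute a b := fun a ha b hb => by
    have hi : ∀ x ∈ T, x⁻¹ = x := fun x hx => inv_eq_of_mul_eq_one_right (hT2 x hx)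
    calc a * b = (a * b)⁻¹ := (hi _ (mul_mem ha hb)).symm
      _ = b⁻¹ * a⁻¹ := mul_inv_rev a b
      _ = b * a := by rw [hi a ha, hi b hb]
  have hor : ∀ B : Subgroup G, B ≤ T → ∀ a ∈ T, B ⊔ Subgroup.zpowers a = T → ∀ t ∈ T, t ∈ B ∨ t * a ∈ B := by
    intro B hBT a ha hsup t ht
    rw [← hsup] at ht
    have haB : Subgroup.zpowers a ≤ Subgroup.normalizer (B : Set G) := by
      refine Subgroup.zpowers_le.2 (Subgroup.mem_normalizer_iff.2 fun x => ?_)
      constructor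
      · intro hx
        rwa [(hTc a ha x (hBT hx)).eq, mul_inv_cancel_right]
      · intro hx
        have h := hTc a ha _ (hBT hx)
        have hx' : a * x * a⁻¹ = x := by
          have h' := h.eq
          calc a * x * a⁻¹ = a⁻¹ * (a * (a * x * a⁻¹)) := by group
            _ = a⁻¹ * ((a * x * a⁻¹) * a) := by rw [h']
            _ = x := by group
        rwa [hx'] at hx
    obtain ⟨b, hb, x, hx, rfl⟩ := CfsgLib.Solv.exists_mul_of_mem_sup haB (sup_comm B _ ▸ ht)
    obtain ⟨n, rfl⟩ := Subgroup.mem_zpowers_iff.1 hx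
    rcases Int.even_or_odd n with ⟨k, rfl⟩ | ⟨k, rfl⟩
    · left
      rwa [← two_mul, zpow_mul, zpow_ofNat, pow_two, hT2 a ha, one_zpow, mul_one]
    · right
      rwa [zpow_add, zpow_mul, zpow_ofNat, pow_two, hT2 a ha, one_zpow, one_mul, zpow_one, mul_assoc,
        hT2 a ha, mul_one]
  let Good : Subgroup G → Prop := fun B => B ≤ T ∧ (∃ a ∈ T, B ⊔ Subgroup.zpowers a = T) ∧
    ∃ u ∈ W, u ∉ X ∧ ∀ b ∈ B, Commute b u
  obtain ⟨B₀, hB₀⟩ : ∃ B, Good B := hB
  have hGconj : ∀ B, Good B → ∀ l ∈ L, Good (B.map (MulAut.conj l).toMonoidHom) := by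
    rintro B ⟨hBT, ⟨a, ha, hsup⟩, u, hu, huX, hBu⟩ l hl
    have hTmap : T.map (MulAut.conj l).toMonoidHom = T := by
      refine Subgroup.eq_of_le_of_card_ge ?_ (le_of_eq ?_)
      · rintro _ ⟨t, ht, rfl⟩; exact hLT l hl t ht
      · exact (Subgroup.card_map_of_injective (MulAut.conj l).injective).symm
    refine ⟨(Subgroup.map_mono hBT).trans hTmap.le, ⟨l * a * l⁻¹, hLT l hl a ha, ?_⟩,
      l * u * l⁻¹, hLW l hl u hu, fun h => ?_, ?_⟩
    · rw [show l * a * l⁻¹ = (MulAut.conj l).toMonoidHom a from rfl, ← MonoidHom.map_zpowers,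
        ← Subgroup.map_sup, hsup, hTmap]
    · refine huX (hfix u hu fun t ht => ?_)
      have h2 := ((hXT _ h _ (hLT l hl t ht)).symm).map (MulAut.conj l⁻¹)
      simpa [MulAut.conj_apply, mul_assoc] using h2
    · rintro _ ⟨b, hb, rfl⟩
      exact (hBu b hb).map (MulAut.conj l)
  have hne : ∀ B, Good B → ∃ t ∈ T, t ∉ B := by
    rintro B ⟨hBT, -, u, hu, huX, hBu⟩
    by_contra hc
    push Not at hc
    exact huX (hfix u hu fun t ht => hBu t (hc t ht))
  have hint : ∀ t ∈ T, (∀ B, Good B → t ∈ B) → t = 1 := by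
    intro t ht hall
    by_contra ht1
    obtain ⟨s, hs, hsB⟩ := hne B₀ hB₀
    have hs1 : s ≠ 1 := fun h => hsB (h ▸ one_mem _)
    obtain ⟨l, hl, hlt⟩ := htr s hs hs1 t ht ht1
    obtain ⟨b, hb, hbt⟩ := hall _ (hGconj B₀ hB₀ l hl)
    exact hsB (((MulAut.conj l).injective (hbt.trans hlt.symm)) ▸ hb)
  haveI : Fintype (Subgroup G) := Fintype.ofFinite _
  obtain ⟨F, hF, hFmin⟩ := Finset.exists_min_image
    ((Finset.univ.filter fun B => Good B).powerset.filter
      fun F => ∀ t ∈ T, (∀ B ∈ F, t ∈ B) → t = 1) Finset.card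
    ⟨Finset.univ.filter fun B => Good B, by
      simp only [Finset.mem_filter, Finset.mem_powerset, Finset.Subset.refl, true_and]
      exact fun t ht h => hint t ht fun B hB => h B (by simp [hB])⟩
  simp only [Finset.mem_filter, Finset.mem_powerset] at hF hFmin
  have hgood : ∀ B ∈ F, Good B := fun B hB => (Finset.mem_filter.1 (hF.1 hB)).2
  have hdata : ∀ B : F, ∃ tu : G × G, tu.1 ∈ T ∧ tu.1 ∉ (B : Subgroup G) ∧ tu.2 ∈ W ∧ ⁅tu.1, tu.2⁆ ≠ 1 ∧
      (∀ B' : F, B' ≠ B → tu.1 ∈ (B' : Subgroup G)) ∧ ∀ b ∈ (B : Subgroup G), Commute b tu.2 := by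
    rintro ⟨B, hBF⟩
    obtain ⟨hBT, ⟨a, ha, hsup⟩, u, hu, huX, hBu⟩ := hgood B hBF
    obtain ⟨t, ht, hothers, ht1⟩ : ∃ t ∈ T, (∀ B' ∈ F.erase B, t ∈ B') ∧ t ≠ 1 := by
      by_contra hc
      push Not at hc
      have := hFmin (F.erase B) ⟨(Finset.erase_subset _ _).trans hF.1, hc⟩
      exact absurd (Finset.card_erase_lt_of_mem hBF) (not_lt.2 this)
    have htB : t ∉ B := fun h => ht1 (hF.2 t ht fun B' hB' => by
      by_cases e : B' = B
      · rwa [e]
      · exact hothers B' (Finset.mem_erase.2 ⟨e, hB'⟩))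
    refine ⟨(t, u), ht, htB, hu, fun h => huX (hfix u hu fun s hs => ?_), fun B' hne' =>
      hothers B' (Finset.mem_erase.2 ⟨fun e => hne' (Subtype.ext e), B'.2⟩), hBu⟩
    have htu : Commute t u := commutatorElement_eq_one_iff_commute.1 h
    have hta : t * a ∈ B := (hor B hBT a ha hsup t ht).resolve_left htB
    rcases hor B hBT a ha hsup s hs with h1 | h1
    · exact hBu s h1
    · have : s = ((s * a) * (t * a)⁻¹) * t := by group
      rw [this]
      exact (hBu _ (mul_mem h1 (inv_mem hta))).mul_left htu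
  choose tu htT htB huW hx hothers hBu using hdata
  haveI hXcm : ∀ x ∈ X, ∀ w ∈ W, Commute x w := fun x hx w hw => hWc x (hXW hx) w hw
  let Φ : W →* (F → X) :=
    { toFun := fun d B => ⟨⁅(tu B).1, (d : G)⁆, hcm _ (htT B) _ d.2⟩
      map_one' := funext fun B => Subtype.ext (commutatorElement_one_right _)
      map_mul' := fun a b => funext fun B => Subtype.ext
        (comm_mul_right (hXcm _ (hcm _ (htT B) _ b.2) _ a.2).symm) }
  let xF : F → X := fun B => ⟨⁅(tu B).1, (tu B).2⁆, hcm _ (htT B) _ (huW B)⟩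
  have hxne : ∀ B, xF B ≠ 1 := fun B h => hx B (congrArg Subtype.val h)
  have hsingle : ∀ B, Φ ⟨(tu B).2, huW B⟩ = Pi.mulSingle B (xF B) := by
    intro B
    funext B'
    by_cases e : B' = B
    · subst e; rw [Pi.mulSingle_eq_same]; rfl
    · rw [Pi.mulSingle_eq_of_ne e]
      exact Subtype.ext (commutatorElement_eq_one_iff_commute.2 (hBu B _ (hothers B' B (Ne.symm e))))
  let ev : (F → Bool) → Φ.range := fun c => ⟨fun B => if c B then xF B else 1, by
    refine Subgroup.pi_mem_of_mulSingle_mem _ fun B => ?_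
    by_cases hc : c B = true
    · simp only [hc, if_true]; exact ⟨_, hsingle B⟩
    · simp [hc, Pi.mulSingle_one]⟩
  have hev : Function.Injective ev := by
    intro c c' h
    funext B
    have hB := congrFun (congrArg Subtype.val h) B
    simp only [ev] at hB
    cases hcB : c B <;> cases hcB' : c' B <;> simp [hcB, hcB', hxne B, Ne.symm (hxne B)] at hB ⊢
  have hcardT : Nat.card T ≤ Nat.card (F → Bool) := by
    refine Nat.card_le_card_of_injective (fun t B => decide ((t : G) ∈ (B : Subgroup G))) ?_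
    intro t t' h
    have : (t : G)⁻¹ * t' = 1 := by
      refine hF.2 _ (mul_mem (inv_mem t.2) t'.2) fun B hB => ?_
      have hiff : (t : G) ∈ B ↔ (t' : G) ∈ B := by simpa using congrFun h ⟨B, hB⟩
      by_cases hb : (t : G) ∈ B
      · exact mul_mem (inv_mem hb) (hiff.1 hb)
      · obtain ⟨hBT, ⟨a, ha, hsup⟩, -⟩ := hgood B hB
        have h1 := (hor B hBT a ha hsup _ t.2).resolve_left hb
        have h2 := (hor B hBT a ha hsup _ t'.2).resolve_left (fun h' => hb (hiff.2 h'))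
        have h3 := mul_mem (inv_mem h1) h2
        have e : ((t : G) * a)⁻¹ * ((t' : G) * a) = a⁻¹ * ((t : G)⁻¹ * t') * a := by group
        rw [e, mul_assoc a⁻¹, (hTc _ (mul_mem (inv_mem t.2) t'.2) a ha).eq, inv_mul_cancel_left] at h3
        exact h3
    exact Subtype.ext (inv_mul_eq_one.1 this)
  have hrange : Nat.card Φ.range * Nat.card X ≤ Nat.card W := by
    rw [← Subgroup.index_ker, mul_comm]
    calc Nat.card X * Φ.ker.index ≤ Nat.card Φ.ker * Φ.ker.index := by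
          refine Nat.mul_le_mul_right _ (Nat.card_le_card_of_injective
            (fun x : X => (⟨⟨x, hXW x.2⟩, funext fun B => Subtype.ext ?_⟩ : Φ.ker)) ?_)
          · exact commutatorElement_eq_one_iff_commute.2 (hXT _ x.2 _ (htT B)).symm
          · intro x y h; exact Subtype.ext (congrArg (fun z : Φ.ker => ((z : W) : G)) h)
      _ = _ := Subgroup.card_mul_index _
  have hevs : Function.Surjective ev := by
    refine (hev.bijective_of_nat_card_le ?_).2
    exact (Nat.le_of_mul_le_mul_right (hrange.trans hWcard) Nat.card_pos).trans hcardT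
  have hval : ∀ B : F, ∀ d ∈ W, ⁅(tu B).1, d⁆ = 1 ∨ ⁅(tu B).1, d⁆ = (xF B : G) := by
    intro B d hd
    obtain ⟨c, hc⟩ := hevs ⟨Φ ⟨d, hd⟩, ⟨_, rfl⟩⟩
    have := congrArg Subtype.val (congrFun (congrArg Subtype.val hc) B)
    simp only [ev] at this
    cases hcB : c B
    · left; simpa [hcB, Φ] using this.symm
    · right; simpa [hcB, Φ] using this.symm
  have hcross : ∀ B B' : F, (xF B : G) = xF B' := by
    intro B B'
    by_cases e : B = B'
    · rw [e]
    set t := (tu B).1 * (tu B').1 with ht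
    have htT' : t ∈ T := mul_mem (htT B) (htT B')
    have ht1 : t ≠ 1 := by
      intro h
      have : (tu B).1 = ((tu B').1)⁻¹ := eq_inv_of_mul_eq_one_left h
      exact htB B (this ▸ inv_mem (hothers B' B e))
    have htB1 : (tu B).1 ≠ 1 := fun h => htB B (h ▸ one_mem _)
    obtain ⟨l, hl, hlt⟩ := htr _ (htT B) htB1 t htT' ht1
    have hone : ∀ d ∈ W, ⁅t, d⁆ ≠ 1 → ⁅t, d⁆ = l * (xF B : G) * l⁻¹ := by
      intro d hd hne'
      have hd' : l⁻¹ * d * l ∈ W := by simpa using hLW _ (inv_mem hl) d hd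
      have e2 : ⁅t, d⁆ = l * ⁅(tu B).1, l⁻¹ * d * l⁆ * l⁻¹ := by
        rw [← hlt]; simp only [commutatorElement_def]; group
      rcases hval B _ hd' with h | h
      · exact absurd (by rw [e2, h, mul_one, mul_inv_cancel]) hne'
      · rw [e2, h]
    have e1 : ⁅t, (tu B).2⁆ = (xF B : G) := by
      rw [ht, comm_mul_left]
      · rw [commutatorElement_eq_one_iff_commute.2 (hBu B _ (hothers B' B e)), one_mul]
      · exact (hXT _ (hcm _ (htT B') _ (huW B)) _ (htT B)).symm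
    have e2 : ⁅t, (tu B').2⁆ = (xF B' : G) := by
      rw [ht, comm_mul_left]
      · rw [commutatorElement_eq_one_iff_commute.2 (hBu B' _ (hothers B B' (Ne.symm e))), mul_one]
      · exact (hXT _ (hcm _ (htT B') _ (huW B')) _ (htT B)).symm
    rw [← e1, ← e2, hone _ (huW B) (by rw [e1]; exact fun h => hxne B (Subtype.ext h)),
      hone _ (huW B') (by rw [e2]; exact fun h => hxne B' (Subtype.ext h))]
  obtain ⟨B₁, hB₁⟩ : F.Nonempty := by
    rw [Finset.nonempty_iff_ne_empty]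
    intro h
    obtain ⟨t, ht, htB'⟩ := hne B₀ hB₀
    exact htB' (hF.2 t ht (by simp [h]) ▸ one_mem _)
  set x0 : G := (xF ⟨B₁, hB₁⟩ : G)
  have hJ : ∀ n : ℕ, ∀ t ∈ T, (F.filter fun B => t ∉ B).card = n → ∀ d ∈ W, ⁅t, d⁆ ∈ Subgroup.zpowers x0 := by
    intro n
    induction n using Nat.strong_induction_on with
    | _ n ih =>
      intro t ht hn d hd
      by_cases he : ∀ B ∈ F, t ∈ B
      · rw [hF.2 t ht he, commutatorElement_one_left]; exact one_mem _
      push Not at he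
      obtain ⟨B, hBF, htB'⟩ := he
      obtain ⟨hBT, ⟨a, ha, hsup⟩, -⟩ := hgood B hBF
      set t' := t * (tu ⟨B, hBF⟩).1 with ht'
      have htB2 : t' ∈ B := by
        have h1 := (hor B hBT a ha hsup t ht).resolve_left htB'
        have h2 := (hor B hBT a ha hsup _ (htT ⟨B, hBF⟩)).resolve_left (htB ⟨B, hBF⟩)
        have h3 := mul_mem h1 h2
        have e : t * a * ((tu ⟨B, hBF⟩).1 * a) = t' * (a * a) := by
          rw [ht', show t * a * ((tu ⟨B, hBF⟩).1 * a) = t * (a * (tu ⟨B, hBF⟩).1) * a by group,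
            (hTc a ha _ (htT ⟨B, hBF⟩)).eq]
          group
        rwa [e, hT2 a ha, mul_one] at h3
      have hlt : (F.filter fun C => t' ∉ C).card < n := by
        rw [← hn]
        refine Finset.card_lt_card ((Finset.ssubset_iff_of_subset ?_).2
          ⟨B, Finset.mem_filter.2 ⟨hBF, htB'⟩, fun h => (Finset.mem_filter.1 h).2 htB2⟩)
        intro C hC
        simp only [Finset.mem_filter] at hC ⊢
        refine ⟨hC.1, fun h => hC.2 (mul_mem h (hothers ⟨B, hBF⟩ ⟨C, hC.1⟩ ?_))⟩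
        intro e
        have e' : C = B := congrArg Subtype.val e
        exact hC.2 (by rw [e']; exact htB2)
      have htt : t = t' * (tu ⟨B, hBF⟩).1 := by
        rw [ht', mul_assoc, hT2 _ (htT ⟨B, hBF⟩), mul_one]
      have ht'T : t' ∈ T := mul_mem ht (htT ⟨B, hBF⟩)
      rw [htt, comm_mul_left (hXT _ (hcm _ (htT _) _ hd) _ ht'T).symm]
      refine mul_mem ?_ (ih _ hlt t' ht'T rfl d hd)
      rcases hval ⟨B, hBF⟩ d hd with h | h
      · rw [h]; exact one_mem _
      · rw [h, hcross ⟨B, hBF⟩ ⟨B₁, hB₁⟩]; exact Subgroup.mem_zpowers _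
  have hXle : X ≤ Subgroup.zpowers x0 := hgen.trans (Subgroup.commutator_le.2 fun d hd t ht => by
    rw [← commutatorElement_inv]
    exact inv_mem (hJ _ t ht rfl d hd))
  have hx02 : x0 * x0 = 1 := by
    have hd : (tu ⟨B₁, hB₁⟩).2 ∈ W := huW _
    have := comm_mul_left (a := (tu ⟨B₁, hB₁⟩).1) (b := (tu ⟨B₁, hB₁⟩).1) (c := (tu ⟨B₁, hB₁⟩).2)
      (hXT _ (hcm _ (htT _) _ hd) _ (htT _)).symm
    rw [hT2 _ (htT _), commutatorElement_one_left] at this
    exact this.symm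
  have hle2 : Nat.card (Subgroup.zpowers x0) ≤ 2 := by
    rw [Nat.card_zpowers]
    exact Nat.le_of_dvd two_pos (orderOf_dvd_of_pow_eq_one (by rw [pow_two, hx02]))
  have := Nat.card_le_card_of_injective (Subgroup.inclusion hXle) (Subgroup.inclusion_injective hXle)
  omega

set_option maxHeartbeats 2000000 in
/-- `O₂(G)` is a Sylow subgroup. -/
theorem two_not_dvd_index [Group.IsSolvable G] (hO : Cfsg.pPrimeCore 2 G = ⊥) (heven : 2 ∣ Nat.card G)
    (hconj : ∀ x y : G, x ≠ 1 → x ^ 2 = 1 → y ≠ 1 → y ^ 2 = 1 → IsConj x y)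
    (htwo : ∃ x y : G, x ≠ y ∧ x ≠ 1 ∧ x ^ 2 = 1 ∧ y ≠ 1 ∧ y ^ 2 = 1) :
    ¬ 2 ∣ (Cfsg.pCore 2 G).index := by
  classical
  intro hdiv
  haveI : Fact (Nat.Prime 2) := ⟨Nat.prime_two⟩
  haveI hUn : (Cfsg.pCore 2 G).Normal := CfsgLib.Solv.pCore_normal G 2
  haveI hUc : (Cfsg.pCore 2 G).Characteristic := CfsgLib.Solv.pCore_characteristic
  obtain ⟨V, hVn, hV, hVU, hUV⟩ := exists_involution_group hO heven hconj
  haveI := hVn
  set U := Cfsg.pCore 2 G with hU
  have hUp : IsPGroup 2 U := CfsgLib.Solv.pCore_isPGroup G 2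
  have hFU : Cfsg.fittingSubgroup G = U := CfsgLib.Solv.fittingSubgroup_eq_pCore hO
  have hcU : Subgroup.centralizer (U : Set G) ≤ U := CfsgLib.Solv.centralizer_pCore_le hO
  obtain ⟨a₀, b₀, hab, ha1, ha2, hb1, hb2⟩ := htwo
  have hVc : ∀ v ∈ V, ∀ w ∈ V, Commute v w := fun v hv w hw => hUV v (hVU hv) w hw
  set C := Subgroup.centralizer (V : Set G) with hC
  have hUC : U ≤ C := fun u hu => Subgroup.mem_centralizer_iff.2 fun v hv => (hUV u hu v hv).eq.symm
  have hCcomm : ∀ g ∈ C, ∀ v ∈ V, Commute g v := fun g hg v hv => (Subgroup.mem_centralizer_iff.1 hg v hv).symm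
  have hCodd : ¬ 2 ∣ C.index :=
    not_dvd_index_centralizer hV hconj ⟨a₀, b₀, hab, ha1, hb1, (hV _).2 ha2, (hV _).2 hb2⟩
  -- the preimage of `O(G/U)` and a complement
  haveI := CfsgLib.Solv.pPrimeCore_normal (G ⧸ U) 2
  set K := (Cfsg.pPrimeCore 2 (G ⧸ U)).comap (QuotientGroup.mk' U) with hK
  have hUK : U ≤ K := QuotientGroup.le_comap_mk' U _
  have hKcard : U.relIndex K = Nat.card (Cfsg.pPrimeCore 2 (G ⧸ U)) := by
    have h2 := CfsgLib.Solv.relIndex_mul_card hUK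
    have h3 := CfsgLib.Solv.card_map_mk' U K
    rw [Subgroup.map_comap_eq_self_of_surjective (QuotientGroup.mk'_surjective U), inf_eq_right.2 hUK] at h3
    exact Nat.eq_of_mul_eq_mul_left (Nat.card_pos (α := U)) ((h2.trans h3.symm).trans (mul_comm _ _))
  have hKodd : (U.relIndex K).Coprime 2 := hKcard ▸ CfsgLib.Solv.pPrimeCore_coprime _ 2
  obtain ⟨m, hm⟩ := IsPGroup.iff_card.1 hUp
  obtain ⟨Q, hQK, hQU, hQcop⟩ := CfsgLib.Solv.PLen.exists_complement_in hUK (hm ▸ (hKodd.symm).pow_left m)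
  have hm0 : m ≠ 0 := by
    rintro rfl
    rw [pow_zero, Subgroup.card_eq_one] at hm
    exact ha1 (Subgroup.mem_bot.1 (hm ▸ hVU ((hV a₀).2 ha2)))
  have hQodd : (Nat.card Q).Coprime 2 := hQcop.coprime_dvd_right (hm ▸ dvd_pow_self 2 hm0)
  have hqodd : ∀ q ∈ Q, (orderOf q).Coprime 2 := fun q hq =>
    Nat.Coprime.coprime_dvd_left (Subgroup.orderOf_dvd_natCard Q hq) hQodd
  set N := Subgroup.normalizer (Q : Set G) with hN
  have hsup : U ⊔ N = ⊤ :=
    CfsgLib.Solv.PLen.sup_normalizer_eq_top hQU hQcop (Or.inl (haveI := hUp.isNilpotent; inferInstance))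
  have hUN : ∀ u ∈ U, u ∈ N → u ∈ Subgroup.centralizer (Q : Set G) := fun u hu huN =>
    CfsgLib.Solv.mem_centralizer_of_mem_normalizer (by rw [Subgroup.normalizer_eq_top]; exact le_top)
      (Subgroup.inf_eq_bot_of_coprime hQcop) hu huN
  have hidxN : ∀ H : Subgroup G, H ⊓ N = U ⊓ N → U.index = H.relIndex N := by
    intro H hH
    rw [← Subgroup.inf_relIndex_right H, hH, Subgroup.inf_relIndex_right, ← Subgroup.relIndex_sup_right,
      sup_comm, hsup, Subgroup.relIndex_top_right]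
  -- `Q` centralises `V`
  by_cases hinv : ∃ x : G, x ≠ 1 ∧ x ^ 2 = 1 ∧ x ∈ Subgroup.centralizer (Q : Set G)
  swap
  · refine absurd (hdiv.trans ((hidxN U rfl) ▸ U.relIndex_dvd_card N)) fun hd => ?_
    obtain ⟨x, hx⟩ := exists_prime_orderOf_dvd_card' 2 hd
    obtain ⟨hx2, hx1⟩ := orderOf_eq_prime_iff.1 hx
    have hx2' : (x : G) ^ 2 = 1 := congrArg Subtype.val hx2
    exact hinv ⟨x, fun h => hx1 (Subtype.ext h), hx2', hUN _ (hVU ((hV _).2 hx2')) x.2⟩
  have hKC : K ≤ C := by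
    obtain ⟨x, hx1, hx2, hxQ⟩ := hinv
    intro k hk
    refine Subgroup.mem_centralizer_iff.2 fun w hw => ?_
    by_cases hw1 : w = 1
    · rw [hw1, one_mul, mul_one]
    obtain ⟨c, rfl⟩ := isConj_iff.1 (hconj x w hx1 hx2 hw1 ((hV w).1 hw))
    have hk' : c⁻¹ * k * c ∈ K := by simpa using Subgroup.Normal.conj_mem inferInstance k hk c⁻¹
    have hcom : Commute (c⁻¹ * k * c) x := by
      rw [← hQU] at hk'
      refine Subgroup.mem_centralizer_singleton_iff.1
        ((sup_le ?_ ?_ : Q ⊔ U ≤ Subgroup.centralizer ({x} : Set G)) hk')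
      · exact fun q hq => Subgroup.mem_centralizer_singleton_iff.2 (Subgroup.mem_centralizer_iff.1 hxQ q hq)
      · exact fun u hu => Subgroup.mem_centralizer_singleton_iff.2 (hUV u hu x ((hV x).2 hx2)).eq
    have := hcom.map (MulAut.conj c)
    simpa [MulAut.conj_apply, mul_assoc] using this.eq.symm
  have hQC : Q ≤ C := hQK.trans hKC
  have hVN : V ≤ N := fun v hv => by
    refine Subgroup.mem_normalizer_iff.2 fun q => ⟨fun hq => ?_, fun hq => ?_⟩
    · rwa [(hCcomm q (hQC hq) v hv).symm.eq, mul_inv_cancel_right]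
    · have h := hCcomm _ (hQC hq) v hv
      have e : v * q * v⁻¹ = q := by
        calc v * q * v⁻¹ = v⁻¹ * (v * (v * q * v⁻¹)) := by group
          _ = v⁻¹ * ((v * q * v⁻¹) * v) := by rw [h.symm.eq]
          _ = q := by group
      rwa [e] at hq
  -- the subgroup `D`
  have hcomU : ∀ x : U, x ^ 2 = 1 → ∀ y : U, Commute y x := fun x hx y =>
    Subtype.ext (hUV y y.2 x ((hV _).2 (congrArg Subtype.val hx))).eq
  obtain ⟨D₀, hD₀c, hD₀V, hD₀4, hD₀comm, hD₀faith⟩ := exists_D hUp hcomU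
  haveI := hD₀c
  set D := D₀.map U.subtype with hD
  haveI hDn : D.Normal := ConjAct.normal_of_characteristic_of_normal
  have hDU : D ≤ U := Subgroup.map_subtype_le D₀
  have hVD : V ≤ D := fun v hv => ⟨⟨v, hVU hv⟩, hD₀V _ (Subtype.ext ((hV v).1 hv)), rfl⟩
  have hDsq : ∀ d ∈ D, d ^ 2 ∈ V := by
    rintro _ ⟨d, hd, rfl⟩
    exact (hV _).2 (congrArg Subtype.val (hD₀4 d hd))
  have hDcm : ∀ u ∈ U, ∀ d ∈ D, ⁅u, d⁆ ∈ V := by
    rintro u hu _ ⟨d, hd, rfl⟩
    exact (hV _).2 (congrArg Subtype.val (hD₀comm d hd ⟨u, hu⟩))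
  have hfaith : ∀ g : G, (orderOf g).Coprime 2 → (∀ d ∈ D, Commute g d) → g = 1 := by
    intro g hg hgd
    have h1 : (MulAut.conjNormal (H := U)) g = 1 :=
      hD₀faith _ (Nat.Coprime.coprime_dvd_left (orderOf_map_dvd (MulAut.conjNormal (H := U)) g) hg)
        fun d hd => Subtype.ext (by
          show g * (d : G) * g⁻¹ = d
          rw [(show Commute g (d : G) from hgd _ ⟨d, hd, rfl⟩).eq, mul_inv_cancel_right])
    have hgU : g ∈ U := hcU (Subgroup.mem_centralizer_iff.2 fun u hu => by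
      have := congrArg (fun f : MulAut ↥U => ((f ⟨u, hu⟩ : ↥U) : G)) h1
      change g * u * g⁻¹ = u at this
      exact (mul_inv_eq_iff_eq_mul.1 this).symm)
    obtain ⟨k, hk⟩ := hUp ⟨g, hgU⟩
    rw [← orderOf_eq_one_iff]
    exact Nat.Coprime.eq_one_of_dvd (hg.pow_right k) (orderOf_dvd_of_pow_eq_one (congrArg Subtype.val hk))
  -- commutation modulo `V`
  set π : G →* G ⧸ V := QuotientGroup.mk' V with hπdef
  have hπ1 : ∀ g : G, π g = 1 ↔ g ∈ V := fun g => QuotientGroup.eq_one_iff g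
  have hπ : ∀ g h : G, ⁅g, h⁆ ∈ V ↔ Commute (π g) (π h) := fun g h => by
    rw [← hπ1, map_commutatorElement, commutatorElement_eq_one_iff_commute]
  have hπD : ∀ a ∈ D, ∀ b ∈ D, Commute (π a) (π b) := fun a ha b hb => (hπ a b).1 (hDcm a (hDU ha) b hb)
  have hVcen : ∀ u ∈ U, ∀ d ∈ D, ∀ w ∈ U, Commute w ⁅u, d⁆ := fun u hu d hd w hw => hUV w hw _ (hDcm u hu d hd)
  -- an element of `C` moving `x` inside `x V` commutes `x` with the commutators
  have hshift : ∀ g ∈ C, ∀ x ∈ U, ∀ d ∈ D, Commute (π g) (π x) → Commute x (d⁻¹ * (g * d * g⁻¹)) := by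
    intro g hg x hx d hd hgx
    have hv := (hπ g x).2 hgx
    set d' := g * d * g⁻¹ with hd'
    have hd'D : d' ∈ D := Subgroup.Normal.conj_mem inferInstance d hd g
    have hc := hDcm x hx d hd
    have e1 : ⁅x, d'⁆ = ⁅x, d⁆ := by
      have e : g * ⁅x, d⁆ * g⁻¹ = ⁅⁅g, x⁆ * x, d'⁆ := by
        rw [hd']; simp only [commutatorElement_def]; group
      rw [(hCcomm g hg _ hc).eq, mul_inv_cancel_right, comm_mul_left (hVcen x hx d' hd'D _ (hVU hv))] at e
      rw [e, commutatorElement_eq_one_iff_commute.2 ((hUV d' (hDU hd'D) _ hv).symm), mul_one]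
    rw [← commutatorElement_eq_one_iff_commute, comm_mul_right
      ((hVcen x hx d' hd'D) _ (inv_mem (hDU hd))), e1]
    calc ⁅x, d⁻¹⁆ * ⁅x, d⁆ = d⁻¹ * ⁅x, d⁆⁻¹ * d * ⁅x, d⁆ := by simp only [commutatorElement_def]; group
      _ = ⁅x, d⁆⁻¹ * d⁻¹ * d * ⁅x, d⁆ := by rw [((hVcen x hx d hd _ (inv_mem (hDU hd))).inv_right).eq]
      _ = 1 := by group
  have habs : ∀ x y : G, Commute x y → x ^ 2 = y ^ 2 → x⁻¹ * y ∈ V := fun x y h e => by
    rw [hV, h.inv_left.mul_pow, inv_pow, e, inv_mul_cancel]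
  have hfixmod : ∀ q ∈ Q, ∀ d ∈ U, Commute (π q) (π d) → Commute q d := by
    intro q hq d hd h
    have hz : d⁻¹ * ⁅q, d⁆ * d ∈ V := by simpa using Subgroup.Normal.conj_mem inferInstance _ ((hπ q d).2 h) d⁻¹
    have := fixed_shift hUp (hqodd q hq) (by rw [Subgroup.normalizer_eq_top]; exact Subgroup.mem_top q) hd
      (hVU hz) (by simp only [commutatorElement_def]; group) (hCcomm q (hQC hq) _ hz)
    rw [← commutatorElement_eq_one_iff_commute]
    calc ⁅q, d⁆ = d * (d⁻¹ * ⁅q, d⁆ * d) * d⁻¹ := by group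
      _ = 1 := by rw [this]; group
  have hQne : ∃ q ∈ Q, q ≠ 1 := by
    by_contra hc
    push Not at hc
    have hKU : K ≤ U := hQU ▸ sup_le (fun q hq => (hc q hq).symm ▸ one_mem _) le_rfl
    have h0 : Cfsg.pPrimeCore 2 (G ⧸ U) = ⊥ := by
      rw [← Subgroup.map_comap_eq_self_of_surjective (QuotientGroup.mk'_surjective U)
        (Cfsg.pPrimeCore 2 (G ⧸ U)), Subgroup.map_eq_bot_iff, QuotientGroup.ker_mk']
      exact hKU
    have h1 := centralizer_pPrimeCore_le (G := G ⧸ U) (p := 2) CfsgLib.Solv.pCore_quotient_self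
    rw [h0, Subgroup.coe_bot] at h1
    rw [Subgroup.index_eq_card] at hdiv
    obtain ⟨x, hx⟩ := exists_prime_orderOf_dvd_card' 2 hdiv
    have hx1 : x = 1 := Subgroup.mem_bot.1 (h1 (Subgroup.mem_centralizer_iff.2 fun y hy => by
      rw [Set.mem_singleton_iff.1 hy, one_mul, mul_one]))
    rw [hx1, orderOf_one] at hx
    exact absurd hx (by norm_num)
  have hconjsq : ∀ (A H : Subgroup G), (∀ h ∈ H, ∀ x ∈ A, h * x * h⁻¹ ∈ A) →
      (∀ v ∈ V, v ≠ 1 → ∀ w ∈ V, w ≠ 1 → ∃ h ∈ H, h * v * h⁻¹ = w) →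
      ∀ a ∈ A, a ∉ V → a ^ 2 ∈ V → ∀ v ∈ V, v ≠ 1 → ∃ x ∈ A, x ^ 2 = v := by
    intro A H hA htr a ha haV ha2 v hv hv1
    obtain ⟨h, hh, e⟩ := htr _ ha2 (fun h => haV ((hV a).2 h)) v hv hv1
    exact ⟨h * a * h⁻¹, hA h hh a ha, by rw [conj_pow, e]⟩
  have htrG : ∀ v ∈ V, v ≠ 1 → ∀ w ∈ V, w ≠ 1 → ∃ h ∈ (⊤ : Subgroup G), h * v * h⁻¹ = w := by
    intro v hv hv1 w hw hw1
    obtain ⟨c, hc⟩ := isConj_iff.1 (hconj v w hv1 ((hV v).1 hv) hw1 ((hV w).1 hw))
    exact ⟨c, Subgroup.mem_top c, hc⟩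
  obtain ⟨d₁, hd₁, hd₁V⟩ : ∃ d ∈ D, d ∉ V := by
    by_contra hc
    push Not at hc
    obtain ⟨q, hq, hq1⟩ := hQne
    exact hq1 (hfaith q (hqodd q hq) fun d hd => hCcomm q (hQC hq) d (hc d hd))
  -- `C_D(Q) = V`
  have hCD : ∀ d ∈ D, d ∈ Subgroup.centralizer (Q : Set G) → d ∈ V := by
    intro d hd hdQ
    by_contra hdV
    set Z := D ⊓ (Subgroup.centralizer ((K.map π : Subgroup (G ⧸ V)) : Set (G ⧸ V))).comap π with hZ
    haveI : (K.map π).Normal := Subgroup.Normal.map inferInstance π (QuotientGroup.mk'_surjective V)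
    haveI hZn : Z.Normal := inferInstance
    have hdZ : d ∈ Z := by
      refine ⟨hd, Subgroup.mem_centralizer_iff.2 ?_⟩
      rintro _ ⟨k, hk, rfl⟩
      rw [SetLike.mem_coe, ← hQU] at hk
      have : Q ⊔ U ≤ (Subgroup.centralizer {π d}).comap π := by
        refine sup_le (fun q hq => ?_) (fun u hu => ?_)
        · exact Subgroup.mem_centralizer_singleton_iff.2
            ((show Commute q d from Subgroup.mem_centralizer_iff.1 hdQ q hq).map π).eq
        · exact Subgroup.mem_centralizer_singleton_iff.2 ((hπ u d).1 (hDcm u hu d hd)).eq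
      exact Subgroup.mem_centralizer_singleton_iff.1 (this hk)
    have hsqZ := hconjsq Z ⊤ (fun g _ x hx => hZn.conj_mem x hx g) htrG d hdZ hdV (hDsq d hd)
    obtain ⟨q, hq, hq1⟩ := hQne
    have hZq : ∀ z ∈ Z, Commute q z := fun z hz =>
      hfixmod q hq z (hDU hz.1) (Subgroup.mem_centralizer_iff.1 hz.2 _ ⟨q, hQK hq, rfl⟩)
    refine hq1 (hfaith q (hqodd q hq) fun e he => ?_)
    set y := e⁻¹ * (q * e * q⁻¹) with hy
    have hyD : y ∈ D := mul_mem (inv_mem he) (Subgroup.Normal.conj_mem inferInstance e he q)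
    have hyq : Commute q y := by
      by_cases hy2 : y ^ 2 = 1
      · exact hCcomm q (hQC hq) y ((hV y).2 hy2)
      obtain ⟨z, hz, hz2⟩ := hsqZ _ (hDsq y hyD) hy2
      have hzy : Commute z y := hshift q (hQC hq) z (hDU hz.1) e he ((hZq z hz).map π)
      have := (hZq z hz).mul_right (hCcomm q (hQC hq) _ (habs z y hzy hz2))
      rwa [mul_inv_cancel_left] at this
    have := fixed_shift hUp (hqodd q hq) (by rw [Subgroup.normalizer_eq_top]; exact Subgroup.mem_top q)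
      (hDU he) (hDU hyD) (by rw [hy, mul_inv_cancel_left]) hyq
    rw [hy, inv_mul_eq_one] at this
    exact mul_inv_eq_iff_eq_mul.1 this.symm
  -- `C_U(Q) = V`
  have hU0 : ∀ u ∈ U, u ∈ Subgroup.centralizer (Q : Set G) → u ∈ V := by
    intro u hu huQ
    by_contra huV
    obtain ⟨n, hw1, hw2⟩ := exists_pow_eq_invol hUp hu (fun h => huV ((hV u).2 h))
    set w := u ^ n
    have hwU : w ∈ U := pow_mem hu n
    have hwQ : w ∈ Subgroup.centralizer (Q : Set G) := pow_mem huQ n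
    have hwD : ∀ d ∈ D, Commute w d := by
      intro d hd
      obtain ⟨x, hx, c, hc, rfl⟩ := CfsgLib.Solv.commutator_sup_inf_centralizer (A := Q) (K := D)
        (by rw [Subgroup.normalizer_eq_top]; exact le_top)
        (hQcop.coprime_dvd_right (Subgroup.card_dvd_of_le hDU))
        (Or.inr (haveI := (hUp.to_le hDU).isNilpotent; inferInstance)) d hd
      refine Commute.mul_right ?_ (hUV w hwU c (hCD c hc.1 hc.2))
      refine (Subgroup.mem_centralizer_singleton_iff.1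
        ((Subgroup.commutator_le.2 fun e he q hq => ?_ : ⁅D, Q⁆ ≤ Subgroup.centralizer ({w} : Set G)) hx)).symm
      refine Subgroup.mem_centralizer_singleton_iff.2 ?_
      have h1 := hshift q (hQC hq) w hwU e⁻¹ (inv_mem he)
        ((show Commute q w from Subgroup.mem_centralizer_iff.1 hwQ q hq).map π)
      rw [show ⁅e, q⁆ = (e⁻¹)⁻¹ * (q * e⁻¹ * q⁻¹) by simp only [commutatorElement_def]; group]
      exact h1.eq.symm
    obtain ⟨d, hd, hd2⟩ := hconjsq D ⊤ (fun g _ x hx => hDn.conj_mem x hx g) htrG d₁ hd₁ hd₁V (hDsq _ hd₁)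
      (w ^ 2) ((hV _).2 hw2) hw1
    have hwd : w⁻¹ * d ∈ D := hVD (habs w d (hwD d hd) hd2.symm)
    have hwD' : w ∈ D := by
      have := mul_mem hd (inv_mem hwd)
      simpa using this
    exact hw1 ((hV w).1 (hCD w hwD' hwQ))
  have hUNV : U ⊓ N ≤ V := fun x hx => hU0 x hx.1 (hUN x hx.1 hx.2)
  have hVUN : V ⊓ N = U ⊓ N := le_antisymm (inf_le_inf_right N hVU) (le_inf hUNV inf_le_right)
  -- a Sylow 2-subgroup of `N ∩ C`
  set M := C.subgroupOf N with hM
  haveI : M.Normal := inferInstance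
  obtain ⟨S⟩ : Nonempty (Sylow 2 M) := inferInstance
  set P := ((S : Subgroup M).map M.subtype).map N.subtype with hP
  have hPN : P ≤ N := Subgroup.map_subtype_le _
  have hPC : P ≤ C := by
    rintro _ ⟨x, ⟨y, -, rfl⟩, rfl⟩
    exact y.2
  have hPp : IsPGroup 2 P := (S.2.map _).map _
  have hVp : IsPGroup 2 V := hUp.to_le hVU
  have hVP : V ≤ P := by
    intro v hv
    let v' : M := ⟨⟨v, hVN hv⟩, hUC (hVU hv)⟩
    set V' : Subgroup M := ((V.subgroupOf N).subgroupOf M) with hV'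
    haveI : V'.Normal := inferInstance
    have hV'p : IsPGroup 2 V' := (hVp.comap_of_injective N.subtype N.subtype_injective).comap_of_injective
      M.subtype M.subtype_injective
    have hsv : (S : Subgroup M) ⊔ V' = S := S.is_maximal' (S.2.to_sup_of_normal_right hV'p) le_sup_left
    exact ⟨v'.1, ⟨v', hsv.le (Subgroup.mem_sup_right hv), rfl⟩, rfl⟩
  obtain ⟨t₁, ht₁, ht₁V⟩ : ∃ t ∈ P, t ∉ V := by
    by_contra hc
    push Not at hc
    have hPV : P = V := le_antisymm hc hVP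
    rw [hidxN V hVUN] at hdiv
    have h1 : Nat.card M * M.index = Nat.card N := Subgroup.card_mul_index M
    have h2 : Nat.card (S : Subgroup M) * (S : Subgroup M).index = Nat.card M := Subgroup.card_mul_index _
    have h3 := CfsgLib.Solv.relIndex_mul_card hVN
    have h4 : Nat.card (S : Subgroup M) = Nat.card V := by
      rw [← hPV, hP, CfsgLib.Solv.card_map_subtype, CfsgLib.Solv.card_map_subtype]
    rw [← h1, ← h2, h4, mul_assoc] at h3
    have h5 : V.relIndex N = (S : Subgroup M).index * M.index :=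
      Nat.eq_of_mul_eq_mul_left Nat.card_pos h3
    rw [h5] at hdiv
    rcases Nat.prime_two.dvd_mul.1 hdiv with h | h
    · exact S.not_dvd_index h
    · exact hCodd (h.trans (Subgroup.relIndex_dvd_index_of_normal C N))
  -- the transitive group
  set L := N ⊓ Subgroup.normalizer (P : Set G) with hL
  have htrL : ∀ v ∈ V, v ≠ 1 → ∀ w ∈ V, w ≠ 1 → ∃ l ∈ L, l * v * l⁻¹ = w := by
    intro v hv hv1 w hw hw1
    obtain ⟨g, -, rfl⟩ := htrG v hv hv1 w hw hw1
    obtain ⟨u, hu, n, hn, rfl⟩ := CfsgLib.Solv.exists_mul_of_mem_sup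
      (X := N) (M := U) (by rw [Subgroup.normalizer_eq_top]; exact le_top)
      (show g ∈ N ⊔ U by rw [sup_comm, hsup]; exact Subgroup.mem_top g)
    obtain ⟨c, hc, l, hl, e⟩ := CfsgLib.Solv.exists_mul_of_mem_sup
      (X := Subgroup.normalizer (((S : Subgroup M).map M.subtype : Subgroup N) : Set N)) (M := M)
      (by rw [Subgroup.normalizer_eq_top (H := M)]; exact le_top)
      (show (⟨n, hn⟩ : N) ∈ _ by rw [Sylow.normalizer_sup_eq_top S]; exact Subgroup.mem_top _)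
    have hlP : (l : G) ∈ L := by
      refine ⟨l.2, Subgroup.mem_normalizer_iff.2 fun x => ?_⟩
      constructor
      · rintro ⟨y, hy, rfl⟩
        exact ⟨l * y * l⁻¹, (Subgroup.mem_normalizer_iff.1 hl y).1 hy, rfl⟩
      · rintro ⟨y, hy, e'⟩
        refine ⟨l⁻¹ * y * l, (Subgroup.mem_normalizer_iff.1 hl _).2 ?_, ?_⟩
        · rwa [show l * (l⁻¹ * y * l) * l⁻¹ = y by group]
        · simp only [map_mul, map_inv, e']
          simp [mul_assoc]
    refine ⟨l, hlP, ?_⟩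
    have en : n = (c : G) * l := congrArg Subtype.val e
    have hlv : (l : G) * v * (l : G)⁻¹ ∈ V := Subgroup.Normal.conj_mem inferInstance v hv _
    rw [en]
    calc (l : G) * v * (l : G)⁻¹ = (c : G) * ((l : G) * v * (l : G)⁻¹) * (c : G)⁻¹ := by
          rw [(hCcomm c hc _ hlv).eq, mul_inv_cancel_right]
      _ = u * ((c : G) * ((l : G) * v * (l : G)⁻¹) * (c : G)⁻¹) * u⁻¹ := by
          rw [(hUV u hu _ (Subgroup.Normal.conj_mem inferInstance _ hlv _)).eq, mul_inv_cancel_right]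
      _ = _ := by group
  have hPD : ∀ t ∈ P, (∀ d ∈ D, Commute (π t) (π d)) → t ∈ V := by
    intro t ht htd
    have htQ : t ∈ Subgroup.centralizer (Q : Set G) := by
      refine Subgroup.mem_centralizer_iff.2 fun q hq => ?_
      have hcQ : ⁅t, q⁆ ∈ Q := by
        rw [commutatorElement_def]
        exact mul_mem ((Subgroup.mem_normalizer_iff.1 (hPN ht) q).1 hq) (inv_mem hq)
      have h1 : ∀ d ∈ D, Commute (π ⁅t, q⁆) (π d) := fun d hd => by
        have hd' : q⁻¹ * d * q ∈ D := by simpa using hDn.conj_mem d hd q⁻¹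
        have h2 := (htd _ hd').map (MulAut.conj (π q))
        have h3 : Commute (π q * π t * (π q)⁻¹) (π d) := by
          simpa [MulAut.conj_apply, map_mul, mul_assoc] using h2
        rw [show ⁅t, q⁆ = t * (q * t * q⁻¹)⁻¹ by simp only [commutatorElement_def]; group, map_mul, map_inv,
          map_mul, map_mul, map_inv]
        exact (htd d hd).mul_left h3.inv_left
      have h4 := hfaith _ (hqodd _ hcQ) fun d hd => hfixmod _ hcQ d (hDU hd) (h1 d hd)
      exact (commutatorElement_eq_one_iff_commute.1 h4).eq.symm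
    refine hU0 t ?_ htQ
    have h5 : QuotientGroup.mk' U t ∈ Subgroup.centralizer (Cfsg.pPrimeCore 2 (G ⧸ U) : Set (G ⧸ U)) := by
      refine Subgroup.mem_centralizer_iff.2 fun z hz => ?_
      obtain ⟨k, rfl⟩ := QuotientGroup.mk'_surjective U z
      have hk : k ∈ Q ⊔ U := hQU.ge hz
      refine Subgroup.mem_centralizer_singleton_iff.1 ((sup_le ?_ ?_ :
        Q ⊔ U ≤ (Subgroup.centralizer {QuotientGroup.mk' U t}).comap (QuotientGroup.mk' U)) hk)
      · exact fun q hq => Subgroup.mem_centralizer_singleton_iff.2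
          ((show Commute q t from Subgroup.mem_centralizer_iff.1 htQ q hq).map (QuotientGroup.mk' U)).eq
      · intro u' hu'
        refine Subgroup.mem_centralizer_singleton_iff.2 ?_
        rw [show QuotientGroup.mk' U u' = 1 from (QuotientGroup.eq_one_iff u').2 hu', one_mul, mul_one]
    have h6 := centralizer_pPrimeCore_le (G := G ⧸ U) (p := 2) CfsgLib.Solv.pCore_quotient_self h5
    obtain ⟨k, hk⟩ := hPp ⟨t, ht⟩
    have hk' : t ^ 2 ^ k = 1 := congrArg Subtype.val hk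
    refine (QuotientGroup.eq_one_iff t).1 (orderOf_eq_one_iff.1 ?_)
    exact Nat.eq_one_of_dvd_coprimes ((CfsgLib.Solv.pPrimeCore_coprime (G ⧸ U) 2).pow_right k)
      (Subgroup.orderOf_dvd_natCard _ h6)
      (orderOf_dvd_of_pow_eq_one (by rw [← QuotientGroup.mk_pow, hk', QuotientGroup.mk_one]))
  -- fixed points `X` of `P` on `D/V`
  set X := D ⊓ (Subgroup.centralizer ((P.map π : Subgroup (G ⧸ V)) : Set (G ⧸ V))).comap π with hX
  have hXmem : ∀ x, x ∈ X ↔ x ∈ D ∧ ∀ t ∈ P, Commute (π t) (π x) := fun x => by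
    rw [hX, Subgroup.mem_inf, Subgroup.mem_comap, Subgroup.mem_centralizer_iff]
    refine and_congr_right fun _ => ⟨fun h t ht => h _ ⟨t, ht, rfl⟩, ?_⟩
    rintro h _ ⟨t, ht, rfl⟩
    exact h t ht
  have hVX : V ≤ X := fun v hv => (hXmem v).2 ⟨hVD hv, fun t _ => by
    rw [(hπ1 v).2 hv]; exact Commute.one_right _⟩
  have hLP : ∀ l ∈ L, ∀ t ∈ P, l * t * l⁻¹ ∈ P := fun l hl t ht => (Subgroup.mem_normalizer_iff.1 hl.2 t).1 ht
  have hLX : ∀ l ∈ L, ∀ x ∈ X, l * x * l⁻¹ ∈ X := by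
    intro l hl x hx
    obtain ⟨hxD, hxt⟩ := (hXmem x).1 hx
    refine (hXmem _).2 ⟨hDn.conj_mem x hxD l, fun t ht => ?_⟩
    have ht' : l⁻¹ * t * l ∈ P := by simpa using hLP _ (inv_mem hl) t ht
    have := (hxt _ ht').map (MulAut.conj (π l))
    simpa [MulAut.conj_apply, map_mul, mul_assoc] using this
  obtain ⟨x₁, hx₁, hx₁V⟩ : ∃ x ∈ X, x ∉ V := by
    set Db := D.map π
    haveI : Db.Normal := hDn.map π (QuotientGroup.mk'_surjective V)
    set E := P.map π ⊔ Db
    have hEp : IsPGroup 2 E := (hPp.map π).to_sup_of_normal_right ((hUp.to_le hDU).map π)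
    haveI : (Db.subgroupOf E).Normal := inferInstance
    have hne : Db.subgroupOf E ≠ ⊥ := by
      intro h0
      have h1 : (⟨π d₁, Subgroup.mem_sup_right ⟨d₁, hd₁, rfl⟩⟩ : E) ∈ Db.subgroupOf E := ⟨d₁, hd₁, rfl⟩
      rw [h0, Subgroup.mem_bot] at h1
      exact hd₁V ((hπ1 d₁).1 (congrArg Subtype.val h1))
    obtain ⟨⟨z, hz⟩, hz1⟩ := Subgroup.ne_bot_iff_exists_ne_one.1 (CfsgLib.Perm.inf_center_ne_bot hEp _ hne)
    obtain ⟨x, hxD, hxz⟩ := hz.1
    refine ⟨x, (hXmem x).2 ⟨hxD, fun t ht => ?_⟩, fun hxV => ?_⟩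
    · rw [hxz]
      exact congrArg Subtype.val (Subgroup.mem_center_iff.1 hz.2 ⟨π t, Subgroup.mem_sup_left ⟨t, ht, rfl⟩⟩)
    · exact hz1 (Subtype.ext (Subtype.ext (hxz.symm.trans ((hπ1 x).2 hxV))))
  have hXsq := hconjsq X L hLX htrL x₁ hx₁ hx₁V (hDsq x₁ hx₁.1)
  have habsorb : ∀ y ∈ D, (∀ x ∈ X, Commute x y) → y ∈ X := by
    intro y hy hyx
    by_cases hy2 : y ^ 2 = 1
    · exact hVX ((hV y).2 hy2)
    obtain ⟨x, hx, hx2⟩ := hXsq _ (hDsq y hy) hy2
    have := mul_mem hx (hVX (habs x y (hyx x hx) hx2))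
    simpa using this
  set Y := ⁅D, P⁆ ⊔ V with hY
  have hgenX : ∀ d ∈ D, ∀ t ∈ P, ⁅d, t⁆ ∈ D ∧ ∀ x ∈ X, Commute x ⁅d, t⁆ := by
    intro d hd t ht
    have e : ⁅d, t⁆ = (d⁻¹)⁻¹ * (t * d⁻¹ * t⁻¹) := by simp only [commutatorElement_def]; group
    rw [e]
    exact ⟨mul_mem (inv_mem (inv_mem hd)) (hDn.conj_mem _ (inv_mem hd) t), fun x hx =>
      hshift t (hPC ht) x (hDU hx.1) _ (inv_mem hd) (((hXmem x).1 hx).2 t ht)⟩
  have hYX : Y ≤ X :=
    sup_le (Subgroup.commutator_le.2 fun d hd t ht => habsorb _ (hgenX d hd t ht).1 (hgenX d hd t ht).2) hVX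
  have hYc : ∀ x ∈ X, ∀ y ∈ Y, Commute x y := by
    intro x hx y hy
    refine (Subgroup.mem_centralizer_singleton_iff.1 ((sup_le ?_ ?_ :
      ⁅D, P⁆ ⊔ V ≤ Subgroup.centralizer ({x} : Set G)) hy)).symm
    · exact Subgroup.commutator_le.2 fun d hd t ht =>
        Subgroup.mem_centralizer_singleton_iff.2 ((hgenX d hd t ht).2 x hx).eq.symm
    · exact fun v hv => Subgroup.mem_centralizer_singleton_iff.2 (hUV x (hDU hx.1) v hv).eq.symm
  have hLY : ∀ l ∈ L, ∀ y ∈ Y, l * y * l⁻¹ ∈ Y := by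
    intro l hl y hy
    have hle : Y.map (MulAut.conj l).toMonoidHom ≤ Y := by
      rw [hY, Subgroup.map_sup, Subgroup.map_commutator]
      refine sup_le_sup (Subgroup.commutator_mono ?_ ?_) ?_
      · rintro _ ⟨d, hd, rfl⟩; exact hDn.conj_mem d hd l
      · rintro _ ⟨t, ht, rfl⟩; exact hLP l hl t ht
      · rintro _ ⟨v, hv, rfl⟩; exact hVn.conj_mem v hv l
    exact hle ⟨y, hy, rfl⟩
  obtain ⟨y₁, hy₁, hy₁V⟩ : ∃ y ∈ Y, y ∉ V := by
    by_contra hc
    push Not at hc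
    exact ht₁V (hPD t₁ ht₁ fun d hd =>
      ((hπ d t₁).1 (hc _ (Subgroup.mem_sup_left (Subgroup.commutator_mem_commutator hd ht₁)))).symm)
  have hYsq := hconjsq Y L hLY htrL y₁ hy₁ hy₁V (hDsq _ (hYX hy₁).1)
  have hXY : X ≤ Y := by
    intro x hx
    by_cases hx2 : x ^ 2 = 1
    · exact Subgroup.mem_sup_right ((hV x).2 hx2)
    obtain ⟨y, hy, hy2⟩ := hYsq _ (hDsq x hx.1) hx2
    have := mul_mem hy (Subgroup.mem_sup_right (habs y x (hYc x hx y hy).symm hy2) : y⁻¹ * x ∈ Y)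
    simpa using this
  have hXc : ∀ x ∈ X, ∀ y ∈ X, Commute x y := fun x hx y hy => hYc x hx y (hXY hy)
  have hXcard : Nat.card X = Nat.card V * Nat.card V := by
    let sqh : X →* V :=
      { toFun := fun x => ⟨(x : G) ^ 2, hDsq _ x.2.1⟩
        map_one' := Subtype.ext (one_pow 2)
        map_mul' := fun a b => Subtype.ext ((hXc _ a.2 _ b.2).mul_pow 2) }
    have hsurj : Function.Surjective sqh := by
      rintro ⟨v, hv⟩
      by_cases hv1 : v = 1
      · exact ⟨1, Subtype.ext (by simp [sqh, hv1])⟩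
      · obtain ⟨x, hx, hx2⟩ := hXsq v hv hv1
        exact ⟨⟨x, hx⟩, Subtype.ext hx2⟩
    have hker : sqh.ker = V.subgroupOf X := by
      ext x
      rw [MonoidHom.mem_ker, Subgroup.mem_subgroupOf, hV]
      exact Subtype.ext_iff
    have h1 := sqh.ker.card_mul_index
    rw [Subgroup.index_ker, MonoidHom.range_eq_top.2 hsurj, Subgroup.card_top, hker,
      CfsgLib.Solv.card_subgroupOf hVX] at h1
    exact h1.symm
  have hP2 : ∀ t ∈ P, t ^ 2 ∈ V := by
    intro t ht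
    refine hPD _ (pow_mem ht 2) fun d hd => ?_
    have hy : ⁅t, d⁆ ∈ X := by
      rw [← commutatorElement_inv]
      exact inv_mem (hYX (Subgroup.mem_sup_left (Subgroup.commutator_mem_commutator hd ht)))
    have h1 := ((hXmem _).1 hy).2 t ht
    have h2 : π ⁅t, d⁆ * π ⁅t, d⁆ = 1 := by
      rw [← map_mul, hπ1, ← pow_two]; exact hDsq _ hy.1
    rw [map_pow, pow_two, ← commutatorElement_eq_one_iff_commute,
      comm_mul_left (show Commute (π t) ⁅π t, π d⁆ by rw [← map_commutatorElement]; exact h1),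
      ← map_commutatorElement, h2]
  -- sizes
  have hE : Nat.card P ≤ Nat.card V * Nat.card V := by
    have hPX : P ≤ Subgroup.normalizer (X : Set G) := by
      rw [CfsgLib.Solv.le_normalizer_iff_forall_conj_mem]
      intro t ht x hx
      have h1 : π (t * x * t⁻¹) = π x := by
        rw [map_mul, map_mul, map_inv, (((hXmem x).1 hx).2 t ht).eq, mul_inv_cancel_right]
      have h2 : x⁻¹ * (t * x * t⁻¹) ∈ X := hVX ((hπ1 _).1 (by rw [map_mul, map_inv, h1, inv_mul_cancel]))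
      simpa using mul_mem hx h2
    set E := P ⊔ X with hEdef
    have hEV : V ≤ E := hVX.trans le_sup_right
    have hEC : E ≤ C := sup_le hPC (fun x hx => hUC (hDU hx.1))
    haveI : ((V.subgroupOf E)).Normal := inferInstance
    have hEp : IsPGroup 2 E := by
      have hXp : IsPGroup 2 X := hUp.to_le (fun x hx => hDU hx.1)
      exact hPp.to_sup_of_normal_right' hXp hPX
    have hsq : ∀ e : E, e ^ 2 ∈ V.subgroupOf E := by
      rintro ⟨e, he⟩
      obtain ⟨x, hx, t, ht, rfl⟩ := CfsgLib.Solv.exists_mul_of_mem_sup hPX he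
      rw [Subgroup.mem_subgroupOf]
      show (x * t) ^ 2 ∈ V
      rw [← hπ1, map_pow, map_mul, (((hXmem x).1 hx).2 t ht).symm.mul_pow, ← map_pow, ← map_pow,
        (hπ1 _).2 (hDsq x hx.1), (hπ1 _).2 (hP2 t ht), one_mul]
    have h := card_le_of_squares E hEp (V.subgroupOf E)
      (fun v hv => Subgroup.mem_center_iff.2 fun e => Subtype.ext (hCcomm e (hEC e.2) v hv).eq) hsq
      (fun e => by rw [Subgroup.mem_subgroupOf, hV]; exact Subtype.ext_iff)
    rw [CfsgLib.Solv.card_subgroupOf hEV] at h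
    have hPXV : Nat.card (P ⊓ X : Subgroup G) ≤ Nat.card V :=
      Nat.card_le_card_of_injective _ (Subgroup.inclusion_injective
        (fun y hy => hUNV ⟨hDU hy.2.1, hPN hy.1⟩ : P ⊓ X ≤ V))
    have h6 : P.relIndex X ≤ P.relIndex E :=
      Subgroup.relIndex_le_of_le_right le_sup_right (Subgroup.index_ne_zero_of_finite (H := P.subgroupOf E))
    have h7 := CfsgLib.Solv.relIndex_mul_card (le_sup_left : P ≤ E)
    have h8 := CfsgLib.Solv.relIndex_mul_card (inf_le_right : P ⊓ X ≤ X)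
    rw [Subgroup.inf_relIndex_right] at h8
    have hV0 : 0 < Nat.card V := Nat.card_pos
    have e1 : Nat.card P * Nat.card X ≤ Nat.card V * Nat.card E := by
      calc Nat.card P * Nat.card X = Nat.card P * (Nat.card (P ⊓ X : Subgroup G) * P.relIndex X) := by rw [h8]
        _ ≤ Nat.card P * (Nat.card V * P.relIndex E) :=
            Nat.mul_le_mul_left _ (Nat.mul_le_mul hPXV h6)
        _ = _ := by rw [← h7]; ring
    rw [hXcard] at e1
    refine Nat.le_of_mul_le_mul_right ?_ (Nat.mul_pos hV0 hV0)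
    refine e1.trans ((Nat.mul_le_mul_left _ h).trans (le_of_eq ?_))
    ring
  -- squares on `P/V`
  let sqP : (P ⧸ V.subgroupOf P) → V := Quotient.lift (fun t : P => (⟨(t : G) ^ 2, hP2 _ t.2⟩ : V))
    (fun a b hab => by
      have hab' := QuotientGroup.leftRel_apply.1 hab
      rw [Subgroup.mem_subgroupOf] at hab'
      refine Subtype.ext ?_
      show (a : G) ^ 2 = (b : G) ^ 2
      have hab2 : (a : G)⁻¹ * b ∈ V := hab'
      have hb : (b : G) = (a : G) * ((a : G)⁻¹ * b) := by group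
      rw [hb, (hCcomm _ (hPC a.2) _ hab2).mul_pow, (hV _).1 hab2, mul_one])
  have hP1 : ∃ t ∈ P, t ∉ V := ⟨t₁, ht₁, ht₁V⟩
  have hsqPsurj : Function.Surjective sqP := by
    rintro ⟨v, hv⟩
    by_cases hv1 : v = 1
    · exact ⟨QuotientGroup.mk 1, Subtype.ext (show ((1 : P) : G) ^ 2 = v by rw [hv1]; simp)⟩
    · obtain ⟨t, ht, ht2⟩ := hconjsq P L hLP htrL t₁ ht₁ ht₁V (hP2 _ ht₁) v hv hv1
      exact ⟨QuotientGroup.mk ⟨t, ht⟩, Subtype.ext ht2⟩
  have hPV : Nat.card (P ⧸ V.subgroupOf P) = Nat.card V ∧ Function.Injective sqP := by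
    have h1 := (V.subgroupOf P).card_mul_index
    rw [CfsgLib.Solv.card_subgroupOf hVP, Subgroup.index_eq_card] at h1
    have h2 : Nat.card (P ⧸ V.subgroupOf P) ≤ Nat.card V :=
      Nat.le_of_mul_le_mul_left (h1.le.trans hE) Nat.card_pos
    exact ⟨le_antisymm h2 (Nat.card_le_card_of_surjective sqP hsqPsurj),
      (hsqPsurj.bijective_of_nat_card_le h2).1⟩
  have htrP : ∀ t ∈ P, t ∉ V → ∀ s ∈ P, s ∉ V → ∃ l ∈ L, π (l * t * l⁻¹) = π s := by
    intro t ht htV s hs hsV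
    obtain ⟨l, hl, e⟩ := htrL _ (hP2 t ht) (fun h => htV ((hV t).2 h)) _ (hP2 s hs) (fun h => hsV ((hV s).2 h))
    refine ⟨l, hl, ?_⟩
    have h1 : sqP (QuotientGroup.mk ⟨l * t * l⁻¹, hLP l hl t ht⟩) = sqP (QuotientGroup.mk ⟨s, hs⟩) :=
      Subtype.ext (by show (l * t * l⁻¹) ^ 2 = s ^ 2; rw [conj_pow, e])
    have h2 := QuotientGroup.eq.1 (hPV.2 h1)
    rw [Subgroup.mem_subgroupOf] at h2
    exact QuotientGroup.eq.2 h2
  -- a hyperplane of `P/V` centralising part of `Q`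
  have hTc : IsMulCommutative (P.map π : Subgroup (G ⧸ V)) := by
    refine ⟨⟨?_⟩⟩
    have hi : ∀ z ∈ (P.map π : Subgroup (G ⧸ V)), z * z = 1 := by
      rintro _ ⟨t, ht, rfl⟩
      rw [← map_mul, hπ1, ← pow_two]; exact hP2 t ht
    rintro ⟨a, ha⟩ ⟨b, hb⟩
    refine Subtype.ext ?_
    show a * b = b * a
    have hinv : ∀ z ∈ (P.map π : Subgroup (G ⧸ V)), z⁻¹ = z := fun z hz => inv_eq_of_mul_eq_one_right (hi z hz)
    calc a * b = (a * b)⁻¹ := (hinv _ (mul_mem ha hb)).symm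
      _ = b⁻¹ * a⁻¹ := mul_inv_rev a b
      _ = b * a := by rw [hinv a ha, hinv b hb]
  haveI := hTc
  obtain ⟨B, hBT, hBa, f, hfQ, hf1, hfB⟩ : ∃ B ≤ P.map π, (∃ a ∈ P.map π, B ⊔ Subgroup.zpowers a = P.map π) ∧
      ∃ f ∈ Q, f ≠ 1 ∧ ∀ b ∈ B, Commute b (π f) := by
    by_contra hc
    push Not at hc
    obtain ⟨q, hq, hq1⟩ := hQne
    have hQV : ∀ x ∈ Q, π x = 1 → x = 1 := fun x hx h => by
      rw [← orderOf_eq_one_iff]
      obtain ⟨k, hk⟩ := hVp ⟨x, (hπ1 x).1 h⟩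
      exact Nat.Coprime.eq_one_of_dvd ((hqodd x hx).pow_right k)
        (orderOf_dvd_of_pow_eq_one (congrArg Subtype.val hk))
    have hle : Q.map π ≤ ⊥ := by
      refine CfsgLib.Solv.le_of_cocyclic_centralizers (A := P.map π) ?_ ?_ fun B hBT hBa => ?_
      · exact (Subgroup.map_mono hPN).trans (Subgroup.le_normalizer_map π)
      · obtain ⟨k, hk⟩ := IsPGroup.iff_card.1 (hPp.map π)
        rw [hk]
        exact (hQodd.coprime_dvd_left (Subgroup.card_map_dvd Q π)).symm.pow_left k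
      · rintro _ ⟨⟨f, hf, rfl⟩, hfB⟩
        obtain ⟨b, hb, hbf⟩ : ∃ b ∈ B, ¬ Commute b (π f) ∨ f = 1 := by
          by_cases hf1 : f = 1
          · exact ⟨1, one_mem _, Or.inr hf1⟩
          · obtain ⟨b, hb, h⟩ := hc B hBT hBa f hf hf1
            exact ⟨b, hb, Or.inl h⟩
        rcases hbf with h | h
        · exact absurd (Subgroup.mem_centralizer_iff.1 hfB b hb) h
        · rw [h, map_one]; exact one_mem _
    exact hq1 (hQV q hq (Subgroup.mem_bot.1 (hle ⟨q, hq, rfl⟩)))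
  have hu : ∃ u ∈ D, u ∉ X ∧ ∀ b ∈ B, Commute b (π u) := by
    by_contra hc
    push Not at hc
    have hfX : ∀ x ∈ X, f * x * f⁻¹ ∈ X := by
      intro x hx
      by_contra hnX
      obtain ⟨b, hb, hbx⟩ := hc _ (hDn.conj_mem x hx.1 f) hnX
      obtain ⟨t, ht, rfl⟩ := hBT hb
      refine hbx ?_
      rw [map_mul, map_mul, map_inv]
      exact ((hfB _ hb).mul_right (((hXmem x).1 hx).2 t ht)).mul_right (hfB _ hb).inv_right
    have hfc : ∀ x ∈ X, Commute f x := by
      intro x hx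
      refine hfixmod f hfQ x (hDU hx.1) ?_
      have h1 : x⁻¹ * (f * x * f⁻¹) ∈ V := habs x _ (hXc x hx _ (hfX x hx)) (by
        rw [conj_pow, (hCcomm f (hQC hfQ) _ (hDsq x hx.1)).eq, mul_inv_cancel_right])
      have h2 : π f * π x * (π f)⁻¹ = π x := by
        have h3 := (hπ1 _).2 h1
        rw [map_mul, map_inv, inv_mul_eq_one, map_mul, map_mul, map_inv] at h3
        exact h3.symm
      exact mul_inv_eq_iff_eq_mul.1 h2
    refine hf1 (hfaith f (hqodd f hfQ) fun d hd => ?_)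
    set y := d⁻¹ * (f * d * f⁻¹) with hy
    have hyD : y ∈ D := mul_mem (inv_mem hd) (hDn.conj_mem d hd f)
    have hyX : y ∈ X := habsorb y hyD fun x hx => hshift f (hQC hfQ) x (hDU hx.1) d hd ((hfc x hx).map π)
    have := fixed_shift hUp (hqodd f hfQ) (by rw [Subgroup.normalizer_eq_top]; exact Subgroup.mem_top f)
      (hDU hd) (hDU hyD) (by rw [hy, mul_inv_cancel_left]) (hfc y hyX)
    rw [hy, inv_mul_eq_one] at this
    exact mul_inv_eq_iff_eq_mul.1 this.symm
  obtain ⟨u, huD, huX, huB⟩ := hu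
  have hXb : ∀ d ∈ D, π d ∈ X.map π → d ∈ X := by
    rintro d - ⟨x, hx, e⟩
    have := mul_mem hx (hVX ((hπ1 _).1 (by rw [map_mul, map_inv, e, inv_mul_cancel] : π (x⁻¹ * d) = 1)))
    simpa using this
  have hcardb : ∀ A : Subgroup G, V ≤ A → Nat.card (A.map π) * Nat.card V = Nat.card A := fun A hA => by
    have h := CfsgLib.Solv.card_map_mk' V A
    rwa [inf_eq_right.2 hA] at h
  have hVpos : 0 < Nat.card V := Nat.card_pos
  have hXb_card : Nat.card (X.map π) = Nat.card V :=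
    Nat.eq_of_mul_eq_mul_right hVpos ((hcardb X hVX).trans hXcard)
  have hTb_card : Nat.card (P.map π) = Nat.card V := by
    have h1 := (V.subgroupOf P).card_mul_index
    rw [CfsgLib.Solv.card_subgroupOf hVP, Subgroup.index_eq_card, hPV.1] at h1
    exact Nat.eq_of_mul_eq_mul_right hVpos ((hcardb P hVP).trans h1.symm)
  refine no_configuration (P.map π) (D.map π) (X.map π) (L.map π) ?_ (Subgroup.map_mono inf_le_left) ?_ ?_
    ?_ ?_ ?_ ?_ ?_ ?_ ?_ ?_ ⟨B, hBT, hBa, π u, ⟨u, huD, rfl⟩, fun h => huX (hXb u huD h), huB⟩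
  · rintro _ ⟨t, ht, rfl⟩
    rw [← map_mul, hπ1, ← pow_two]; exact hP2 t ht
  · rintro _ ⟨a, ha, rfl⟩ _ ⟨b, hb, rfl⟩; exact hπD a ha b hb
  · rintro _ ⟨x, hx, rfl⟩ _ ⟨t, ht, rfl⟩; exact (((hXmem x).1 hx).2 t ht).symm
  · rintro _ ⟨t, ht, rfl⟩ _ ⟨d, hd, rfl⟩
    refine ⟨⁅t, d⁆, ?_, map_commutatorElement π t d⟩
    rw [← commutatorElement_inv]
    exact inv_mem (hYX (Subgroup.mem_sup_left (Subgroup.commutator_mem_commutator hd ht)))
  · rw [← Subgroup.map_commutator]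
    refine (Subgroup.map_mono hXY).trans ?_
    rw [hY, Subgroup.map_sup, sup_le_iff]
    exact ⟨le_rfl, fun z hz => by
      obtain ⟨v, hv, rfl⟩ := hz
      rw [(hπ1 v).2 hv]; exact one_mem _⟩
  · rw [hXb_card]
    haveI : Fintype V := Fintype.ofFinite _
    have h3 : ({(⟨1, one_mem V⟩ : V), ⟨a₀, (hV _).2 ha2⟩, ⟨b₀, (hV _).2 hb2⟩} : Finset V).card = 3 :=
      Finset.card_eq_three.2 ⟨_, _, _, fun h => ha1 (congrArg Subtype.val h).symm,
        fun h => hb1 (congrArg Subtype.val h).symm, fun h => hab (congrArg Subtype.val h), rfl⟩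
    rw [Nat.card_eq_fintype_card, ← h3]
    exact Finset.card_le_univ _
  · rw [hTb_card, hXb_card]
    haveI := (hUp.to_le hDU)
    have h := card_le_of_squares D (hUp.to_le hDU) (V.subgroupOf D)
      (fun v hv => Subgroup.mem_center_iff.2 fun e => Subtype.ext (hUV e (hDU e.2) v hv).eq)
      (fun e => Subgroup.mem_subgroupOf.2 (hDsq e e.2))
      (fun e => by rw [Subgroup.mem_subgroupOf, hV]; exact Subtype.ext_iff)
    rw [CfsgLib.Solv.card_subgroupOf hVD, ← hcardb D hVD] at h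
    exact Nat.le_of_mul_le_mul_right h hVpos
  · rintro _ ⟨l, hl, rfl⟩ _ ⟨t, ht, rfl⟩; exact ⟨_, hLP l hl t ht, by simp⟩
  · rintro _ ⟨l, hl, rfl⟩ _ ⟨d, hd, rfl⟩; exact ⟨_, hDn.conj_mem d hd l, by simp⟩
  · rintro _ ⟨t, ht, rfl⟩ ht1 _ ⟨s, hs, rfl⟩ hs1
    obtain ⟨l, hl, e⟩ := htrP t ht (fun h => ht1 ((hπ1 t).2 h)) s hs (fun h => hs1 ((hπ1 s).2 h))
    exact ⟨π l, ⟨l, hl, rfl⟩, by rw [← e]; simp⟩
  · rintro _ ⟨d, hd, rfl⟩ hcom
    exact ⟨d, (hXmem d).2 ⟨hd, fun t ht => hcom _ ⟨t, ht, rfl⟩⟩, rfl⟩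

end CfsgLib.Solv.InvConj
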