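import Cfsg.Agent.S0019
import Cfsg.Agent.Char.Burnside
import Cfsg.Agent.Solv.Basic

/-!
The converse of Hall's theorem.
-/

set_option autoImplicit false
set_option linter.style.haveILetI false

open scoped Pointwise

namespace CfsgLib.Solv

variable {G : Type*} [Group G]

theorem index_inf_of_coprime [Finite G] {H K : Subgroup G} (h : H.index.Coprime K.index) :
    (H ⊓ K).index = H.index * K.index := by
  refine le_antisymm Subgroup.index_inf_le ?_
  refine Nat.le_of_dvd (Nat.pos_of_ne_zero (H ⊓ K).index_ne_zero_of_finite) ?_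
  exact h.mul_dvd_of_dvd_of_dvd (Subgroup.index_dvd_of_le inf_le_left)
    (Subgroup.index_dvd_of_le inf_le_right)

theorem exists_mul_of_coprime_index [Finite G] {H K : Subgroup G} (h : H.index.Coprime K.index)
    (g : G) : ∃ x ∈ H, ∃ y ∈ K, g = x * y := by
  have hrel : H.relIndex K = H.index := by
    have h1 := Subgroup.relIndex_mul_index (inf_le_right : H ⊓ K ≤ K)
    rw [Subgroup.inf_relIndex_right, index_inf_of_coprime h] at h1
    exact Nat.eq_of_mul_eq_mul_right (Nat.pos_of_ne_zero K.index_ne_zero_of_finite) h1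
  let f : K ⧸ H.subgroupOf K → G ⧸ H :=
    Quotient.map' (fun y => (y : G)) fun a b hab => by
      rw [QuotientGroup.leftRel_apply] at hab ⊢
      exact hab
  have hf : Function.Injective f := by
    intro a b
    refine Quotient.inductionOn₂' a b fun a b h => ?_
    simp only [f, Quotient.map'_mk''] at h
    rw [Quotient.eq''] at h ⊢
    rw [QuotientGroup.leftRel_apply] at h ⊢
    exact h
  obtain ⟨y, hy⟩ := (hf.bijective_of_nat_card_le hrel.ge).2 (QuotientGroup.mk g⁻¹)
  obtain ⟨y, rfl⟩ := QuotientGroup.mk_surjective y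
  have hm : (y : G)⁻¹ * g⁻¹ ∈ H := QuotientGroup.eq.1 hy
  exact ⟨((y : G)⁻¹ * g⁻¹)⁻¹, inv_mem hm, (y : G)⁻¹, inv_mem y.2, by simp⟩

theorem card_eq_prod_two_of_primeFactors {n p q : ℕ} (hn : n ≠ 0)
    (h : ∀ r, r.Prime → r ∣ n → r = p ∨ r = q) (hp : p.Prime) (hq : q.Prime) :
    ∃ a b, n = p ^ a * q ^ b := by
  induction n using Nat.recOnMul with
  | zero => exact absurd rfl hn
  | one => exact ⟨0, 0, by simp⟩
  | prime r hr =>
    rcases h r hr dvd_rfl with rfl | rfl
    · exact ⟨1, 0, by simp⟩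
    · exact ⟨0, 1, by simp⟩
  | mul a b iha ihb =>
    obtain ⟨ha0, hb0⟩ := mul_ne_zero_iff.1 hn
    obtain ⟨a₁, a₂, rfl⟩ := iha ha0 fun r hr hd => h r hr (hd.mul_right _)
    obtain ⟨b₁, b₂, rfl⟩ := ihb hb0 fun r hr hd => h r hr (hd.mul_left _)
    exact ⟨a₁ + b₁, a₂ + b₂, by ring⟩

theorem converse_hall : ∀ (n : ℕ) (G : Type*) [Group G] [Finite G], Nat.card G = n →
    (∀ p : ℕ, p.Prime → ∃ H : Subgroup G, H.index = p ^ (Nat.card G).factorization p) →
    Group.IsSolvable G := by
  intro n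
  induction n using Nat.strong_induction_on with
  | _ n ih => ?_
  intro G _ _ hn h
  have hn0 : n ≠ 0 := hn ▸ Nat.card_pos.ne'
  by_cases htwo : ∃ p q, p.Prime ∧ q.Prime ∧ ∀ r, r.Prime → r ∣ n → r = p ∨ r = q
  · obtain ⟨p, q, hp, hq, hr⟩ := htwo
    obtain ⟨a, b, he⟩ := card_eq_prod_two_of_primeFactors hn0 hr hp hq
    exact CfsgLib.Char.solvable_of_card_two_primes p q a b hp hq (hn.trans he)
  push Not at htwo
  have hsol : ∀ p, p.Prime → p ∣ n → ∀ H : Subgroup G, H.index = p ^ n.factorization p →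
      Group.IsSolvable H := by
    intro p hp hpn H hH
    have hHn := H.card_mul_index
    rw [hH, hn] at hHn
    have hlt : Nat.card H < n := by
      rw [← hHn]
      exact lt_mul_of_one_lt_right Nat.card_pos
        (Nat.one_lt_pow (hp.factorization_pos_of_dvd hn0 hpn).ne' hp.one_lt)
    refine ih _ hlt H rfl fun s hs => ?_
    rcases eq_or_ne s p with rfl | hsp
    · refine ⟨⊤, ?_⟩
      rw [Subgroup.index_top]
      have h1 := congrArg (fun m => m.factorization s) hHn
      simp only [Nat.factorization_mul Nat.card_pos.ne' (pow_ne_zero _ hs.ne_zero),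
        Finsupp.add_apply, hs.factorization_pow, Finsupp.single_eq_same] at h1
      rw [show (Nat.card H).factorization s = 0 by omega, pow_zero]
    · obtain ⟨K, hK⟩ := h s hs
      rw [hn] at hK
      have hcop : H.index.Coprime K.index := by
        rw [hH, hK]
        exact Nat.Coprime.pow _ _ ((Nat.coprime_primes hp hs).2 (Ne.symm hsp))
      refine ⟨(H ⊓ K).subgroupOf H, ?_⟩
      have h1 := Subgroup.relIndex_mul_index (inf_le_left : H ⊓ K ≤ H)
      rw [index_inf_of_coprime hcop, mul_comm H.index] at h1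
      show (H ⊓ K).relIndex H = _
      rw [Nat.eq_of_mul_eq_mul_right (Nat.pos_of_ne_zero H.index_ne_zero_of_finite) h1, hK]
      have h2 := congrArg (fun m => m.factorization s) hHn
      simp only [Nat.factorization_mul Nat.card_pos.ne' (pow_ne_zero _ hp.ne_zero),
        Finsupp.add_apply, hp.factorization_pow, Finsupp.single_eq_of_ne hsp] at h2
      rw [← h2, add_zero]
  obtain ⟨p, hp, hpn⟩ : ∃ p, p.Prime ∧ p ∣ n := by
    obtain ⟨r, hr, hrn, -⟩ := htwo 2 2 Nat.prime_two Nat.prime_two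
    exact ⟨r, hr, hrn⟩
  obtain ⟨q, hq, hqn, hqp, -⟩ := htwo p p hp hp
  obtain ⟨r, hr, hrn, hrp, hrq⟩ := htwo p q hp hq
  obtain ⟨Hp, hHp⟩ := h p hp
  obtain ⟨Hq, hHq⟩ := h q hq
  obtain ⟨Hr, hHr⟩ := h r hr
  rw [hn] at hHp hHq hHr
  have hcop : ∀ {a b : ℕ}, a.Prime → b.Prime → a ≠ b → ∀ {A B : Subgroup G},
      A.index = a ^ n.factorization a → B.index = b ^ n.factorization b →
      A.index.Coprime B.index := fun ha hb hne A B hA hB => by
    rw [hA, hB]
    exact Nat.Coprime.pow _ _ ((Nat.coprime_primes ha hb).2 hne)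
  exact Cfsg.Agent.S0019.result Hp Hq Hr (hsol p hp hpn Hp hHp) (hsol q hq hqn Hq hHq)
    (hsol r hr hrn Hr hHr) (exists_mul_of_coprime_index (hcop hp hq (Ne.symm hqp) hHp hHq))
    (exists_mul_of_coprime_index (hcop hp hr (Ne.symm hrp) hHp hHr))
    (hcop hq hr (Ne.symm hrq) hHq hHr)

end CfsgLib.Solv
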