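import Cfsg.Agent.Solv.Basic
import Cfsg.Agent.Char.Classes
import Cfsg.Agent.Char.Induce
import Cfsg.Prelude.Def_Solvable

/-!
Frobenius complements: counting, the Frobenius kernel theorem.
-/

set_option autoImplicit false
set_option linter.style.haveILetI false
set_option linter.deprecated false

open scoped Pointwise ComplexConjugate

namespace CfsgLib.Solv

variable {G : Type*} [Group G]

section basic

variable {H : Subgroup G}

theorem frobenius_eq_one_of_conj_mem (hH : Cfsg.IsFrobeniusComplement H) {x g : G} (hx : x ∈ H)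
    (hxg : g * x * g⁻¹ ∈ H) (hg : g ∉ H) : x = 1 := by
  have hg' : g⁻¹ ∉ H := fun h => hg (by simpa using inv_mem h)
  have h : x ∈ H ⊓ MulAut.conj g⁻¹ • H := by
    refine Subgroup.mem_inf.2 ⟨hx, ?_⟩
    rw [mem_conj_smul_iff]
    simpa using hxg
  rwa [hH.2.2 _ hg', Subgroup.mem_bot] at h

theorem frobenius_mem_of_conj_mem (hH : Cfsg.IsFrobeniusComplement H) {x g : G} (hx : x ∈ H)
    (hxg : g * x * g⁻¹ ∈ H) (hx1 : x ≠ 1) : g ∈ H :=
  by_contra fun hg => hx1 (frobenius_eq_one_of_conj_mem hH hx hxg hg)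

theorem frobenius_normalizer_eq (hH : Cfsg.IsFrobeniusComplement H) :
    Subgroup.normalizer (H : Set G) = H := by
  refine le_antisymm (fun g hg => ?_) Subgroup.le_normalizer
  obtain ⟨x, hx, hx1⟩ := H.bot_or_exists_ne_one.resolve_left hH.1
  exact frobenius_mem_of_conj_mem hH hx ((Subgroup.mem_normalizer_iff.1 hg x).1 hx) hx1

theorem mem_frobeniusKernel_iff {x : G} :
    x ∈ Cfsg.frobeniusKernel H ↔ x = 1 ∨ ∀ g : G, g⁻¹ * x * g ∉ H := by
  simp [Cfsg.frobeniusKernel, mem_conj_smul_iff]

/-- The parametrization of the elements outside the Frobenius kernel. -/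
theorem frobenius_compl_bijective [Finite G] (hH : Cfsg.IsFrobeniusComplement H) :
    Set.BijOn (fun a : (G ⧸ H) × H => a.1.out * (a.2 : G) * a.1.out⁻¹)
      {a | a.2 ≠ 1} (Cfsg.frobeniusKernel H)ᶜ := by
  refine ⟨?_, ?_, ?_⟩
  · rintro ⟨a, y⟩ hy
    show ¬ (_ ∈ Cfsg.frobeniusKernel H)
    rw [mem_frobeniusKernel_iff]
    rintro (h | h)
    · exact hy (Subtype.ext (by simpa using h))
    · exact h a.out (by simp [mul_assoc])
  · rintro ⟨a, y⟩ hy ⟨b, z⟩ hz (he : a.out * (y : G) * a.out⁻¹ = b.out * (z : G) * b.out⁻¹)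
    have hconj : (b.out⁻¹ * a.out) * y * (b.out⁻¹ * a.out)⁻¹ = z := by
      rw [mul_inv_rev, inv_inv]
      calc b.out⁻¹ * a.out * y * (a.out⁻¹ * b.out) = b.out⁻¹ * (a.out * y * a.out⁻¹) * b.out := by
            group
        _ = z := by rw [he]; group
    have hmem := frobenius_mem_of_conj_mem hH y.2 (hconj ▸ z.2) (fun h => hy (Subtype.ext h))
    have hab : b = a := by
      rw [← QuotientGroup.out_eq' a, ← QuotientGroup.out_eq' b, QuotientGroup.eq]
      exact hmem
    subst hab
    have : (y : G) = z := by simpa using hconj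
    exact Prod.ext rfl (Subtype.ext this)
  · intro x (hx : ¬ (x ∈ Cfsg.frobeniusKernel H))
    rw [mem_frobeniusKernel_iff] at hx
    push Not at hx
    obtain ⟨hx1, g, hg⟩ := hx
    set a : G ⧸ H := QuotientGroup.mk g
    have hag : g⁻¹ * a.out ∈ H := by rw [← QuotientGroup.eq, QuotientGroup.out_eq']
    refine ⟨(a, ⟨a.out⁻¹ * x * a.out, ?_⟩), ?_, by simp [mul_assoc]⟩
    · have := mul_mem (mul_mem (inv_mem hag) hg) hag
      simpa [mul_assoc] using this
    · intro h
      have h' := congrArg (fun y : H => a.out * (y : G) * a.out⁻¹) h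
      simp [mul_assoc] at h'
      exact hx1 h'

/-- The number of elements outside the Frobenius kernel. -/
theorem frobenius_card_compl [Finite G] (hH : Cfsg.IsFrobeniusComplement H) :
    Nat.card {x : G // x ∉ Cfsg.frobeniusKernel H} = H.index * (Nat.card H - 1) := by
  classical
  haveI := Fintype.ofFinite G
  haveI := Fintype.ofFinite H
  have h1 : Nat.card {y : H // y ≠ 1} = Nat.card H - 1 := by
    rw [Nat.card_eq_fintype_card, Nat.card_eq_fintype_card,
      Fintype.card_subtype_compl, Fintype.card_subtype_eq]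
  rw [← h1, show H.index = Nat.card (G ⧸ H) from rfl, ← Nat.card_prod]
  refine (Nat.card_congr (Set.BijOn.equiv _ (frobenius_compl_bijective hH))).symm.trans ?_
  exact Nat.card_congr
    { toFun := fun a => (a.1.1, ⟨a.1.2, a.2⟩)
      invFun := fun a => ⟨(a.1, a.2.1), a.2.2⟩
      left_inv := fun _ => rfl
      right_inv := fun _ => rfl }

theorem frobenius_card_kernel [Finite G] (hH : Cfsg.IsFrobeniusComplement H) :
    Nat.card (Cfsg.frobeniusKernel H) = H.index := by
  classical
  haveI := Fintype.ofFinite G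
  have h1 := frobenius_card_compl hH
  have h2 : Nat.card (Cfsg.frobeniusKernel H) + Nat.card {x : G // x ∉ Cfsg.frobeniusKernel H} =
      Nat.card G := by
    rw [Nat.card_eq_fintype_card, Nat.card_eq_fintype_card, Nat.card_eq_fintype_card,
      Fintype.card_subtype_compl]
    exact Nat.add_sub_cancel' (Fintype.card_subtype_le _)
  have h3 := H.index_mul_card
  have hpos : 0 < Nat.card H := Nat.card_pos
  rw [h1] at h2
  obtain ⟨m, hm⟩ : ∃ m, Nat.card H = m + 1 := ⟨_, (Nat.succ_pred_eq_of_pos hpos).symm⟩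
  rw [hm, Nat.add_sub_cancel] at h2
  rw [hm, mul_add, mul_one] at h3
  omega

theorem frobenius_index_modEq_one [Finite G] (hH : Cfsg.IsFrobeniusComplement H) :
    H.index ≡ 1 [MOD Nat.card H] := by
  classical
  haveI := Fintype.ofFinite G
  haveI := Fintype.ofFinite H
  letI : MulAction H (G ⧸ H) := MulAction.compHom (G ⧸ H) H.subtype
  set a₀ : G ⧸ H := QuotientGroup.mk 1
  have hfix : ∀ h : H, h • a₀ = a₀ := fun h => by
    show ((h * 1 : G) : G ⧸ H) = _
    rw [QuotientGroup.eq]
    simp
  let S : SubMulAction H (G ⧸ H) :=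
    { carrier := {a | a ≠ a₀}
      smul_mem' := fun h a ha he => ha (by
        have := congrArg (fun b => h⁻¹ • b) he
        simpa [inv_smul_smul, hfix] using this) }
  have hfree : ∀ a : S, MulAction.stabilizer H a = ⊥ := by
    rintro ⟨a, ha⟩
    rw [eq_bot_iff]
    intro h hh
    have hh' : h • a = a := congrArg Subtype.val hh
    obtain ⟨g, rfl⟩ := QuotientGroup.mk_surjective a
    have h1 : ((h * g : G) : G ⧸ H) = g := hh'
    rw [QuotientGroup.eq] at h1
    have h2 : g⁻¹ * (h : G)⁻¹ * g ∈ H := by simpa [mul_assoc] using h1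
    have hg : g⁻¹ ∉ H := fun hg => ha (by
      show QuotientGroup.mk g = QuotientGroup.mk 1
      rw [QuotientGroup.eq]; simpa using hg)
    have h3 := frobenius_eq_one_of_conj_mem hH (inv_mem h.2) (by simpa using h2) hg
    exact Subgroup.mem_bot.2 (Subtype.ext (inv_eq_one.1 h3))
  have hcard : Nat.card H ∣ Nat.card S := by
    rw [Nat.card_congr (MulAction.selfEquivSigmaOrbits H S)]
    haveI := Fintype.ofFinite (Quotient (MulAction.orbitRel H S))
    rw [Nat.card_sigma]
    refine Finset.dvd_sum fun ω _ => ?_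
    have h := Nat.card_congr (MulAction.orbitEquivQuotientStabilizer H ω.out)
    rw [hfree, show Nat.card (H ⧸ (⊥ : Subgroup H)) = Nat.card H from Subgroup.index_bot] at h
    exact h ▸ dvd_rfl
  have hS : Nat.card S + 1 = H.index := by
    haveI := Fintype.ofFinite (G ⧸ H)
    show Nat.card {a : G ⧸ H // a ≠ a₀} + 1 = Nat.card (G ⧸ H)
    rw [Nat.card_eq_fintype_card, Nat.card_eq_fintype_card, Fintype.card_subtype_compl,
      Fintype.card_subtype_eq]
    exact Nat.sub_add_cancel Fintype.card_pos
  rw [← hS]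
  exact ((Nat.modEq_zero_iff_dvd.2 hcard).add_right 1).trans (by rw [zero_add])

theorem frobenius_coprime [Finite G] (hH : Cfsg.IsFrobeniusComplement H) :
    (Nat.card H).Coprime H.index := by
  rw [Nat.coprime_comm, Nat.coprime_iff_gcd_eq_one, (frobenius_index_modEq_one hH).gcd_eq,
    Nat.gcd_one_left]

end basic

universe u

/-- Frobenius' theorem. -/
theorem frobenius_theorem {G : Type u} [Group G] [Finite G] {H : Subgroup G}
    (hH : Cfsg.IsFrobeniusComplement H) :
    ∃ N : Subgroup G, (N : Set G) = Cfsg.frobeniusKernel H ∧ N.Normal ∧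
      Subgroup.IsComplement' N H := by
  classical
  haveI := Fintype.ofFinite G
  haveI := Fintype.ofFinite H
  open Cfsg CfsgLib.Char in
  have main : ∀ θ : IrrCharacter H, ∃ χ : G → ℂ, IsIrrCharacter G χ ∧
      (∀ h : H, χ h = θ.1 h) ∧ ∀ g ∈ Cfsg.frobeniusKernel H, χ g = χ 1 := by
    intro θ
    by_cases h1 : θ.1 = fun _ => 1
    · exact ⟨fun _ => 1, isIrr_one, fun h => by rw [h1], fun g _ => rfl⟩
    obtain ⟨n, hn, hdeg⟩ := irr_deg θ.2
    set ψ : H → ℂ := θ.1 - (n : ℂ) • fun _ => (1 : ℂ) with hψ
    set Ψ := indFun H ψ with hΨ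
    have hψ1 : ψ 1 = 0 := by simp [hψ, hdeg]
    have hψgen : IsGeneralizedCharacter H ψ := by
      refine ⟨θ.1, (n : ℂ) • fun _ => (1 : ℂ), isCharacter_of_isIrr θ.2, ?_, rfl⟩
      exact isCharacter_natMul n isCharacter_one
    have hψclass := classFun_of_gen hψgen
    have hres : ∀ h : H, Ψ h = ψ h := by
      intro h
      rcases eq_or_ne h 1 with rfl | hne
      · rw [hΨ, Subgroup.coe_one, indFun_one, hψ1, mul_zero]
      rw [hΨ, indFun_apply]
      have hterm : ∀ x : G, extendByZero H ψ (x⁻¹ * h * x) = if x ∈ H then ψ h else 0 := by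
        intro x
        split_ifs with hx
        · have hmem : x⁻¹ * h * x ∈ H := mul_mem (mul_mem (inv_mem hx) h.2) hx
          rw [extendByZero_mem' _ _ hmem]
          have := hψclass h ⟨x, hx⟩⁻¹
          rw [← this]
          exact congrArg ψ (Subtype.ext (by simp))
        · refine extendByZero_not_mem _ _ fun hmem => hx ?_
          have := frobenius_mem_of_conj_mem hH h.2 (g := x⁻¹) (by simpa using hmem)
            (fun e => hne (Subtype.ext e))
          simpa using inv_mem this
      simp only [hterm, ← Finset.sum_filter, Finset.sum_const, nsmul_eq_mul]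
      rw [show (Finset.univ.filter (· ∈ H)).card = Nat.card H by
        rw [Nat.card_eq_fintype_card, Fintype.card_subtype]]
      rw [← mul_assoc, inv_mul_cancel₀ (natCard_ne_zero H), one_mul]
    have hKer : ∀ g ∈ Cfsg.frobeniusKernel H, Ψ g = 0 := by
      intro g hg
      rcases mem_frobeniusKernel_iff.1 hg with rfl | hg
      · rw [hΨ, indFun_one, hψ1, mul_zero]
      · rw [hΨ, indFun_apply, Finset.sum_eq_zero, mul_zero]
        exact fun x _ => extendByZero_not_mem _ _ (hg x)
    set f : G → ℂ := Ψ + (n : ℂ) • fun _ => (1 : ℂ) with hf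
    have hfgen : IsGeneralizedCharacter G f := by
      obtain ⟨a, b, ha, hb, he⟩ := gen_indFun H hψgen
      refine ⟨a + (n : ℂ) • fun _ => (1 : ℂ), b,
        isCharacter_add ha (isCharacter_natMul n isCharacter_one), hb, ?_⟩
      rw [hf, hΨ, he]; abel
    have hθ1 : classInner θ.1 (fun _ : H => (1 : ℂ)) = 0 := irr_inner_ne θ.2 isIrr_one h1
    have h1θ : classInner (fun _ : H => (1 : ℂ)) θ.1 = 0 :=
      irr_inner_ne isIrr_one θ.2 (fun e => h1 e.symm)
    have hΨΨ : classInner Ψ Ψ = 1 + (n : ℂ) * n := by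
      rw [hΨ, frobenius H ψ (indFun_classFun H ψ)]
      rw [show (fun h : H => indFun H ψ h) = ψ from funext hres]
      rw [hψ, classInner_sub_left, classInner_sub_right, classInner_sub_right,
        classInner_smul_left, classInner_smul_right, classInner_smul_left, classInner_smul_right,
        irr_inner_self θ.2, hθ1, h1θ, classInner_one_one]
      simp
    have hΨ1 : classInner Ψ (fun _ : G => (1 : ℂ)) = -(n : ℂ) := by
      rw [hΨ, frobenius H ψ (classFun_of_irr isIrr_one)]
      rw [hψ, classInner_sub_left, classInner_smul_left, hθ1, classInner_one_one]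
      simp
    have h1Ψ : classInner (fun _ : G => (1 : ℂ)) Ψ = -(n : ℂ) := by
      rw [← classInner_conj, hΨ1]; simp
    have hnorm : classInner f f = 1 := by
      rw [hf, classInner_add_left, classInner_add_right, classInner_add_right,
        classInner_smul_left, classInner_smul_right, classInner_smul_left, classInner_smul_right,
        hΨΨ, hΨ1, h1Ψ, classInner_one_one]
      simp
    have hval : ∀ h : H, f h = θ.1 h := fun h => by simp [hf, hres, hψ]
    have hf1 : f 1 = (n : ℂ) := by simpa [hdeg] using hval 1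
    have hirr : IsIrrCharacter G f := by
      refine (isIrr_or_neg_of_norm hfgen hnorm).resolve_right fun hneg => ?_
      obtain ⟨m, hm, hm1⟩ := irr_deg hneg
      rw [Pi.neg_apply, hf1] at hm1
      have : ((m + n : ℕ) : ℂ) = 0 := by push_cast; rw [← hm1]; ring
      rw [Nat.cast_eq_zero] at this
      omega
    refine ⟨f, hirr, hval, fun g hg => ?_⟩
    rw [hf1]
    simp [hf, hKer g hg]
  choose χ hχ hχres hχker using main
  choose K hKn hKmem _ using fun θ => CfsgLib.Char.exists_kernel
    (CfsgLib.Char.isCharacter_of_isIrr (hχ θ))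
  set N : Subgroup G := ⨅ θ, K θ with hN
  haveI hNn : N.Normal := Subgroup.normal_iInf_normal hKn
  have hdisj : ∀ h : G, h ∈ H → h ∈ N → h = 1 := by
    intro h hh hhN
    have hc : IsConj (⟨h, hh⟩ : H) 1 := (CfsgLib.Char.isConj_iff_irr _ _).2 fun θ => by
      rw [← hχres θ, ← hχres θ]
      exact (hKmem θ h).1 (Subgroup.mem_iInf.1 hhN θ)
    exact congrArg Subtype.val (isConj_one_right.1 hc.symm)
  have hset : (N : Set G) = Cfsg.frobeniusKernel H := by
    ext x
    constructor
    · intro hx
      rw [mem_frobeniusKernel_iff, or_iff_not_imp_left]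
      intro hx1 g hg
      have := hdisj _ hg (by simpa using hNn.conj_mem x hx g⁻¹)
      have h2 := congrArg (fun z => g * z * g⁻¹) this
      simp [mul_assoc] at h2
      exact hx1 h2
    · exact fun hx => Subgroup.mem_iInf.2 fun θ => (hKmem θ x).2 (hχker θ x hx)
  refine ⟨N, hset, hNn, Subgroup.isComplement'_of_card_mul_and_disjoint ?_ ?_⟩
  · have : Nat.card N = H.index := by
      rw [← frobenius_card_kernel hH, ← hset]; rfl
    rw [this, H.index_mul_card]
  · rw [disjoint_iff, eq_bot_iff]
    intro x hx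
    exact Subgroup.mem_bot.2 (hdisj x (Subgroup.mem_inf.1 hx).2 (Subgroup.mem_inf.1 hx).1)

end CfsgLib.Solv
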