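import Mathlib
import Cfsg.Agent.Solv.SmallTransfer
import Cfsg.Agent.Solv.FittingBasic
import Cfsg.Agent.Solv.UniqueSub
import Cfsg.Agent.Perm.MinClass

/-!
`p`-groups with a cyclic maximal subgroup and `2`-groups of maximal class.
-/

set_option autoImplicit false
set_option linter.style.haveILetI false
set_option linter.unusedSectionVars false

open scoped commutatorElement

universe u

namespace CfsgLib.Solv.MaxClass

variable {G : Type u} [Group G] [Finite G]

section cyclic

variable {p : ℕ} [hp : Fact p.Prime]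

/-- Generator and outside element for a cyclic subgroup of index `p`. -/
theorem exists_pair {n : ℕ} (hn : 1 ≤ n) (hG : Nat.card G = p ^ n) (C : Subgroup G) (hC : IsCyclic C)
    (hCi : C.index = p) :
    ∃ (a x : G) (s : ℤ), Subgroup.zpowers a = C ∧ orderOf a = p ^ (n - 1) ∧ x ∉ C ∧ x ^ p ∈ C ∧
      x * a * x⁻¹ = a ^ s ∧ C.Normal := by
  obtain ⟨a, ha⟩ := (Subgroup.isCyclic_iff_exists_zpowers_eq_top C).1 hC
  have hord : orderOf a = p ^ (n - 1) := by
    have h := Subgroup.card_mul_index C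
    rw [hCi, ← ha, Nat.card_zpowers, hG, show p ^ n = p ^ (n - 1) * p by
      rw [← pow_succ, Nat.sub_add_cancel hn]] at h
    exact Nat.eq_of_mul_eq_mul_right hp.out.pos h
  have hmin : C.index = (Nat.card G).minFac := by
    rw [hCi, hG, Nat.Prime.pow_minFac hp.out (by omega)]
  haveI hn' : C.Normal := Subgroup.normal_of_index_eq_minFac_card hmin
  obtain ⟨x, hx⟩ : ∃ x, x ∉ C := by
    by_contra h
    push Not at h
    rw [(Subgroup.eq_top_iff' C).2 h, Subgroup.index_top] at hCi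
    exact hp.out.one_lt.ne hCi
  have hxp : x ^ p ∈ C := hCi ▸ Subgroup.pow_index_mem C x
  obtain ⟨s, hs⟩ := Subgroup.mem_zpowers_iff.1
    (ha.ge (hn'.conj_mem a (ha.le (Subgroup.mem_zpowers a)) x))
  exact ⟨a, x, s, ha, hord, hx, hxp, hs.symm, hn'⟩

theorem zpow_eq_of_dvd {a : G} {i j : ℤ} (h : (orderOf a : ℤ) ∣ i - j) : a ^ i = a ^ j :=
  orderOf_dvd_sub_iff_zpow_eq_zpow.1 h

theorem dvd_of_zpow_eq {a : G} {i j : ℤ} (h : a ^ i = a ^ j) : (orderOf a : ℤ) ∣ i - j :=
  orderOf_dvd_sub_iff_zpow_eq_zpow.2 h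

theorem conj_zpow_eq {a x : G} {s : ℤ} (h : x * a * x⁻¹ = a ^ s) (i : ℤ) :
    x * a ^ i * x⁻¹ = a ^ (s * i) := by
  rw [← conj_zpow, h, ← zpow_mul]

theorem conj_pow_eq {a x : G} {s : ℤ} (h : x * a * x⁻¹ = a ^ s) (k : ℕ) :
    x ^ k * a * (x ^ k)⁻¹ = a ^ (s ^ k) := by
  induction k with
  | zero => simp
  | succ k ih =>
    rw [pow_succ' x, show x * x ^ k * a * (x * x ^ k)⁻¹ = x * (x ^ k * a * (x ^ k)⁻¹) * x⁻¹ by group,
      ih, conj_zpow_eq h, pow_succ']

theorem commute_of_mem_zpowers {a c : G} (hc : c ∈ Subgroup.zpowers a) (i : ℤ) :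
    c * a ^ i * c⁻¹ = a ^ i := by
  obtain ⟨j, rfl⟩ := hc
  show a ^ j * a ^ i * (a ^ j)⁻¹ = a ^ i
  rw [← zpow_neg, ← zpow_add, ← zpow_add]
  congr 1
  ring

/-- Nonabelian: the element outside does not centralise the generator. -/
theorem not_dvd_of_nonabelian {a x : G} {s : ℤ} (htop : Subgroup.closure ({a, x} : Set G) = ⊤)
    (hs : x * a * x⁻¹ = a ^ s) (hna : ∃ u v : G, u * v ≠ v * u) : ¬ (orderOf a : ℤ) ∣ s - 1 := by
  intro hd
  have h1 : x * a * x⁻¹ = a := by rw [hs, zpow_eq_of_dvd hd, zpow_one]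
  have hcomm : Commute x a := mul_inv_eq_iff_eq_mul.1 h1
  haveI : IsMulCommutative (Subgroup.closure ({a, x} : Set G)) :=
    Subgroup.isMulCommutative_closure (by
      rintro u (rfl | rfl) v (rfl | rfl)
      exacts [rfl, hcomm.symm.eq, hcomm.eq, rfl])
  obtain ⟨u, v, huv⟩ := hna
  exact huv (congrArg Subtype.val (IsMulCommutative.is_comm.comm
    (⟨u, htop.ge (Subgroup.mem_top u)⟩ : Subgroup.closure ({a, x} : Set G))
    ⟨v, htop.ge (Subgroup.mem_top v)⟩))

theorem closure_pair_eq_top {a x : G} {C : Subgroup G} (ha : Subgroup.zpowers a = C)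
    (hCi : C.index = p) (hx : x ∉ C) : Subgroup.closure ({a, x} : Set G) = ⊤ := by
  have hle : C ≤ Subgroup.closure ({a, x} : Set G) := by
    rw [← ha, Subgroup.zpowers_le]; exact Subgroup.subset_closure (by simp)
  have h := Subgroup.relIndex_mul_index hle
  rw [hCi] at h
  rcases (Nat.dvd_prime hp.out).1 ⟨_, h.symm.trans (mul_comm _ _)⟩ with h1 | h1
  · exact Subgroup.index_eq_one.1 h1
  · exfalso
    rw [h1] at h
    have : C.relIndex (Subgroup.closure ({a, x} : Set G)) = 1 :=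
      Nat.eq_of_mul_eq_mul_right hp.out.pos (by rw [h, one_mul])
    exact hx (Subgroup.relIndex_eq_one.1 this (Subgroup.subset_closure (by simp)))

/-- The odd case: `G ≅ M(p^n)`. -/
theorem modular_of_odd (hp2 : p ≠ 2) {n : ℕ} (hn : 3 ≤ n) (hG : Nat.card G = p ^ n) (C : Subgroup G)
    (hC : IsCyclic C) (hCi : C.index = p) (hna : ∃ u v : G, u * v ≠ v * u) :
    ∃ a b : G, orderOf a = p ^ (n - 1) ∧ orderOf b = p ∧ b ∉ Subgroup.zpowers a ∧
      b * a * b⁻¹ = a ^ (1 + p ^ (n - 2)) := by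
  obtain ⟨k, rfl⟩ : ∃ k, n = k + 3 := ⟨n - 3, by omega⟩
  rw [show k + 3 - 1 = k + 2 by omega, show k + 3 - 2 = k + 1 by omega] at *
  obtain ⟨a, x, s, ha, hord, hx, hxp, hs, hCn⟩ := exists_pair (by omega) hG C hC hCi
  rw [show k + 3 - 1 = k + 2 by omega] at hord
  have hordz : (orderOf a : ℤ) = (p : ℤ) ^ (k + 2) := by rw [hord]; push_cast; rfl
  set h : ℤ := (p : ℤ) ^ (k + 1) with hh
  have hsp : (p : ℤ) ^ (k + 2) ∣ s ^ p - 1 := by
    rw [← hordz]
    refine dvd_of_zpow_eq ?_
    have hc := commute_of_mem_zpowers (ha.ge hxp) 1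
    rw [zpow_one] at hc
    rw [← conj_pow_eq hs, hc, zpow_one]
  have hs1 : (p : ℤ) ∣ s - 1 := by
    have h1 : ((s ^ p - 1 : ℤ) : ZMod p) = 0 := by
      rw [ZMod.intCast_zmod_eq_zero_iff_dvd]
      exact (dvd_pow_self _ (by omega)).trans hsp
    push_cast at h1
    rw [ZMod.pow_card] at h1
    rw [← ZMod.intCast_zmod_eq_zero_iff_dvd]
    push_cast
    exact h1
  obtain ⟨u, hu⟩ := hs1
  have hdvd : h ∣ s - 1 := by
    obtain ⟨t, ht⟩ := odd_sq_dvd_geom_sum₂_sub (R := ℤ) (a := 1) (b := u) (hp.out.odd_of_ne_two hp2)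
    have hgs := geom_sum₂_mul s 1 p
    rw [one_pow] at hgs
    rw [show (1 : ℤ) + p * u = s by linarith] at ht
    simp only [one_pow, mul_one] at ht hgs
    rw [show (∑ i ∈ Finset.range p, s ^ i) = (p : ℤ) * (1 + p * t) by linear_combination ht] at hgs
    rw [← hgs, show (p : ℤ) ^ (k + 2) = p * h by rw [hh]; ring, mul_assoc] at hsp
    have h2 := (mul_dvd_mul_iff_left (by exact_mod_cast hp.out.ne_zero)).1 hsp
    refine IsCoprime.dvd_of_dvd_mul_left ?_ h2
    rw [hh]
    refine IsCoprime.pow_left ?_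
    exact ⟨-t, 1, by ring⟩
  obtain ⟨t, ht⟩ := hdvd
  have hnt : ¬ (p : ℤ) ∣ t := fun ⟨w, hw⟩ =>
    not_dvd_of_nonabelian (closure_pair_eq_top ha hCi hx) hs hna ⟨w, by
      rw [hordz, ht, hw, hh]; ring⟩
  obtain ⟨m, w, hmw⟩ : ∃ m : ℕ, ∃ w : ℤ, (m : ℤ) * t = 1 + p * w := by
    haveI : NeZero p := ⟨hp.out.ne_zero⟩
    refine ⟨((t : ZMod p)⁻¹).val, ?_⟩
    have h0 : (t : ZMod p) ≠ 0 := fun h0 => hnt ((ZMod.intCast_zmod_eq_zero_iff_dvd _ _).1 h0)
    have h1 : ((((t : ZMod p)⁻¹).val : ℤ) * t - 1 : ℤ) = ((((t : ZMod p)⁻¹).val : ℤ) * t - 1 : ℤ) := rfl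
    have h2 : (((((t : ZMod p)⁻¹).val : ℤ) * t - 1 : ℤ) : ZMod p) = 0 := by
      push_cast
      rw [ZMod.natCast_val, ZMod.cast_id, inv_mul_cancel₀ h0, sub_self]
    obtain ⟨w, hw⟩ := (ZMod.intCast_zmod_eq_zero_iff_dvd _ _).1 h2
    exact ⟨w, by linarith⟩
  set y := x ^ m with hy
  have hyk : ∀ i : ℕ, (x ^ i) * a * (x ^ i)⁻¹ = a ^ (1 + (i : ℤ) * t * h) := by
    intro i
    rw [conj_pow_eq hs]
    refine zpow_eq_of_dvd ?_
    rw [hordz, show s = 1 + h * t by linarith]
    induction i with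
    | zero => simp
    | succ i ih =>
      obtain ⟨d, hd⟩ := ih
      refine ⟨(1 + h * t) * d + (i : ℤ) * t * t * (p : ℤ) ^ k, ?_⟩
      push_cast
      rw [pow_succ]
      linear_combination (1 + h * t) * hd + (i : ℤ) * t * t * h * hh
  have hya : y * a * y⁻¹ = a ^ (1 + h) := by
    rw [hyk m]
    refine zpow_eq_of_dvd ?_
    rw [hordz]
    exact ⟨w, by rw [hmw, hh]; ring⟩
  have hpm : ¬ p ∣ m := fun ⟨d, hd⟩ => by
    have h1 : (p : ℤ) ∣ 1 := ⟨d * t - w, by rw [hd] at hmw; push_cast at hmw; linarith⟩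
    exact hp.out.not_dvd_one (by exact_mod_cast h1)
  have hyC : y ∉ C := fun hyC => by
    obtain ⟨c, d, hcd⟩ : IsCoprime (m : ℤ) (p : ℤ) :=
      (Nat.Coprime.isCoprime ((hp.out.coprime_iff_not_dvd.2 hpm).symm))
    refine hx ?_
    rw [← zpow_one x, ← hcd, zpow_add, mul_comm c, mul_comm d, zpow_mul, zpow_mul, zpow_natCast,
      zpow_natCast]
    exact C.mul_mem (C.zpow_mem hyC c) (C.zpow_mem hxp d)
  have hypC : y ^ p ∈ C := hCi ▸ Subgroup.pow_index_mem C y
  obtain ⟨j, hj⟩ := Subgroup.mem_zpowers_iff.1 (ha.ge hypC)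
  obtain ⟨j', rfl⟩ : (p : ℤ) ∣ j := by
    have h1 : y * a ^ j * y⁻¹ = a ^ j := by rw [hj, (Commute.self_pow y p).eq, mul_inv_cancel_right]
    rw [conj_zpow_eq hya] at h1
    obtain ⟨d, hd⟩ := dvd_of_zpow_eq h1
    rw [hordz] at hd
    refine ⟨d, mul_left_cancel₀ (show h ≠ 0 from pow_ne_zero _ (by exact_mod_cast hp.out.ne_zero)) ?_⟩
    linear_combination hd - d * (p : ℤ) * hh
  set i : ℤ := -j'
  have hpow : ∀ l : ℕ, (y * a ^ i) ^ l = a ^ (i * (l + h * (l + 1).choose 2)) * y ^ l := by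
    intro l
    induction l with
    | zero => simp
    | succ l ih =>
      have h1 : y ^ (l + 1) * a ^ i * (y ^ (l + 1))⁻¹ = a ^ (i * (1 + (l + 1 : ℕ) * h)) := by
        rw [← conj_zpow, conj_pow_eq hya, ← zpow_mul]
        refine zpow_eq_of_dvd ?_
        rw [hordz]
        have key : ∀ l : ℕ, (p : ℤ) ^ (k + 2) ∣ (1 + h) ^ l - (1 + (l : ℤ) * h) := by
          intro l
          induction l with
          | zero => simp
          | succ l ih =>
            obtain ⟨d, hd⟩ := ih
            refine ⟨(1 + h) * d + (l : ℤ) * (p : ℤ) ^ k, ?_⟩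
            push_cast
            rw [pow_succ]
            linear_combination (1 + h) * hd + (l : ℤ) * h * hh
        obtain ⟨d, hd⟩ := key (l + 1)
        exact ⟨d * i, by push_cast at hd ⊢; linear_combination i * hd⟩
      rw [pow_succ, ih,
        show a ^ (i * (l + h * (l + 1).choose 2)) * y ^ l * (y * a ^ i) =
          a ^ (i * (l + h * (l + 1).choose 2)) * (y ^ (l + 1) * a ^ i * (y ^ (l + 1))⁻¹) * y ^ (l + 1) by
          rw [pow_succ]; group,
        h1, ← zpow_add, show ((l + 1 + 1).choose 2) = (l + 1) + (l + 1).choose 2 by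
          rw [Nat.choose_succ_succ, Nat.choose_one_right]]
      push_cast
      congr 2
      ring
  refine ⟨a, y * a ^ i, hord, orderOf_eq_prime ?_ fun h1 => hyC ?_, fun h1 => hyC ?_, ?_⟩
  · rw [hpow, ← hj, ← zpow_add, ← zpow_zero a]
    refine zpow_eq_of_dvd ?_
    rw [hordz]
    obtain ⟨d, hd⟩ : p ∣ (p + 1).choose 2 := by
      rw [Nat.choose_succ_succ, Nat.choose_one_right]
      exact dvd_add dvd_rfl (hp.out.dvd_choose_self (by norm_num) (lt_of_le_of_ne hp.out.two_le (Ne.symm hp2)))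
    refine ⟨i * d, ?_⟩
    rw [hd, hh]
    push_cast
    ring
  · rw [eq_inv_of_mul_eq_one_left h1]
    exact C.inv_mem (ha.le (Subgroup.zpow_mem_zpowers a i))
  · exact ha ▸ ((Subgroup.zpowers a).mul_mem_cancel_right (Subgroup.zpow_mem_zpowers a i)).1 h1
  · rw [show y * a ^ i * a * (y * a ^ i)⁻¹ = y * (a ^ i * a * (a ^ i)⁻¹) * y⁻¹ by group,
      (Commute.zpow_self a i).eq, mul_inv_cancel_right, hya, ← zpow_natCast]
    congr 1

/-- The four types of nonabelian `2`-groups with a cyclic maximal subgroup. -/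
theorem classify_two {n : ℕ} (hn : 3 ≤ n) (hG : Nat.card G = 2 ^ n) (C : Subgroup G) (hC : IsCyclic C)
    (hCi : C.index = 2) (hna : ∃ u v : G, u * v ≠ v * u) :
    ∃ a b : G, orderOf a = 2 ^ (n - 1) ∧ b ∉ Subgroup.zpowers a ∧
      ((b ^ 2 = 1 ∧ b * a * b⁻¹ = a⁻¹) ∨ (b ^ 2 = a ^ (2 ^ (n - 2)) ∧ b * a * b⁻¹ = a⁻¹) ∨
        (4 ≤ n ∧ b ^ 2 = 1 ∧ b * a * b⁻¹ = a ^ (1 + 2 ^ (n - 2))) ∨
        (4 ≤ n ∧ b ^ 2 = 1 ∧ b * a * b⁻¹ = a ^ (2 ^ (n - 2) - 1))) := by
  haveI : Fact (Nat.Prime 2) := ⟨Nat.prime_two⟩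
  obtain ⟨k, rfl⟩ : ∃ k, n = k + 3 := ⟨n - 3, by omega⟩
  rw [show k + 3 - 1 = k + 2 by omega, show k + 3 - 2 = k + 1 by omega]
  obtain ⟨a, x, s, ha, hord, hx, hxp, hs, hCn⟩ := exists_pair (by omega) hG C hC hCi
  rw [show k + 3 - 1 = k + 2 by omega] at hord
  have hordz : (orderOf a : ℤ) = (2 : ℤ) ^ (k + 2) := by rw [hord]; push_cast; rfl
  set h : ℤ := (2 : ℤ) ^ (k + 1) with hh
  have hN : ((2 ^ (k + 1) : ℕ) : ℤ) = h := by rw [hh]; push_cast; rfl
  have hsp : (2 : ℤ) ^ (k + 2) ∣ s * s - 1 := by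
    rw [← hordz, ← sq]
    refine dvd_of_zpow_eq ?_
    have hc := commute_of_mem_zpowers (ha.ge hxp) 1
    rw [zpow_one] at hc
    rw [← conj_pow_eq hs, hc, zpow_one]
  have hns := not_dvd_of_nonabelian (closure_pair_eq_top ha hCi hx) hs hna
  obtain ⟨j, hj⟩ := Subgroup.mem_zpowers_iff.1 (ha.ge hxp)
  have hfix : (2 : ℤ) ^ (k + 2) ∣ s * j - j := by
    rw [← hordz]
    refine dvd_of_zpow_eq ?_
    rw [← conj_zpow_eq hs, hj, (Commute.self_pow x 2).eq, mul_inv_cancel_right]
  -- squares of the elements `x * a ^ i`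
  have hsq : ∀ i : ℤ, (x * a ^ i) ^ 2 = a ^ (s * i + j + i) := fun i => by
    rw [sq, show x * a ^ i * (x * a ^ i) = (x * a ^ i * x⁻¹) * x ^ 2 * a ^ i by group,
      conj_zpow_eq hs, ← hj, ← zpow_add, ← zpow_add]
  have hout : ∀ i : ℤ, x * a ^ i ∉ Subgroup.zpowers a := fun i h1 =>
    hx (ha ▸ ((Subgroup.zpowers a).mul_mem_cancel_right (Subgroup.zpow_mem_zpowers a i)).1 h1)
  have hconj : ∀ i : ℤ, x * a ^ i * a * (x * a ^ i)⁻¹ = a ^ s := fun i => by
    rw [show x * a ^ i * a * (x * a ^ i)⁻¹ = x * (a ^ i * a * (a ^ i)⁻¹) * x⁻¹ by group,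
      (Commute.zpow_self a i).eq, mul_inv_cancel_right, hs]
  have h2k : (2 : ℤ) ^ (k + 2) = 2 * h := by rw [hh]; ring
  rw [h2k] at hordz hsp hfix
  rw [hordz] at hns
  have hh0 : h ≠ 0 := pow_ne_zero _ (by norm_num)
  have hinv : 2 * h ∣ s + 1 →
      ∃ a b : G, orderOf a = 2 ^ (k + 2) ∧ b ∉ Subgroup.zpowers a ∧
      ((b ^ 2 = 1 ∧ b * a * b⁻¹ = a⁻¹) ∨ (b ^ 2 = a ^ (2 ^ (k + 1)) ∧ b * a * b⁻¹ = a⁻¹) ∨
        (4 ≤ k + 3 ∧ b ^ 2 = 1 ∧ b * a * b⁻¹ = a ^ (1 + 2 ^ (k + 1))) ∨
        (4 ≤ k + 3 ∧ b ^ 2 = 1 ∧ b * a * b⁻¹ = a ^ (2 ^ (k + 1) - 1))) := by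
    rintro ⟨c, hc⟩
    have hsa : a ^ s = a⁻¹ := by
      rw [← zpow_neg_one a]; exact zpow_eq_of_dvd (hordz ▸ ⟨c, by linear_combination hc⟩)
    obtain ⟨d, hd⟩ := hfix
    obtain ⟨e, he⟩ : h ∣ j := ⟨c * j - d, mul_left_cancel₀ (two_ne_zero (α := ℤ))
      (by linear_combination j * hc - hd)⟩
    refine ⟨a, x, hord, fun h1 => hx (ha ▸ h1), ?_⟩
    rcases Int.even_or_odd' e with ⟨r, rfl | rfl⟩
    · refine Or.inl ⟨?_, by rw [hs, hsa]⟩
      rw [← hj, ← zpow_zero a]
      exact zpow_eq_of_dvd (hordz ▸ ⟨r, by linear_combination he⟩)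
    · refine Or.inr (Or.inl ⟨?_, by rw [hs, hsa]⟩)
      rw [← hj, ← zpow_natCast a]
      exact zpow_eq_of_dvd (hordz ▸ ⟨r, by rw [hN]; linear_combination he⟩)
  rcases CfsgLib.Solv.two_pow_dvd_of_sq (k := k) (s := s) (by rw [h2k]; exact hsp) with ⟨d, hd⟩ | ⟨d, hd⟩ <;>
    rw [← hh] at hd <;> rcases Int.even_or_odd' d with ⟨c, rfl | rfl⟩
  · exact absurd ⟨c, by linear_combination hd⟩ hns
  · -- `s = 1 + h`
    rcases Nat.eq_zero_or_pos k with rfl | hk
    · have h2 : h = 2 := by rw [hh]; norm_num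
      exact hinv ⟨c + 1, by rw [h2] at hd ⊢; linear_combination hd⟩
    obtain ⟨k', rfl⟩ : ∃ k', k = k' + 1 := ⟨k - 1, by omega⟩
    set q : ℤ := 1 + (2 * c + 1) * 2 ^ (k' + 1) with hq
    obtain ⟨v, w, hvw⟩ : IsCoprime q h := by
      rw [hh]
      refine IsCoprime.pow_right ?_
      exact ⟨1, -((2 * c + 1) * 2 ^ k'), by rw [hq]; ring⟩
    obtain ⟨j', hj'⟩ : (2 : ℤ) ∣ j := by
      obtain ⟨e, he⟩ := hfix
      exact ⟨e - c * j, mul_left_cancel₀ hh0 (by linear_combination he - j * hd)⟩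
    refine ⟨a, x * a ^ (-(j' * v)), hord, hout _, Or.inr (Or.inr (Or.inl ⟨by omega, ?_, ?_⟩))⟩
    · rw [hsq, ← zpow_zero a]
      refine zpow_eq_of_dvd (hordz ▸ ⟨j' * w, ?_⟩)
      rw [hh] at hvw hd ⊢
      rw [hq] at hvw
      linear_combination (-(j' * v)) * hd + hj' - 2 * j' * hvw
    · rw [hconj, ← zpow_natCast a]
      refine zpow_eq_of_dvd (hordz ▸ ⟨c, ?_⟩)
      push_cast
      rw [hh] at hd ⊢
      linear_combination hd
  · exact hinv ⟨c, by linear_combination hd⟩
  · -- `s = h - 1`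
    rcases Nat.eq_zero_or_pos k with rfl | hk
    · have h2 : h = 2 := by rw [hh]; norm_num
      exact absurd ⟨c, by rw [h2] at hd ⊢; linear_combination hd⟩ hns
    obtain ⟨k', rfl⟩ : ∃ k', k = k' + 1 := ⟨k - 1, by omega⟩
    set q : ℤ := (2 * c + 1) * 2 ^ (k' + 1) - 1 with hq
    obtain ⟨e, he⟩ : h ∣ j := by
      obtain ⟨e, he⟩ := hfix
      have hcop : IsCoprime h q := by
        rw [hh]
        refine IsCoprime.pow_left ?_
        exact ⟨(2 * c + 1) * 2 ^ k', -1, by rw [hq]; ring⟩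
      refine hcop.dvd_of_dvd_mul_left (y := q) ⟨e, mul_left_cancel₀ (two_ne_zero (α := ℤ)) ?_⟩
      rw [hh] at hd he ⊢
      rw [hq]
      linear_combination he - j * hd
    have h4 : ((2 ^ (k' + 1 + 1) - 1 : ℕ) : ℤ) = h - 1 := by
      rw [Nat.cast_sub Nat.one_le_two_pow, hh]; push_cast; ring
    rcases Int.even_or_odd' e with ⟨r, rfl | rfl⟩
    · refine ⟨a, x * a ^ (0 : ℤ), hord, hout _, Or.inr (Or.inr (Or.inr ⟨by omega, ?_, ?_⟩))⟩
      · rw [hsq, ← zpow_zero a]
        exact zpow_eq_of_dvd (hordz ▸ ⟨r, by linear_combination he⟩)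
      · rw [hconj, ← zpow_natCast a]
        exact zpow_eq_of_dvd (hordz ▸ ⟨c, by rw [h4]; linear_combination hd⟩)
    · refine ⟨a, x * a ^ (1 : ℤ), hord, hout _, Or.inr (Or.inr (Or.inr ⟨by omega, ?_, ?_⟩))⟩
      · rw [hsq, ← zpow_zero a]
        exact zpow_eq_of_dvd (hordz ▸ ⟨c + r + 1, by linear_combination hd + he⟩)
      · rw [hconj, ← zpow_natCast a]
        exact zpow_eq_of_dvd (hordz ▸ ⟨c, by rw [h4]; linear_combination hd⟩)

end cyclic

section maximal

theorem not_le_of_outside {M : Subgroup G} (hM : M.index = 2) {g : G} (hg : g ∉ M) (y : G) :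
    y ∈ M ∨ y * g ∈ M := by
  by_cases hy : y ∈ M
  · exact Or.inl hy
  · exact Or.inr ((Subgroup.mul_mem_iff_of_index_two hM).2 (by simp [hy, hg]))

/-- A finite `p`-group with cyclic abelianisation is cyclic. -/
theorem isCyclic_of_quotient {p : ℕ} [Fact p.Prime] (hG : IsPGroup p G) [IsCyclic (G ⧸ commutator G)] :
    IsCyclic G := by
  obtain ⟨g, hg⟩ := IsCyclic.exists_generator (α := G ⧸ commutator G)
  obtain ⟨g, rfl⟩ := QuotientGroup.mk_surjective g
  refine ⟨g, ?_⟩
  suffices h : Subgroup.zpowers g = ⊤ by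
    intro y
    exact h.ge (Subgroup.mem_top y)
  by_contra h
  obtain ⟨M, hM, hle⟩ := (eq_top_or_exists_le_coatom (Subgroup.zpowers g)).resolve_left h
  refine hM.1 (eq_top_iff.2 fun y _ => ?_)
  have hD : commutator G ≤ M :=
    (CfsgLib.Solv.commutator_le_frattini hG).trans (frattini_le_coatom hM)
  obtain ⟨i, hi⟩ := Subgroup.mem_zpowers_iff.1 (hg (QuotientGroup.mk y))
  rw [← QuotientGroup.mk_zpow, QuotientGroup.eq] at hi
  have := M.mul_mem (hle (Subgroup.zpow_mem_zpowers g i)) (hD hi)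
  simpa using this

theorem card_commutator_le {n : ℕ} (hn : 2 ≤ n) (hG : Nat.card G = 2 ^ n) :
    ∃ m, m ≤ n - 2 ∧ Nat.card (commutator G) = 2 ^ m := by
  obtain ⟨m, hmn, hm⟩ := (Nat.dvd_prime_pow Nat.prime_two).1
    (hG ▸ Subgroup.card_subgroup_dvd_card (commutator G))
  refine ⟨m, ?_, hm⟩
  by_contra hlt
  haveI : Fact (Nat.Prime 2) := ⟨Nat.prime_two⟩
  have hP : IsPGroup 2 G := IsPGroup.of_card hG
  have hq : Nat.card (G ⧸ commutator G) * 2 ^ m = 2 ^ n := by
    rw [← hm, ← Subgroup.card_eq_card_quotient_mul_card_subgroup, hG]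
  haveI : IsCyclic (G ⧸ commutator G) := by
    rcases (show m = n - 1 ∨ m = n by omega) with h | h
    · refine isCyclic_of_prime_card (p := 2) (Nat.eq_of_mul_eq_mul_right (pow_pos two_pos m) ?_)
      rw [hq, h, ← pow_succ', Nat.sub_add_cancel (by omega : 1 ≤ n)]
    · haveI : Subsingleton (G ⧸ commutator G) := (Nat.card_eq_one_iff_unique.1
        (Nat.eq_of_mul_eq_mul_right (pow_pos two_pos m) (hq.trans (by rw [h, one_mul])))).1
      infer_instance
  haveI := isCyclic_of_quotient hP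
  letI := IsCyclic.commGroup (α := G)
  have : commutator G = ⊥ := commutator_eq_bot G
  rw [this, Subgroup.card_bot] at hm
  rcases m with _ | m
  · omega
  · have := Nat.one_lt_two_pow (n := m + 1) (by omega)
    omega

theorem lowerCentralSeries_bot {m : ℕ} (hP : IsPGroup 2 G) (hm : Nat.card (commutator G) ≤ 2 ^ m) :
    (⊤ : Subgroup G).lowerCentralSeries (m + 1) = ⊥ := by
  haveI : Fact (Nat.Prime 2) := ⟨Nat.prime_two⟩
  haveI := hP.isNilpotent
  obtain ⟨c, hc⟩ := (Subgroup.nilpotent_iff_lowerCentralSeries (G := G)).1 inferInstance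
  suffices h : ∀ i, i ≤ m → (⊤ : Subgroup G).lowerCentralSeries (i + 1) ≠ ⊥ →
      Nat.card ((⊤ : Subgroup G).lowerCentralSeries (i + 1)) ≤ 2 ^ (m - i) by
    by_contra hne
    refine hne (Subgroup.eq_bot_of_card_le _ ((h m le_rfl hne).trans (by simp)))
  intro i
  induction i with
  | zero => intro _ _; rw [Subgroup.top_lowerCentralSeries_one, Nat.sub_zero]; exact hm
  | succ i ih =>
    intro hi hne
    have hle : (⊤ : Subgroup G).lowerCentralSeries (i + 1 + 1) ≤
        (⊤ : Subgroup G).lowerCentralSeries (i + 1) :=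
      Subgroup.lowerCentralSeries_antitone _ (Nat.le_succ _)
    have hlt : (⊤ : Subgroup G).lowerCentralSeries (i + 1 + 1) ≠
        (⊤ : Subgroup G).lowerCentralSeries (i + 1) := by
      intro heq
      have hstab : ∀ l, (⊤ : Subgroup G).lowerCentralSeries (i + 1 + l) =
          (⊤ : Subgroup G).lowerCentralSeries (i + 1) := by
        intro l
        induction l with
        | zero => rfl
        | succ l ihl =>
          rw [← Nat.add_assoc, Subgroup.lowerCentralSeries_succ, ihl,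
            ← Subgroup.lowerCentralSeries_succ, heq]
      refine hne (le_bot_iff.1 (hle.trans ?_))
      rw [← hstab c]
      exact (Subgroup.lowerCentralSeries_antitone _ (by omega : c ≤ i + 1 + c)).trans hc.le
    have h1 := ih (by omega) (fun h0 => hne (le_bot_iff.1 (h0 ▸ hle)))
    obtain ⟨u, hu⟩ := IsPGroup.iff_card.1 (hP.to_subgroup ((⊤ : Subgroup G).lowerCentralSeries (i + 1)))
    obtain ⟨v, hv⟩ := IsPGroup.iff_card.1 (hP.to_subgroup ((⊤ : Subgroup G).lowerCentralSeries (i + 1 + 1)))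
    have hcard : 2 ^ v < 2 ^ u := by
      rw [← hu, ← hv]
      by_contra hge
      exact hlt (Subgroup.eq_of_le_of_card_ge hle (by omega))
    rw [hu] at h1
    rw [hv]
    have h2 := (Nat.pow_lt_pow_iff_right one_lt_two).1 hcard
    have h3 := (Nat.pow_le_pow_iff_right one_lt_two).1 h1
    exact Nat.pow_le_pow_right two_pos (by omega)

theorem class_le {n : ℕ} (hn : 2 ≤ n) (hG : Nat.card G = 2 ^ n) : Group.nilpotencyClass G ≤ n - 1 := by
  haveI : Fact (Nat.Prime 2) := ⟨Nat.prime_two⟩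
  haveI := (IsPGroup.of_card hG).isNilpotent
  obtain ⟨m, hm, hc⟩ := card_commutator_le hn hG
  have h := lowerCentralSeries_bot (IsPGroup.of_card hG) (m := n - 2)
    (hc ▸ Nat.pow_le_pow_right two_pos hm)
  rw [Subgroup.lowerCentralSeries_eq_bot_iff_nilpotencyClass_le] at h
  omega

theorem class_eq_iff_series {n : ℕ} (hn : 2 ≤ n) (hG : Nat.card G = 2 ^ n) :
    Group.nilpotencyClass G = n - 1 ↔ (⊤ : Subgroup G).lowerCentralSeries (n - 2) ≠ ⊥ := by
  haveI : Fact (Nat.Prime 2) := ⟨Nat.prime_two⟩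
  haveI := (IsPGroup.of_card hG).isNilpotent
  have := class_le hn hG
  rw [ne_eq, Subgroup.lowerCentralSeries_eq_bot_iff_nilpotencyClass_le]
  omega

theorem card_commutator_of_class {n : ℕ} (hn : 3 ≤ n) (hG : Nat.card G = 2 ^ n)
    (hc : Group.nilpotencyClass G = n - 1) : Nat.card (commutator G) = 2 ^ (n - 2) := by
  haveI : Fact (Nat.Prime 2) := ⟨Nat.prime_two⟩
  haveI := (IsPGroup.of_card hG).isNilpotent
  obtain ⟨m, hm, hcm⟩ := card_commutator_le (by omega) hG
  rcases Nat.lt_or_ge m (n - 2) with h | h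
  · have h1 := lowerCentralSeries_bot (IsPGroup.of_card hG) (m := n - 3)
      (hcm ▸ Nat.pow_le_pow_right two_pos (by omega))
    rw [Subgroup.lowerCentralSeries_eq_bot_iff_nilpotencyClass_le] at h1
    omega
  · rw [hcm, le_antisymm hm h]

theorem commutator_le_zpowers {a b : G} {s : ℤ} (hgen : Subgroup.closure ({a, b} : Set G) = ⊤)
    (hab : b * a * b⁻¹ = a ^ s) : commutator G ≤ Subgroup.zpowers (a ^ (s - 1)) := by
  haveI : (Subgroup.zpowers (a ^ (s - 1))).Normal := by
    rw [← Subgroup.normalizer_eq_top_iff, eq_top_iff, ← hgen, Subgroup.closure_le]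
    rintro g (rfl | rfl) <;> refine Subgroup.mem_normalizer_fintype ?_ <;> rintro _ ⟨i, rfl⟩
    · rw [← conj_zpow, (Commute.self_zpow g (s - 1)).eq, mul_inv_cancel_right]
      exact Subgroup.zpow_mem_zpowers _ i
    · refine ⟨i * s, ?_⟩
      show (a ^ (s - 1)) ^ (i * s) = g * (a ^ (s - 1)) ^ i * g⁻¹
      rw [← conj_zpow, conj_zpow_eq hab, ← zpow_mul, ← zpow_mul]
      congr 1
      ring
  set N := Subgroup.zpowers (a ^ (s - 1)) with hN
  have hc : ∀ u ∈ ({a, b} : Set G), ∀ v ∈ ({a, b} : Set G),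
      (QuotientGroup.mk u : G ⧸ N) * QuotientGroup.mk v = QuotientGroup.mk v * QuotientGroup.mk u := by
    have hba : (QuotientGroup.mk b : G ⧸ N) * QuotientGroup.mk a =
        QuotientGroup.mk a * QuotientGroup.mk b := by
      have h1 : b * a = a ^ (s - 1) * (a * b) := by
        rw [← mul_assoc, ← zpow_add_one, sub_add_cancel, ← hab, inv_mul_cancel_right]
      have h2 : (QuotientGroup.mk (a ^ (s - 1)) : G ⧸ N) = 1 :=
        (QuotientGroup.eq_one_iff _).2 (Subgroup.mem_zpowers _)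
      rw [← QuotientGroup.mk_mul, h1, QuotientGroup.mk_mul, h2, one_mul, QuotientGroup.mk_mul]
    rintro u (rfl | rfl) v (rfl | rfl)
    exacts [rfl, hba.symm, hba, rfl]
  rw [commutator_def, Subgroup.commutator_le]
  intro u _ v _
  have key : ∀ u v : G, (QuotientGroup.mk u : G ⧸ N) * QuotientGroup.mk v =
      QuotientGroup.mk v * QuotientGroup.mk u := by
    have h1 : ∀ u ∈ ({a, b} : Set G), ∀ v : G, (QuotientGroup.mk u : G ⧸ N) * QuotientGroup.mk v =
        QuotientGroup.mk v * QuotientGroup.mk u := by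
      intro u hu v
      have hle : Subgroup.closure ({a, b} : Set G) ≤
          (Subgroup.centralizer {(QuotientGroup.mk u : G ⧸ N)}).comap (QuotientGroup.mk' N) :=
        (Subgroup.closure_le _).2 fun w hw => Subgroup.mem_centralizer_singleton_iff.2 (hc w hw u hu)
      exact (Subgroup.mem_centralizer_singleton_iff.1 (hle (hgen.ge (Subgroup.mem_top v)))).symm
    intro u v
    have hle : Subgroup.closure ({a, b} : Set G) ≤
        (Subgroup.centralizer {(QuotientGroup.mk v : G ⧸ N)}).comap (QuotientGroup.mk' N) :=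
      (Subgroup.closure_le _).2 fun w hw => Subgroup.mem_centralizer_singleton_iff.2 (h1 w hw v)
    exact Subgroup.mem_centralizer_singleton_iff.1 (hle (hgen.ge (Subgroup.mem_top u)))
  rw [← QuotientGroup.eq_one_iff, commutatorElement_def]
  simp only [QuotientGroup.mk_mul, QuotientGroup.mk_inv]
  rw [key u v]
  group

/-- A `2`-group whose derived subgroup has index `4` has a cyclic maximal subgroup. -/
theorem exists_cyclic_index_two : ∀ (n : ℕ) (G : Type u) [Group G] [Finite G], 3 ≤ n →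
    Nat.card G = 2 ^ n → Nat.card (commutator G) = 2 ^ (n - 2) →
    ∃ C : Subgroup G, IsCyclic C ∧ C.index = 2 := by
  intro n
  induction n with
  | zero => intro G _ _ hn; omega
  | succ n ih =>
    intro G _ _ hn hG hd
    haveI : Fact (Nat.Prime 2) := ⟨Nat.prime_two⟩
    have hP : IsPGroup 2 G := IsPGroup.of_card hG
    have hidx : ∀ a : G, orderOf a = 2 ^ n → (Subgroup.zpowers a).index = 2 := fun a ha => by
      have h := Subgroup.card_mul_index (Subgroup.zpowers a)
      rw [Nat.card_zpowers, ha, hG, pow_succ] at h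
      exact Nat.eq_of_mul_eq_mul_left (pow_pos two_pos n) h
    rcases (show n = 2 ∨ 3 ≤ n by omega) with rfl | hn3
    · by_cases hex : ∃ a : G, orderOf a = 2 ^ 2
      · obtain ⟨a, ha⟩ := hex
        exact ⟨_, inferInstance, hidx a ha⟩
      · exfalso
        push Not at hex
        have h2 : ∀ g : G, g ^ 2 = 1 := by
          intro g
          obtain ⟨k, hk3, hk⟩ := (Nat.dvd_prime_pow Nat.prime_two).1 (hG ▸ orderOf_dvd_natCard g)
          rcases (show k ≤ 1 ∨ k = 2 ∨ k = 3 by omega) with h | h | h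
          · exact orderOf_dvd_iff_pow_eq_one.1 (hk ▸ (pow_dvd_pow 2 h))
          · exact absurd (h ▸ hk) (hex g)
          · refine absurd ?_ (hex (g ^ 2))
            rw [orderOf_pow' _ two_ne_zero, hk, h]
            norm_num
        have hcomm : ∀ u v : G, u * v = v * u := fun u v =>
          mul_comm_of_exponent_two (Monoid.exponent_dvd_of_forall_pow_eq_one h2 |> fun h => by
            rcases (Nat.dvd_prime Nat.prime_two).1 h with h1 | h1
            · exfalso
              haveI := Monoid.exp_eq_one_iff.1 h1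
              rw [Nat.card_unique] at hG
              norm_num at hG
            · exact h1) u v
        have : commutator G = ⊥ := by
          rw [commutator_def, eq_bot_iff, Subgroup.commutator_le]
          exact fun u _ v _ => commutatorElement_eq_one_iff_mul_comm.2 (hcomm u v)
        rw [this, Subgroup.card_bot] at hd
        norm_num at hd
    have hDne : commutator G ≠ ⊥ := fun h0 => by
      rw [h0, Subgroup.card_bot] at hd
      have := Nat.one_lt_two_pow (n := n + 1 - 2) (by omega)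
      omega
    obtain ⟨⟨w, hw⟩, hw1⟩ := Subgroup.ne_bot_iff_exists_ne_one.1
      (CfsgLib.Perm.inf_center_ne_bot hP (commutator G) hDne)
    obtain ⟨z, hz, hzo⟩ : ∃ z : G, z ∈ commutator G ⊓ Subgroup.center G ∧ orderOf z = 2 := by
      obtain ⟨k, hk⟩ := (IsPGroup.iff_orderOf.1 hP) w
      rcases k with _ | k
      · exact absurd (Subtype.ext (orderOf_eq_one_iff.1 (by simpa using hk))) hw1
      · refine ⟨w ^ 2 ^ k, Subgroup.pow_mem _ hw _, ?_⟩
        rw [orderOf_pow' _ (pow_ne_zero _ two_ne_zero), hk,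
          Nat.gcd_eq_right (pow_dvd_pow 2 (Nat.le_succ k)), pow_succ,
          Nat.mul_div_cancel_left _ (pow_pos two_pos k)]
    haveI hZn : (Subgroup.zpowers z).Normal := ⟨fun y hy g => by
      obtain ⟨i, rfl⟩ := hy
      have hg : g * z * g⁻¹ = z := by rw [Subgroup.mem_center_iff.1 hz.2 g, mul_inv_cancel_right]
      rw [← conj_zpow, hg]
      exact Subgroup.zpow_mem_zpowers z i⟩
    set Z := Subgroup.zpowers z with hZ
    have hZcard : Nat.card Z = 2 := by rw [hZ, Nat.card_zpowers, hzo]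
    have hQ : Nat.card (G ⧸ Z) = 2 ^ n := by
      have h := Subgroup.card_eq_card_quotient_mul_card_subgroup Z
      rw [hG, hZcard, pow_succ] at h
      exact (Nat.eq_of_mul_eq_mul_right two_pos h).symm
    have hdQ : Nat.card (commutator (G ⧸ Z)) = 2 ^ (n - 2) := by
      have h1 : commutator (G ⧸ Z) = (commutator G).map (QuotientGroup.mk' Z) := by
        rw [commutator_def, commutator_def, Subgroup.map_commutator,
          Subgroup.map_top_of_surjective _ (QuotientGroup.mk'_surjective Z)]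
      have hZD : (QuotientGroup.mk' Z).ker ≤ commutator G := by
        rw [QuotientGroup.ker_mk', hZ, Subgroup.zpowers_le]
        exact hz.1
      have h2 := Subgroup.index_map_eq (commutator G) (QuotientGroup.mk'_surjective Z) hZD
      have h3 := Subgroup.card_mul_index (commutator G)
      have h4 := Subgroup.card_mul_index ((commutator G).map (QuotientGroup.mk' Z))
      rw [h1]
      rw [h2, hQ] at h4
      rw [hd, hG] at h3
      have h5 : (commutator G).index = 4 := by
        refine Nat.eq_of_mul_eq_mul_left (pow_pos two_pos (n + 1 - 2)) (h3.trans ?_)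
        rw [show (4 : ℕ) = 2 ^ 2 from rfl, ← pow_add]; congr 1; omega
      rw [h5] at h4
      refine Nat.eq_of_mul_eq_mul_right (by norm_num : 0 < 4) (h4.trans ?_)
      rw [show (4 : ℕ) = 2 ^ 2 from rfl, ← pow_add]; congr 1; omega
    obtain ⟨Cb, hCb, hCbi⟩ := ih (G ⧸ Z) hn3 hQ hdQ
    obtain ⟨ab, hab⟩ := (Subgroup.isCyclic_iff_exists_zpowers_eq_top Cb).1 hCb
    obtain ⟨a, rfl⟩ := QuotientGroup.mk_surjective ab
    by_cases hao : orderOf a = 2 ^ n
    · exact ⟨_, inferInstance, hidx a hao⟩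
    exfalso
    set π := QuotientGroup.mk' Z with hπ
    set C := Cb.comap π with hC
    have hCi : C.index = 2 := by rw [hC, Subgroup.index_comap_of_surjective _ (QuotientGroup.mk'_surjective Z), hCbi]
    have haC : a ∈ C := by rw [hC, Subgroup.mem_comap, ← hab]; exact Subgroup.mem_zpowers _
    have hzC : z ∈ C := by
      rw [hC, Subgroup.mem_comap]
      rw [show π z = 1 from (QuotientGroup.eq_one_iff z).2 (Subgroup.mem_zpowers z)]
      exact one_mem _
    have hCdec : ∀ c ∈ C, ∃ i j : ℤ, c = a ^ i * z ^ j := by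
      intro c hc
      rw [hC, Subgroup.mem_comap, ← hab] at hc
      obtain ⟨i, hi⟩ := Subgroup.mem_zpowers_iff.1 hc
      rw [hπ, QuotientGroup.mk'_apply, ← QuotientGroup.mk_zpow, QuotientGroup.eq] at hi
      obtain ⟨j, hj⟩ := Subgroup.mem_zpowers_iff.1 hi
      exact ⟨i, j, by rw [hj]; group⟩
    have hzc : ∀ g : G, Commute g z := fun g => Subgroup.mem_center_iff.1 hz.2 g
    have hCcomm : ∀ c ∈ C, ∀ d ∈ C, Commute c d := by
      intro c hc d hd
      obtain ⟨i, j, rfl⟩ := hCdec c hc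
      obtain ⟨i', j', rfl⟩ := hCdec d hd
      exact (((Commute.refl a).zpow_zpow i i').mul_right ((hzc _).zpow_right j')).mul_left
        ((hzc _).symm.zpow_left j)
    have hoq : orderOf (π a) = 2 ^ (n - 1) := by
      have h := Subgroup.card_mul_index Cb
      rw [hCbi, ← hab, Nat.card_zpowers, hQ, show 2 ^ n = 2 ^ (n - 1) * 2 by
        rw [← pow_succ, Nat.sub_add_cancel (by omega : 1 ≤ n)]] at h
      exact Nat.eq_of_mul_eq_mul_right two_pos h
    have hoa : orderOf a = 2 ^ (n - 1) := by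
      obtain ⟨k, hk⟩ := IsPGroup.iff_orderOf.1 hP a
      have h1 := orderOf_map_dvd π a
      rw [hoq, hk] at h1
      have h2 : orderOf a ∣ 2 ^ n := by
        refine orderOf_dvd_of_pow_eq_one ?_
        have h3 : a ^ 2 ^ (n - 1) ∈ Z := (QuotientGroup.eq_one_iff _).1 (by
          rw [QuotientGroup.mk_pow]
          exact orderOf_dvd_iff_pow_eq_one.1 hoq.dvd)
        obtain ⟨j, hj⟩ := Subgroup.mem_zpowers_iff.1 h3
        rw [show 2 ^ n = 2 ^ (n - 1) * 2 by rw [← pow_succ, Nat.sub_add_cancel (by omega : 1 ≤ n)],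
          pow_mul, ← hj, ← zpow_natCast, zpow_comm, zpow_natCast,
          orderOf_dvd_iff_pow_eq_one.1 hzo.dvd, one_zpow]
      rw [hk] at h2
      have h3 := (Nat.pow_dvd_pow_iff_le_right (by norm_num : 1 < 2)).1 h1
      have h4 := (Nat.pow_dvd_pow_iff_le_right (by norm_num : 1 < 2)).1 h2
      rcases (show k = n - 1 ∨ k = n by omega) with h | h
      · rw [hk, h]
      · exact absurd (hk.trans (congrArg (fun t => 2 ^ t) h)) hao
    set a0 := a ^ 2 ^ (n - 2) with ha0
    have ha0o : orderOf a0 = 2 := by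
      rw [ha0, orderOf_pow' _ (pow_ne_zero _ two_ne_zero), hoa,
        Nat.gcd_eq_right (pow_dvd_pow 2 (by omega)), Nat.pow_div (by omega) two_pos,
        show n - 1 - (n - 2) = 1 by omega, pow_one]
    have ha0z : a0 ∉ Z := fun hm => by
      have h1 : π a0 = 1 := (QuotientGroup.eq_one_iff _).2 hm
      rw [ha0, map_pow] at h1
      have h2 := orderOf_dvd_of_pow_eq_one h1
      rw [hoq, Nat.pow_dvd_pow_iff_le_right (by norm_num)] at h2
      omega
    have ha0sq : a0 * a0 = 1 := by rw [← sq, ← ha0o, pow_orderOf_eq_one]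
    obtain ⟨x, hxC⟩ : ∃ x, x ∉ C := by
      by_contra h
      push Not at h
      rw [(Subgroup.eq_top_iff' C).2 h, Subgroup.index_top] at hCi
      omega
    haveI hCn : C.Normal := Subgroup.normal_of_index_eq_two hCi
    have hxa0 : x * a0 * x⁻¹ = a0 := by
      obtain ⟨i, j, hij⟩ := hCdec _ (hCn.conj_mem a haC x)
      have h1 : x * a0 * x⁻¹ = a0 ^ i := by
        rw [ha0, ← conj_pow, hij, ((hzc (a ^ i)).zpow_right j).mul_pow]
        have hz2 : (z ^ j) ^ 2 ^ (n - 2) = 1 := by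
          rw [← zpow_natCast, ← zpow_mul]
          refine orderOf_dvd_iff_zpow_eq_one.1 ?_
          rw [hzo]
          push_cast
          exact (dvd_pow_self (2 : ℤ) (by omega)).mul_left j
        rw [hz2, mul_one, ← zpow_natCast, ← zpow_natCast, ← zpow_mul, ← zpow_mul, mul_comm]
      rcases Int.even_or_odd' i with ⟨r, rfl | rfl⟩
      · exfalso
        rw [zpow_mul, zpow_two, ha0sq, one_zpow] at h1
        exact ha0z (conj_eq_one_iff.1 h1 ▸ one_mem _)
      · rw [h1, zpow_add, zpow_mul, zpow_two, ha0sq, one_zpow, one_mul, zpow_one]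
    -- the map `c ↦ [x, c]` on `C`
    let φ : C →* G := MonoidHom.mk' (fun c => x * (c : G) * x⁻¹ * (c : G)⁻¹) (fun c d => by
      have h1 : Commute (c : G) ((x * (d : G) * x⁻¹) * (d : G)⁻¹) :=
        hCcomm c c.2 _ (C.mul_mem (hCn.conj_mem d d.2 x) (C.inv_mem d.2))
      push_cast
      calc x * ((c : G) * d) * x⁻¹ * ((c : G) * d)⁻¹
          = (x * c * x⁻¹) * ((x * d * x⁻¹) * (d : G)⁻¹) * (c : G)⁻¹ := by group
        _ = (x * c * x⁻¹) * ((c : G)⁻¹ * ((x * d * x⁻¹) * (d : G)⁻¹)) := by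
            rw [mul_assoc, h1.inv_left.eq]
        _ = x * c * x⁻¹ * (c : G)⁻¹ * (x * d * x⁻¹ * (d : G)⁻¹) := by group)
    have hrange : commutator G ≤ φ.range := by
      have hRC : φ.range ≤ C := by
        rintro _ ⟨c, rfl⟩
        exact C.mul_mem (hCn.conj_mem c c.2 x) (C.inv_mem c.2)
      have hdec : ∀ g : G, g ∈ C ∨ g * x⁻¹ ∈ C := fun g => by
        by_cases hg : g ∈ C
        · exact Or.inl hg
        · exact Or.inr ((Subgroup.mul_mem_iff_of_index_two hCi).2 (by simp [hg, hxC]))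
      haveI : φ.range.Normal := ⟨fun r hr g => by
        obtain ⟨c, rfl⟩ := hr
        have hcc : ∀ d ∈ C, d * φ c * d⁻¹ = φ c := fun d hd => by
          rw [(hCcomm d hd _ (hRC ⟨c, rfl⟩)).eq, mul_inv_cancel_right]
        rcases hdec g with hg | hg
        · rw [hcc g hg]; exact ⟨c, rfl⟩
        · refine ⟨⟨x * c * x⁻¹, hCn.conj_mem c c.2 x⟩, ?_⟩
          have h1 : g * φ c * g⁻¹ = (g * x⁻¹) * (x * φ c * x⁻¹) * (g * x⁻¹)⁻¹ := by group
          rw [h1, (hCcomm _ hg _ (hCn.conj_mem _ (hRC ⟨c, rfl⟩) x)).eq, mul_inv_cancel_right]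
          show x * (x * c * x⁻¹) * x⁻¹ * (x * c * x⁻¹)⁻¹ = x * (x * c * x⁻¹ * (c : G)⁻¹) * x⁻¹
          group⟩
      set R := φ.range
      have hxc : ∀ c ∈ C, (QuotientGroup.mk x : G ⧸ R) * QuotientGroup.mk c =
          QuotientGroup.mk c * QuotientGroup.mk x := by
        intro c hc
        have h1 : (QuotientGroup.mk (x * c * x⁻¹ * c⁻¹) : G ⧸ R) = 1 :=
          (QuotientGroup.eq_one_iff _).2 ⟨⟨c, hc⟩, rfl⟩
        simp only [QuotientGroup.mk_mul, QuotientGroup.mk_inv] at h1
        exact mul_inv_eq_iff_eq_mul.1 (mul_inv_eq_one.1 h1)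
      have hgen : ∀ g : G, ∃ c ∈ C, g = c ∨ g = c * x := fun g => by
        rcases hdec g with hg | hg
        · exact ⟨g, hg, Or.inl rfl⟩
        · exact ⟨_, hg, Or.inr (by group)⟩
      rw [commutator_def, Subgroup.commutator_le]
      intro u _ v _
      have hcomm : Commute (QuotientGroup.mk u : G ⧸ R) (QuotientGroup.mk v) := by
        have hxx : ∀ c ∈ C, Commute (QuotientGroup.mk x : G ⧸ R) (QuotientGroup.mk c) := hxc
        have hcc : ∀ c ∈ C, ∀ d ∈ C, Commute (QuotientGroup.mk c : G ⧸ R) (QuotientGroup.mk d) :=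
          fun c hc d hd => (hCcomm c hc d hd).map (QuotientGroup.mk' R)
        obtain ⟨c, hc, hu | hu⟩ := hgen u <;> obtain ⟨d, hd, hv | hv⟩ := hgen v <;>
          rw [hu, hv] <;> (try simp only [QuotientGroup.mk_mul])
        · exact hcc c hc d hd
        · exact (hcc c hc d hd).mul_right (hxx c hc).symm
        · exact (hcc c hc d hd).mul_left (hxx d hd)
        · exact ((hcc c hc d hd).mul_right (hxx c hc).symm).mul_left
            ((hxx d hd).mul_right (Commute.refl _))
      rw [← QuotientGroup.eq_one_iff]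
      rw [show (QuotientGroup.mk ⁅u, v⁆ : G ⧸ R) = ⁅(QuotientGroup.mk u : G ⧸ R), QuotientGroup.mk v⁆ from
        map_commutatorElement (QuotientGroup.mk' R) u v]
      exact commutatorElement_eq_one_iff_commute.2 hcomm
    -- four elements in the kernel
    have hKa : (⟨a0, C.pow_mem haC _⟩ : C) ∈ φ.ker := by
      rw [MonoidHom.mem_ker]; show x * a0 * x⁻¹ * a0⁻¹ = 1; rw [hxa0, mul_inv_cancel]
    have hKz : (⟨z, hzC⟩ : C) ∈ φ.ker := by
      rw [MonoidHom.mem_ker]; show x * z * x⁻¹ * z⁻¹ = 1; rw [(hzc x).eq]; group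
    have hker : 4 ∣ Nat.card φ.ker := by
      have hle : Subgroup.zpowers (⟨a0, C.pow_mem haC _⟩ : C) ⊔ Subgroup.zpowers (⟨z, hzC⟩ : C) ≤ φ.ker :=
        sup_le (Subgroup.zpowers_le.2 hKa) (Subgroup.zpowers_le.2 hKz)
      refine dvd_trans ?_ (Subgroup.card_dvd_of_le hle)
      set A1 := Subgroup.zpowers (⟨a0, C.pow_mem haC _⟩ : C)
      set A2 := Subgroup.zpowers (⟨z, hzC⟩ : C)
      have hA1 : Nat.card A1 = 2 := by rw [Nat.card_zpowers, Subgroup.orderOf_mk, ha0o]
      have hA2 : Nat.card A2 = 2 := by rw [Nat.card_zpowers, Subgroup.orderOf_mk, hzo]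
      have hlt : A2 < A1 ⊔ A2 := lt_of_le_of_ne le_sup_right fun he => by
        obtain ⟨i, hi⟩ := Subgroup.mem_zpowers_iff.1
          (he.ge (Subgroup.mem_sup_left (Subgroup.mem_zpowers (⟨a0, C.pow_mem haC _⟩ : C))))
        exact ha0z ⟨i, by simpa using congrArg Subtype.val hi⟩
      obtain ⟨k, -, hk⟩ := (Nat.dvd_prime_pow Nat.prime_two).1
        ((Subgroup.card_subgroup_dvd_card (A1 ⊔ A2)).trans
          ((Subgroup.card_subgroup_dvd_card C).trans hG.dvd))
      have hcard : Nat.card A2 < Nat.card (A1 ⊔ A2 : Subgroup C) := by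
        by_contra hge
        exact hlt.ne (Subgroup.eq_of_le_of_card_ge hlt.le (by omega))
      rw [hA2, hk] at hcard
      rw [hk, show (4 : ℕ) = 2 ^ 2 from rfl]
      refine pow_dvd_pow 2 ?_
      rcases k with _ | _ | k <;> first | (norm_num at hcard; done) | omega
    have hCcard : Nat.card C = 2 ^ n := by
      have h := Subgroup.card_mul_index C
      rw [hCi, hG, pow_succ] at h
      exact Nat.eq_of_mul_eq_mul_right two_pos h
    have h1 := Subgroup.card_mul_index φ.ker
    rw [Subgroup.index_ker, hCcard] at h1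
    have h2 := Subgroup.card_le_of_le hrange
    rw [hd] at h2
    obtain ⟨q, hq⟩ := hker
    have hq0 : 1 ≤ q := by
      rcases q with _ | q
      · exact absurd hq (by simpa using (Nat.card_pos (α := φ.ker)).ne')
      · omega
    rw [hq] at h1
    have h4 : 2 ^ (n + 1 - 2) = 2 * 2 ^ (n - 2) := by rw [← pow_succ']; congr 1; omega
    have h5 : 2 ^ n = 4 * 2 ^ (n - 2) := by
      rw [show (4 : ℕ) = 2 ^ 2 from rfl, ← pow_add]; congr 1; omega
    have h6 : 4 * Nat.card φ.range ≤ 2 ^ n := by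
      calc 4 * Nat.card φ.range ≤ 4 * q * Nat.card φ.range := by gcongr; omega
        _ = 2 ^ n := h1
    have := Nat.pow_pos (n := n - 2) (two_pos : 0 < 2)
    omega

/-- Dihedral, generalised quaternion or semidihedral shape. -/
theorem shape {n : ℕ} (hn : 3 ≤ n) (hG : Nat.card G = 2 ^ n)
    (hd : Nat.card (commutator G) = 2 ^ (n - 2)) :
    ∃ (a b : G) (e f : ℤ), orderOf a = 2 ^ (n - 1) ∧ b ∉ Subgroup.zpowers a ∧
      (Subgroup.zpowers a).index = 2 ∧ b * a * b⁻¹ = a ^ (-1 + e * 2 ^ (n - 2)) ∧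
      b ^ 2 = a ^ (f * 2 ^ (n - 2)) ∧ (e = 0 ∨ 4 ≤ n) := by
  haveI : Fact (Nat.Prime 2) := ⟨Nat.prime_two⟩
  obtain ⟨C, hC, hCi⟩ := exists_cyclic_index_two n G hn hG hd
  have hD1 : 1 < Nat.card (commutator G) := hd ▸ Nat.one_lt_two_pow (by omega)
  have hna : ∃ u v : G, u * v ≠ v * u := by
    by_contra h
    push Not at h
    have : commutator G = ⊥ := by
      rw [commutator_def, eq_bot_iff, Subgroup.commutator_le]
      exact fun u _ v _ => commutatorElement_eq_one_iff_mul_comm.2 (h u v)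
    rw [this, Subgroup.card_bot] at hD1
    omega
  obtain ⟨a, b, ha, hb, hcases⟩ := classify_two hn hG C hC hCi hna
  have hi : (Subgroup.zpowers a).index = 2 := by
    have h := Subgroup.card_mul_index (Subgroup.zpowers a)
    rw [Nat.card_zpowers, ha, hG, show 2 ^ n = 2 ^ (n - 1) * 2 by
      rw [← pow_succ, Nat.sub_add_cancel (by omega : 1 ≤ n)]] at h
    exact Nat.eq_of_mul_eq_mul_left (pow_pos two_pos _) h
  have hc : ((2 ^ (n - 2) : ℕ) : ℤ) = 2 ^ (n - 2) := by push_cast; rfl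
  rcases hcases with ⟨h1, h2⟩ | ⟨h1, h2⟩ | ⟨hn4, h1, h2⟩ | ⟨hn4, h1, h2⟩
  · exact ⟨a, b, 0, 0, ha, hb, hi, by rw [h2]; simp, by rw [h1]; simp, Or.inl rfl⟩
  · exact ⟨a, b, 0, 1, ha, hb, hi, by rw [h2]; simp, by rw [h1, one_mul, ← hc, zpow_natCast],
      Or.inl rfl⟩
  · exfalso
    have hle := commutator_le_zpowers (s := 1 + 2 ^ (n - 2))
      (closure_pair_eq_top rfl hi hb) (by rw [h2, ← zpow_natCast]; push_cast; rfl)
    have h3 := Subgroup.card_le_of_le hle
    rw [Nat.card_zpowers, hd, add_sub_cancel_left, ← hc, zpow_natCast,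
      orderOf_pow' _ (pow_ne_zero _ two_ne_zero), ha, Nat.gcd_eq_right (pow_dvd_pow 2 (by omega)),
      Nat.pow_div (by omega) two_pos, show n - 1 - (n - 2) = 1 by omega] at h3
    have := Nat.pow_le_pow_right (two_pos : 0 < 2) (show 2 ≤ n - 2 by omega)
    omega
  · refine ⟨a, b, 1, 0, ha, hb, hi, ?_, by rw [h1]; simp, Or.inr hn4⟩
    rw [h2, ← zpow_natCast, Nat.cast_sub Nat.one_le_two_pow]
    push_cast
    congr 1
    ring

/-- Two commuting elements generating a subgroup of order four. -/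
theorem four {z b : G} (hz2 : z ^ 2 = 1) (hz1 : z ≠ 1) (hc : Commute z b)
    (hb2 : b ^ 2 = 1 ∨ b ^ 2 = z) (hb1 : b ≠ 1) (hbz : b ≠ z) :
    ∃ A : Subgroup G, z ∈ A ∧ b ∈ A ∧ Nat.card A = 2 ^ 2 ∧ (∀ u ∈ A, ∀ v ∈ A, Commute u v) := by
  have hzz : z * z = 1 := by rw [← sq, hz2]
  have hbb : b * b = 1 ∨ b * b = z := by rwa [← sq]
  set S : Set G := {1, z, b, z * b} with hS
  have hbzb : b * (z * b) = z * (b * b) := by rw [← mul_assoc, ← hc.eq, mul_assoc]
  have hclosed : ∀ u ∈ S, ∀ v ∈ S, u * v ∈ S := by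
    rintro u (rfl | rfl | rfl | rfl) v (rfl | rfl | rfl | rfl) <;> rcases hbb with h | h <;>
      simp [hS, hzz, h, hc.eq.symm, hbzb, mul_assoc] <;>
      simp [hzz, h, ← mul_assoc]
  have hcard : S.ncard = 4 := by
    have h1 : b ≠ z * b := fun h => hz1 (mul_eq_right.1 h.symm)
    have h2 : (1 : G) ≠ z * b := fun h => hbz ((eq_inv_of_mul_eq_one_right h.symm).trans
      (inv_eq_of_mul_eq_one_right hzz))
    have h3 : z ≠ z * b := fun h => hb1 (mul_eq_left.1 h.symm)
    rw [hS, Set.ncard_insert_of_notMem (by simp [hz1.symm, hb1.symm, h2]) (Set.toFinite _),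
      Set.ncard_insert_of_notMem (by simp [hbz.symm, h3]) (Set.toFinite _), Set.ncard_pair h1]
  let A : Subgroup G := Subgroup.closure S
  have hA : (A : Set G) = S := by
    refine Set.Subset.antisymm (fun y hy => ?_) Subgroup.subset_closure
    induction hy using Subgroup.closure_induction with
    | mem y hy => exact hy
    | one => exact Or.inl rfl
    | mul u v _ _ hu hv => exact hclosed u hu v hv
    | inv u _ hu =>
      have hpow : ∀ k : ℕ, u ^ k ∈ S := fun k => by
        induction k with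
        | zero => rw [pow_zero]; exact Or.inl rfl
        | succ k ih => rw [pow_succ]; exact hclosed _ ih _ hu
      obtain ⟨m, hm⟩ : u⁻¹ ∈ Submonoid.powers u :=
        mem_powers_iff_mem_zpowers.2 (Subgroup.inv_mem _ (Subgroup.mem_zpowers u))
      exact hm ▸ hpow m
  refine ⟨A, Subgroup.subset_closure (by simp [hS]), Subgroup.subset_closure (by simp [hS]),
    by rw [← SetLike.coe_sort_coe, hA, Nat.card_coe_set_eq, hcard]; rfl, ?_⟩
  intro u hu v hv
  haveI : IsMulCommutative A := Subgroup.isMulCommutative_closure (by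
    rintro u (rfl | rfl | rfl | rfl) v (rfl | rfl | rfl | rfl)
    all_goals first
      | rfl
      | (simp; done)
      | exact hc.eq
      | exact hc.eq.symm
      | exact ((Commute.refl _).mul_right hc).eq
      | exact ((Commute.refl _).mul_right hc).eq.symm
      | exact (hc.symm.mul_right (Commute.refl _)).eq
      | exact (hc.symm.mul_right (Commute.refl _)).eq.symm)
  exact congrArg Subtype.val (IsMulCommutative.is_comm.comm (⟨u, hu⟩ : A) ⟨v, hv⟩)

/-- The only powers of `a` fixed by `b` are those in the centre. -/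
theorem shape_fixed {n : ℕ} (hn : 3 ≤ n) {a b : G} {e : ℤ} (ha : orderOf a = 2 ^ (n - 1))
    (hab : b * a * b⁻¹ = a ^ (-1 + e * 2 ^ (n - 2))) (he : e = 0 ∨ 4 ≤ n) {i : ℤ} :
    b * a ^ i * b⁻¹ = a ^ i ↔ (2 : ℤ) ^ (n - 2) ∣ i := by
  obtain ⟨k, rfl⟩ : ∃ k, n = k + 3 := ⟨n - 3, by omega⟩
  rw [show k + 3 - 2 = k + 1 by omega] at hab ⊢
  rw [show k + 3 - 1 = k + 2 by omega] at ha
  have hz : (orderOf a : ℤ) = 2 * 2 ^ (k + 1) := by rw [ha]; push_cast; ring
  rw [conj_zpow_eq hab]
  constructor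
  · intro h
    obtain ⟨d, hd⟩ := dvd_of_zpow_eq h
    rw [hz] at hd
    -- `i * (e * 2 ^ k - 1) ≡ 0`
    have hcop : IsCoprime ((2 : ℤ) ^ (k + 1)) (e * 2 ^ k - 1) := by
      refine IsCoprime.pow_left ?_
      rcases he with rfl | he
      · exact ⟨0, -1, by ring⟩
      · obtain ⟨k', rfl⟩ : ∃ k', k = k' + 1 := ⟨k - 1, by omega⟩
        exact ⟨e * 2 ^ k', -1, by ring⟩
    refine hcop.dvd_of_dvd_mul_left ⟨d, mul_left_cancel₀ (two_ne_zero (α := ℤ)) ?_⟩
    linear_combination hd
  · rintro ⟨d, rfl⟩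
    exact zpow_eq_of_dvd (hz ▸ ⟨d * (e * 2 ^ k - 1), by ring⟩)

/-- A derived subgroup of index `4` forces maximal class. -/
theorem class_of_card_commutator {n : ℕ} (hn : 3 ≤ n) (hG : Nat.card G = 2 ^ n)
    (hd : Nat.card (commutator G) = 2 ^ (n - 2)) : Group.nilpotencyClass G = n - 1 := by
  haveI : Fact (Nat.Prime 2) := ⟨Nat.prime_two⟩
  obtain ⟨a, b, e, f, ha, hb, hi, hab, hb2, he⟩ := shape hn hG hd
  set h : ℤ := 2 ^ (n - 2) with hh
  have hz : (orderOf a : ℤ) = 2 * h := by
    rw [ha, hh]; push_cast; rw [← pow_succ']; congr 1; omega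
  set z := a ^ h with hzdef
  have hzb : Commute z b := by
    have h1 : b * z * b⁻¹ = z := (shape_fixed hn ha hab he).2 (dvd_refl h)
    exact (mul_inv_eq_iff_eq_mul.1 h1).symm
  have hz2 : z ^ 2 = 1 := by
    rw [hzdef, ← zpow_natCast, ← zpow_mul, ← zpow_zero a]
    exact zpow_eq_of_dvd (hz ▸ ⟨1, by push_cast; ring⟩)
  have hz1 : z ≠ 1 := fun h1 => by
    rw [hzdef, ← zpow_zero a] at h1
    obtain ⟨d, hd⟩ := dvd_of_zpow_eq h1
    rw [hz, sub_zero] at hd
    have hh0 : h ≠ 0 := pow_ne_zero _ two_ne_zero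
    have : 1 = 2 * d := mul_left_cancel₀ hh0 (by linear_combination hd)
    omega
  have hbz : b ^ 2 = z ^ f := by rw [hzdef, ← zpow_mul, hb2, mul_comm]
  have hbz' : b ^ 2 = 1 ∨ b ^ 2 = z := by
    rcases Int.even_or_odd' f with ⟨r, rfl | rfl⟩
    · left; rw [hbz, zpow_mul, zpow_two, ← sq, hz2, one_zpow]
    · right; rw [hbz, zpow_add, zpow_mul, zpow_two, ← sq, hz2, one_zpow, one_mul, zpow_one]
  obtain ⟨A, hzA, hbA, hAcard, hAc⟩ := four hz2 hz1 hzb hbz'
    (fun h => hb (h ▸ one_mem _)) (fun h1 => hb (h1 ▸ Subgroup.zpow_mem_zpowers a h))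
  refine CfsgLib.Solv.nilpotencyClass_of_centralizer_sq n G hG A hAcard (le_antisymm ?_ ?_)
  · intro g hg
    have hgb : Commute g b := (Subgroup.mem_centralizer_iff.1 hg b hbA).symm
    have key : ∀ c ∈ Subgroup.zpowers a, Commute c b → c ∈ A := by
      rintro c ⟨i, rfl⟩ hc
      have h1 : b * a ^ i * b⁻¹ = a ^ i := by rw [← hc.eq, mul_inv_cancel_right]
      obtain ⟨d, rfl⟩ := (shape_fixed hn ha hab he).1 h1
      show a ^ (h * d) ∈ A
      rw [zpow_mul]
      exact A.zpow_mem hzA d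
    rcases not_le_of_outside hi hb g with hga | hga
    · exact key g hga hgb
    · have h1 := key _ hga (hgb.mul_left (Commute.refl b))
      rw [show g = g * b * b⁻¹ by group]
      exact A.mul_mem h1 (A.inv_mem hbA)
  · exact fun u hu => Subgroup.mem_centralizer_iff.2 fun v hv => (hAc u hu v hv).eq.symm

theorem class_iff_card_commutator {n : ℕ} (hn : 3 ≤ n) (hG : Nat.card G = 2 ^ n) :
    Group.nilpotencyClass G = n - 1 ↔ Nat.card (commutator G) = 2 ^ (n - 2) :=
  ⟨card_commutator_of_class hn hG, class_of_card_commutator hn hG⟩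

theorem class_iff_klein {n : ℕ} (hn : 3 ≤ n) (hG : Nat.card G = 2 ^ n) :
    Group.nilpotencyClass G = n - 1 ↔ IsKleinFour (G ⧸ commutator G) := by
  haveI : Fact (Nat.Prime 2) := ⟨Nat.prime_two⟩
  rw [class_iff_card_commutator hn hG]
  have h := Subgroup.card_eq_card_quotient_mul_card_subgroup (commutator G)
  rw [hG, show 2 ^ n = 4 * 2 ^ (n - 2) by
    rw [show (4 : ℕ) = 2 ^ 2 from rfl, ← pow_add]; congr 1; omega] at h
  constructor
  · intro hd
    rw [hd] at h
    have h4 : Nat.card (G ⧸ commutator G) = 4 := (Nat.eq_of_mul_eq_mul_right (pow_pos two_pos _) h).symm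
    have hnc : ¬ IsCyclic (G ⧸ commutator G) := by
      intro hc
      haveI := isCyclic_of_quotient (IsPGroup.of_card hG)
      letI := IsCyclic.commGroup (α := G)
      rw [commutator_eq_bot G, Subgroup.card_bot] at hd
      have := Nat.one_lt_two_pow (n := n - 2) (by omega)
      omega
    refine ⟨h4, ?_⟩
    have hd4 : Monoid.exponent (G ⧸ commutator G) ∣ 2 := by
      refine Monoid.exponent_dvd_of_forall_pow_eq_one fun q => ?_
      obtain ⟨k, hk2, hk⟩ := (Nat.dvd_prime_pow Nat.prime_two).1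
        ((show (4 : ℕ) = 2 ^ 2 from rfl) ▸ h4 ▸ orderOf_dvd_natCard q)
      rcases (show k ≤ 1 ∨ k = 2 by omega) with h' | h'
      · exact orderOf_dvd_iff_pow_eq_one.1 (hk ▸ (pow_dvd_pow 2 h'))
      · exact absurd (isCyclic_of_orderOf_eq_card q (by rw [hk, h', h4]; rfl)) hnc
    rcases (Nat.dvd_prime Nat.prime_two).1 hd4 with h1 | h1
    · haveI := Monoid.exp_eq_one_iff.1 h1
      rw [Nat.card_unique] at h4
      omega
    · exact h1
  · intro hk
    rw [IsKleinFour.card_four] at h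
    exact (Nat.eq_of_mul_eq_mul_left (by norm_num) h).symm

/-- All noncyclic subgroups are self-centralizing exactly for maximal class. -/
theorem selfCentralizing_iff {n : ℕ} (hna : ¬ IsMulCommutative G) (hG : Nat.card G = 2 ^ n) :
    (∀ H : Subgroup G, ¬ IsCyclic H → Subgroup.centralizer (H : Set G) ≤ H) ↔
      (⊤ : Subgroup G).lowerCentralSeries (n - 2) ≠ ⊥ := by
  haveI : Fact (Nat.Prime 2) := ⟨Nat.prime_two⟩
  have hP : IsPGroup 2 G := IsPGroup.of_card hG
  have hn3 : 3 ≤ n := by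
    by_contra hlt
    refine hna ⟨⟨?_⟩⟩
    rcases (show n = 0 ∨ n = 1 ∨ n = 2 by omega) with rfl | rfl | rfl
    · haveI : Subsingleton G := (Nat.card_eq_one_iff_unique.1 (by simpa using hG)).1
      exact fun u v => Subsingleton.elim _ _
    · haveI : IsCyclic G := isCyclic_of_prime_card (p := 2) (by simpa using hG)
      letI := IsCyclic.commGroup (α := G)
      exact mul_comm
    · exact IsPGroup.commutative_of_card_eq_prime_sq hG
  rw [← class_eq_iff_series (by omega) hG]
  constructor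
  · intro hsc
    by_cases hK : ∃ x y : G, orderOf x = 2 ∧ orderOf y = 2 ∧ Commute x y ∧ x ≠ y
    · obtain ⟨x, y, hx, hy, hc, hxy⟩ := hK
      have hx2 : x ^ 2 = 1 := hx ▸ pow_orderOf_eq_one x
      have hy2 : y ^ 2 = 1 := hy ▸ pow_orderOf_eq_one y
      have hne1 : ∀ w : G, orderOf w = 2 → w ≠ 1 := fun w hw h => by simp [h] at hw
      obtain ⟨A, hxA, hyA, hcard, hAc⟩ := four hx2 (hne1 x hx) hc (Or.inl hy2) (hne1 y hy) hxy.symm
      refine CfsgLib.Solv.nilpotencyClass_of_centralizer_sq n G hG A hcard (le_antisymm (hsc A ?_)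
        fun u hu => Subgroup.mem_centralizer_iff.2 fun v hv => (hAc u hu v hv).eq.symm)
      intro hcy
      haveI := hcy
      classical
      letI := Fintype.ofFinite A
      have hinv : ∀ t : A, t ^ 2 = 1 ↔ (t : G) ^ 2 = 1 := fun t => by
        rw [Subtype.ext_iff]; rfl
      have h3 : ({1, ⟨x, hxA⟩, ⟨y, hyA⟩} : Finset A) ⊆ Finset.univ.filter fun t => t ^ 2 = 1 := by
        intro t ht
        rw [Finset.mem_filter]
        refine ⟨Finset.mem_univ t, (hinv t).2 ?_⟩
        simp only [Finset.mem_insert, Finset.mem_singleton] at ht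
        rcases ht with rfl | rfl | rfl
        · simp
        · exact hx2
        · exact hy2
      have h4 := (Finset.card_le_card h3).trans (IsCyclic.card_pow_eq_one_le (α := A) two_pos)
      rw [Finset.card_insert_of_notMem (by simp [Subtype.ext_iff, (hne1 x hx).symm, (hne1 y hy).symm]),
        Finset.card_insert_of_notMem (by simp [hxy]), Finset.card_singleton] at h4
      omega
    · push Not at hK
      haveI : Nontrivial G := Finite.one_lt_card_iff_nontrivial.1 (hG ▸ Nat.one_lt_two_pow (by omega))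
      haveI := hP.center_nontrivial
      obtain ⟨zc, hzc⟩ : ∃ zc : G, zc ∈ Subgroup.center G ∧ orderOf zc = 2 := by
        obtain ⟨k, hk⟩ := IsPGroup.iff_card.1 (hP.to_subgroup (Subgroup.center G))
        have h2 : 2 ∣ Nat.card (Subgroup.center G) := by
          rw [hk]
          refine dvd_pow_self 2 fun h0 => ?_
          have := Finite.one_lt_card (α := Subgroup.center G)
          rw [hk, h0] at this
          norm_num at this
        obtain ⟨w, hw⟩ := exists_prime_orderOf_dvd_card' 2 h2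
        exact ⟨w, w.2, by rw [Subgroup.orderOf_coe, hw]⟩
      have huniq : ∀ x y : G, orderOf x = 2 → orderOf y = 2 → y ∈ Subgroup.zpowers x := by
        intro x y hx hy
        have h1 : zc = x := hK zc x hzc.2 hx (Subgroup.mem_center_iff.1 hzc.1 x).symm
        have h2 : zc = y := hK zc y hzc.2 hy (Subgroup.mem_center_iff.1 hzc.1 y).symm
        rw [← h2, ← h1]
        exact Subgroup.mem_zpowers zc
      rcases CfsgLib.Solv.pgroup_unique_sub hP huniq with hcy | ⟨-, m, ⟨E⟩⟩
      · exfalso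
        haveI := hcy
        letI := IsCyclic.commGroup (α := G)
        exact hna ⟨⟨mul_comm⟩⟩
      · have hN : NeZero ((2 : ℕ) ^ (m + 1)) := ⟨pow_ne_zero _ two_ne_zero⟩
        set N : ℕ := 2 ^ (m + 1) with hNdef
        set w : QuaternionGroup N := QuaternionGroup.xa 0 with hw
        have hw4 : orderOf w = 4 := QuaternionGroup.orderOf_xa 0
        have hw2 : w * w = QuaternionGroup.a (N : ZMod (2 * N)) := by
          rw [hw, QuaternionGroup.xa_mul_xa]; simp
        have h2i : ∀ i : ZMod (2 * N), i + i = 0 → i = 0 ∨ i = (N : ZMod (2 * N)) := by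
          intro i hi
          have h1 : ((2 * i.val : ℕ) : ZMod (2 * N)) = 0 := by
            push_cast; rw [ZMod.natCast_zmod_val]; linear_combination hi
          obtain ⟨d, hd⟩ := (ZMod.natCast_eq_zero_iff _ _).1 h1
          have hdv : i.val = N * d := by
            rw [mul_assoc] at hd
            exact Nat.eq_of_mul_eq_mul_left two_pos hd
          have hd2 : d < 2 := by
            by_contra hge
            have := i.val_lt
            rw [hdv] at this
            have h5 : N * 2 ≤ N * d := Nat.mul_le_mul_left N (by omega)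
            omega
          rw [← ZMod.natCast_zmod_val i, hdv]
          rcases (show d = 0 ∨ d = 1 by omega) with rfl | rfl <;> simp
        have hcw : ∀ q : QuaternionGroup N, Commute q w → q ∈ Subgroup.zpowers w := by
          intro q hq
          have hmem2 : QuaternionGroup.a (N : ZMod (2 * N)) ∈ Subgroup.zpowers w :=
            hw2 ▸ (Subgroup.zpowers w).mul_mem (Subgroup.mem_zpowers w) (Subgroup.mem_zpowers w)
          cases q with
          | a i =>
            have h := hq.eq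
            rw [hw, QuaternionGroup.a_mul_xa, QuaternionGroup.xa_mul_a,
              QuaternionGroup.xa.injEq] at h
            rcases h2i i (by linear_combination -h) with rfl | rfl
            · exact QuaternionGroup.one_def ▸ Subgroup.one_mem _
            · exact hmem2
          | xa i =>
            have h := hq.eq
            rw [hw, QuaternionGroup.xa_mul_xa, QuaternionGroup.xa_mul_xa,
              QuaternionGroup.a.injEq] at h
            rcases h2i i (by linear_combination -h) with rfl | rfl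
            · exact Subgroup.mem_zpowers w
            · have h5 : w * QuaternionGroup.a (N : ZMod (2 * N)) = QuaternionGroup.xa (N : ZMod (2 * N)) := by
                rw [hw, QuaternionGroup.xa_mul_a, zero_add]
              exact h5 ▸ (Subgroup.zpowers w).mul_mem (Subgroup.mem_zpowers w) hmem2
        have hAcard : Nat.card (Subgroup.zpowers (E.symm w)) = 2 ^ 2 := by
          rw [Nat.card_zpowers, MulEquiv.orderOf_eq, hw4]; rfl
        refine CfsgLib.Solv.nilpotencyClass_of_centralizer_sq n G hG _ hAcard (le_antisymm ?_ ?_)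
        · intro g hg
          have hgc : Commute g (E.symm w) :=
            (Subgroup.mem_centralizer_iff.1 hg _ (Subgroup.mem_zpowers _)).symm
          have h1 := hgc.map E
          rw [E.apply_symm_apply] at h1
          obtain ⟨j, hj⟩ := hcw _ h1
          refine ⟨j, ?_⟩
          show E.symm w ^ j = g
          rw [← map_zpow]
          exact (congrArg E.symm hj).trans (E.symm_apply_apply g)
        · rintro _ ⟨j, rfl⟩
          refine Subgroup.mem_centralizer_iff.2 ?_
          rintro _ ⟨i, rfl⟩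
          exact ((Commute.refl (E.symm w)).zpow_zpow i j).eq
  · intro hc H hH g hg
    obtain ⟨a, b, e, f, ha, hb, hi, hab, -, he⟩ := shape hn3 hG (card_commutator_of_class hn3 hG hc)
    set h : ℤ := 2 ^ (n - 2) with hh
    have hz : (orderOf a : ℤ) = 2 * h := by
      rw [ha, hh]; push_cast; rw [← pow_succ']; congr 1; omega
    obtain ⟨t, htH, htC⟩ : ∃ t ∈ H, t ∉ Subgroup.zpowers a := by
      by_contra hle
      push Not at hle
      exact hH (isCyclic_of_surjective (Subgroup.subgroupOfEquivOfLe (K := Subgroup.zpowers a) hle).toMonoidHom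
        (MulEquiv.surjective _))
    obtain ⟨z, hzH, hzC, hz2⟩ : ∃ z, z ∈ H ∧ z ∈ Subgroup.zpowers a ∧ orderOf z = 2 := by
      have hne : H ⊓ Subgroup.zpowers a ≠ ⊥ := by
        intro h0
        refine hH ((Subgroup.isCyclic_iff_exists_zpowers_eq_top H).2 ⟨t, le_antisymm (Subgroup.zpowers_le.2 htH) ?_⟩)
        intro y hy
        rcases not_le_of_outside hi htC y with hy' | hy'
        · have : y = 1 := Subgroup.mem_bot.1 (h0 ▸ ⟨hy, hy'⟩)
          rw [this]; exact one_mem _
        · have : y * t = 1 := Subgroup.mem_bot.1 (h0 ▸ ⟨H.mul_mem hy htH, hy'⟩)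
          rw [eq_inv_of_mul_eq_one_left this]
          exact (Subgroup.zpowers t).inv_mem (Subgroup.mem_zpowers t)
      obtain ⟨k, hk⟩ := IsPGroup.iff_card.1 (hP.to_subgroup (H ⊓ Subgroup.zpowers a))
      have h2 : 2 ∣ Nat.card (H ⊓ Subgroup.zpowers a : Subgroup G) := by
        rw [hk]
        refine dvd_pow_self 2 fun h0 => hne (Subgroup.card_eq_one.1 (by rw [hk, h0, pow_zero]))
      obtain ⟨w, hw⟩ := exists_prime_orderOf_dvd_card' 2 h2
      exact ⟨w, w.2.1, w.2.2, by rw [Subgroup.orderOf_coe, hw]⟩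
    have key : ∀ c ∈ Subgroup.zpowers a, Commute c t → c ∈ H := by
      rintro c hc' hct
      obtain ⟨i, rfl⟩ := hc'
      have hcb : Commute (a ^ i) b := by
        rcases not_le_of_outside hi hb t with ht' | ht'
        · exact absurd ht' htC
        · obtain ⟨j, hj⟩ := ht'
          have hbe : b = t⁻¹ * a ^ j := by
            rw [show a ^ j = t * b from hj]; group
          rw [hbe]
          exact hct.inv_right.mul_right ((Commute.refl a).zpow_zpow i j)
      obtain ⟨d, rfl⟩ := (shape_fixed hn3 ha hab he).1 (by rw [← hcb.eq, mul_inv_cancel_right])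
      obtain ⟨l, rfl⟩ := hzC
      have hl : h ∣ l := by
        have h1 : (a ^ l) ^ (2 : ℤ) = a ^ (0 : ℤ) := by
          rw [zpow_zero, zpow_two, ← sq]
          exact hz2 ▸ pow_orderOf_eq_one (a ^ l)
        rw [← zpow_mul] at h1
        obtain ⟨u, hu⟩ := dvd_of_zpow_eq h1
        rw [hz, sub_zero] at hu
        exact ⟨u, mul_left_cancel₀ (two_ne_zero (α := ℤ)) (by linear_combination hu)⟩
      obtain ⟨u, rfl⟩ := hl
      have hah : a ^ h ∈ H := by
        rcases Int.even_or_odd' u with ⟨r, rfl | rfl⟩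
        · exfalso
          have : a ^ (h * (2 * r)) = 1 := by
            rw [← zpow_zero a]; exact zpow_eq_of_dvd (hz ▸ ⟨r, by ring⟩)
          simp only at hz2
          rw [this, orderOf_one] at hz2
          omega
        · have : a ^ (h * (2 * r + 1)) = a ^ h := zpow_eq_of_dvd (hz ▸ ⟨r, by ring⟩)
          exact this ▸ hzH
      show a ^ (h * d) ∈ H
      rw [zpow_mul]
      exact H.zpow_mem hah d
    have hgt : Commute g t := (Subgroup.mem_centralizer_iff.1 hg t htH).symm
    rcases not_le_of_outside hi htC g with hga | hga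
    · exact key g hga hgt
    · have h1 := key _ hga (hgt.mul_left (Commute.refl t))
      rw [show g = g * t * t⁻¹ by group]
      exact H.mul_mem h1 (H.inv_mem htH)

/-- `G / Z(G)` is dihedral. -/
theorem quotient_center_dihedral {n : ℕ} (hn : 3 ≤ n) (hG : Nat.card G = 2 ^ n)
    (hc : Group.nilpotencyClass G = n - 1) :
    Nonempty (G ⧸ Subgroup.center G ≃* DihedralGroup (2 ^ (n - 2))) := by
  haveI : Fact (Nat.Prime 2) := ⟨Nat.prime_two⟩
  obtain ⟨a, b, e, f, ha, hb, hi, hab, hb2, he⟩ := shape hn hG (card_commutator_of_class hn hG hc)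
  set m : ℕ := 2 ^ (n - 2) with hm
  haveI : NeZero m := ⟨pow_ne_zero _ two_ne_zero⟩
  set h : ℤ := 2 ^ (n - 2) with hh
  have hmh : ((m : ℕ) : ℤ) = h := by rw [hm, hh]; push_cast; rfl
  have hz : (orderOf a : ℤ) = 2 * h := by
    rw [ha, hh]; push_cast; rw [← pow_succ']; congr 1; omega
  have hh2 : ∀ i : ℤ, h ∣ i → a ^ i ∈ Subgroup.center G := by
    intro i hi'
    rw [Subgroup.mem_center_iff]
    intro g
    have hcb : Commute b (a ^ i) := mul_inv_eq_iff_eq_mul.1 ((shape_fixed hn ha hab he).2 hi')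
    rcases not_le_of_outside hi hb g with ⟨j, rfl⟩ | hga
    · exact ((Commute.refl a).zpow_zpow j i).eq
    · obtain ⟨j, hj⟩ := hga
      rw [show g = a ^ j * b⁻¹ from eq_mul_inv_of_mul_eq hj.symm]
      exact (((Commute.refl a).zpow_zpow j i).mul_left hcb.inv_left).eq
  set π := QuotientGroup.mk' (Subgroup.center G) with hπ
  set A := π a with hA
  set B := π b with hB
  have hper : ∀ i j : ℤ, h ∣ i - j → A ^ i = A ^ j := by
    intro i j hd
    rw [hA, ← map_zpow, ← map_zpow, hπ, QuotientGroup.mk'_apply, QuotientGroup.mk'_apply,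
      QuotientGroup.eq, ← zpow_neg, ← zpow_add]
    refine hh2 _ ?_
    obtain ⟨u, hu⟩ := hd
    exact ⟨-u, by linear_combination -hu⟩
  have hBB : B * B = 1 := by
    rw [hB, ← map_mul, ← sq, hb2, hπ, QuotientGroup.mk'_apply, QuotientGroup.eq_one_iff]
    exact hh2 _ (dvd_mul_left h f)
  have hAB : ∀ i : ℤ, A ^ i * B = B * A ^ (-i) := by
    intro i
    have h1 : B * A * B⁻¹ = A⁻¹ := by
      rw [hA, hB, ← map_inv, ← map_mul, ← map_mul, hab, map_zpow, ← zpow_neg_one (π a)]
      exact hper _ _ ⟨e, by ring⟩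
    have h2 : B * A ^ (-i) * B⁻¹ = A ^ i := by
      rw [← conj_zpow, h1, inv_zpow', neg_neg]
    rw [← h2, inv_mul_cancel_right]
  have hperv : ∀ (x : ZMod m) (i : ℤ), (x = (i : ZMod m)) → A ^ (x.val : ℤ) = A ^ i := by
    intro x i hx
    refine hper _ _ (hmh ▸ (ZMod.intCast_zmod_eq_zero_iff_dvd _ _).1 ?_)
    push_cast
    rw [ZMod.natCast_zmod_val, hx, sub_self]
  let φ : DihedralGroup m →* G ⧸ Subgroup.center G := MonoidHom.mk'
    (fun x => match x with
      | DihedralGroup.r i => A ^ (i.val : ℤ)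
      | DihedralGroup.sr i => B * A ^ (i.val : ℤ))
    (by
      rintro (i | i) (j | j)
      · show A ^ ((i + j).val : ℤ) = A ^ (i.val : ℤ) * A ^ (j.val : ℤ)
        rw [← zpow_add]
        exact hperv _ _ (by push_cast; simp [ZMod.natCast_zmod_val])
      · show B * A ^ ((j - i).val : ℤ) = A ^ (i.val : ℤ) * (B * A ^ (j.val : ℤ))
        rw [← mul_assoc, hAB, mul_assoc, ← zpow_add]
        congr 1
        exact hperv _ _ (by push_cast; simp [ZMod.natCast_zmod_val]; ring)
      · show B * A ^ ((i + j).val : ℤ) = B * A ^ (i.val : ℤ) * A ^ (j.val : ℤ)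
        rw [mul_assoc, ← zpow_add]
        congr 1
        exact hperv _ _ (by push_cast; simp [ZMod.natCast_zmod_val])
      · show A ^ ((j - i).val : ℤ) = B * A ^ (i.val : ℤ) * (B * A ^ (j.val : ℤ))
        rw [mul_assoc, ← mul_assoc (A ^ (i.val : ℤ)) B, hAB, ← mul_assoc, ← mul_assoc, hBB, one_mul,
          ← zpow_add]
        exact hperv _ _ (by push_cast; simp [ZMod.natCast_zmod_val]; ring))
  have hsurj : Function.Surjective φ := by
    intro q
    obtain ⟨g, rfl⟩ := QuotientGroup.mk'_surjective (Subgroup.center G) q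
    have hval : ∀ j : ℤ, A ^ (((j : ZMod m)).val : ℤ) = A ^ j := fun j => hperv _ _ rfl
    rcases not_le_of_outside hi hb g with ⟨j, rfl⟩ | ⟨j, hj⟩
    · exact ⟨DihedralGroup.r (j : ZMod m), (hval j).trans (map_zpow π a j).symm⟩
    · refine ⟨DihedralGroup.sr ((-j : ℤ) : ZMod m), ?_⟩
      show B * A ^ ((((-j : ℤ) : ZMod m)).val : ℤ) = π g
      have hBi : B⁻¹ = B := inv_eq_of_mul_eq_one_right hBB
      rw [hval, ← hAB, show g = a ^ j * b⁻¹ from eq_mul_inv_of_mul_eq hj.symm, map_mul, map_zpow,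
        map_inv, ← hA, ← hB, hBi]
  have hcardQ : 2 * m ≤ Nat.card (G ⧸ Subgroup.center G) := by
    have hZ : Subgroup.center G ≤ Subgroup.zpowers (a ^ h) := by
      intro c hc'
      have key : ∀ j : ℤ, Commute (a ^ j) b → a ^ j ∈ Subgroup.zpowers (a ^ h) := by
        intro j hj
        obtain ⟨d, rfl⟩ := (shape_fixed hn ha hab he).1 (by rw [← hj.eq, mul_inv_cancel_right])
        exact ⟨d, (zpow_mul a h d).symm⟩
      rcases not_le_of_outside hi hb c with ⟨j, rfl⟩ | ⟨j, hj⟩
      · exact key j (Subgroup.mem_center_iff.1 hc' b).symm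
      · exfalso
        -- otherwise `b` centralises `a`
        have hba : Commute b a := by
          have h1 : b = c⁻¹ * a ^ j := eq_inv_mul_of_mul_eq hj.symm
          rw [h1]
          exact (Commute.inv_left (show Commute c a from (Subgroup.mem_center_iff.1 hc' a).symm)).mul_left
            ((Commute.refl a).zpow_left j)
        have h2 := (shape_fixed hn ha hab he (i := 1)).1 (by rw [zpow_one, hba.eq, mul_inv_cancel_right])
        have h3 := Int.le_of_dvd one_pos h2
        have h4 : (2 : ℤ) ≤ 2 ^ (n - 2) := by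
          calc (2 : ℤ) = 2 ^ 1 := by norm_num
            _ ≤ 2 ^ (n - 2) := pow_le_pow_right₀ (by norm_num) (by omega)
        omega
    have hle := Subgroup.card_le_of_le hZ
    have hoh : orderOf (a ^ h) ∣ 2 := by
      refine orderOf_dvd_of_pow_eq_one ?_
      rw [← zpow_natCast, ← zpow_mul, ← zpow_zero a]
      exact zpow_eq_of_dvd (hz ▸ ⟨1, by push_cast; ring⟩)
    rw [Nat.card_zpowers] at hle
    have h2le := hle.trans (Nat.le_of_dvd two_pos hoh)
    have hcard := Subgroup.card_eq_card_quotient_mul_card_subgroup (Subgroup.center G)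
    have h2n : 2 ^ n = 2 * m * 2 := by rw [hm, ← pow_succ', ← pow_succ]; congr 1; omega
    rw [hG, h2n] at hcard
    by_contra hlt
    have := Nat.mul_le_mul (Nat.le_of_lt_succ (Nat.lt_succ_of_lt (not_le.1 hlt))) h2le
    have h5 : Nat.card (G ⧸ Subgroup.center G) * Nat.card (Subgroup.center G) < 2 * m * 2 := by
      calc Nat.card (G ⧸ Subgroup.center G) * Nat.card (Subgroup.center G)
          ≤ Nat.card (G ⧸ Subgroup.center G) * 2 := Nat.mul_le_mul_left _ h2le
        _ < 2 * m * 2 := Nat.mul_lt_mul_of_pos_right (not_le.1 hlt) two_pos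
    omega
  refine ⟨(MulEquiv.ofBijective φ ((Nat.bijective_iff_surjective_and_card φ).2 ⟨hsurj, ?_⟩)).symm⟩
  refine le_antisymm ?_ (Nat.card_le_card_of_surjective φ hsurj)
  rw [DihedralGroup.nat_card]
  exact hcardQ

end maximal

end CfsgLib.Solv.MaxClass
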