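import Cfsg.Agent.Solv.Hall
import Cfsg.Agent.Solv.MinimalNormal
import Cfsg.Agent.Perm.MinClass
import Cfsg.Prelude.Def_SolvableStructure

/-!
Hall complement systems and system normalizers of finite solvable groups.
-/

set_option autoImplicit false
set_option linter.style.haveILetI false
set_option linter.deprecated false
set_option linter.unusedSectionVars false

open scoped Pointwise commutatorElement

namespace CfsgLib.Solv

variable {G : Type*} [Group G]

theorem index_inf_of_coprime_index [Finite G] {A B : Subgroup G} (h : A.index.Coprime B.index) :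
    (A ⊓ B).index = A.index * B.index :=
  le_antisymm Subgroup.index_inf_le (Nat.le_of_dvd (Nat.pos_of_ne_zero Subgroup.index_ne_zero_of_finite)
    (h.mul_dvd_of_dvd_of_dvd (Subgroup.index_dvd_of_le inf_le_left)
      (Subgroup.index_dvd_of_le inf_le_right)))

theorem exists_factor_of_coprime_index [Finite G] {A B : Subgroup G} (h : A.index.Coprime B.index)
    (g : G) : ∃ a ∈ A, ∃ b ∈ B, g = a * b := by
  let f : A ⧸ (B.subgroupOf A) → G ⧸ B := Quotient.map' (fun a : A => (a : G)) fun a b hab => by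
    rw [QuotientGroup.leftRel_apply] at hab ⊢
    simpa [Subgroup.mem_subgroupOf] using hab
  have hinj : Function.Injective f := by
    intro x y
    induction x using QuotientGroup.induction_on with
    | H a =>
      induction y using QuotientGroup.induction_on with
      | H b =>
        intro hab
        have hab' : ((a : G) : G ⧸ B) = ((b : G) : G ⧸ B) := hab
        rw [QuotientGroup.eq] at hab' ⊢
        simpa [Subgroup.mem_subgroupOf] using hab'
  have hcard : Nat.card (A ⧸ (B.subgroupOf A)) = Nat.card (G ⧸ B) := by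
    have h1 := Subgroup.relIndex_mul_index (inf_le_left : A ⊓ B ≤ A)
    rw [index_inf_of_coprime_index h, Subgroup.inf_relIndex_left, mul_comm A.index] at h1
    exact Nat.eq_of_mul_eq_mul_right (Nat.pos_of_ne_zero Subgroup.index_ne_zero_of_finite) h1
  obtain ⟨x, hx⟩ := ((Nat.bijective_iff_injective_and_card f).2 ⟨hinj, hcard⟩).2 (g : G ⧸ B)
  induction x using QuotientGroup.induction_on with
  | H a =>
    have hx' : ((a : G) : G ⧸ B) = (g : G ⧸ B) := hx
    rw [QuotientGroup.eq] at hx'
    exact ⟨a, a.2, _, hx', by group⟩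

theorem exists_mul_of_coprime_relIndex [Finite G] {A B N : Subgroup G}
    (h : (A.relIndex N).Coprime (B.relIndex N)) {g : G} (hg : g ∈ N) :
    ∃ a ∈ A ⊓ N, ∃ b ∈ B ⊓ N, g = a * b := by
  obtain ⟨a, ha, b, hb, e⟩ := exists_factor_of_coprime_index
    (A := A.subgroupOf N) (B := B.subgroupOf N) h ⟨g, hg⟩
  exact ⟨a, Subgroup.mem_inf.2 ⟨ha, a.2⟩, b, Subgroup.mem_inf.2 ⟨hb, b.2⟩, congrArg Subtype.val e⟩

theorem relIndex_dvd_index_of_normal_right [Finite G] (K N : Subgroup G) [N.Normal] :
    K.relIndex N ∣ K.index := by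
  refine (dvd_of_eq ?_).trans (Subgroup.relIndex_dvd_index_of_le (le_sup_left : K ≤ K ⊔ N))
  have hc := card_sup_mul_card_inf K N
  rw [← relIndex_mul_card (le_sup_left : K ≤ K ⊔ N)] at hc
  have h4 := relIndex_mul_card (inf_le_right : K ⊓ N ≤ N)
  rw [Subgroup.inf_relIndex_right] at h4
  refine Nat.eq_of_mul_eq_mul_left (Nat.card_pos (α := K)) ?_
  refine Nat.eq_of_mul_eq_mul_right (Nat.card_pos (α := (K ⊓ N : Subgroup G))) ?_
  rw [hc, ← h4]; ring

theorem index_eq_pow_factorization [Finite G] {p k : ℕ} (hp : p.Prime) {K : Subgroup G}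
    (hi : K.index ∣ p ^ k) (hc : ¬ p ∣ Nat.card K) :
    K.index = p ^ (Nat.card G).factorization p := by
  obtain ⟨j, -, hj⟩ := (Nat.dvd_prime_pow hp).1 hi
  rw [← Subgroup.card_mul_index K, hj,
    Nat.factorization_mul Nat.card_pos.ne' (pow_ne_zero _ hp.ne_zero), Finsupp.add_apply,
    Nat.factorization_eq_zero_of_not_dvd hc, hp.factorization_pow, Finsupp.single_eq_same, zero_add]

section System

variable {K : Nat.Primes → Subgroup G}

theorem system_not_dvd_card [Finite G] (hK : Cfsg.IsComplementSystem K) (p : Nat.Primes) :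
    ¬ (p : ℕ) ∣ Nat.card (K p) := by
  intro h
  have h1 := congrArg (fun n => n.factorization p) (Subgroup.card_mul_index (K p))
  rw [Nat.factorization_mul Nat.card_pos.ne' Subgroup.index_ne_zero_of_finite, Finsupp.add_apply,
    hK p, p.2.factorization_pow, Finsupp.single_eq_same] at h1
  have := Nat.Prime.factorization_pos_of_dvd p.2 Nat.card_pos.ne' h
  omega

theorem system_piNat [Finite G] (hK : Cfsg.IsComplementSystem K) (p : Nat.Primes) :
    PiNat {(p : ℕ)}ᶜ (Nat.card (K p)) ∧ PiNat {(p : ℕ)}ᶜᶜ (K p).index := by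
  refine ⟨fun q _ hd e => system_not_dvd_card hK p ?_, ?_⟩
  · rwa [← Set.mem_singleton_iff.1 e]
  · rw [compl_compl, hK p]
    exact piNat_of_pow p.2 rfl

theorem exists_complementSystem [Finite G] [Group.IsSolvable G] :
    ∃ K : Nat.Primes → Subgroup G, Cfsg.IsComplementSystem K := by
  have h : ∀ p : Nat.Primes, ∃ H : Subgroup G, H.index = (p : ℕ) ^ (Nat.card G).factorization p := by
    intro p
    obtain ⟨H, h1, h2⟩ := exists_hall (PiSolvable.of_isSolvable (G := G) ({(p : ℕ)}ᶜ))
    refine ⟨H, index_eq_pow_factorization p.2 (k := H.index.primeFactorsList.length)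
      (dvd_of_eq (Nat.eq_prime_pow_of_unique_prime_dvd Subgroup.index_ne_zero_of_finite ?_))
      fun hd => h1 p p.2 hd rfl⟩
    intro q hq hd
    have := h2 q hq hd
    simpa using this
  exact ⟨fun p => (h p).choose, fun p => (h p).choose_spec⟩

/-- The intersection of the members of a system over a set of primes. -/
def sysInf (K : Nat.Primes → Subgroup G) (π : Set Nat.Primes) : Subgroup G := ⨅ r ∈ π, K r

theorem sysInf_le {π : Set Nat.Primes} {r : Nat.Primes} (hr : r ∈ π) : sysInf K π ≤ K r :=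
  iInf₂_le r hr

theorem index_sysInf_finset [Finite G] (hK : Cfsg.IsComplementSystem K) (S : Finset Nat.Primes) :
    ∀ q : Nat.Primes, (q : ℕ) ∣ (sysInf K (S : Set Nat.Primes)).index → q ∈ S := by
  classical
  induction S using Finset.induction with
  | empty =>
    intro q hq
    simp [sysInf] at hq
    exact absurd hq q.2.ne_one
  | @insert a S ha ih =>
    have e : sysInf K ((insert a S : Finset Nat.Primes) : Set Nat.Primes) = K a ⊓ sysInf K S := by
      simp [sysInf, iInf_or, iInf_inf_eq]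
    have hco : (K a).index.Coprime (sysInf K (S : Set Nat.Primes)).index := by
      rw [hK a]
      exact (a.2.coprime_iff_not_dvd.2 fun h => ha (ih a h)).pow_left _
    intro q hq
    rw [e, index_inf_of_coprime_index hco, Nat.Prime.dvd_mul q.2] at hq
    rw [Finset.mem_insert]
    refine hq.imp (fun h => ?_) (ih q)
    rw [hK a] at h
    exact Subtype.ext ((Nat.prime_dvd_prime_iff_eq q.2 a.2).1 (q.2.dvd_of_dvd_pow h))

/-- The finite set of prime divisors of the group order. -/
noncomputable def primesOf (G : Type*) [Group G] : Finset Nat.Primes :=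
  (Nat.card G).primeFactors.subtype Nat.Prime

theorem system_eq_top [Finite G] (hK : Cfsg.IsComplementSystem K) {r : Nat.Primes}
    (hr : r ∉ primesOf G) : K r = ⊤ := by
  refine Subgroup.index_eq_one.1 ?_
  rw [hK r, Nat.factorization_eq_zero_of_not_dvd (fun h => hr ?_), pow_zero]
  exact Finset.mem_subtype.2 (Nat.mem_primeFactors.2 ⟨r.2, h, Nat.card_pos.ne'⟩)

theorem index_sysInf [Finite G] (hK : Cfsg.IsComplementSystem K) (π : Set Nat.Primes)
    {q : Nat.Primes} (hq : (q : ℕ) ∣ (sysInf K π).index) : q ∈ π := by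
  classical
  have e : sysInf K π = sysInf K ((primesOf G).filter (· ∈ π) : Finset Nat.Primes) := by
    refine le_antisymm (le_iInf₂ fun r hr => sysInf_le ?_) (le_iInf₂ fun r hr => ?_)
    · exact (Finset.mem_filter.1 (Finset.mem_coe.1 hr)).2
    · by_cases hr' : r ∈ primesOf G
      · exact sysInf_le (Finset.mem_coe.2 (Finset.mem_filter.2 ⟨hr', hr⟩))
      · rw [system_eq_top hK hr']; exact le_top
  rw [e] at hq
  exact (Finset.mem_filter.1 (index_sysInf_finset hK _ q hq)).2

theorem card_sysInf [Finite G] (hK : Cfsg.IsComplementSystem K) (π : Set Nat.Primes)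
    {q : Nat.Primes} (hq : (q : ℕ) ∣ Nat.card (sysInf K π)) : q ∉ π := fun h =>
  system_not_dvd_card hK q (hq.trans (Subgroup.card_dvd_of_le (sysInf_le h)))

theorem system_conj [Finite G] (hK : Cfsg.IsComplementSystem K) (g : G) :
    Cfsg.IsComplementSystem fun p => MulAut.conj g • K p := fun p => by
  show (MulAut.conj g • K p).index = _
  rw [index_conj_smul]; exact hK p

/-- Two systems which are member-wise conjugate by elements of a normal subgroup are conjugate by
an element of it. -/
theorem exists_conj_system [Finite G] (hK : Cfsg.IsComplementSystem K)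
    {L : Nat.Primes → Subgroup G} (hL : Cfsg.IsComplementSystem L) (N : Subgroup G) [N.Normal]
    (h : ∀ p, ∃ n ∈ N, MulAut.conj n • K p = L p) :
    ∃ n ∈ N, ∀ p, MulAut.conj n • K p = L p := by
  classical
  suffices key : ∀ S : Finset Nat.Primes, ∃ n ∈ N, ∀ p ∈ S, MulAut.conj n • K p = L p by
    obtain ⟨n, hn, hS⟩ := key (primesOf G)
    refine ⟨n, hn, fun p => ?_⟩
    by_cases hp : p ∈ primesOf G
    · exact hS p hp
    · obtain ⟨m, -, hm⟩ := h p
      rw [← hm, system_eq_top hK hp]
      have : ∀ x : G, MulAut.conj x • (⊤ : Subgroup G) = ⊤ := fun x =>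
        Subgroup.eq_top_of_card_eq _ (by rw [card_conj_smul, Subgroup.card_top])
      rw [this, this]
  intro S
  induction S using Finset.induction with
  | empty => exact ⟨1, one_mem N, by simp⟩
  | @insert a S ha ih =>
    obtain ⟨n0, hn0, hS⟩ := ih
    obtain ⟨m, hm, hma⟩ := h a
    have hK' := system_conj hK n0
    set D := sysInf (fun p => MulAut.conj n0 • K p) (S : Set Nat.Primes)
    have hco : (D.relIndex N).Coprime ((MulAut.conj n0 • K a).relIndex N) := by
      refine (Nat.Coprime.coprime_dvd_left (relIndex_dvd_index_of_normal_right _ N) ?_).coprime_dvd_right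
        (relIndex_dvd_index_of_normal_right _ N)
      have h5 : (MulAut.conj n0 • K a).index = _ := hK' a
      rw [h5]
      exact ((a.2.coprime_iff_not_dvd.2 fun hd => ha (index_sysInf_finset hK' S a hd)).pow_left _).symm
    obtain ⟨d, hd, k, hk, e⟩ := exists_mul_of_coprime_relIndex hco (mul_mem hm (inv_mem hn0))
    obtain ⟨hdD, hdN⟩ := Subgroup.mem_inf.1 hd
    obtain ⟨hkK, -⟩ := Subgroup.mem_inf.1 hk
    refine ⟨d * n0, mul_mem hdN hn0, fun p hp => ?_⟩
    rw [map_mul, mul_smul]
    rcases Finset.mem_insert.1 hp with rfl | hp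
    · rw [← hma, show m = d * k * n0 by rw [← e, inv_mul_cancel_right], map_mul, map_mul, mul_smul,
        mul_smul, conj_smul_eq_self_of_mem_normalizer (g := k) (Subgroup.le_normalizer hkK)]
    · rw [hS p hp]
      refine conj_smul_eq_self_of_mem_normalizer (Subgroup.le_normalizer ?_)
      rw [← hS p hp]
      exact sysInf_le (K := fun p => MulAut.conj n0 • K p) (Finset.mem_coe.2 hp) hdD

theorem system_conjugate [Finite G] [Group.IsSolvable G] (hK : Cfsg.IsComplementSystem K)
    {L : Nat.Primes → Subgroup G} (hL : Cfsg.IsComplementSystem L) :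
    ∃ g : G, ∀ p, MulAut.conj g • K p = L p := by
  obtain ⟨g, -, hg⟩ := exists_conj_system hK hL ⊤ fun p => by
    obtain ⟨g, hg⟩ := hall_conj (PiSolvable.of_isSolvable (G := G) ({(p : ℕ)}ᶜ)) (system_piNat hK p).1
      (system_piNat hK p).2 (system_piNat hL p).1 (system_piNat hL p).2
    exact ⟨g, Subgroup.mem_top g, hg⟩
  exact ⟨g, hg⟩

theorem mem_systemNormalizer {x : G} :
    x ∈ Cfsg.systemNormalizer K ↔ ∀ p, x ∈ Subgroup.normalizer (K p : Set G) :=
  Subgroup.mem_iInf

theorem mem_of_normalizer_of_pow [Finite G] {H : Subgroup G} {x : G} {p r k j : ℕ} (hp : p.Prime)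
    (hr : r.Prime) (hne : p ≠ r) (hi : H.index = r ^ j) (hx : x ∈ Subgroup.normalizer (H : Set G))
    (hxp : x ^ p ^ k = 1) : x ∈ H := by
  set L := Subgroup.normalizer (H : Set G)
  haveI : (H.subgroupOf L).Normal := Subgroup.normal_in_normalizer
  have h1 : ((⟨x, hx⟩ : L) : L ⧸ H.subgroupOf L) = 1 := by
    rw [← orderOf_eq_one_iff]
    refine Nat.eq_one_of_dvd_coprimes (((Nat.coprime_primes hp hr).2 hne).pow k j) ?_ ?_
    · refine orderOf_dvd_of_pow_eq_one ?_
      rw [← QuotientGroup.mk_pow]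
      exact (QuotientGroup.eq_one_iff _).2 (by
        rw [Subgroup.mem_subgroupOf, SubmonoidClass.coe_pow, hxp]; exact one_mem H)
    · rw [← hi]
      exact (orderOf_dvd_natCard _).trans (Subgroup.relIndex_dvd_index_of_le Subgroup.le_normalizer)
  exact (QuotientGroup.eq_one_iff (⟨x, hx⟩ : L)).1 h1

theorem systemNormalizer_isNilpotent [Finite G] (hK : Cfsg.IsComplementSystem K) :
    Group.IsNilpotent (Cfsg.systemNormalizer K) := by
  set D := Cfsg.systemNormalizer K with hD
  refine ((Group.isNilpotent_of_finite_tfae (G := D)).out 0 3).2 ?_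
  intro p hp Q
  set R := (sysInf K {⟨p, hp.out⟩}ᶜ).subgroupOf D with hR
  have hRn : R.Normal := by
    refine ⟨fun x hx g => ?_⟩
    rw [hR, Subgroup.mem_subgroupOf, sysInf, Subgroup.mem_iInf] at hx ⊢
    intro r
    rw [Subgroup.mem_iInf]
    intro hr
    exact le_normalizer_iff_forall_conj_mem.1 le_rfl _ (mem_systemNormalizer.1 g.2 r) _
      (Subgroup.mem_iInf.1 (hx r) hr)
  have hRp : IsPGroup p R := by
    rw [IsPGroup.iff_card]
    refine ⟨(Nat.card R).primeFactorsList.length, Nat.eq_prime_pow_of_unique_prime_dvd Nat.card_pos.ne' ?_⟩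
    intro q hq hd
    by_contra hne
    refine card_sysInf hK {⟨p, hp.out⟩}ᶜ (q := ⟨q, hq⟩) (hd.trans ?_) (fun e => hne (Subtype.ext_iff.1 e))
    exact Subgroup.card_comap_dvd_of_injective _ _ (Subgroup.subtype_injective D)
  have hQR : (Q : Subgroup D) ≤ R := by
    intro x hx
    rw [hR, Subgroup.mem_subgroupOf, sysInf, Subgroup.mem_iInf]
    intro r
    rw [Subgroup.mem_iInf]
    intro hr
    obtain ⟨k, hk⟩ := Q.2 ⟨x, hx⟩
    have hxk : (x : G) ^ p ^ k = 1 := by
      simpa using congrArg (fun y : (Q : Subgroup D) => ((y : D) : G)) hk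
    exact mem_of_normalizer_of_pow hp.out r.2 (fun e => hr (Subtype.ext e.symm)) (hK r)
      (mem_systemNormalizer.1 x.2 r) hxk
  rw [← Q.is_maximal' hRp hQR]
  exact hRn

theorem exists_sylow_system [Finite G] [Group.IsSolvable G] :
    ∃ S : (p : Nat.Primes) → Sylow (p : ℕ) G,
      ∀ p q : Nat.Primes, (S p : Set G) * (S q : Set G) = (S q : Set G) * (S p : Set G) := by
  obtain ⟨K, hK⟩ := exists_complementSystem (G := G)
  have hs : ∀ p : Nat.Primes, ∃ P : Sylow (p : ℕ) G, (P : Subgroup G) = sysInf K {p}ᶜ := by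
    intro p
    haveI : Fact (p : ℕ).Prime := ⟨p.2⟩
    have h1 : IsPGroup (p : ℕ) (sysInf K {p}ᶜ) := by
      rw [IsPGroup.iff_card]
      refine ⟨_, Nat.eq_prime_pow_of_unique_prime_dvd Nat.card_pos.ne' ?_⟩
      intro q hq hd
      by_contra hne
      exact card_sysInf hK {p}ᶜ (q := ⟨q, hq⟩) hd (fun e => hne (Subtype.ext_iff.1 e))
    exact ⟨h1.toSylow fun hd => (index_sysInf hK {p}ᶜ hd) rfl, rfl⟩
  choose S hS using hs
  refine ⟨S, fun p q => ?_⟩
  rcases eq_or_ne p q with rfl | hpq
  · rfl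
  haveI : Fact (p : ℕ).Prime := ⟨p.2⟩
  haveI : Fact (q : ℕ).Prime := ⟨q.2⟩
  set X := sysInf K ({p, q}ᶜ : Set Nat.Primes)
  have hle : ∀ r ∈ ({p, q} : Set Nat.Primes), sysInf K {r}ᶜ ≤ X := fun r hr =>
    le_iInf₂ fun s hs => sysInf_le fun e => hs (by rw [Set.mem_singleton_iff.1 e]; exact hr)
  have hco : ∀ r s : Nat.Primes, r ≠ s → r ∈ ({p, q} : Set Nat.Primes) →
      ∀ t : Nat.Primes, (t : ℕ) ∣ (sysInf K {r}ᶜ).relIndex X → t ≠ r ∧ t ∈ ({p, q} : Set Nat.Primes) := by
    intro r s _ hr t ht
    refine ⟨fun e => index_sysInf hK {r}ᶜ (ht.trans (Subgroup.relIndex_dvd_index_of_le (hle r hr))) e, ?_⟩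
    by_contra hn
    exact card_sysInf hK _ (ht.trans (Subgroup.relIndex_dvd_card _ _)) hn
  have hcop : ((sysInf K {p}ᶜ).relIndex X).Coprime ((sysInf K {q}ᶜ).relIndex X) := by
    refine Nat.coprime_of_dvd fun t ht h1 h2 => ?_
    obtain ⟨h3, h4⟩ := hco p q hpq (Or.inl rfl) ⟨t, ht⟩ h1
    obtain ⟨h5, -⟩ := hco q p hpq.symm (Or.inr rfl) ⟨t, ht⟩ h2
    rcases h4 with h4 | h4
    · exact h3 h4
    · exact h5 h4
  have hX : ∀ a b : Subgroup G, (a.relIndex X).Coprime (b.relIndex X) → a ≤ X → b ≤ X →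
      (a : Set G) * (b : Set G) = (X : Set G) := fun a b hab ha hb => by
    refine Set.Subset.antisymm ?_ fun x hx => ?_
    · rintro _ ⟨u, hu, v, hv, rfl⟩
      exact mul_mem (ha hu) (hb hv)
    · obtain ⟨u, hu, v, hv, e⟩ := exists_mul_of_coprime_relIndex hab hx
      exact ⟨u, (Subgroup.mem_inf.1 hu).1, v, (Subgroup.mem_inf.1 hv).1, e.symm⟩
  show ((S p : Subgroup G) : Set G) * ((S q : Subgroup G) : Set G) =
    ((S q : Subgroup G) : Set G) * ((S p : Subgroup G) : Set G)
  rw [hS p, hS q, hX _ _ hcop (hle p (Or.inl rfl)) (hle q (Or.inr rfl)),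
    hX _ _ hcop.symm (hle q (Or.inr rfl)) (hle p (Or.inl rfl))]

/-! ### Quotients -/

theorem system_map [Finite G] (hK : Cfsg.IsComplementSystem K) (N : Subgroup G) [N.Normal] :
    Cfsg.IsComplementSystem fun p => (K p).map (QuotientGroup.mk' N) := by
  intro p
  refine index_eq_pow_factorization p.2 (k := (Nat.card G).factorization p) ?_ fun hd =>
    system_not_dvd_card hK p (hd.trans (Subgroup.card_map_dvd _ _))
  show ((K p).map (QuotientGroup.mk' N)).index ∣ _
  rw [Subgroup.index_map, MonoidHom.range_eq_top.2 (QuotientGroup.mk'_surjective N),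
    Subgroup.index_top, mul_one, ← hK p]
  exact Subgroup.index_dvd_of_le le_sup_left

theorem systemNormalizer_map [Finite G] [Group.IsSolvable G] (hK : Cfsg.IsComplementSystem K)
    (N : Subgroup G) [N.Normal] :
    Cfsg.systemNormalizer (fun p => (K p).map (QuotientGroup.mk' N)) =
      (Cfsg.systemNormalizer K).map (QuotientGroup.mk' N) := by
  set f := QuotientGroup.mk' N
  refine le_antisymm ?_ ?_
  · intro y hy
    obtain ⟨x, rfl⟩ := QuotientGroup.mk'_surjective N y
    have hL := system_conj hK x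
    obtain ⟨n, hn, hnp⟩ := exists_conj_system hK hL N fun p => by
      set M := K p ⊔ N with hM
      have hKM : K p ≤ M := le_sup_left
      have hxM : MulAut.conj x • K p ≤ M := by
        intro z hz
        rw [mem_conj_smul_iff] at hz
        have h1 : (K p).map f = ((K p).map f).map (MulAut.conj (f x)).toMonoidHom := by
          rw [← conj_smul_eq_map]
          exact (conj_smul_eq_self_of_mem_normalizer (mem_systemNormalizer.1 hy p)).symm
        have h2 : f z ∈ (K p).map f := by
          rw [h1]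
          refine ⟨f (x⁻¹ * z * x), Subgroup.mem_map_of_mem f hz, ?_⟩
          show f x * f (x⁻¹ * z * x) * (f x)⁻¹ = f z
          simp only [map_mul, map_inv]; group
        have : z ∈ ((K p).map f).comap f := h2
        rwa [Subgroup.comap_map_eq, QuotientGroup.ker_mk'] at this
      have hs : PiSolvable ({(p : ℕ)}ᶜ) M := PiSolvable.of_isSolvable _
      have hpi : ∀ X : Subgroup G, X ≤ M → PiNat {(p : ℕ)}ᶜ (Nat.card X) → PiNat {(p : ℕ)}ᶜᶜ X.index →
          PiNat {(p : ℕ)}ᶜ (Nat.card (X.subgroupOf M)) ∧ PiNat {(p : ℕ)}ᶜᶜ (X.subgroupOf M).index :=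
        fun X hX h1 h2 => ⟨by rwa [card_subgroupOf hX], h2.of_dvd (Subgroup.relIndex_dvd_index_of_le hX)⟩
      obtain ⟨h1, h2⟩ := hpi _ hKM (system_piNat hK p).1 (system_piNat hK p).2
      obtain ⟨h3, h4⟩ := hpi _ hxM (system_piNat hL p).1 (system_piNat hL p).2
      obtain ⟨m, hm⟩ := hall_conj hs h1 h2 h3 h4
      obtain ⟨n, hn, k, hk, e⟩ := Subgroup.mem_sup_of_normal_left.1
        (show (m : G) ∈ N ⊔ K p by rw [sup_comm]; exact m.2)
      refine ⟨n, hn, ?_⟩
      have h5 := congrArg (Subgroup.map M.subtype) hm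
      rw [conj_smul_eq_map, Subgroup.map_map, Subgroup.map_subgroupOf_eq_of_le hxM] at h5
      have h6 : (M.subtype.comp (MulAut.conj m).toMonoidHom) = (MulAut.conj (m : G)).toMonoidHom.comp M.subtype := rfl
      rw [h6, ← Subgroup.map_map, Subgroup.map_subgroupOf_eq_of_le hKM, ← conj_smul_eq_map] at h5
      rw [← h5, ← e, map_mul, mul_smul,
        conj_smul_eq_self_of_mem_normalizer (g := k) (Subgroup.le_normalizer hk)]
    refine ⟨n⁻¹ * x, mem_systemNormalizer.2 fun p => mem_normalizer_of_conj_smul_eq ?_, ?_⟩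
    · rw [map_mul, mul_smul, ← hnp p, ← mul_smul, ← map_mul, inv_mul_cancel, map_one, one_smul]
    · show f (n⁻¹ * x) = f x
      rw [map_mul, map_inv, show f n = 1 from (QuotientGroup.eq_one_iff n).2 hn, inv_one, one_mul]
  · rintro _ ⟨x, hx, rfl⟩
    refine mem_systemNormalizer.2 fun p => Subgroup.le_normalizer_map f ?_
    exact Subgroup.mem_map_of_mem f (mem_systemNormalizer.1 hx p)

theorem systemNormalizer_eq_top_of_comm [IsMulCommutative G] : Cfsg.systemNormalizer K = ⊤ := by
  refine eq_top_iff.2 fun x _ => mem_systemNormalizer.2 fun p => ?_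
  rw [Subgroup.normalizer_eq_top_iff.2 (Subgroup.normal_of_comm (K p))]
  exact Subgroup.mem_top x

theorem normalClosure_systemNormalizer [Finite G] [Group.IsSolvable G]
    (hK : Cfsg.IsComplementSystem K) :
    Subgroup.normalClosure ((Cfsg.systemNormalizer K : Subgroup G) : Set G) = ⊤ := by
  set M := Subgroup.normalClosure ((Cfsg.systemNormalizer K : Subgroup G) : Set G)
  by_contra hM
  haveI : Nontrivial (G ⧸ M) := QuotientGroup.nontrivial_iff.2 hM
  haveI : Group.IsSolvable (G ⧸ M) :=
    Group.isSolvable_of_surjective (QuotientGroup.mk'_surjective M)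
  set M' := (commutator (G ⧸ M)).comap (QuotientGroup.mk' M) with hM'
  have hlt : M' ≠ ⊤ := fun e => (Group.IsSolvable.commutator_lt_top_of_nontrivial (G ⧸ M)).ne (by
    rw [← Subgroup.map_comap_eq_self_of_surjective (QuotientGroup.mk'_surjective M) (commutator _),
      ← hM', e, Subgroup.map_top_of_surjective _ (QuotientGroup.mk'_surjective M)])
  have hcomm : commutator G ≤ M' := by
    rw [hM', ← Subgroup.map_le_iff_le_comap, commutator_def, Subgroup.map_commutator]
    exact Subgroup.commutator_mono le_top le_top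
  haveI : IsMulCommutative (G ⧸ M') := ⟨⟨fun a b => by
    obtain ⟨a, rfl⟩ := QuotientGroup.mk'_surjective M' a
    obtain ⟨b, rfl⟩ := QuotientGroup.mk'_surjective M' b
    rw [← commutatorElement_eq_one_iff_mul_comm, ← map_commutatorElement]
    exact (QuotientGroup.eq_one_iff _).2 (hcomm (Subgroup.commutator_mem_commutator
      (Subgroup.mem_top a) (Subgroup.mem_top b)))⟩⟩
  have h1 := systemNormalizer_map hK M'
  rw [systemNormalizer_eq_top_of_comm (G := G ⧸ M')] at h1
  have h2 := congrArg (Subgroup.comap (QuotientGroup.mk' M')) h1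
  rw [Subgroup.comap_top, Subgroup.comap_map_eq, QuotientGroup.ker_mk', sup_eq_right.2] at h2
  · exact hlt h2.symm
  · refine Subgroup.subset_normalClosure.trans fun x hx => ?_
    show QuotientGroup.mk' M x ∈ commutator (G ⧸ M)
    rw [QuotientGroup.mk'_apply, (QuotientGroup.eq_one_iff x).2 hx]
    exact one_mem _

theorem centralized_of_pGroup_section [Finite G] {p : ℕ} [Fact p.Prime] {N E : Subgroup G}
    [N.Normal] (hN : IsMinimalNormal N) (hNp : IsPGroup p N) (hE : E.Normal)
    (hCE : Subgroup.centralizer (N : Set G) ≤ E)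
    (hp : IsPGroup p (E.map (QuotientGroup.mk' (Subgroup.centralizer (N : Set G))))) :
    E ≤ Subgroup.centralizer (N : Set G) := by
  set C := Subgroup.centralizer (N : Set G)
  let Q : Sylow p E := default
  set P := (Q : Subgroup E).map E.subtype
  have hPp : IsPGroup p P := Q.2.map _
  obtain ⟨S, hS⟩ := hPp.exists_le_sylow
  have hNS : N ≤ (S : Subgroup G) := (le_pCore hNp).trans (pCore_le_sylow S)
  haveI : Nontrivial (N.subgroupOf (S : Subgroup G)) := by
    rw [Subgroup.nontrivial_iff_ne_bot]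
    intro e
    refine hN.2.1 (le_bot_iff.1 fun x hx => ?_)
    have : (⟨x, hNS hx⟩ : (S : Subgroup G)) ∈ N.subgroupOf (S : Subgroup G) := hx
    rw [e, Subgroup.mem_bot] at this
    exact Subgroup.mem_bot.2 (congrArg Subtype.val this)
  obtain ⟨⟨x, hxS⟩, hx, hx1⟩ := (N.subgroupOf (S : Subgroup G) ⊓ Subgroup.center _).bot_or_exists_ne_one.resolve_left
    (CfsgLib.Perm.inf_center_ne_bot S.2 (N.subgroupOf (S : Subgroup G))
      ((Subgroup.nontrivial_iff_ne_bot _).1 inferInstance))
  obtain ⟨hxN, hxZ⟩ := Subgroup.mem_inf.1 hx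
  have hEP : E ≤ P ⊔ C := by
    intro e he
    set g := (QuotientGroup.mk' C).comp E.subtype
    have hrange : g.range = E.map (QuotientGroup.mk' C) := by
      rw [MonoidHom.range_comp, Subgroup.range_subtype]
    have h2 : (Q : Subgroup E).map g = g.range := by
      have hp' : IsPGroup p g.range := hrange ▸ hp
      have h4 : ((Q.mapSurjective g.rangeRestrict_surjective : Sylow p g.range) : Subgroup g.range) = ⊤ :=
        ((Q.mapSurjective g.rangeRestrict_surjective).is_maximal' (hp'.to_subgroup ⊤) le_top).symm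
      rw [Sylow.coe_mapSurjective] at h4
      have h5 := congrArg (Subgroup.map g.range.subtype) h4
      rw [Subgroup.map_map, ← MonoidHom.range_eq_map, Subgroup.range_subtype] at h5
      exact h5
    obtain ⟨y, hy, hye⟩ : g ⟨e, he⟩ ∈ (Q : Subgroup E).map g := h2 ▸ ⟨⟨e, he⟩, rfl⟩
    have h3 : (y : G)⁻¹ * e ∈ C := QuotientGroup.eq.1 hye
    simpa using mul_mem (Subgroup.mem_sup_left (T := C) (Subgroup.mem_map_of_mem E.subtype hy))
      (Subgroup.mem_sup_right (S := P) h3)
  -- the centralizer of `E` in `N` is normal and nontrivial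
  haveI := hE
  have hfix : x ∈ N ⊓ Subgroup.centralizer (E : Set G) := by
    refine Subgroup.mem_inf.2 ⟨hxN, Subgroup.mem_centralizer_iff.2 fun e he => ?_⟩
    have : P ⊔ C ≤ Subgroup.centralizer {x} := by
      refine sup_le (fun a ha => ?_) fun a ha => ?_
      · rw [Subgroup.mem_centralizer_iff]
        rintro y rfl
        exact (congrArg Subtype.val (Subgroup.mem_center_iff.1 hxZ ⟨a, hS ha⟩)).symm
      · rw [Subgroup.mem_centralizer_iff]
        rintro y rfl
        exact Subgroup.mem_centralizer_iff.1 ha y hxN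
    exact (Subgroup.mem_centralizer_iff.1 (this (hEP he)) x rfl).symm
  have hZ := (hN.2.2 (N ⊓ Subgroup.centralizer (E : Set G)) inferInstance inf_le_left).resolve_left
    fun e => hx1 (Subtype.ext (Subgroup.mem_bot.1 (e ▸ hfix)))
  exact Subgroup.le_centralizer_iff.1 (hZ.ge.trans inf_le_right)

theorem inf_systemNormalizer_eq_bot [Finite G] [Group.IsSolvable G]
    (hK : Cfsg.IsComplementSystem K) {N : Subgroup G} (hN : IsMinimalNormal N)
    (hnc : ¬ N ≤ Subgroup.center G) : N ⊓ Cfsg.systemNormalizer K = ⊥ := by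
  haveI := hN.1
  obtain ⟨p, hp, hexp, hNp⟩ := exists_prime_exponent_of_minimal_solvable hN inferInstance
  haveI := Fact.mk hp
  set C := Subgroup.centralizer (N : Set G) with hC
  have hCt : C ≠ ⊤ := fun e => hnc (Subgroup.centralizer_eq_top_iff_subset.1 e)
  haveI : Nontrivial (G ⧸ C) := QuotientGroup.nontrivial_iff.2 hCt
  haveI : Group.IsSolvable (G ⧸ C) := Group.isSolvable_of_surjective (QuotientGroup.mk'_surjective C)
  obtain ⟨E', q, hq, hE', -, -, hE'q⟩ := exists_minimal_normal_pGroup (G := G ⧸ C)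
  set E := E'.comap (QuotientGroup.mk' C) with hE
  haveI hEn : E.Normal := hE'.1.comap _
  have hEmap : E.map (QuotientGroup.mk' C) = E' :=
    Subgroup.map_comap_eq_self_of_surjective (QuotientGroup.mk'_surjective C) E'
  have hCE : C ≤ E := by
    intro c hc
    show QuotientGroup.mk' C c ∈ E'
    rw [QuotientGroup.mk'_apply, (QuotientGroup.eq_one_iff c).2 hc]
    exact one_mem _
  have hEC : ¬ E ≤ C := fun h => hE'.2.1 (by
    rw [← hEmap, Subgroup.map_eq_bot_iff, QuotientGroup.ker_mk']; exact h)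
  have hqp : q ≠ p := by
    rintro rfl
    exact hEC (centralized_of_pGroup_section hN hNp hEn hCE (by rw [hEmap]; exact hE'q))
  -- `E = (E ⊓ K p) C`
  haveI := Fact.mk hq
  obtain ⟨j, hj⟩ := IsPGroup.iff_card.1 (hE'q)
  have hrel : C.relIndex E ∣ q ^ j := by
    rw [← hj, ← hEmap, ← Subgroup.relIndex_ker, QuotientGroup.ker_mk']
  have hco : (C.relIndex E).Coprime ((K ⟨p, hp⟩).relIndex E) := by
    refine (Nat.Coprime.coprime_dvd_left hrel ?_).coprime_dvd_right
      (relIndex_dvd_index_of_normal_right _ E)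
    rw [hK ⟨p, hp⟩]
    exact ((Nat.coprime_primes hq hp).2 hqp).pow _ _
  rw [eq_bot_iff]
  intro x hx
  obtain ⟨hxN, hxD⟩ := Subgroup.mem_inf.1 hx
  have hxK : ∀ k ∈ K ⟨p, hp⟩, k * x = x * k := by
    intro k hk
    have h1 : x * k * x⁻¹ * k⁻¹ ∈ N ⊓ K ⟨p, hp⟩ := by
      refine Subgroup.mem_inf.2 ⟨?_, mul_mem (le_normalizer_iff_forall_conj_mem.1 le_rfl _
        (mem_systemNormalizer.1 hxD _) k hk) (inv_mem hk)⟩
      rw [show x * k * x⁻¹ * k⁻¹ = x * (k * x⁻¹ * k⁻¹) by group]
      exact mul_mem hxN (hN.1.conj_mem _ (inv_mem hxN) k)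
    have h2 : N ⊓ K ⟨p, hp⟩ = ⊥ := by
      refine Subgroup.inf_eq_bot_of_coprime ?_
      obtain ⟨i, hi⟩ := IsPGroup.iff_card.1 hNp
      rw [hi]
      exact (hp.coprime_iff_not_dvd.2 (system_not_dvd_card hK ⟨p, hp⟩)).pow_left i
    rw [h2, Subgroup.mem_bot] at h1
    calc k * x = (x * k * x⁻¹ * k⁻¹) * (k * x) := by rw [h1, one_mul]
      _ = x * k := by group
  have hxE : x ∈ N ⊓ Subgroup.centralizer (E : Set G) := by
    refine Subgroup.mem_inf.2 ⟨hxN, Subgroup.mem_centralizer_iff.2 fun e he => ?_⟩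
    obtain ⟨c, hc, k, hk, rfl⟩ := exists_mul_of_coprime_relIndex hco he
    have h1 := Subgroup.mem_centralizer_iff.1 (Subgroup.mem_inf.1 hc).1 x hxN
    have h2 := hxK k (Subgroup.mem_inf.1 hk).1
    rw [mul_assoc, h2, ← mul_assoc, ← h1, mul_assoc]
  rcases hN.2.2 (N ⊓ Subgroup.centralizer (E : Set G)) inferInstance inf_le_left with h | h
  · exact h ▸ hxE
  · exact absurd (Subgroup.le_centralizer_iff.1 (h.ge.trans inf_le_right)) hEC

end System

end CfsgLib.Solv
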