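import Cfsg.Agent.Solv.Thompson
import Mathlib.GroupTheory.FixedPointFree
import Mathlib.GroupTheory.Nilpotent
import Mathlib.Dynamics.PeriodicPts.Defs
import Mathlib.Algebra.BigOperators.Group.Finset.Basic

/-!
Thompson: a finite group with a fixed-point-free automorphism of prime order is nilpotent.
-/

set_option autoImplicit false
set_option linter.style.haveILetI false
set_option linter.deprecated false
set_option linter.unusedSectionVars false

open scoped commutatorElement Pointwise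
open Finset (range)

namespace CfsgLib.Solv

variable {G : Type*} [Group G]

theorem iterate_semiconj_subtype {H : Subgroup G} (φ : G ≃* G) (ψ : H ≃* H)
    (h : ∀ x : H, (ψ x : G) = φ x) (i : ℕ) (x : H) : ((⇑ψ)^[i] x : G) = (⇑φ)^[i] (x : G) :=
  Function.Semiconj.iterate_right (f := (Subtype.val : H → G)) (fun y => h y) i x

/-- An automorphism restricted to an invariant subgroup. -/
theorem exists_restrict {H : Subgroup G} (φ : G ≃* G) (hH : H.map φ.toMonoidHom = H) :
    ∃ ψ : H ≃* H, ∀ x : H, (ψ x : G) = φ x :=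
  ⟨(φ.subgroupMap H).trans (MulEquiv.subgroupCongr hH), fun _ => rfl⟩

theorem fpf_restrict {H : Subgroup G} {φ : G ≃* G}
    (hφ : MonoidHom.FixedPointFree (φ : G →* G)) (ψ : H ≃* H) (h : ∀ x : H, (ψ x : G) = φ x) :
    MonoidHom.FixedPointFree (ψ : H →* H) := fun x hx =>
  Subtype.ext (hφ (x : G) ((h x).symm.trans (congrArg Subtype.val hx)))

theorem mem_of_map_eq {H : Subgroup G} {φ : G ≃* G} (hH : H.map φ.toMonoidHom = H) {x : G}
    (hx : x ∈ H) : φ x ∈ H := hH ▸ ⟨x, hx, rfl⟩

theorem map_normalizer_eq {H : Subgroup G} (φ : G ≃* G) (hH : H.map φ.toMonoidHom = H) :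
    (Subgroup.normalizer (H : Set G)).map φ.toMonoidHom = Subgroup.normalizer (H : Set G) := by
  conv_rhs => rw [← hH]
  exact Subgroup.map_equiv_normalizer_eq H φ

theorem map_centralizer_eq {H : Subgroup G} (φ : G ≃* G) (hH : H.map φ.toMonoidHom = H) :
    (Subgroup.centralizer (H : Set G)).map φ.toMonoidHom = Subgroup.centralizer (H : Set G) := by
  have hmem : ∀ x, x ∈ H ↔ φ x ∈ H := fun x => ⟨mem_of_map_eq hH, fun hx => by
    rw [← hH] at hx
    obtain ⟨y, hy, e⟩ := hx
    rwa [← φ.injective e]⟩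
  ext y
  simp only [Subgroup.mem_map, Subgroup.mem_centralizer_iff, SetLike.mem_coe]
  constructor
  · rintro ⟨x, hx, rfl⟩ z hz
    obtain ⟨w, rfl⟩ := φ.surjective z
    show φ w * φ x = φ x * φ w
    rw [← map_mul, ← map_mul, hx w ((hmem w).2 hz)]
  · intro hy
    obtain ⟨x, rfl⟩ := φ.surjective y
    refine ⟨x, fun z hz => φ.injective ?_, rfl⟩
    rw [map_mul, map_mul]; exact hy _ ((hmem z).1 hz)

/-- The key counting lemma. -/
theorem fpf_centralizes [Finite G] {φ : G ≃* G} {p : ℕ} [hp : Fact p.Prime]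
    (hφ : MonoidHom.FixedPointFree (φ : G →* G)) (hper : ∀ x, (⇑φ)^[p] x = x) {M Q : Subgroup G}
    [M.Normal] [IsMulCommutative M] (hM : M.map φ.toMonoidHom = M) (hQ : Q.map φ.toMonoidHom = Q)
    (hcop : (Nat.card M).Coprime (Nat.card Q)) : Q ≤ Subgroup.centralizer (M : Set G) := by
  letI : CommGroup M := { (inferInstance : Group M) with mul_comm := fun x y => IsMulCommutative.is_comm.comm x y }
  haveI : Fintype Q := Fintype.ofFinite Q
  obtain ⟨ψM, hψM⟩ := exists_restrict φ hM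
  obtain ⟨ψQ, hψQ⟩ := exists_restrict φ hQ
  set c : G →* MulAut M := MulAut.conjNormal with hc
  have hcval : ∀ (g : G) (y : M), (c g y : G) = g * y * g⁻¹ := fun g y => MulAut.conjNormal_apply g y
  have hperQ : ∀ x : Q, (⇑ψQ)^[p] x = x := fun x =>
    Subtype.ext ((iterate_semiconj_subtype φ ψQ hψQ p x).trans (hper _))
  have hperM : ∀ x : M, (⇑ψM)^[p] x = x := fun x =>
    Subtype.ext ((iterate_semiconj_subtype φ ψM hψM p x).trans (hper _))
  have hcomm : ∀ (i : ℕ) (a : G) (y : M),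
      (⇑ψM)^[i] (c a y) = c ((⇑φ)^[i] a) ((⇑ψM)^[i] y) := fun i a y => by
    refine Subtype.ext ?_
    rw [iterate_semiconj_subtype φ ψM hψM, hcval, hcval, iterate_semiconj_subtype φ ψM hψM,
      iterate_map_mul, iterate_map_mul, iterate_map_inv]
  have hone : ∀ y : M, ∏ i ∈ range p, (⇑ψM)^[i] y = 1 := fun y => by
    refine Subtype.ext (hφ _ ?_)
    show φ ((∏ i ∈ range p, (⇑ψM)^[i] y : M) : G) = _
    rw [← hψM]
    congr 1
    rw [map_prod]
    have h1 := Finset.prod_range_succ (fun i => (⇑ψM)^[i] y) p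
    have h2 := Finset.prod_range_succ' (fun i => (⇑ψM)^[i] y) p
    rw [h2] at h1
    simp only [hperM, Function.iterate_zero, id_eq] at h1
    calc ∏ i ∈ range p, ψM ((⇑ψM)^[i] y) = ∏ i ∈ range p, (⇑ψM)^[i + 1] y :=
          Finset.prod_congr rfl fun i _ => (Function.iterate_succ_apply' (⇑ψM) i y).symm
      _ = _ := mul_right_cancel h1
  intro q hq
  rw [Subgroup.mem_centralizer_iff]
  intro m hm
  set F : ℕ → M := fun i => ∏ g : Q, c g ((⇑ψM)^[i] (c ((g : G)⁻¹) ⟨m, hm⟩)) with hF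
  have hprod : ∏ i ∈ range p, F i = 1 := by
    rw [hF, Finset.prod_comm]
    refine Finset.prod_eq_one fun g _ => ?_
    rw [← map_prod, hone, map_one]
  have h0 : F 0 = (⟨m, hm⟩ : M) ^ Fintype.card Q := by
    simp only [hF, Function.iterate_zero, id_eq]
    rw [← Finset.card_univ, ← Finset.prod_const]
    refine Finset.prod_congr rfl fun g _ => ?_
    rw [← MulAut.mul_apply, ← map_mul, mul_inv_cancel, map_one, MulAut.one_apply]
  have hfix : ∀ i ∈ range p, i ≠ 0 → c q (F i) = F i := by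
    intro i hi hi0
    have hinj : Function.Injective fun g : Q => g * ((⇑ψQ)^[i] g)⁻¹ := by
      intro a b hab
      have e : (⇑ψQ)^[i] (b⁻¹ * a) = b⁻¹ * a := by
        rw [iterate_map_mul, iterate_map_inv]
        have h' : a * ((⇑ψQ)^[i] a)⁻¹ = b * ((⇑ψQ)^[i] b)⁻¹ := hab
        calc ((⇑ψQ)^[i] b)⁻¹ * (⇑ψQ)^[i] a
            = b⁻¹ * (b * ((⇑ψQ)^[i] b)⁻¹) * (⇑ψQ)^[i] a := by group
          _ = b⁻¹ * a := by rw [← h']; group
      have hg : Nat.gcd i p = 1 := Nat.Coprime.symm (hp.out.coprime_iff_not_dvd.2 fun hd => by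
        have := Nat.le_of_dvd (Nat.pos_of_ne_zero hi0) hd
        have := Finset.mem_range.1 hi
        omega)
      have h1 : Function.IsPeriodicPt (⇑ψQ) (Nat.gcd i p) (b⁻¹ * a) :=
        Function.IsPeriodicPt.gcd e (hperQ _)
      rw [hg] at h1
      exact (inv_mul_eq_one.1 (fpf_restrict hφ ψQ hψQ _ h1)).symm
    have hbij := Finite.injective_iff_bijective.1 hinj
    have hFi : F i = ∏ u : Q, c u ((⇑ψM)^[i] ⟨m, hm⟩) := by
      rw [hF]
      refine (Finset.prod_congr rfl fun g _ => ?_).trans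
        (Equiv.prod_comp (Equiv.ofBijective _ hbij) fun u : Q => c u ((⇑ψM)^[i] ⟨m, hm⟩))
      rw [hcomm, ← MulAut.mul_apply, ← map_mul]
      congr 2
      simp only [Equiv.ofBijective_apply, Subgroup.coe_mul, InvMemClass.coe_inv, iterate_map_inv,
        iterate_semiconj_subtype φ ψQ hψQ]
    rw [hFi, map_prod]
    refine (Finset.prod_congr rfl fun u _ => ?_).trans
      (Equiv.prod_comp (Equiv.mulLeft (⟨q, hq⟩ : Q)) fun u : Q => c u ((⇑ψM)^[i] ⟨m, hm⟩))
    rw [← MulAut.mul_apply, ← map_mul]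
    rfl
  obtain ⟨k, hk⟩ : ∃ k, p = k + 1 := ⟨p - 1, by have := hp.out.pos; omega⟩
  have hrest : c q (∏ i ∈ range k, F (i + 1)) = ∏ i ∈ range k, F (i + 1) := by
    rw [map_prod]
    refine Finset.prod_congr rfl fun i hi => hfix _ ?_ (Nat.succ_ne_zero i)
    rw [Finset.mem_range, hk]; have := Finset.mem_range.1 hi; omega
  rw [hk, Finset.prod_range_succ', h0] at hprod
  have hpow : c q ((⟨m, hm⟩ : M) ^ Fintype.card Q) = (⟨m, hm⟩ : M) ^ Fintype.card Q := by
    rw [eq_inv_of_mul_eq_one_right hprod, map_inv, hrest]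
  rw [map_pow, ← Nat.card_eq_fintype_card] at hpow
  have h := (powCoprime hcop).injective
    (show powCoprime hcop (c q ⟨m, hm⟩) = powCoprime hcop ⟨m, hm⟩ from hpow)
  have h' := congrArg Subtype.val h
  rw [hcval] at h'
  exact (mul_inv_eq_iff_eq_mul.1 h').symm

universe u

/-- The induction statement. -/
def FpfNilp (p : ℕ) (G : Type u) [Group G] : Prop :=
  ∀ φ : G ≃* G, MonoidHom.FixedPointFree (φ : G →* G) → (∀ x, (⇑φ)^[p] x = x) → Group.IsNilpotent G

theorem exists_invariant_sylow_fpf [Finite G] {φ : G ≃* G}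
    (hφ : MonoidHom.FixedPointFree (φ : G →* G)) (r : ℕ) [Fact r.Prime] :
    ∃ Q : Sylow r G, (Q : Subgroup G).map φ.toMonoidHom = Q := by
  obtain ⟨Q⟩ : Nonempty (Sylow r G) := inferInstance
  obtain ⟨h, hh⟩ := MulAction.exists_smul_eq G Q (Q.mapSurjective (f := φ.toMonoidHom) φ.surjective)
  have hh' : MulAut.conj h • (Q : Subgroup G) = (Q : Subgroup G).map φ.toMonoidHom := by
    rw [← Sylow.coe_subgroup_smul, hh]; rfl
  obtain ⟨x, hx⟩ := hφ.commutatorMap_surjective h⁻¹
  have hh2 : φ x⁻¹ * h = x⁻¹ := by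
    rw [← inv_inv h, ← hx, MonoidHom.commutatorMap_apply, map_inv]
    show (φ x)⁻¹ * (x / φ x)⁻¹ = x⁻¹
    rw [div_eq_mul_inv]; group
  refine ⟨x⁻¹ • Q, ?_⟩
  rw [Sylow.coe_subgroup_smul]
  calc (MulAut.conj x⁻¹ • (Q : Subgroup G)).map φ.toMonoidHom
      = MulAut.conj (φ x⁻¹) • (Q : Subgroup G).map φ.toMonoidHom := by
        rw [conj_smul_eq_map, conj_smul_eq_map, Subgroup.map_map, Subgroup.map_map]
        congr 1
        ext y
        simp
    _ = MulAut.conj (φ x⁻¹ * h) • (Q : Subgroup G) := by rw [← hh', map_mul, mul_smul]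
    _ = _ := by rw [hh2]

/-- In a nilpotent finite group elements from subgroups of coprime prime power orders commute. -/
theorem commute_of_isPGroup_of_isNilpotent [Finite G] [Group.IsNilpotent G] {r s : ℕ} [Fact r.Prime]
    [Fact s.Prime] (hrs : r ≠ s) {A B : Subgroup G} (hA : IsPGroup r A) (hB : IsPGroup s B) {a b : G}
    (ha : a ∈ A) (hb : b ∈ B) : Commute a b := by
  obtain ⟨R, hR⟩ := hA.exists_le_sylow
  obtain ⟨S, hS⟩ := hB.exists_le_sylow
  haveI : (R : Subgroup G).Normal := Group.isNilpotent_of_finite_tfae.out 0 3 rfl rfl |>.mp ‹_› r ‹_› R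
  haveI : (S : Subgroup G).Normal := Group.isNilpotent_of_finite_tfae.out 0 3 rfl rfl |>.mp ‹_› s ‹_› S
  exact Subgroup.commute_of_normal_of_disjoint _ _ ‹_› ‹_›
    (IsPGroup.disjoint_of_ne r s hrs _ _ R.isPGroup' S.isPGroup') a b (hR ha) (hS hb)

theorem sylow_normal_of_isNilpotent [Finite G] [Group.IsNilpotent G] {r : ℕ} [Fact r.Prime]
    (R : Sylow r G) : (R : Subgroup G).Normal :=
  Group.isNilpotent_of_finite_tfae.out 0 3 rfl rfl |>.mp ‹_› r ‹_› R

theorem fpfNilp_quotient {G : Type u} [Group G] [Finite G] {p : ℕ} {φ : G ≃* G}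
    (hφ : MonoidHom.FixedPointFree (φ : G →* G)) (hper : ∀ x, (⇑φ)^[p] x = x)
    (M : Subgroup G) [M.Normal] (hM : M.map φ.toMonoidHom = M) (ih : FpfNilp p (G ⧸ M)) :
    Group.IsNilpotent (G ⧸ M) := by
  have hM' : M.map (φ : G →* G) = M := hM
  set ψ := QuotientGroup.congr M M φ hM'
  refine ih ψ (fun y hy => ?_) (fun y => ?_)
  · obtain ⟨g, rfl⟩ := QuotientGroup.mk'_surjective M y
    have hy' : ((φ g : G) : G ⧸ M) = (g : G ⧸ M) := hy
    rw [QuotientGroup.eq] at hy'
    obtain ⟨ψM, hψM⟩ := exists_restrict φ hM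
    obtain ⟨m, hm⟩ := (fpf_restrict hφ ψM hψM).commutatorMap_surjective
      ⟨_, inv_mem hy'⟩
    have hm' : (m : G) / φ m = g⁻¹ * φ g := by
      have e := congrArg Subtype.val hm
      rw [MonoidHom.commutatorMap_apply] at e
      simpa [hψM, div_eq_mul_inv] using e
    have hgm : φ (g * m) = g * m := by
      have h2 : φ g = g * ((m : G) / φ m) := by rw [hm']; group
      rw [map_mul, h2, div_eq_mul_inv]; group
    have h1 := hφ _ hgm
    rw [QuotientGroup.mk'_apply, QuotientGroup.eq_one_iff, eq_inv_of_mul_eq_one_left h1]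
    exact inv_mem m.2
  · obtain ⟨g, rfl⟩ := QuotientGroup.mk'_surjective M y
    have e : ∀ i, (⇑ψ)^[i] (QuotientGroup.mk' M g) = QuotientGroup.mk' M ((⇑φ)^[i] g) := fun i => by
      induction i with
      | zero => rfl
      | succ i hi => rw [Function.iterate_succ_apply', Function.iterate_succ_apply', hi]; rfl
    rw [e, hper]

theorem fpfNilp_subgroup {G : Type u} [Group G] [Finite G] {p : ℕ} {φ : G ≃* G}
    (hφ : MonoidHom.FixedPointFree (φ : G →* G)) (hper : ∀ x, (⇑φ)^[p] x = x)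
    (H : Subgroup G) (hH : H.map φ.toMonoidHom = H) (ih : FpfNilp p H) : Group.IsNilpotent H := by
  obtain ⟨ψ, hψ⟩ := exists_restrict φ hH
  exact ih ψ (fpf_restrict hφ ψ hψ) fun x =>
    Subtype.ext ((iterate_semiconj_subtype φ ψ hψ p x).trans (hper _))

/-- A nontrivial invariant normal `s`-subgroup exists. -/
theorem exists_pCore_ne_bot_fpf {G : Type u} [Group G] [Finite G] [Nontrivial G] {p : ℕ} {φ : G ≃* G}
    (hφ : MonoidHom.FixedPointFree (φ : G →* G)) (hper : ∀ x, (⇑φ)^[p] x = x)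
    (ihH : ∀ H : Subgroup G, H ≠ ⊤ → FpfNilp p H) :
    ∃ s, s.Prime ∧ Cfsg.pCore s G ≠ ⊥ := by
  have htop : ∀ s : ℕ, s.Prime → ∀ J : Subgroup G, IsPGroup s J → J ≠ ⊥ →
      Subgroup.normalizer (J : Set G) = ⊤ → Cfsg.pCore s G ≠ ⊥ := by
    intro s _ J hJ hne hn hb
    haveI := Subgroup.normalizer_eq_top_iff.1 hn
    exact hne (le_bot_iff.1 (hb ▸ le_pCore hJ))
  by_cases hodd : ∃ r : ℕ, r.Prime ∧ r ≠ 2 ∧ r ∣ Nat.card G
  · obtain ⟨r, hr, hr2, hrd⟩ := hodd
    haveI : Fact r.Prime := ⟨hr⟩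
    obtain ⟨Q, hQ⟩ := exists_invariant_sylow_fpf hφ r
    have hQne : (Q : Subgroup G) ≠ ⊥ := Q.ne_bot_of_dvd_card hrd
    have hJ : (Cfsg.thompsonSubgroupOf r (Q : Subgroup G)).map φ.toMonoidHom =
        Cfsg.thompsonSubgroupOf r (Q : Subgroup G) := by
      rw [map_thompsonSubgroupOf φ.toMonoidHom _ φ.injective.injOn, hQ]
    have hZ : (zOf (Q : Subgroup G)).map φ.toMonoidHom = zOf (Q : Subgroup G) := by
      rw [map_zOf φ.toMonoidHom φ.injective, hQ]
    by_cases h1 : Subgroup.normalizer (Cfsg.thompsonSubgroupOf r (Q : Subgroup G) : Set G) = ⊤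
    · exact ⟨r, hr, htop r hr _ (Q.isPGroup'.to_le (thompsonSubgroupOf_le _))
        (thompsonSubgroupOf_ne_bot Q.isPGroup' hQne) h1⟩
    by_cases h2 : Subgroup.centralizer (zOf (Q : Subgroup G) : Set G) = ⊤
    · exact ⟨r, hr, htop r hr _ (Q.isPGroup'.to_le (zOf_le _)) (zOf_ne_bot Q.isPGroup' hQne)
        (top_unique (h2 ▸ Subgroup.centralizer_le_normalizer _))⟩
    haveI := fpfNilp_subgroup hφ hper _ (map_normalizer_eq φ hJ) (ihH _ h1)
    haveI := fpfNilp_subgroup hφ hper _ (map_centralizer_eq φ hZ) (ihH _ h2)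
    have hnpc := thompson hr2 Q ⟨hnpc_of_isNilpotent, hnpc_of_isNilpotent⟩
    set R := Cfsg.pResidual r G with hR
    haveI := pResidual_char r G
    by_cases hRb : R = ⊥
    · refine ⟨r, hr, htop r hr _ Q.isPGroup' hQne ?_⟩
      have := sylow_sup_pResidual Q
      rw [← hR, hRb, sup_bot_eq] at this
      rw [this]; exact top_unique Subgroup.le_normalizer
    have hRtop : R ≠ ⊤ := fun e => hnpc_iff.1 hnpc (by rw [← hR, e, Subgroup.card_top]; exact hrd)
    haveI := fpfNilp_subgroup hφ hper R (by exact Subgroup.characteristic_iff_map_eq.1 ‹_› φ) (ihH _ hRtop)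
    obtain ⟨s, hs, hsd⟩ := Nat.exists_prime_and_dvd (fun e => hRb (Subgroup.card_eq_one.1 e))
    haveI : Fact s.Prime := ⟨hs⟩
    obtain ⟨S⟩ : Nonempty (Sylow s R) := inferInstance
    haveI := sylow_normal_of_isNilpotent S
    haveI := Sylow.characteristic_of_normal S ‹_›
    haveI : R.Normal := Subgroup.normal_of_characteristic R
    haveI := normal_map_subtype_of_characteristic (S : Subgroup R)
    refine ⟨s, hs, fun hb => S.ne_bot_of_dvd_card hsd ?_⟩
    have := le_pCore (S.isPGroup'.map R.subtype)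
    rw [hb, le_bot_iff, Subgroup.map_eq_bot_iff_of_injective _ R.subtype_injective] at this
    exact this
  · push Not at hodd
    refine ⟨2, Nat.prime_two, fun hb => ?_⟩
    haveI : Fact (2 : ℕ).Prime := ⟨Nat.prime_two⟩
    have hG : IsPGroup 2 (⊤ : Subgroup G) := by
      refine IsPGroup.of_card (n := (Nat.card (⊤ : Subgroup G)).primeFactorsList.length)
        (Nat.eq_prime_pow_of_unique_prime_dvd Nat.card_pos.ne' fun {q} hq hqd => ?_)
      by_contra hq2
      exact hodd q hq hq2 (by rwa [Subgroup.card_top] at hqd)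
    have := le_pCore hG
    rw [hb, le_bot_iff] at this
    exact top_ne_bot this

theorem fpfNilp_aux {p : ℕ} [hp : Fact p.Prime] :
    ∀ (n : ℕ) (G : Type u) [Group G] [Finite G], Nat.card G = n → FpfNilp p G := by
  intro n
  induction n using Nat.strong_induction_on with
  | _ n IH =>
    intro G _ _ hn φ hφ hper
    have ihH : ∀ H : Subgroup G, H ≠ ⊤ → FpfNilp p H := fun H hH =>
      IH _ (hn ▸ card_lt_of_ne_top hH) H rfl
    rcases subsingleton_or_nontrivial G with hs | hs
    · exact Group.isNilpotent_of_subsingleton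
    obtain ⟨s, hsp, hM⟩ := exists_pCore_ne_bot_fpf hφ hper ihH
    haveI : Fact s.Prime := ⟨hsp⟩
    set M := Cfsg.pCore s G
    haveI : M.Normal := pCore_normal G s
    have hMinv : M.map φ.toMonoidHom = M := map_pCore_equiv φ
    have hMp : IsPGroup s M := pCore_isPGroup G s
    haveI hQM : Group.IsNilpotent (G ⧸ M) :=
      fpfNilp_quotient hφ hper M hMinv (IH _ (hn ▸ card_quotient_lt hM) (G ⧸ M) rfl)
    refine Group.isNilpotent_of_finite_tfae.out 3 0 rfl rfl |>.mp fun r _ P => ?_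
    obtain ⟨Q, hQ⟩ := exists_invariant_sylow_fpf hφ r
    suffices hQn : (Q : Subgroup G).Normal by
      haveI := hQn
      obtain ⟨g, hg⟩ := MulAction.exists_smul_eq G Q P
      rwa [← hg, Sylow.smul_eq_of_normal]
    haveI := sylow_normal_of_isNilpotent (Q.mapSurjective (QuotientGroup.mk'_surjective M))
    set H := (Q : Subgroup G) ⊔ M with hH
    have hHn : H.Normal := by
      have e : H = ((Q.mapSurjective (QuotientGroup.mk'_surjective M) : Sylow r (G ⧸ M)) :
          Subgroup (G ⧸ M)).comap (QuotientGroup.mk' M) := by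
        rw [Sylow.coe_mapSurjective, Subgroup.comap_map_eq, QuotientGroup.ker_mk']
      rw [e]; infer_instance
    by_cases hHt : H ≠ ⊤
    · haveI := fpfNilp_subgroup hφ hper H (by rw [hH, Subgroup.map_sup, hQ, hMinv]) (ihH H hHt)
      haveI := sylow_normal_of_isNilpotent (Q.subtype (le_sup_left : (Q : Subgroup G) ≤ H))
      haveI := Sylow.characteristic_of_normal (Q.subtype (le_sup_left : (Q : Subgroup G) ≤ H)) ‹_›
      haveI := normal_map_subtype_of_characteristic
        ((Q.subtype (le_sup_left : (Q : Subgroup G) ≤ H) : Sylow r H) : Subgroup H)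
      rw [← Subgroup.map_subgroupOf_eq_of_le (le_sup_left : (Q : Subgroup G) ≤ H)]
      assumption
    push Not at hHt
    by_cases hrs : r = s
    · subst hrs
      have hle : M ≤ Q := pCore_le_sylow Q
      rw [hH, sup_eq_left.2 hle] at hHt
      rw [hHt]; infer_instance
    have hZn : (zOf M).Normal := inferInstance
    have hZinv : (zOf M).map φ.toMonoidHom = zOf M := by
      rw [map_zOf φ.toMonoidHom φ.injective, hMinv]
    have hcop : ∀ A : Subgroup G, A ≤ M → (Nat.card A).Coprime (Nat.card (Q : Subgroup G)) :=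
      fun A hA => IsPGroup.coprime_card_of_ne s r (Ne.symm hrs) _ _ (hMp.to_le hA) Q.isPGroup'
    haveI : IsMulCommutative (zOf M) :=
      ⟨⟨fun a b => Subtype.ext (Subgroup.mem_centralizer_iff.1 b.2.2 a a.2.1)⟩⟩
    have hQZ := fpf_centralizes hφ hper hZinv hQ (hcop _ (zOf_le M))
    haveI : Group.IsNilpotent (G ⧸ zOf M) := fpfNilp_quotient hφ hper (zOf M) hZinv
      (IH _ (hn ▸ card_quotient_lt (zOf_ne_bot hMp hM)) _ rfl)
    have hQM' : (Q : Subgroup G) ≤ Subgroup.centralizer (M : Set G) := by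
      intro q hq
      rw [Subgroup.mem_centralizer_iff]
      intro m hm
      have hz : q * m * q⁻¹ * m⁻¹ ∈ zOf M := by
        rw [← QuotientGroup.eq_one_iff]
        show QuotientGroup.mk' (zOf M) (q * m * q⁻¹ * m⁻¹) = 1
        simp only [map_mul, map_inv]
        rw [(commute_of_isPGroup_of_isNilpotent hrs (Q.isPGroup'.map (QuotientGroup.mk' (zOf M)))
          (hMp.map (QuotientGroup.mk' (zOf M))) ⟨q, hq, rfl⟩ ⟨m, hm, rfl⟩).eq]
        group
      set z := q * m * q⁻¹ * m⁻¹ with hzdef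
      have hqz : Commute q z := (Subgroup.mem_centralizer_iff.1 (hQZ hq) z hz).symm
      have hk : ∀ k : ℕ, q ^ k * m * (q ^ k)⁻¹ = z ^ k * m := by
        intro k
        induction k with
        | zero => simp
        | succ k hk' =>
          calc q ^ (k + 1) * m * (q ^ (k + 1))⁻¹ = q * (q ^ k * m * (q ^ k)⁻¹) * q⁻¹ := by
                rw [pow_succ']; group
            _ = z ^ k * (q * m * q⁻¹) := by
                rw [hk', ← mul_assoc q, (hqz.pow_right k).eq]; group
            _ = z ^ (k + 1) * m := by rw [pow_succ, hzdef]; group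
      have h1 : z ^ orderOf q = 1 := by
        have := hk (orderOf q)
        rw [pow_orderOf_eq_one, one_mul, inv_one, mul_one] at this
        exact mul_eq_right.1 this.symm
      have h2 : z ^ Nat.card M = 1 := by
        have := pow_card_eq_one' (x := (⟨z, hz.1⟩ : M))
        exact congrArg Subtype.val this
      have hdvd : orderOf q ∣ Nat.card (Q : Subgroup G) := by
        rw [← Subgroup.orderOf_mk q hq]; exact orderOf_dvd_natCard _
      have hz1 : z = 1 := orderOf_eq_one_iff.1 (Nat.eq_one_of_dvd_coprimes (hcop M le_rfl)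
        (orderOf_dvd_of_pow_eq_one h2) ((orderOf_dvd_of_pow_eq_one h1).trans hdvd))
      rw [hzdef, mul_inv_eq_one, mul_inv_eq_iff_eq_mul] at hz1
      exact hz1.symm
    refine Subgroup.normalizer_eq_top_iff.1 (top_unique (hHt ▸ sup_le Subgroup.le_normalizer ?_))
    exact (Subgroup.le_centralizer_iff.1 hQM').trans (Subgroup.centralizer_le_normalizer _)

/-- Thompson's theorem. -/
theorem isNilpotent_of_fpf [Finite G] {φ : G ≃* G} (hφ : MonoidHom.FixedPointFree (φ : G →* G))
    {p : ℕ} [Fact p.Prime] (hper : ∀ x, (⇑φ)^[p] x = x) : Group.IsNilpotent G :=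
  fpfNilp_aux _ G rfl φ hφ hper

end CfsgLib.Solv
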