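import Cfsg.Agent.Solv.SystemNorm
import Cfsg.Prelude.Def_SolvableStructure
import Mathlib.GroupTheory.Nilpotent

/-!
Carter subgroups of finite solvable groups and their relation to system normalizers.
-/

set_option autoImplicit false
set_option linter.style.haveILetI false
set_option linter.deprecated false
set_option linter.unusedSectionVars false

open scoped Pointwise

namespace CfsgLib.Solv

universe u

variable {G : Type u} [Group G]

theorem mem_of_coprime_orderOf [Finite G] {H : Subgroup G} {x : G}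
    (hx : x ∈ Subgroup.normalizer (H : Set G)) (hco : (orderOf x).Coprime H.index) : x ∈ H := by
  set L := Subgroup.normalizer (H : Set G)
  haveI : (H.subgroupOf L).Normal := Subgroup.normal_in_normalizer
  have h1 : ((⟨x, hx⟩ : L) : L ⧸ H.subgroupOf L) = 1 := by
    rw [← orderOf_eq_one_iff]
    refine Nat.eq_one_of_dvd_coprimes hco ?_
      ((orderOf_dvd_natCard _).trans (Subgroup.relIndex_dvd_index_of_le Subgroup.le_normalizer))
    refine (orderOf_map_dvd (QuotientGroup.mk' (H.subgroupOf L)) ⟨x, hx⟩).trans (dvd_of_eq ?_)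
    exact (Subgroup.orderOf_mk x hx)
  exact (QuotientGroup.eq_one_iff (⟨x, hx⟩ : L)).1 h1

theorem hall_normal_of_nilpotent [Finite G] [Group.IsNilpotent G] {H : Subgroup G}
    (hco : (Nat.card H).Coprime H.index) : H.Normal := by
  rw [← Subgroup.normalizer_eq_top_iff]
  set M := Subgroup.normalizer (H : Set G)
  by_contra hM
  have hlt : M < Subgroup.normalizer (M : Set G) :=
    Group.normalizerCondition_of_isNilpotent M (lt_top_iff_ne_top.2 hM)
  obtain ⟨g, hg, hgM⟩ := Set.exists_of_ssubset hlt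
  refine hgM (mem_normalizer_of_conj_smul_eq ?_)
  refine Subgroup.eq_of_le_of_card_ge ?_ (card_conj_smul g H).ge
  intro y hy
  rw [mem_conj_smul_iff] at hy
  refine mem_of_coprime_orderOf ?_ (hco.coprime_dvd_left ?_)
  · have h1 := le_normalizer_iff_forall_conj_mem.1 le_rfl g hg _ (Subgroup.le_normalizer hy)
    simpa [mul_assoc] using h1
  · have h2 : orderOf y = orderOf (g⁻¹ * y * g) := by
      have h3 := orderOf_injective (MulAut.conj g⁻¹).toMonoidHom (MulAut.conj g⁻¹).injective y
      rw [← h3]; simp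
    rw [h2, ← Subgroup.orderOf_mk _ hy]
    exact orderOf_dvd_natCard _

/-- The system `K` reduces into the subgroup `A`. -/
def Red (K : Nat.Primes → Subgroup G) (A : Subgroup G) : Prop :=
  ∀ r : Nat.Primes, PiNat {(r : ℕ)} ((K r).relIndex A)

variable {K : Nat.Primes → Subgroup G}

theorem red_of_normal [Finite G] (hK : Cfsg.IsComplementSystem K) (N : Subgroup G) [N.Normal] :
    Red K N := fun r => by
  refine PiNat.of_dvd ?_ (relIndex_dvd_index_of_normal_right (K r) N)
  rw [hK r]
  exact piNat_of_pow r.2 rfl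

/-- In a nilpotent subgroup into which the system reduces, the trace of `K r` is normal and
invariant under the normalizer. -/
theorem Red.normalizer_le [Finite G] (hK : Cfsg.IsComplementSystem K) {A : Subgroup G}
    (hA : Red K A) (hn : Group.IsNilpotent A) (r : Nat.Primes) :
    Subgroup.normalizer (A : Set G) ≤ Subgroup.normalizer ((K r ⊓ A : Subgroup G) : Set G) := by
  haveI := hn
  have hco : (Nat.card ((K r).subgroupOf A)).Coprime ((K r).subgroupOf A).index := by
    refine Nat.coprime_of_dvd fun q hq h1 h2 => ?_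
    have h3 : q = (r : ℕ) := Set.mem_singleton_iff.1 (hA r q hq h2)
    refine system_not_dvd_card hK r (h3 ▸ h1.trans ?_)
    exact Subgroup.card_comap_dvd_of_injective _ _ (Subgroup.subtype_injective A)
  haveI := hall_normal_of_nilpotent hco
  rw [le_normalizer_iff_forall_conj_mem]
  intro g hg x hx
  obtain ⟨hxK, hxA⟩ := Subgroup.mem_inf.1 hx
  have hgx : g * x * g⁻¹ ∈ A := (Subgroup.mem_normalizer_iff.1 hg x).1 hxA
  refine Subgroup.mem_inf.2 ⟨?_, hgx⟩
  have h4 : (⟨g * x * g⁻¹, hgx⟩ : A) ∈ (K r).subgroupOf A := by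
    refine mem_of_coprime_orderOf ?_ (hco.coprime_dvd_left ?_)
    · rw [Subgroup.normalizer_eq_top_iff.2 inferInstance]; exact Subgroup.mem_top _
    · rw [Subgroup.orderOf_mk]
      have h5 : orderOf (g * x * g⁻¹) = orderOf x :=
        orderOf_injective (MulAut.conj g).toMonoidHom (MulAut.conj g).injective x
      rw [h5, ← Subgroup.orderOf_mk x hxA,
        ← Subgroup.orderOf_mk (⟨x, hxA⟩ : A) (show _ ∈ (K r).subgroupOf A from hxK)]
      exact orderOf_dvd_natCard _
  exact h4

theorem Red.inf_normal [Finite G] (hK : Cfsg.IsComplementSystem K) {N : Subgroup G} [N.Normal]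
    (hn : Group.IsNilpotent N) (r : Nat.Primes) : (K r ⊓ N).Normal :=
  Subgroup.normalizer_eq_top_iff.1 (top_le_iff.1 ((Subgroup.normalizer_eq_top_iff.2 inferInstance).ge.trans
    ((red_of_normal hK N).normalizer_le hK hn r)))

theorem sup_relIndex_dvd [Finite G] {A N B C : Subgroup G} [N.Normal] [A.Normal] (hAN : A ≤ N)
    (hBC : B ≤ C) : (B ⊔ A).relIndex (C ⊔ N) ∣ B.relIndex C * A.relIndex N := by
  have h1 := card_sup_mul_card_inf C N
  have h2 := card_sup_mul_card_inf B A
  have h3 := relIndex_mul_card (inf_le_inf hBC hAN)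
  rw [← relIndex_mul_card hBC, ← relIndex_mul_card hAN,
    ← relIndex_mul_card (sup_le_sup hBC hAN), ← h3] at h1
  refine Dvd.intro ((B ⊓ A).relIndex (C ⊓ N)) ?_
  refine Nat.eq_of_mul_eq_mul_left (Nat.mul_pos (Nat.card_pos (α := B)) (Nat.card_pos (α := A))) ?_
  calc Nat.card B * Nat.card A * ((B ⊔ A).relIndex (C ⊔ N) * (B ⊓ A).relIndex (C ⊓ N))
      = (Nat.card (B ⊔ A : Subgroup G) * Nat.card (B ⊓ A : Subgroup G)) *
          ((B ⊔ A).relIndex (C ⊔ N) * (B ⊓ A).relIndex (C ⊓ N)) := by rw [h2]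
    _ = _ := by linarith [h1]

theorem Red.sup [Finite G] (hK : Cfsg.IsComplementSystem K) {C N : Subgroup G} [N.Normal]
    (hC : Red K C) (hn : Group.IsNilpotent N) : Red K (C ⊔ N) := fun r => by
  haveI := Red.inf_normal hK (N := N) hn r
  refine PiNat.of_dvd ((hC r).mul (red_of_normal hK N r))
    ((Subgroup.relIndex_dvd_of_le_left (C ⊔ N)
      (show (K r ⊓ C) ⊔ (K r ⊓ N) ≤ K r from sup_le inf_le_left inf_le_left)).trans ?_)
  have := sup_relIndex_dvd (A := K r ⊓ N) (N := N) (B := K r ⊓ C) (C := C) inf_le_right inf_le_right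
  rwa [Subgroup.inf_relIndex_right, Subgroup.inf_relIndex_right] at this

theorem Red.le_systemNormalizer [Finite G] (hK : Cfsg.IsComplementSystem K) {C F : Subgroup G}
    [F.Normal] (hC : Red K C) (hCn : Group.IsNilpotent C) (hFn : Group.IsNilpotent F)
    (hFC : C ⊔ F = ⊤) : C ≤ Cfsg.systemNormalizer K := by
  intro x hx
  refine mem_systemNormalizer.2 fun r => ?_
  haveI := Red.inf_normal hK (N := F) hFn r
  set X := (K r ⊓ C) ⊔ (K r ⊓ F)
  have hXK : X ≤ K r := sup_le inf_le_left inf_le_left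
  have h1 : PiNat {(r : ℕ)} (X.relIndex (K r)) := by
    have := sup_relIndex_dvd (A := K r ⊓ F) (N := F) (B := K r ⊓ C) (C := C) inf_le_right inf_le_right
    rw [Subgroup.inf_relIndex_right, Subgroup.inf_relIndex_right, hFC,
      Subgroup.relIndex_top_right] at this
    exact PiNat.of_dvd ((hC r).mul (red_of_normal hK F r))
      ((Subgroup.relIndex_dvd_index_of_le hXK).trans this)
  have h2 : X = K r := by
    refine le_antisymm hXK (Subgroup.relIndex_eq_one.1 ?_)
    by_contra hne
    obtain ⟨q, hq, hqd⟩ := Nat.exists_prime_and_dvd hne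
    exact system_not_dvd_card hK r
      (Set.mem_singleton_iff.1 (h1 q hq hqd) ▸ hqd.trans (Subgroup.relIndex_dvd_card _ _))
  rw [← h2]
  refine Subgroup.mem_normalizer_iff.2 ?_
  have h3 := conj_smul_eq_self_of_mem_normalizer
    (hC.normalizer_le hK hCn r (Subgroup.le_normalizer hx))
  have h4 := conj_smul_eq_self_of_mem_normalizer
    (show x ∈ Subgroup.normalizer ((K r ⊓ F : Subgroup G) : Set G) by
      rw [Subgroup.normalizer_eq_top_iff.2 inferInstance]; exact Subgroup.mem_top x)
  refine Subgroup.mem_normalizer_iff.1 (mem_normalizer_of_conj_smul_eq ?_)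
  rw [Subgroup.smul_sup, h3, h4]

theorem exists_red [Finite G] [Group.IsSolvable G] (C : Subgroup G) :
    ∃ K : Nat.Primes → Subgroup G, Cfsg.IsComplementSystem K ∧ Red K C := by
  have h : ∀ p : Nat.Primes, ∃ H : Subgroup G, H.index = (p : ℕ) ^ (Nat.card G).factorization p ∧
      PiNat {(p : ℕ)} (H.relIndex C) := by
    intro p
    obtain ⟨L, hL1, hL2⟩ := exists_hall (PiSolvable.of_isSolvable (G := C) ({(p : ℕ)}ᶜ))
    obtain ⟨H, hH1, hH2, hLH⟩ := exists_hall_ge (PiSolvable.of_isSolvable (G := G) ({(p : ℕ)}ᶜ))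
      (U := L.map C.subtype) (by rw [card_map_subtype]; exact hL1)
    rw [compl_compl] at hH2 hL2
    refine ⟨H, index_eq_pow_factorization p.2 (k := H.index.primeFactorsList.length)
      (dvd_of_eq (Nat.eq_prime_pow_of_unique_prime_dvd Subgroup.index_ne_zero_of_finite
        fun hq hd => Set.mem_singleton_iff.1 (hH2 _ hq hd)))
      (fun hd => hH1 p p.2 hd rfl), PiNat.of_dvd hL2 ?_⟩
    refine Subgroup.index_dvd_of_le (H := L) (K := H.subgroupOf C) fun y hy => ?_
    exact hLH (Subgroup.mem_map_of_mem C.subtype hy)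
  exact ⟨fun p => (h p).choose, fun p => (h p).choose_spec.1, fun p => (h p).choose_spec.2⟩

theorem mem_systemNormalizer_conj {g x : G} :
    x ∈ MulAut.conj g • Cfsg.systemNormalizer K ↔
      x ∈ Cfsg.systemNormalizer fun p => MulAut.conj g • K p := by
  rw [mem_conj_smul_iff, mem_systemNormalizer, mem_systemNormalizer]
  refine forall_congr' fun p => ?_
  constructor
  · intro h
    refine mem_normalizer_of_conj_smul_eq ?_
    have h' := conj_smul_eq_self_of_mem_normalizer h
    rw [map_mul, map_mul, mul_smul, mul_smul, map_inv, inv_smul_eq_iff] at h'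
    exact h'
  · intro h
    refine mem_normalizer_of_conj_smul_eq ?_
    have h' := conj_smul_eq_self_of_mem_normalizer h
    rw [map_mul, map_mul, mul_smul, mul_smul, map_inv, inv_smul_eq_iff]
    exact h'

theorem systemNormalizer_conj (g : G) :
    Cfsg.systemNormalizer (fun p => MulAut.conj g • K p) =
      MulAut.conj g • Cfsg.systemNormalizer K :=
  Subgroup.ext fun _ => mem_systemNormalizer_conj.symm

theorem systemNormalizer_eq_top_of_nilpotent [Finite G] [Group.IsNilpotent G]
    (hK : Cfsg.IsComplementSystem K) : Cfsg.systemNormalizer K = ⊤ := by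
  refine eq_top_iff.2 fun x _ => mem_systemNormalizer.2 fun p => ?_
  haveI : (K p).Normal := by
    refine hall_normal_of_nilpotent (Nat.coprime_of_dvd fun q hq h1 h2 => ?_)
    rw [hK p] at h2
    exact system_not_dvd_card hK p
      ((Nat.prime_dvd_prime_iff_eq hq p.2).1 (hq.dvd_of_dvd_pow h2) ▸ h1)
  rw [Subgroup.normalizer_eq_top_iff.2 inferInstance]
  exact Subgroup.mem_top x

/-! ### Carter subgroups -/

theorem carter_eq_top [Group.IsNilpotent G] {C : Subgroup G} (hC : Cfsg.IsCarterSubgroup C) :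
    C = ⊤ := by
  by_contra h
  exact (Group.normalizerCondition_of_isNilpotent C (lt_top_iff_ne_top.2 h)).ne hC.2.symm

theorem carter_conj {C : Subgroup G} (hC : Cfsg.IsCarterSubgroup C) (g : G) :
    Cfsg.IsCarterSubgroup (MulAut.conj g • C) := by
  haveI := hC.1
  refine ⟨Group.nilpotent_of_mulEquiv (Subgroup.equivSMul (MulAut.conj g) C), ?_⟩
  refine le_antisymm (fun x hx => ?_) Subgroup.le_normalizer
  rw [mem_conj_smul_iff, ← SetLike.mem_coe, ← hC.2]
  refine mem_normalizer_of_conj_smul_eq ?_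
  rw [map_mul, map_mul, mul_smul, mul_smul, conj_smul_eq_self_of_mem_normalizer hx, map_inv,
    inv_smul_smul]

theorem carter_subgroupOf {C X : Subgroup G} (hC : Cfsg.IsCarterSubgroup C) (h : C ≤ X) :
    Cfsg.IsCarterSubgroup (C.subgroupOf X) := by
  haveI := hC.1
  refine ⟨Group.nilpotent_of_mulEquiv (Subgroup.subgroupOfEquivOfLe h).symm, ?_⟩
  refine le_antisymm (fun x hx => ?_) Subgroup.le_normalizer
  rw [Subgroup.mem_subgroupOf, ← SetLike.mem_coe, ← hC.2]
  refine Subgroup.mem_normalizer_iff.2 fun y => ⟨fun hy => ?_, fun hy => ?_⟩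
  · exact (Subgroup.mem_normalizer_iff.1 hx ⟨y, h hy⟩).1 hy
  · have hyX : y ∈ X := by
      have h1 := mul_mem (mul_mem (inv_mem x.2) (h hy)) x.2
      simpa [mul_assoc] using h1
    exact (Subgroup.mem_normalizer_iff.1 hx ⟨y, hyX⟩).2 hy

/-- Carter subgroups inside a common proper subgroup are conjugate. -/
def CarterConjBelow (G : Type u) [Group G] : Prop :=
  ∀ X : Subgroup G, X ≠ ⊤ → ∀ C D : Subgroup G, Cfsg.IsCarterSubgroup C →
    Cfsg.IsCarterSubgroup D → C ≤ X → D ≤ X → ∃ x ∈ X, MulAut.conj x • C = D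

theorem carter_map {H : Type*} [Group H] {f : G →* H} (hf : Function.Surjective f)
    (hb : CarterConjBelow G) {C : Subgroup G} (hC : Cfsg.IsCarterSubgroup C) :
    Cfsg.IsCarterSubgroup (C.map f) := by
  haveI := hC.1
  refine ⟨Group.nilpotent_of_surjective (f.subgroupMap C) (f.subgroupMap_surjective C), ?_⟩
  refine le_antisymm (fun y hy => ?_) Subgroup.le_normalizer
  obtain ⟨g, rfl⟩ := hf y
  set X := (C.map f).comap f
  have hCX : C ≤ X := Subgroup.le_comap_map f C
  have hgC : MulAut.conj g • C ≤ X := by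
    intro z hz
    rw [mem_conj_smul_iff] at hz
    show f z ∈ C.map f
    have h1 := (Subgroup.mem_normalizer_iff.1 hy _).1 (Subgroup.mem_map_of_mem f hz)
    simpa [mul_assoc] using h1
  show g ∈ X
  by_cases hX : X = ⊤
  · rw [hX]; exact Subgroup.mem_top g
  obtain ⟨x, hx, hxe⟩ := hb X hX _ _ (carter_conj hC g) hC hgC hCX
  rw [← mul_smul, ← map_mul] at hxe
  have h2 : x * g ∈ C := by
    rw [← SetLike.mem_coe, ← hC.2]
    exact mem_normalizer_of_conj_smul_eq hxe
  simpa using mul_mem (inv_mem hx) (hCX h2)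

theorem carter_conjBelow_of [Finite G] [Group.IsSolvable G]
    (h : ∀ (H : Type u) [Group H] [Finite H] [Group.IsSolvable H], Nat.card H < Nat.card G →
      ∀ C D : Subgroup H, Cfsg.IsCarterSubgroup C → Cfsg.IsCarterSubgroup D →
        ∃ g : H, MulAut.conj g • C = D) : CarterConjBelow G := by
  intro X hX C D hC hD hCX hDX
  obtain ⟨x, hx⟩ := h X (card_lt_of_ne_top hX) _ _ (carter_subgroupOf hC hCX)
    (carter_subgroupOf hD hDX)
  refine ⟨x, x.2, ?_⟩
  have h1 := congrArg (Subgroup.map X.subtype) hx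
  rw [conj_smul_eq_map, Subgroup.map_map, Subgroup.map_subgroupOf_eq_of_le hDX,
    show X.subtype.comp (MulAut.conj x).toMonoidHom = (MulAut.conj (x : G)).toMonoidHom.comp X.subtype
      from rfl, ← Subgroup.map_map, Subgroup.map_subgroupOf_eq_of_le hCX, ← conj_smul_eq_map] at h1
  exact h1

theorem nilpotent_of_central_quotient {N : Subgroup G} [N.Normal] (hN : N ≤ Subgroup.center G)
    (hQ : Group.IsNilpotent (G ⧸ N)) : Group.IsNilpotent G := by
  haveI := hQ
  exact Subgroup.isNilpotent_of_ker_le_center (QuotientGroup.mk' N)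
    (by rwa [QuotientGroup.ker_mk'])

theorem minimalNormal_nilpotent [Finite G] [Group.IsSolvable G] {N : Subgroup G}
    (hN : IsMinimalNormal N) : Group.IsNilpotent N := by
  obtain ⟨p, hp, -, hNp⟩ := exists_prime_exponent_of_minimal_solvable hN inferInstance
  haveI := Fact.mk hp
  exact hNp.isNilpotent

theorem carter_conjugate_aux : ∀ n : ℕ, ∀ (G : Type u) [Group G] [Finite G] [Group.IsSolvable G],
    Nat.card G = n → ∀ C D : Subgroup G, Cfsg.IsCarterSubgroup C → Cfsg.IsCarterSubgroup D →
      ∃ g : G, MulAut.conj g • C = D := by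
  intro n
  induction n using Nat.strong_induction_on with
  | _ n ih =>
  intro G _ _ _ hn C₀ D hC₀ hD
  have hb : CarterConjBelow G := carter_conjBelow_of fun H _ _ _ hlt => ih _ (hn ▸ hlt) H rfl
  rcases subsingleton_or_nontrivial G with hs | hnt
  · exact ⟨1, Subsingleton.elim _ _⟩
  obtain ⟨N, hN⟩ := exists_isMinimalNormal (G := G)
  haveI := hN.1
  set f := QuotientGroup.mk' N with hf
  have hsurj := QuotientGroup.mk'_surjective N
  haveI : Group.IsSolvable (G ⧸ N) := Group.isSolvable_of_surjective hsurj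
  obtain ⟨y, hy⟩ := ih _ (hn ▸ card_quotient_lt hN.2.1) (G ⧸ N) rfl _ _
    (carter_map hsurj hb hC₀) (carter_map hsurj hb hD)
  obtain ⟨g, rfl⟩ := hsurj y
  suffices ∃ x : G, MulAut.conj x • (MulAut.conj g • C₀) = D by
    obtain ⟨x, hx⟩ := this
    exact ⟨x * g, by rw [map_mul, mul_smul, hx]⟩
  set C := MulAut.conj g • C₀ with hCdef
  have hC : Cfsg.IsCarterSubgroup C := carter_conj hC₀ g
  have himg : C.map f = D.map f := by
    rw [← hy, hCdef, conj_smul_eq_map, conj_smul_eq_map, Subgroup.map_map, Subgroup.map_map]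
    congr 1
  have hX : C ⊔ N = D ⊔ N := by
    have := congrArg (Subgroup.comap f) himg
    rwa [Subgroup.comap_map_eq, Subgroup.comap_map_eq, QuotientGroup.ker_mk'] at this
  by_cases hXt : C ⊔ N = ⊤
  swap
  · obtain ⟨x, -, hx⟩ := hb _ hXt C D hC hD le_sup_left (hX ▸ le_sup_left)
    exact ⟨x, hx⟩
  have hDt : D ⊔ N = ⊤ := hX ▸ hXt
  by_cases hcen : N ≤ Subgroup.center G
  · haveI := hC.1
    haveI : Group.IsNilpotent G := by
      refine nilpotent_of_central_quotient hcen
        (Group.nilpotent_of_surjective (f.comp C.subtype) fun y => ?_)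
      obtain ⟨z, rfl⟩ := hsurj y
      obtain ⟨c, hc, m, hm, rfl⟩ := Subgroup.mem_sup_of_normal_right.1
        (show z ∈ C ⊔ N by rw [hXt]; exact Subgroup.mem_top z)
      refine ⟨⟨c, hc⟩, ?_⟩
      show f c = f (c * m)
      rw [map_mul, show f m = 1 from (QuotientGroup.eq_one_iff m).2 hm, mul_one]
    exact ⟨1, by rw [map_one, one_smul, carter_eq_top hC, carter_eq_top hD]⟩
  have key : ∀ E : Subgroup G, Cfsg.IsCarterSubgroup E → E ⊔ N = ⊤ →
      ∃ K : Nat.Primes → Subgroup G, Cfsg.IsComplementSystem K ∧ E = Cfsg.systemNormalizer K := by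
    intro E hE hEN
    obtain ⟨K, hK, hR⟩ := exists_red E
    have hle := hR.le_systemNormalizer hK hE.1 (minimalNormal_nilpotent hN) hEN
    refine ⟨K, hK, le_antisymm hle fun x hx => ?_⟩
    obtain ⟨e, he, m, hm, rfl⟩ := Subgroup.mem_sup_of_normal_right.1
      (show x ∈ E ⊔ N by rw [hEN]; exact Subgroup.mem_top x)
    have hmD : m ∈ N ⊓ Cfsg.systemNormalizer K :=
      Subgroup.mem_inf.2 ⟨hm, by simpa using mul_mem (inv_mem (hle he)) hx⟩
    rw [inf_systemNormalizer_eq_bot hK hN hcen, Subgroup.mem_bot] at hmD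
    rwa [hmD, mul_one]
  obtain ⟨K, hK, eC⟩ := key C hC hXt
  obtain ⟨L, hL, eD⟩ := key D hD hDt
  obtain ⟨x, hx⟩ := system_conjugate hK hL
  refine ⟨x, ?_⟩
  rw [eC, eD, ← systemNormalizer_conj]
  exact congrArg _ (funext hx)

theorem carter_conjugate [Finite G] [Group.IsSolvable G] {C D : Subgroup G}
    (hC : Cfsg.IsCarterSubgroup C) (hD : Cfsg.IsCarterSubgroup D) :
    ∃ g : G, MulAut.conj g • C = D :=
  carter_conjugate_aux _ G rfl C D hC hD

theorem carterConjBelow [Finite G] [Group.IsSolvable G] : CarterConjBelow G :=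
  carter_conjBelow_of fun _ _ _ _ _ _ _ hC hD => carter_conjugate hC hD

theorem exists_carter_aux : ∀ n : ℕ, ∀ (G : Type u) [Group G] [Finite G] [Group.IsSolvable G],
    Nat.card G = n → ∃ C : Subgroup G, Cfsg.IsCarterSubgroup C := by
  intro n
  induction n using Nat.strong_induction_on with
  | _ n ih =>
  intro G _ _ _ hn
  rcases subsingleton_or_nontrivial G with hs | hnt
  · exact ⟨⊤, inferInstance, Subsingleton.elim _ _⟩
  obtain ⟨N, hN⟩ := exists_isMinimalNormal (G := G)
  haveI := hN.1
  set f := QuotientGroup.mk' N with hf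
  have hsurj := QuotientGroup.mk'_surjective N
  haveI : Group.IsSolvable (G ⧸ N) := Group.isSolvable_of_surjective hsurj
  obtain ⟨C', hC'⟩ := ih _ (hn ▸ card_quotient_lt hN.2.1) (G ⧸ N) rfl
  set X := C'.comap f with hXdef
  by_cases hX : X = ⊤
  swap
  · haveI := hC'.1
    obtain ⟨C, hC⟩ := ih _ (hn ▸ card_lt_of_ne_top hX) X rfl
    have hr : Function.Surjective (f.subgroupComap C') := fun y => by
      obtain ⟨z, hz⟩ := hsurj (y : G ⧸ N)
      exact ⟨⟨z, show f z ∈ C' by rw [hz]; exact y.2⟩, Subtype.ext hz⟩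
    have hmapC : C.map (f.subgroupComap C') = ⊤ := carter_eq_top (carter_map hr carterConjBelow hC)
    set E := C.map X.subtype
    haveI := hC.1
    refine ⟨E, Group.nilpotent_of_mulEquiv (C.equivMapOfInjective _ X.subtype_injective), ?_⟩
    refine le_antisymm (fun g hg => ?_) Subgroup.le_normalizer
    have hgX : g ∈ X := by
      show f g ∈ C'
      rw [← SetLike.mem_coe, ← hC'.2]
      have hE : E.map f = C' := by
        rw [Subgroup.map_map]
        refine le_antisymm ?_ fun y hy => ?_
        · rintro _ ⟨z, -, rfl⟩; exact z.2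
        · obtain ⟨z, hz, e⟩ : (⟨y, hy⟩ : C') ∈ C.map (f.subgroupComap C') := hmapC ▸ Subgroup.mem_top _
          exact ⟨z, hz, congrArg Subtype.val e⟩
      rw [← hE]
      exact Subgroup.le_normalizer_map f (Subgroup.mem_map_of_mem f hg)
    refine ⟨⟨g, hgX⟩, ?_, rfl⟩
    rw [← hC.2]
    refine Subgroup.mem_normalizer_iff.2 fun y => ?_
    have h1 : X.subtype y ∈ C.map X.subtype ↔
        X.subtype (⟨g, hgX⟩ * y * (⟨g, hgX⟩ : X)⁻¹) ∈ C.map X.subtype :=
      Subgroup.mem_normalizer_iff.1 hg (y : G)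
    rwa [Subgroup.mem_map_iff_mem X.subtype_injective,
      Subgroup.mem_map_iff_mem X.subtype_injective] at h1
  haveI hQ : Group.IsNilpotent (G ⧸ N) := by
    haveI := hC'.1
    have e : C' = ⊤ := by
      rw [← Subgroup.map_comap_eq_self_of_surjective hsurj C', ← hXdef, hX,
        Subgroup.map_top_of_surjective f hsurj]
    exact Group.nilpotent_of_surjective C'.subtype fun y => ⟨⟨y, e ▸ Subgroup.mem_top y⟩, rfl⟩
  by_cases hcen : N ≤ Subgroup.center G
  · haveI := nilpotent_of_central_quotient hcen hQ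
    exact ⟨⊤, inferInstance, top_le_iff.1 Subgroup.le_normalizer⟩
  obtain ⟨K, hK⟩ := exists_complementSystem (G := G)
  set D := Cfsg.systemNormalizer K with hD
  have hDN : D ⊔ N = ⊤ := by
    have h1 := systemNormalizer_map hK N
    rw [systemNormalizer_eq_top_of_nilpotent (system_map hK N)] at h1
    have h2 := congrArg (Subgroup.comap f) h1
    rw [Subgroup.comap_top, Subgroup.comap_map_eq, QuotientGroup.ker_mk'] at h2
    exact h2.symm
  have hbot := inf_systemNormalizer_eq_bot hK hN hcen
  refine ⟨D, systemNormalizer_isNilpotent hK, le_antisymm (fun g hg => ?_) Subgroup.le_normalizer⟩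
  obtain ⟨d, hd, m, hm, rfl⟩ := Subgroup.mem_sup_of_normal_right.1
    (show g ∈ D ⊔ N by rw [hDN]; exact Subgroup.mem_top g)
  have hmN : m ∈ Subgroup.normalizer (D : Set G) := by
    simpa using mul_mem (inv_mem (Subgroup.le_normalizer hd)) hg
  have hcomm : ∀ a ∈ D, m * a = a * m := by
    intro a ha
    have h1 : m * a * m⁻¹ * a⁻¹ ∈ N ⊓ D := by
      refine Subgroup.mem_inf.2 ⟨?_, mul_mem ((Subgroup.mem_normalizer_iff.1 hmN a).1 ha) (inv_mem ha)⟩
      rw [show m * a * m⁻¹ * a⁻¹ = m * (a * m⁻¹ * a⁻¹) by group]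
      exact mul_mem hm (hN.1.conj_mem _ (inv_mem hm) a)
    rw [hbot, Subgroup.mem_bot] at h1
    calc m * a = (m * a * m⁻¹ * a⁻¹) * (a * m) := by group
      _ = a * m := by rw [h1, one_mul]
  haveI := isMulCommutative_of_minimal_solvable hN inferInstance
  have hmc : m ∈ N ⊓ Subgroup.center G := by
    refine Subgroup.mem_inf.2 ⟨hm, Subgroup.mem_center_iff.2 fun z => ?_⟩
    obtain ⟨a, ha, b, hb, rfl⟩ := Subgroup.mem_sup_of_normal_right.1
      (show z ∈ D ⊔ N by rw [hDN]; exact Subgroup.mem_top z)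
    have h2 : b * m = m * b := congrArg Subtype.val (mul_comm' (⟨b, hb⟩ : N) ⟨m, hm⟩)
    rw [mul_assoc, h2, ← mul_assoc, ← hcomm a ha, mul_assoc]
  rcases hN.2.2 (N ⊓ Subgroup.center G) inferInstance inf_le_left with h | h
  · rw [h, Subgroup.mem_bot] at hmc
    rwa [hmc, mul_one]
  · exact absurd (h ▸ inf_le_right) hcen

theorem exists_carter [Finite G] [Group.IsSolvable G] :
    ∃ C : Subgroup G, Cfsg.IsCarterSubgroup C :=
  exists_carter_aux _ G rfl

theorem systemNormalizer_le_carter_aux : ∀ n : ℕ, ∀ (G : Type u) [Group G] [Finite G]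
    [Group.IsSolvable G], Nat.card G = n → ∀ (C : Subgroup G) (K : Nat.Primes → Subgroup G),
      Cfsg.IsCarterSubgroup C → Cfsg.IsComplementSystem K → Red K C →
        Cfsg.systemNormalizer K ≤ C := by
  intro n
  induction n using Nat.strong_induction_on with
  | _ n ih =>
  intro G _ _ _ hn C K hC hK hR
  rcases subsingleton_or_nontrivial G with hs | hnt
  · exact (Subsingleton.elim (Cfsg.systemNormalizer K) C).le
  obtain ⟨N, hN⟩ := exists_isMinimalNormal (G := G)
  haveI := hN.1
  set f := QuotientGroup.mk' N with hf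
  have hsurj := QuotientGroup.mk'_surjective N
  haveI : Group.IsSolvable (G ⧸ N) := Group.isSolvable_of_surjective hsurj
  have h1 := ih _ (hn ▸ card_quotient_lt hN.2.1) (G ⧸ N) rfl (C.map f) _
    (carter_map hsurj carterConjBelow hC) (system_map hK N) fun r =>
      PiNat.of_dvd (hR r) (by
        rw [← Subgroup.relIndex_comap]
        exact Subgroup.relIndex_dvd_of_le_left _ (Subgroup.le_comap_map f (K r)))
  rw [systemNormalizer_map hK N, Subgroup.map_le_iff_le_comap, Subgroup.comap_map_eq,
    QuotientGroup.ker_mk'] at h1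
  by_cases hX : C ⊔ N = ⊤
  · by_cases hcen : N ≤ Subgroup.center G
    · haveI := hC.1
      haveI : Group.IsNilpotent G := by
        refine nilpotent_of_central_quotient hcen
          (Group.nilpotent_of_surjective (f.comp C.subtype) fun y => ?_)
        obtain ⟨z, rfl⟩ := hsurj y
        obtain ⟨c, hc, m, hm, rfl⟩ := Subgroup.mem_sup_of_normal_right.1
          (show z ∈ C ⊔ N by rw [hX]; exact Subgroup.mem_top z)
        refine ⟨⟨c, hc⟩, ?_⟩
        show f c = f (c * m)
        rw [map_mul, show f m = 1 from (QuotientGroup.eq_one_iff m).2 hm, mul_one]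
      rw [carter_eq_top hC]; exact le_top
    intro x hx
    have hle := hR.le_systemNormalizer hK hC.1 (minimalNormal_nilpotent hN) hX
    obtain ⟨e, he, m, hm, rfl⟩ := Subgroup.mem_sup_of_normal_right.1 (h1 hx)
    have hmD : m ∈ N ⊓ Cfsg.systemNormalizer K :=
      Subgroup.mem_inf.2 ⟨hm, by simpa using mul_mem (inv_mem (hle he)) hx⟩
    rw [inf_systemNormalizer_eq_bot hK hN hcen, Subgroup.mem_bot] at hmD
    rwa [hmD, mul_one]
  set X := C ⊔ N
  have hRX : Red K X := hR.sup hK (minimalNormal_nilpotent hN)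
  have hKX : Cfsg.IsComplementSystem fun r => (K r).subgroupOf X := fun r =>
    index_eq_pow_factorization r.2 (k := ((K r).relIndex X).primeFactorsList.length)
      (dvd_of_eq (Nat.eq_prime_pow_of_unique_prime_dvd (Subgroup.index_ne_zero_of_finite
        (H := (K r).subgroupOf X)) fun hq hd => Set.mem_singleton_iff.1 (hRX r _ hq hd)))
      fun hd => system_not_dvd_card hK r
        (hd.trans (Subgroup.card_comap_dvd_of_injective _ _ X.subtype_injective))
  have hCX : C ≤ X := le_sup_left
  have h2 := ih _ (hn ▸ card_lt_of_ne_top hX) X rfl (C.subgroupOf X) _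
    (carter_subgroupOf hC hCX) hKX fun r => by
      have e : ((K r).subgroupOf X).relIndex (C.subgroupOf X) = (K r).relIndex C := by
        rw [Subgroup.relIndex_subgroupOf hCX]
      rw [e]; exact hR r
  intro x hx
  refine h2 (show (⟨x, h1 hx⟩ : X) ∈ _ from mem_systemNormalizer.2 fun r => ?_)
  refine Subgroup.mem_normalizer_iff.2 fun y => ?_
  exact Subgroup.mem_normalizer_iff.1 (mem_systemNormalizer.1 hx r) (y : G)

theorem systemNormalizer_le_carter [Finite G] [Group.IsSolvable G] {C : Subgroup G}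
    (hC : Cfsg.IsCarterSubgroup C) (hK : Cfsg.IsComplementSystem K) (hR : Red K C) :
    Cfsg.systemNormalizer K ≤ C :=
  systemNormalizer_le_carter_aux _ G rfl C K hC hK hR

theorem exists_carter_ge_systemNormalizer [Finite G] [Group.IsSolvable G]
    (hK : Cfsg.IsComplementSystem K) :
    ∃ C : Subgroup G, Cfsg.IsCarterSubgroup C ∧ Cfsg.systemNormalizer K ≤ C := by
  obtain ⟨C, hC⟩ := exists_carter (G := G)
  obtain ⟨L, hL, hR⟩ := exists_red C
  obtain ⟨g, hg⟩ := system_conjugate hL hK
  refine ⟨MulAut.conj g • C, carter_conj hC g, ?_⟩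
  rw [show K = fun p => MulAut.conj g • L p from funext fun p => (hg p).symm, systemNormalizer_conj]
  exact Subgroup.pointwise_smul_le_pointwise_smul_iff.2 (systemNormalizer_le_carter hC hL hR)

theorem carter_iff_systemNormalizer [Finite G] (F : Subgroup G) [F.Normal]
    (hF : Group.IsNilpotent F) (hGF : Group.IsNilpotent (G ⧸ F)) (C : Subgroup G) :
    Cfsg.IsCarterSubgroup C ↔
      ∃ K : Nat.Primes → Subgroup G, Cfsg.IsComplementSystem K ∧ C = Cfsg.systemNormalizer K := by
  haveI := hF
  haveI := hGF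
  haveI : Group.IsSolvable G := Group.isSolvable_of_ker_le_range F.subtype (QuotientGroup.mk' F) (by simp)
  have key : ∀ (C : Subgroup G) (K : Nat.Primes → Subgroup G), Cfsg.IsCarterSubgroup C →
      Cfsg.IsComplementSystem K → Red K C → C = Cfsg.systemNormalizer K := by
    intro C K hC hK hR
    refine le_antisymm (hR.le_systemNormalizer hK hC.1 hF ?_) (systemNormalizer_le_carter hC hK hR)
    have h1 := carter_eq_top (carter_map (QuotientGroup.mk'_surjective F) carterConjBelow hC)
    have h2 := congrArg (Subgroup.comap (QuotientGroup.mk' F)) h1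
    rwa [Subgroup.comap_top, Subgroup.comap_map_eq, QuotientGroup.ker_mk'] at h2
  constructor
  · intro hC
    obtain ⟨K, hK, hR⟩ := exists_red C
    exact ⟨K, hK, key C K hC hK hR⟩
  · rintro ⟨K, hK, rfl⟩
    obtain ⟨C', hC'⟩ := exists_carter (G := G)
    obtain ⟨L, hL, hR⟩ := exists_red C'
    obtain ⟨g, hg⟩ := system_conjugate hL hK
    rw [show K = fun p => MulAut.conj g • L p from funext fun p => (hg p).symm,
      systemNormalizer_conj, ← key C' L hC' hL hR]
    exact carter_conj hC' g

end CfsgLib.Solv
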