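import Cfsg.Agent.Solv.CoprimeAction
import Mathlib.GroupTheory.Solvable

/-!
Itô: a product of two abelian subgroups is metabelian.
-/

set_option autoImplicit false

open scoped commutatorElement

namespace CfsgLib.Solv

variable {G : Type*} [Group G]

theorem ito_metabelian (A B : Subgroup G) [hA : IsMulCommutative A] [hB : IsMulCommutative B]
    (hAB : ∀ g : G, ∃ a ∈ A, ∃ b ∈ B, g = a * b) : derivedSeries G 2 = ⊥ := by
  have hBA : ∀ g : G, ∃ b ∈ B, ∃ a ∈ A, g = b * a := by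
    intro g
    obtain ⟨a, ha, b, hb, he⟩ := hAB g⁻¹
    exact ⟨b⁻¹, inv_mem hb, a⁻¹, inv_mem ha, by rw [← mul_inv_rev, ← he, inv_inv]⟩
  have cA : ∀ x ∈ A, ∀ y ∈ A, x * y = y * x := fun x hx y hy =>
    congrArg Subtype.val (hA.is_comm.comm ⟨x, hx⟩ ⟨y, hy⟩)
  have cB : ∀ x ∈ B, ∀ y ∈ B, x * y = y * x := fun x hx y hy =>
    congrArg Subtype.val (hB.is_comm.comm ⟨x, hx⟩ ⟨y, hy⟩)
  have key : ∀ a ∈ A, ∀ b ∈ B, ∀ a₁ ∈ A, ∀ b₁ ∈ B,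
      (a₁ * b₁) * ⁅a, b⁆ * (a₁ * b₁)⁻¹ = (b₁ * a₁) * ⁅a, b⁆ * (b₁ * a₁)⁻¹ := by
    intro a ha b hb a₁ ha₁ b₁ hb₁
    obtain ⟨a₂, ha₂, b₂, hb₂, h2⟩ := hAB (b₁ * a * b₁⁻¹)
    obtain ⟨b₃, hb₃, a₃, ha₃, h3⟩ := hBA (a₁ * b * a₁⁻¹)
    -- conjugation by `b₁` on `⁅x, y⁆` with `y ∈ B`, and by `a₁` on `⁅x, y⁆` with `x ∈ A`
    have hb' : ∀ y ∈ B, b₁ * ⁅a, y⁆ * b₁⁻¹ = ⁅a₂, y⁆ := by
      intro y hy
      have e1 : b₁ * ⁅a, y⁆ * b₁⁻¹ = ⁅b₁ * a * b₁⁻¹, b₁ * y * b₁⁻¹⁆ := by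
        simp [commutatorElement_def, mul_assoc]
      have e2 : b₁ * y * b₁⁻¹ = y := by rw [cB b₁ hb₁ y hy, mul_inv_cancel_right]
      have e3 : b₂ * y = y * b₂ := cB b₂ hb₂ y hy
      rw [e1, e2, h2, commutatorElement_def, commutatorElement_def, mul_inv_rev]
      calc a₂ * b₂ * y * (b₂⁻¹ * a₂⁻¹) * y⁻¹ = a₂ * (b₂ * y) * b₂⁻¹ * a₂⁻¹ * y⁻¹ := by group
        _ = a₂ * y * a₂⁻¹ * y⁻¹ := by rw [e3]; group
    have ha' : ∀ x ∈ A, a₁ * ⁅x, b⁆ * a₁⁻¹ = ⁅x, b₃⁆ := by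
      intro x hx
      have e1 : a₁ * ⁅x, b⁆ * a₁⁻¹ = ⁅a₁ * x * a₁⁻¹, a₁ * b * a₁⁻¹⁆ := by
        simp [commutatorElement_def, mul_assoc]
      have e2 : a₁ * x * a₁⁻¹ = x := by rw [cA a₁ ha₁ x hx, mul_inv_cancel_right]
      have e3 : a₃ * x⁻¹ = x⁻¹ * a₃ := cA a₃ ha₃ _ (inv_mem hx)
      rw [e1, e2, h3, commutatorElement_def, commutatorElement_def, mul_inv_rev]
      calc x * (b₃ * a₃) * x⁻¹ * (a₃⁻¹ * b₃⁻¹) = x * b₃ * (a₃ * x⁻¹) * a₃⁻¹ * b₃⁻¹ := by group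
        _ = x * b₃ * x⁻¹ * b₃⁻¹ := by rw [e3]; group
    calc (a₁ * b₁) * ⁅a, b⁆ * (a₁ * b₁)⁻¹ = a₁ * (b₁ * ⁅a, b⁆ * b₁⁻¹) * a₁⁻¹ := by group
      _ = ⁅a₂, b₃⁆ := by rw [hb' b hb, ha' a₂ ha₂]
      _ = b₁ * (a₁ * ⁅a, b⁆ * a₁⁻¹) * b₁⁻¹ := by rw [ha' a ha, hb' b₃ hb₃]
      _ = _ := by group
  have hcomm : ⁅⁅A, B⁆, ⁅A, B⁆⁆ = ⊥ := by
    rw [Subgroup.commutator_eq_bot_iff_le_centralizer, Subgroup.commutator_le]
    intro a₁ ha₁ b₁ hb₁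
    rw [Subgroup.commutator_def, Subgroup.centralizer_closure, Subgroup.mem_centralizer_iff]
    rintro _ ⟨a, ha, b, hb, rfl⟩
    have h := key a ha b hb a₁⁻¹ (inv_mem ha₁) b₁⁻¹ (inv_mem hb₁)
    set c := ⁅a, b⁆
    set u := a₁⁻¹ * b₁⁻¹ with hu
    set v := b₁⁻¹ * a₁⁻¹ with hv
    have h1 : (v⁻¹ * u) * c * (v⁻¹ * u)⁻¹ = c := by
      calc (v⁻¹ * u) * c * (v⁻¹ * u)⁻¹ = v⁻¹ * (u * c * u⁻¹) * v := by group
        _ = c := by rw [h]; group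
    have h2 : v⁻¹ * u = ⁅a₁, b₁⁆ := by simp [hu, hv, commutatorElement_def, mul_assoc]
    rw [h2, mul_inv_eq_iff_eq_mul] at h1
    exact h1.symm
  have hn : ⁅A, B⁆.Normal := by
    rw [← Subgroup.normalizer_eq_top_iff, eq_top_iff]
    intro g _
    obtain ⟨a, ha, b, hb, rfl⟩ := hAB g
    exact mul_mem (left_le_normalizer_commutator A B ha) (right_le_normalizer_commutator A B hb)
  have hle : commutator G ≤ ⁅A, B⁆ := by
    rw [commutator_def, Subgroup.commutator_le]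
    intro g _ h _
    rw [← QuotientGroup.eq_one_iff]
    obtain ⟨a, ha, b, hb, rfl⟩ := hAB g
    obtain ⟨a', ha', b', hb', rfl⟩ := hAB h
    have hab : ∀ x ∈ A, ∀ y ∈ B,
        (x : G ⧸ ⁅A, B⁆) * y = (y : G ⧸ ⁅A, B⁆) * x := fun x hx y hy => by
      rw [← QuotientGroup.mk_mul, ← QuotientGroup.mk_mul, eq_comm, QuotientGroup.eq]
      have := Subgroup.commutator_mem_commutator (inv_mem hx) (inv_mem hy)
      simpa [commutatorElement_def, mul_assoc] using this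
    show QuotientGroup.mk' _ _ = 1
    rw [map_commutatorElement, commutatorElement_eq_one_iff_mul_comm]
    simp only [QuotientGroup.mk'_apply, QuotientGroup.mk_mul]
    have A1 : (a : G ⧸ ⁅A, B⁆) * a' = (a' : G ⧸ ⁅A, B⁆) * a := by
      rw [← QuotientGroup.mk_mul, ← QuotientGroup.mk_mul, cA a ha a' ha']
    have B1 : (b : G ⧸ ⁅A, B⁆) * b' = (b' : G ⧸ ⁅A, B⁆) * b := by
      rw [← QuotientGroup.mk_mul, ← QuotientGroup.mk_mul, cB b hb b' hb']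
    calc (a : G ⧸ ⁅A, B⁆) * b * (a' * b') = a * (b * a') * b' := by group
      _ = a * (a' * b) * b' := by rw [hab a' ha' b hb]
      _ = (a * a') * (b * b') := by group
      _ = (a' * a) * (b' * b) := by rw [A1, B1]
      _ = a' * (a * b') * b := by group
      _ = a' * (b' * a) * b := by rw [hab a ha b' hb']
      _ = a' * b' * (a * b) := by group
  rw [show (2 : ℕ) = 1 + 1 from rfl, derivedSeries_succ, derivedSeries_one]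
  exact le_bot_iff.1 ((Subgroup.commutator_mono hle hle).trans hcomm.le)

end CfsgLib.Solv
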