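import Cfsg.Agent.Solv.Basic
import Mathlib.GroupTheory.Schreier

/-!
Gaschütz: an abelian normal subgroup is complemented as soon as it is complemented in a subgroup
of coprime index; such complements with the same trace there are conjugate.
-/

set_option autoImplicit false
set_option linter.style.haveILetI false
set_option linter.deprecated false
set_option linter.unusedSectionVars false

open scoped Pointwise

namespace CfsgLib.Solv

variable {G : Type*} [Group G] [Finite G] {K U : Subgroup G} [hKn : K.Normal]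

/-- A section of `G → G/K` equivariant under left multiplication by `A`. -/
structure IsSec (K A : Subgroup G) (σ : G → G) : Prop where
  mem : ∀ x, x⁻¹ * σ x ∈ K
  right : ∀ x, ∀ k ∈ K, σ (x * k) = σ x
  left : ∀ a ∈ A, ∀ x, σ (a * x) = a * σ x

theorem IsSec.translate {A : Subgroup G} {σ : G → G} (h : IsSec K A σ) (g : G) :
    IsSec K A (fun x => σ (x * g⁻¹) * g) := by
  refine ⟨fun x => ?_, fun x k hk => ?_, fun a ha x => ?_⟩
  · have := hKn.conj_mem _ (h.mem (x * g⁻¹)) g⁻¹
    simpa [mul_assoc] using this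
  · have e : x * k * g⁻¹ = x * g⁻¹ * (g * k * g⁻¹) := by group
    simp only [e, h.right _ _ (hKn.conj_mem k hk g)]
  · have e : a * x * g⁻¹ = a * (x * g⁻¹) := by group
    simp only [e, h.left a ha, mul_assoc]

theorem IsSec.inv_mul_mem {A : Subgroup G} {σ τ : G → G} (h : IsSec K A σ) (h' : IsSec K A τ) (x : G) :
    (σ x)⁻¹ * τ x ∈ K := by
  have := mul_mem (inv_mem (h.mem x)) (h'.mem x)
  simpa [mul_assoc] using this

theorem IsSec.invariant {A : Subgroup G} {σ τ : G → G} (h : IsSec K A σ) (h' : IsSec K A τ)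
    (hKA : K ⊔ A = U) {u : G} (hu : u ∈ U) (x : G) : (σ (u * x))⁻¹ * τ (u * x) = (σ x)⁻¹ * τ x := by
  obtain ⟨k, hk, a, ha, rfl⟩ := Subgroup.mem_sup_of_normal_left.1 (hKA.ge hu)
  have e : k * a * x = a * x * ((a * x)⁻¹ * k * (a * x)) := by group
  have hk' : (a * x)⁻¹ * k * (a * x) ∈ K := by simpa using hKn.conj_mem k hk (a * x)⁻¹
  rw [e, h.right _ _ hk', h'.right _ _ hk', h.left a ha, h'.left a ha]
  group

open scoped Classical in
/-- The product of the differences of two sections over the right cosets of `U`. -/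
noncomputable def secDiff [IsMulCommutative K] (U : Subgroup G) (σ τ : G → G) : K :=
  letI : CommGroup K := { (inferInstance : Group K) with mul_comm := (inferInstance : IsMulCommutative K).is_comm.comm }
  letI : Fintype (Quotient (QuotientGroup.rightRel U)) := Fintype.ofFinite _
  ∏ q : Quotient (QuotientGroup.rightRel U),
    if h : (σ q.out)⁻¹ * τ q.out ∈ K then (⟨_, h⟩ : K) else 1

variable [hab : IsMulCommutative K] {A : Subgroup G}

open scoped IsMulCommutative in
theorem secDiff_mul {σ τ ρ : G → G} (h : IsSec K A σ) (h' : IsSec K A τ) (h'' : IsSec K A ρ) :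
    (secDiff (K := K) U σ τ) * secDiff U τ ρ = secDiff U σ ρ := by
  letI : CommGroup K := { (inferInstance : Group K) with mul_comm := hab.is_comm.comm }
  letI : Fintype (Quotient (QuotientGroup.rightRel U)) := Fintype.ofFinite _
  unfold secDiff
  rw [← Finset.prod_mul_distrib]
  refine Finset.prod_congr rfl fun q _ => ?_
  rw [dif_pos (h.inv_mul_mem h' _), dif_pos (h'.inv_mul_mem h'' _), dif_pos (h.inv_mul_mem h'' _)]
  refine Subtype.ext ?_
  show (σ q.out)⁻¹ * τ q.out * ((τ q.out)⁻¹ * ρ q.out) = (σ q.out)⁻¹ * ρ q.out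
  group

theorem secDiff_translate (hKA : K ⊔ A = U) {σ τ : G → G} (h : IsSec K A σ) (h' : IsSec K A τ) (g : G) :
    secDiff (K := K) U (fun x => σ (x * g⁻¹) * g) (fun x => τ (x * g⁻¹) * g) =
      MulAut.conjNormal g⁻¹ (secDiff U σ τ) := by
  letI : CommGroup K := { (inferInstance : Group K) with mul_comm := hab.is_comm.comm }
  letI : Fintype (Quotient (QuotientGroup.rightRel U)) := Fintype.ofFinite _
  unfold secDiff
  rw [← MulEquiv.coe_toMonoidHom, map_prod]
  let e : Quotient (QuotientGroup.rightRel U) ≃ Quotient (QuotientGroup.rightRel U) :=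
    Quotient.congr (Equiv.mulRight g⁻¹) (fun a b => by
      simp only [QuotientGroup.rightRel_apply, Equiv.coe_mulRight]
      constructor <;> intro hh <;> simpa [mul_assoc] using hh)
  refine Fintype.prod_equiv (M := K) e _ _ fun q => ?_
  have hr : (e q).out * (q.out * g⁻¹)⁻¹ ∈ U := by
    rw [← QuotientGroup.rightRel_apply]
    refine Quotient.exact' ?_
    show ⟦q.out * g⁻¹⟧ = ⟦(e q).out⟧
    rw [Quotient.out_eq]
    conv_rhs => rw [← Quotient.out_eq q]
    rfl
  have hinv := h.invariant h' hKA hr (q.out * g⁻¹)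
  rw [inv_mul_cancel_right] at hinv
  rw [dif_pos ((h.translate g).inv_mul_mem (h'.translate g) _), dif_pos (h.inv_mul_mem h' _)]
  refine Subtype.ext ?_
  simp only [MulEquiv.coe_toMonoidHom, MulAut.conjNormal_apply, hinv]
  group

theorem secDiff_const (hKA : K ⊔ A = U) {σ : G → G} (h : IsSec K A σ) {k : G} (hk : k ∈ K) :
    secDiff (K := K) U σ (fun x => σ (x * k⁻¹) * k) = (⟨k, hk⟩ : K) ^ U.index := by
  letI : CommGroup K := { (inferInstance : Group K) with mul_comm := hab.is_comm.comm }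
  letI : Fintype (Quotient (QuotientGroup.rightRel U)) := Fintype.ofFinite _
  unfold secDiff
  have e : U.index = Fintype.card (Quotient (QuotientGroup.rightRel U)) := by
    rw [← Nat.card_eq_fintype_card, Subgroup.index_eq_card]
    exact (Nat.card_congr (QuotientGroup.quotientRightRelEquivQuotientLeftRel U)).symm
  rw [e, ← Finset.card_univ, ← Finset.prod_const]
  refine Finset.prod_congr (by ext; simp) fun q _ => ?_
  have hq : (σ q.out)⁻¹ * (σ (q.out * k⁻¹) * k) = k := by
    rw [h.right _ _ (inv_mem hk), inv_mul_cancel_left]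
  rw [dif_pos (by rw [hq]; exact hk)]
  exact Subtype.ext hq

theorem exists_isSec (hKU : K ≤ U) (hAU : A ≤ U) (hAK : A ⊓ K = ⊥) (hKA : K ⊔ A = U) :
    ∃ σ : G → G, IsSec K A σ := by
  classical
  have hc : ∀ u : G, ∃ a : G, u ∈ U → a ∈ A ∧ a⁻¹ * u ∈ K := by
    intro u
    by_cases hu : u ∈ U
    · obtain ⟨k, hk, a, ha, rfl⟩ := Subgroup.mem_sup_of_normal_left.1 (hKA.ge hu)
      exact ⟨a, fun _ => ⟨ha, by simpa [mul_assoc] using hKn.conj_mem k hk a⁻¹⟩⟩
    · exact ⟨1, fun h => absurd h hu⟩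
  choose c hc using hc
  have huniq : ∀ u ∈ U, ∀ a ∈ A, a⁻¹ * u ∈ K → c u = a := by
    intro u hu a ha hau
    have h1 : a⁻¹ * c u ∈ A ⊓ K := Subgroup.mem_inf.2 ⟨mul_mem (inv_mem ha) (hc u hu).1, by
      have := mul_mem hau (inv_mem (hc u hu).2); simpa [mul_assoc] using this⟩
    rw [hAK, Subgroup.mem_bot, inv_mul_eq_one] at h1
    exact h1.symm
  let r : G → G := fun x => (Quotient.mk (QuotientGroup.rightRel U) x).out
  have hr : ∀ x, x * (r x)⁻¹ ∈ U := fun x => by
    rw [← QuotientGroup.rightRel_apply]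
    exact Quotient.exact' (Quotient.out_eq _)
  have hreq : ∀ u ∈ U, ∀ x, r (u * x) = r x := fun u hu x => by
    refine congrArg Quotient.out (Quotient.sound' ?_)
    rw [QuotientGroup.rightRel_apply]
    simpa [mul_assoc] using inv_mem hu
  refine ⟨fun x => c (x * (r x)⁻¹) * r x, fun x => ?_, fun x k hk => ?_, fun a ha x => ?_⟩
  · obtain ⟨-, h2⟩ := hc _ (hr x)
    have := hKn.conj_mem _ (inv_mem h2) (r x)⁻¹
    simpa [mul_assoc] using this
  · have hu : x * k * x⁻¹ ∈ U := hKU (hKn.conj_mem k hk x)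
    have e1 : r (x * k) = r x := by
      rw [show x * k = (x * k * x⁻¹) * x by group]
      exact hreq _ hu x
    simp only [e1]
    congr 1
    refine huniq _ (by have := hr (x * k); rwa [e1] at this) _ (hc _ (hr x)).1 ?_
    have h3 := mul_mem (hc _ (hr x)).2 (hKn.conj_mem k hk (r x))
    simpa [mul_assoc] using h3
  · simp only [hreq a (hAU ha) x]
    rw [← mul_assoc a (c _) (r x)]
    congr 1
    refine huniq _ (by rw [mul_assoc]; exact mul_mem (hAU ha) (hr x)) _ (mul_mem ha (hc _ (hr x)).1) ?_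
    simpa [mul_assoc] using (hc _ (hr x)).2

theorem exists_complement_of_sub (hKU : K ≤ U) (hcop : (Nat.card K).Coprime U.index)
    (hAU : A ≤ U) (hAK : A ⊓ K = ⊥) (hKA : K ⊔ A = U) : ∃ H : Subgroup G, K.IsComplement' H := by
  obtain ⟨σ, hσ⟩ := exists_isSec hKU hAU hAK hKA
  set φ : G → K := fun g => secDiff (K := K) U σ (fun x => σ (x * g⁻¹) * g) with hφ
  have hcoc : ∀ g h : G, φ (g * h) = φ h * MulAut.conjNormal h⁻¹ (φ g) := by
    intro g h
    simp only [hφ]
    rw [← secDiff_translate hKA hσ (hσ.translate g) h, secDiff_mul hσ (hσ.translate h) ((hσ.translate g).translate h)]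
    congr 1
    funext x
    simp only [mul_inv_rev, mul_assoc]
  have h1 : φ 1 = 1 := by
    have := hcoc 1 1
    rw [mul_one, inv_one, map_one, MulAut.one_apply] at this
    exact mul_eq_left.1 this.symm
  let H : Subgroup G :=
    { carrier := {g | φ g = 1}
      one_mem' := h1
      mul_mem' := fun {a b} ha hb => by
        show φ (a * b) = 1
        rw [hcoc, show φ a = 1 from ha, show φ b = 1 from hb, map_one, one_mul]
      inv_mem' := fun {a} ha => by
        show φ a⁻¹ = 1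
        have := hcoc a a⁻¹
        rwa [mul_inv_cancel, h1, show φ a = 1 from ha, map_one, mul_one, eq_comm] at this }
  have hk : ∀ k : K, φ (k : G) = k ^ U.index := fun k => secDiff_const hKA hσ k.2
  refine ⟨H, Subgroup.isComplement'_of_disjoint_and_mul_eq_univ ?_ ?_⟩
  · rw [disjoint_iff, eq_bot_iff]
    intro x hx
    obtain ⟨hxK, hxH⟩ := Subgroup.mem_inf.1 hx
    have h2 : (⟨x, hxK⟩ : K) ^ U.index = 1 ^ U.index := by rw [← hk ⟨x, hxK⟩, one_pow]; exact hxH
    exact Subgroup.mem_bot.2 (congrArg Subtype.val ((powCoprime hcop).injective h2))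
  · refine Set.eq_univ_of_forall fun g => ?_
    set k := (powCoprime hcop).symm (φ g⁻¹)⁻¹ with hkd
    have hke : k ^ U.index = (φ g⁻¹)⁻¹ := (powCoprime hcop).apply_symm_apply _
    have h2 : φ (g⁻¹ * k) = 1 := by
      rw [hcoc, hk, hke]
      have : MulAut.conjNormal (k : G)⁻¹ (φ g⁻¹) = φ g⁻¹ := by
        refine Subtype.ext ?_
        rw [MulAut.conjNormal_apply, inv_inv]
        have h3 : (k : G) * φ g⁻¹ = φ g⁻¹ * k := Subtype.ext_iff.1 (hab.is_comm.comm k (φ g⁻¹))
        rw [mul_assoc, ← h3, inv_mul_cancel_left]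
      rw [this, inv_mul_cancel]
    exact ⟨(k : G), k.2, (g⁻¹ * k)⁻¹, H.inv_mem h2, by group⟩

theorem complements_conj_of_sub (hKU : K ≤ U) (hcop : (Nat.card K).Coprime U.index)
    {H₀ H₁ : Subgroup G} (h₀ : K.IsComplement' H₀) (h₁ : K.IsComplement' H₁)
    (hU : H₀ ⊓ U = H₁ ⊓ U) : ∃ g : G, MulAut.conj g • H₀ = H₁ := by
  have hex : ∀ H : Subgroup G, K.IsComplement' H → ∀ x : G, ∃ h ∈ H, x⁻¹ * h ∈ K := fun H hH x => by
    obtain ⟨k, hk, h, hh, rfl⟩ := Subgroup.mem_sup_of_normal_left.1 (hH.sup_eq_top.ge (Subgroup.mem_top x))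
    exact ⟨h, hh, by simpa [mul_assoc] using hKn.conj_mem _ (inv_mem hk) h⁻¹⟩
  choose s0 hs0 hs0' using hex H₀ h₀
  choose s1 hs1 hs1' using hex H₁ h₁
  have huniq : ∀ H : Subgroup G, K.IsComplement' H → ∀ a ∈ H, ∀ b ∈ H, ∀ x : G, x⁻¹ * a ∈ K →
      x⁻¹ * b ∈ K → a = b := fun H hH a ha b hb x h1 h2 => by
    have h3 : a⁻¹ * b ∈ K ⊓ H := Subgroup.mem_inf.2 ⟨by
      have := mul_mem (inv_mem h1) h2; simpa [mul_assoc] using this, mul_mem (inv_mem ha) hb⟩
    rw [hH.disjoint.eq_bot, Subgroup.mem_bot, inv_mul_eq_one] at h3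
    exact h3
  set A := H₀ ⊓ U with hA
  have hAsec : ∀ H : Subgroup G, ∀ hH : K.IsComplement' H, A ≤ H → ∀ s : G → G,
      (∀ x, s x ∈ H) → (∀ x, x⁻¹ * s x ∈ K) → IsSec K A s := by
    intro H hH hAH s hs hs'
    refine ⟨hs', fun x k hk => huniq H hH _ (hs _) _ (hs _) x ?_ (hs' x), fun a ha x => ?_⟩
    · have := mul_mem hk (hs' (x * k)); simpa [mul_assoc] using this
    · refine huniq H hH _ (hs _) _ (mul_mem (hAH ha) (hs x)) (a * x) (hs' _) ?_
      simpa [mul_assoc] using hs' x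
  have hσ := hAsec H₀ h₀ inf_le_left s0 hs0 hs0'
  have hτ := hAsec H₁ h₁ (hU.le.trans inf_le_left) s1 hs1 hs1'
  have hKA : K ⊔ A = U := by
    refine le_antisymm (sup_le hKU inf_le_right) fun u hu => ?_
    obtain ⟨k, hk, h, hh, rfl⟩ := Subgroup.mem_sup_of_normal_left.1 (h₀.sup_eq_top.ge (Subgroup.mem_top u))
    exact Subgroup.mul_mem_sup hk (Subgroup.mem_inf.2 ⟨hh, by simpa using mul_mem (inv_mem (hKU hk)) hu⟩)
  have hfix : ∀ H : Subgroup G, K.IsComplement' H → ∀ s : G → G, (∀ x, s x ∈ H) →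
      (∀ x, x⁻¹ * s x ∈ K) → ∀ h ∈ H, (fun x => s (x * h⁻¹) * h) = s := by
    intro H hH s hs hs' h hh
    funext x
    refine huniq H hH _ (mul_mem (hs _) hh) _ (hs x) x ?_ (hs' x)
    have := hKn.conj_mem _ (hs' (x * h⁻¹)) h⁻¹
    simpa [mul_assoc] using this
  set c := secDiff (K := K) U s0 s1 with hcd
  set e := (powCoprime hcop).symm c with hed
  have he : e ^ U.index = c := (powCoprime hcop).apply_symm_apply c
  refine ⟨((e : K) : G)⁻¹, Subgroup.eq_of_le_of_card_ge (fun x hx => ?_) ?_⟩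
  · rw [mem_conj_smul_iff, inv_inv] at hx
    set h0 := (e : G) * x * (e : G)⁻¹ with hh0
    have hkK : h0⁻¹ * s1 h0 ∈ K := hs1' h0
    have key : secDiff (K := K) U (fun y => s0 (y * h0⁻¹) * h0)
        (fun y => s1 (y * (s1 h0)⁻¹) * s1 h0) = c := by
      rw [hfix H₀ h₀ s0 hs0 hs0' h0 hx, hfix H₁ h₁ s1 hs1 hs1' _ (hs1 h0)]
    have hτ' := hτ.translate h0
    have e1 : (fun y => s1 (y * (s1 h0)⁻¹) * s1 h0) =
        fun y => (fun z => s1 (z * h0⁻¹) * h0) (y * (h0⁻¹ * s1 h0)⁻¹) * (h0⁻¹ * s1 h0) := by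
      funext y
      simp [mul_assoc]
    rw [e1, ← secDiff_mul (hσ.translate h0) hτ' (hτ'.translate _), secDiff_translate hKA hσ hτ h0,
      secDiff_const hKA hτ' hkK, ← hcd, ← he, map_pow] at key
    letI : CommGroup K := { (inferInstance : Group K) with mul_comm := hab.is_comm.comm }
    have h5 : MulAut.conjNormal h0⁻¹ e * ⟨h0⁻¹ * s1 h0, hkK⟩ = e := (powCoprime hcop).injective (by
      show (MulAut.conjNormal h0⁻¹ e * (⟨h0⁻¹ * s1 h0, hkK⟩ : K)) ^ U.index = e ^ U.index
      rw [mul_pow]; exact key)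
    have h6 := congrArg Subtype.val h5
    rw [Subgroup.coe_mul, MulAut.conjNormal_apply, inv_inv] at h6
    have h7 : s1 h0 = x := by
      have h8 : (e : G)⁻¹ * (e : G) = 1 := inv_mul_cancel _
      calc s1 h0 = (e : G)⁻¹ * h0 * ((h0⁻¹ * (e : G) * h0) * (h0⁻¹ * s1 h0)) := by group
        _ = (e : G)⁻¹ * h0 * (e : G) := by rw [h6]
        _ = x := by rw [hh0]; group
    rw [← h7]
    exact hs1 h0
  · rw [card_conj_smul]
    exact le_of_eq (Nat.eq_of_mul_eq_mul_left Nat.card_pos (h₁.card_mul.trans h₀.card_mul.symm))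

end CfsgLib.Solv
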