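import Cfsg.Agent.Solv.FrobeniusNilp
import Cfsg.Agent.Solv.UniqueSub
import Cfsg.Agent.Solv.Generation
import Mathlib.GroupTheory.SpecificGroups.ZGroup

/-!
A Frobenius complement has non-trivial centre.
-/

set_option autoImplicit false
set_option linter.style.haveILetI false
set_option linter.deprecated false
set_option linter.unusedSectionVars false

open scoped commutatorElement Pointwise

namespace CfsgLib.Solv

variable {G : Type*} [Group G]

/-- An element of prime order acting fixed-point-freely together with a cyclic normal `p'`-subgroup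
of the complement centralises the latter. -/
theorem centralizes_cyclic_of_fpf [Finite G] {V H : Subgroup G} [V.Normal] [IsMulCommutative V]
    (hV : V ≠ ⊥) (hfpf : ∀ h ∈ H, h ≠ 1 → V ⊓ Subgroup.centralizer {h} = ⊥) {A : Subgroup G}
    (hAH : A ≤ H) [IsCyclic A] {x : G} (hx : x ∈ H) {s : ℕ} [Fact s.Prime] (hxs : orderOf x = s)
    (hnx : x ∈ Subgroup.normalizer (A : Set G)) (hcop : s.Coprime (Nat.card A)) :
    x ∈ Subgroup.centralizer (A : Set G) := by
  set X := Subgroup.zpowers x
  have hXA : X ≤ Subgroup.normalizer (A : Set G) := Subgroup.zpowers_le.2 hnx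
  have hcop' : (Nat.card X).Coprime (Nat.card A) := by rw [Nat.card_zpowers, hxs]; exact hcop
  have hAc : IsMulCommutative A := IsCyclic.isMulCommutative
  have hinf := abelian_fixed_inf_commutator hAc hXA hcop'
  have hsup := abelian_fixed_sup_commutator hAc hXA hcop'
  suffices hb : ⁅A, X⁆ = ⊥ by
    rw [hb, sup_bot_eq] at hsup
    refine Subgroup.mem_centralizer_iff.2 fun a ha => ?_
    have hm : a ∈ A ⊓ Subgroup.centralizer (X : Set G) := hsup.symm ▸ ha
    exact (Subgroup.mem_centralizer_iff.1 hm.2 x (Subgroup.mem_zpowers x)).symm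
  by_contra hne
  obtain ⟨r, hr, hrd⟩ := Nat.exists_prime_and_dvd (fun e => hne (Subgroup.card_eq_one.1 e))
  haveI : Fact r.Prime := ⟨hr⟩
  obtain ⟨⟨z, hz⟩, hzo⟩ := exists_prime_orderOf_dvd_card' r hrd
  rw [Subgroup.orderOf_mk] at hzo
  have hzA : z ∈ A := commutator_le_of_le_normalizer hXA hz
  set Z := Subgroup.zpowers z
  have hrs : r ≠ s := fun e => by
    subst e
    exact hr.ne_one (Nat.eq_one_of_dvd_coprimes hcop dvd_rfl
      (hzo ▸ Subgroup.orderOf_mk z hzA ▸ orderOf_dvd_natCard (⟨z, hzA⟩ : A)))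
  have hZn : X ≤ Subgroup.normalizer (Z : Set G) := by
    refine Subgroup.zpowers_le.2 (mem_normalizer_of_conj_smul_eq ?_)
    classical
    letI := Fintype.ofFinite A
    have hS : {t : A | t ^ r = 1}.ncard ≤ r := by
      rw [Set.ncard_eq_toFinset_card', Set.toFinset_ofPred]
      exact IsCyclic.card_pow_eq_one_le hr.pos
    have heq : (Subgroup.zpowers (⟨z, hzA⟩ : A) : Set A) = {t : A | t ^ r = 1} :=
      Set.eq_of_subset_of_ncard_le (fun t ht => by
        obtain ⟨i, rfl⟩ := Subgroup.mem_zpowers_iff.1 ht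
        show (_ ^ i) ^ r = 1
        rw [← zpow_natCast, zpow_comm, zpow_natCast]
        rw [show (⟨z, hzA⟩ : A) ^ r = 1 by
          rw [← hzo, ← Subgroup.orderOf_mk z hzA]; exact pow_orderOf_eq_one _]
        exact one_zpow i)
        (by
          rw [← Nat.card_coe_set_eq]
          show _ ≤ Nat.card (Subgroup.zpowers (⟨z, hzA⟩ : A))
          rw [Nat.card_zpowers, Subgroup.orderOf_mk, hzo, Nat.card_coe_set_eq]
          exact hS) (Set.toFinite _)
    have hw : x * z * x⁻¹ ∈ A := (Subgroup.mem_normalizer_iff.1 hnx z).1 hzA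
    have hmem : x * z * x⁻¹ ∈ Z := by
      have h1 : (⟨_, hw⟩ : A) ∈ Subgroup.zpowers (⟨z, hzA⟩ : A) := by
        rw [← SetLike.mem_coe, heq]
        refine Subtype.ext ?_
        show (x * z * x⁻¹) ^ r = 1
        rw [conj_pow, ← hzo, pow_orderOf_eq_one, mul_one, mul_inv_cancel]
      obtain ⟨i, hi⟩ := Subgroup.mem_zpowers_iff.1 h1
      exact Subgroup.mem_zpowers_iff.2 ⟨i, congrArg Subtype.val hi⟩
    refine Subgroup.eq_of_le_of_card_ge ?_ (by rw [card_conj_smul])
    rintro _ ⟨w, hw', rfl⟩
    obtain ⟨i, rfl⟩ := Subgroup.mem_zpowers_iff.1 hw'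
    show MulAut.conj x (z ^ i) ∈ Z
    rw [map_zpow]
    exact zpow_mem hmem i
  have hcard : Nat.card (X ⊔ Z : Subgroup G) = s * r := by
    rw [card_sup_of_le_normalizer hZn (by
      rw [Nat.card_zpowers, Nat.card_zpowers, hxs, hzo]
      exact (Nat.coprime_primes Fact.out hr).2 (Ne.symm hrs)), Nat.card_zpowers, Nat.card_zpowers,
      hxs, hzo]
  haveI := isCyclic_of_fpf_card_eq_mul (A := X ⊔ Z) hV (Subgroup.normalizer_eq_top V ▸ le_top)
    (fun a ha ha1 => hfpf a (sup_le (Subgroup.zpowers_le.2 hx) (Subgroup.zpowers_le.2 (hAH hzA)) ha) ha1)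
    (Fact.out : s.Prime) hr hcard
  have hm : z ∈ (A ⊓ Subgroup.centralizer (X : Set G)) ⊓ ⁅A, X⁆ := by
    refine Subgroup.mem_inf.2 ⟨Subgroup.mem_inf.2 ⟨hzA, Subgroup.mem_centralizer_iff.2 fun y hy => ?_⟩, hz⟩
    exact congrArg Subtype.val ((IsCyclic.isMulCommutative (α := (X ⊔ Z : Subgroup G))).is_comm.comm
      ⟨y, Subgroup.mem_sup_left hy⟩ ⟨z, Subgroup.mem_sup_right (Subgroup.mem_zpowers z)⟩)
  rw [hinf, Subgroup.mem_bot] at hm
  rw [hm, orderOf_one] at hzo
  exact hr.ne_one hzo.symm

/-- Frobenius complements have non-trivial centre. -/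
theorem center_ne_bot_of_fpf [Finite G] {K H : Subgroup G} [K.Normal] (hK : K ≠ ⊥) (hH : H ≠ ⊥)
    (hfpf : ∀ h ∈ H, h ≠ 1 → K ⊓ Subgroup.centralizer {h} = ⊥) : Subgroup.center H ≠ ⊥ := by
  have hne : ∀ z : H, z ≠ 1 → (∀ y : H, y * z = z * y) → Subgroup.center H ≠ ⊥ := fun z hz hc hb =>
    hz (Subgroup.mem_bot.1 (hb ▸ Subgroup.mem_center_iff.2 hc))
  by_cases h2 : 2 ∣ Nat.card H
  · haveI : Fact (2 : ℕ).Prime := ⟨Nat.prime_two⟩
    obtain ⟨t, ht⟩ := exists_prime_orderOf_dvd_card' 2 h2
    have ht1 : (t : G) ≠ 1 := fun e => by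
      rw [show t = 1 from Subtype.ext e, orderOf_one] at ht; exact absurd ht (by norm_num)
    have htt : (t : G) * t = 1 := by
      have := pow_orderOf_eq_one t
      rw [ht, pow_two] at this
      exact congrArg Subtype.val this
    refine hne t (fun e => ht1 (congrArg Subtype.val e)) fun y => ?_
    set u : H := y * t * y⁻¹ with hu
    have huu : (u : G) * u = 1 := by
      simp only [hu, Subgroup.coe_mul, InvMemClass.coe_inv]
      calc (y : G) * t * (y : G)⁻¹ * ((y : G) * t * (y : G)⁻¹) = (y : G) * ((t : G) * t) * (y : G)⁻¹ := by group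
        _ = 1 := by rw [htt, mul_one, mul_inv_cancel]
    have hu1 : (u : G) ≠ 1 := fun e => ht1 (by
      simp only [hu, Subgroup.coe_mul, InvMemClass.coe_inv] at e
      exact (conj_eq_one_iff).1 e)
    have hnorm : ∀ g : G, g ∈ Subgroup.normalizer (K : Set G) := fun g =>
      Subgroup.normalizer_eq_top K ▸ Subgroup.mem_top g
    have hfix : ((t : G) * u) = 1 := by
      by_contra hne'
      have hb := hfpf _ (mul_mem t.2 u.2) hne'
      obtain ⟨⟨k, hk⟩, hk1⟩ := Subgroup.ne_bot_iff_exists_ne_one.1 hK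
      have e1 := conj_eq_inv_of_fpf_involution htt (hnorm _) (hfpf _ t.2 ht1) hk
      have e2 := conj_eq_inv_of_fpf_involution huu (hnorm _) (hfpf _ u.2 hu1) hk
      have hm : k ∈ K ⊓ Subgroup.centralizer {(t : G) * u} := by
        refine Subgroup.mem_inf.2 ⟨hk, Subgroup.mem_centralizer_iff.2 fun w hw => ?_⟩
        rw [Set.mem_singleton_iff.1 hw]
        have e3 : (t : G) * u * k * ((t : G) * u)⁻¹ = k := by
          calc (t : G) * u * k * ((t : G) * u)⁻¹ = (t : G) * ((u : G) * k * (u : G)⁻¹) * (t : G)⁻¹ := by group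
            _ = k := by rw [e2, ← conj_inv, e1, inv_inv]
        exact mul_inv_eq_iff_eq_mul.1 e3
      rw [hb, Subgroup.mem_bot] at hm
      exact hk1 (Subtype.ext hm)
    have hut : u = t := Subtype.ext ((mul_left_cancel (hfix.trans htt.symm)))
    calc y * t = u * y := by rw [hu]; group
      _ = t * y := by rw [hut]
  · -- odd order: a Z-group
    obtain ⟨q, hq, hqd⟩ := Nat.exists_prime_and_dvd (fun e => hH (Subgroup.card_eq_one.1 e))
    haveI : Fact q.Prime := ⟨hq⟩
    obtain ⟨h0, hh0⟩ := exists_prime_orderOf_dvd_card' q hqd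
    haveI hKnil : Group.IsNilpotent K := isNilpotent_of_fpf_element (h := (h0 : G)) (p := q)
      (by rw [← hh0, ← SubgroupClass.coe_pow, pow_orderOf_eq_one, OneMemClass.coe_one])
      (hfpf _ h0.2 (fun e => by
        rw [show h0 = 1 from Subtype.ext e, orderOf_one] at hh0; exact hq.ne_one hh0.symm))
    haveI : Nontrivial K := (Subgroup.nontrivial_iff_ne_bot K).2 hK
    set V := (Subgroup.center K).map K.subtype with hV
    haveI : V.Normal := normal_map_subtype_of_characteristic (Subgroup.center K)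
    haveI : IsMulCommutative V := Subgroup.map_isMulCommutative _ _
    have hVne : V ≠ ⊥ := fun hb => Group.IsNilpotent.center_ne_bot (G := K)
      ((Subgroup.map_eq_bot_iff_of_injective _ K.subtype_injective).1 hb)
    have hVK : V ≤ K := Subgroup.map_subtype_le _
    have hfpfV : ∀ h ∈ H, h ≠ 1 → V ⊓ Subgroup.centralizer {h} = ⊥ := fun h hh hh1 =>
      le_bot_iff.1 (hfpf h hh hh1 ▸ inf_le_inf_right _ hVK)
    have hcyc : ∀ (r : ℕ) [Fact r.Prime] (R : Subgroup H), IsPGroup r R → r ≠ 2 → IsCyclic R := by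
      intro r _ R hR hr2
      refine (pgroup_unique_sub hR fun a b ha hb => ?_).resolve_right fun h => hr2 h.1
      refine unique_of_abelian_cyclic hR (fun A hA => ?_) a b ha hb
      haveI := hA
      set f : R →* G := H.subtype.comp R.subtype
      have hf : Function.Injective f := fun a b e => Subtype.ext (Subtype.ext e)
      haveI : IsMulCommutative (A.map f) := Subgroup.map_isMulCommutative A f
      have hle : A.map f ≤ H := by rintro _ ⟨a, _, rfl⟩; exact (a : H).2
      haveI := isCyclic_of_fpf_abelian (A := A.map f) hVne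
        (Subgroup.normalizer_eq_top V ▸ le_top) (fun a ha ha1 => hfpfV a (hle ha) ha1)
      exact isCyclic_of_surjective (A.equivMapOfInjective f hf).symm.toMonoidHom
        (A.equivMapOfInjective f hf).symm.surjective
    haveI : IsZGroup H := ⟨fun r hr R => by
      haveI : Fact r.Prime := ⟨hr⟩
      by_cases hr2 : r = 2
      · subst hr2
        have hb : (R : Subgroup H) = ⊥ := by
          obtain ⟨k, hk⟩ := R.isPGroup'.exists_card_eq
          rcases Nat.eq_zero_or_pos k with rfl | hk0
          · exact Subgroup.card_eq_one.1 (by rw [hk, pow_zero])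
          · exact absurd ((dvd_pow_self 2 hk0.ne').trans (hk ▸ Subgroup.card_subgroup_dvd_card _)) h2
        rw [hb]; infer_instance
      · exact hcyc r _ R.isPGroup' hr2⟩
    haveI : Nontrivial H := (Subgroup.nontrivial_iff_ne_bot H).2 hH
    haveI := IsZGroup.isCyclic_commutator (G := H)
    obtain ⟨D, hD⟩ := Subgroup.exists_right_complement'_of_coprime
      (IsZGroup.coprime_commutator_index (G := H))
    have hDne : D ≠ ⊥ := fun hb => by
      have h1 := hD.sup_eq_top
      rw [hb, sup_bot_eq] at h1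
      exact (IsZGroup.commutator_lt (G := H)).ne h1
    have hDc : ∀ a ∈ D, ∀ b ∈ D, a * b = b * a := by
      intro a ha b hb
      have h1 : ⁅a, b⁆ ∈ commutator H ⊓ D := Subgroup.mem_inf.2 ⟨Subgroup.commutator_mem_commutator (Subgroup.mem_top a) (Subgroup.mem_top b),
        mul_mem (mul_mem (mul_mem ha hb) (inv_mem ha)) (inv_mem hb)⟩
      rw [hD.disjoint.eq_bot, Subgroup.mem_bot, commutatorElement_eq_one_iff_mul_comm] at h1
      exact h1
    obtain ⟨s, hs, hsd⟩ := Nat.exists_prime_and_dvd (fun e => hDne (Subgroup.card_eq_one.1 e))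
    haveI : Fact s.Prime := ⟨hs⟩
    obtain ⟨x, hx⟩ := exists_prime_orderOf_dvd_card' s hsd
    set A := (commutator H).map H.subtype with hA
    haveI : IsCyclic A := isCyclic_of_surjective (H.subtype.subgroupMap (commutator H))
      (H.subtype.subgroupMap_surjective _)
    have hxA : ((x : H) : G) ∈ Subgroup.centralizer (A : Set G) := by
      refine centralizes_cyclic_of_fpf (V := V) hVne hfpfV (Subgroup.map_subtype_le _) (x : H).2
        (s := s) (by rw [Subgroup.orderOf_coe, Subgroup.orderOf_coe, hx]) ?_ ?_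
      · exact Subgroup.le_normalizer_map H.subtype ⟨(x : H),
          Subgroup.normalizer_eq_top (commutator H) ▸ Subgroup.mem_top _, rfl⟩
      · rw [card_map_subtype]
        refine Nat.Coprime.coprime_dvd_left (hsd.trans ?_) (IsZGroup.coprime_commutator_index (G := H)).symm
        rw [hD.symm.index_eq_card]
    refine hne x (fun e => hs.ne_one (by rw [← hx, ← Subgroup.orderOf_coe, e, orderOf_one])) fun y => ?_
    obtain ⟨⟨a, d⟩, had⟩ := hD.2 y
    have had' : (a : H) * d = y := had
    have h1 : Commute (a : H) (x : H) := Subtype.ext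
      (Subgroup.mem_centralizer_iff.1 hxA _ ⟨a, a.2, rfl⟩)
    have h2' : Commute (d : H) (x : H) := hDc _ d.2 _ x.2
    rw [← had']
    exact (h1.mul_left h2').eq

end CfsgLib.Solv
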