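import Cfsg.Agent.Solv.Schur
import Cfsg.Agent.Solv.PComplement
import Cfsg.Agent.Solv.TransferTools

/-!
`O^p(G)` with abelian Sylow `p`-subgroups is complemented.
-/

set_option autoImplicit false
set_option linter.style.haveILetI false
set_option linter.deprecated false
set_option linter.unusedSectionVars false

open scoped Pointwise

namespace CfsgLib.Solv

variable {G : Type*} [Group G] {p : ℕ}

theorem exists_complement_pResidual [Finite G] [hp : Fact p.Prime]
    (h : ∀ Q : Sylow p (Cfsg.pResidual p G), IsMulCommutative Q) :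
    ∃ X : Subgroup G, X.IsComplement' (Cfsg.pResidual p G) := by
  set R := Cfsg.pResidual p G with hR
  haveI hRn : R.Normal := CfsgLib.Inv.pResidual_normal p G
  let Q : Sylow p R := default
  haveI hQab : IsMulCommutative (Q : Subgroup R) := h Q
  set N := Subgroup.normalizer (((Q : Subgroup R).map R.subtype : Subgroup G) : Set G) with hN
  have hfr : N ⊔ R = ⊤ := Sylow.normalizer_sup_eq_top Q
  -- no nontrivial element of `Q` is centralized by `N_R(Q)`
  have hfix : ∀ x ∈ (Q : Subgroup R),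
      (∀ n ∈ Subgroup.normalizer ((Q : Subgroup R) : Set R), n * x * n⁻¹ = x) → x = 1 := by
    intro x hx hc
    open scoped IsMulCommutative in
    let ϕ : (Q : Subgroup R) →* (Q : Subgroup R) := MonoidHom.id _
    open scoped IsMulCommutative in
    have ht := CfsgLib.Inv.transfer_eq_pow_of_ctrl (Q : Subgroup R) ϕ hx fun k g₀ hk => by
      have hxk : x ^ k ∈ (Q : Subgroup R) := pow_mem hx k
      obtain ⟨n, hn, hne⟩ := exists_normalizer_conj_of_abelian_sylow Q hQab hxk (g := g₀⁻¹)
        (by rwa [inv_inv])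
      rw [inv_inv] at hne
      refine Subtype.ext ?_
      show g₀⁻¹ * x ^ k * g₀ = x ^ k
      rw [← hne, ← conj_pow, hc n hn]
    open scoped IsMulCommutative in
    have h1 : MonoidHom.transfer ϕ x = 1 := hom_pResidual_eq_one Q.2 (MonoidHom.transfer ϕ) x
    rw [h1] at ht
    exact congrArg Subtype.val (orderOf_eq_one_iff.1 (Nat.eq_one_of_dvd_coprimes (abelian_sylow_coprime Q)
      (orderOf_dvd_natCard (⟨x, hx⟩ : (Q : Subgroup R))) (orderOf_dvd_of_pow_eq_one ht.symm)))
  set M := R.subgroupOf N with hMd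
  haveI hMn : M.Normal := Subgroup.normal_subgroupOf
  have hQN : (Q : Subgroup R).map R.subtype ≤ N := Subgroup.le_normalizer
  set Q' := (((Q : Subgroup R).map R.subtype).subgroupOf N).subgroupOf M with hQ'
  have hQM : ((Q : Subgroup R).map R.subtype).subgroupOf N ≤ M :=
    Subgroup.comap_mono (Subgroup.map_subtype_le _)
  haveI hQ'n : Q'.Normal := by
    haveI : (((Q : Subgroup R).map R.subtype).subgroupOf N).Normal := Subgroup.normal_in_normalizer
    exact Subgroup.normal_subgroupOf
  have hmemQ : ∀ a : M, a ∈ Q' ↔ ((a : N) : G) ∈ (Q : Subgroup R).map R.subtype := fun a => Iff.rfl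
  haveI : IsMulCommutative Q' := ⟨⟨fun a b => by
    obtain ⟨x, hx, hxe⟩ := (hmemQ a).1 a.2
    obtain ⟨y, hy, hye⟩ := (hmemQ b).1 b.2
    refine Subtype.ext (Subtype.ext (Subtype.ext ?_))
    show ((a : M) : G) * ((b : M) : G) = ((b : M) : G) * ((a : M) : G)
    rw [← hxe, ← hye]
    exact congrArg (fun z : (Q : Subgroup R) => ((z : R) : G))
      (hQab.is_comm.comm (⟨x, hx⟩ : (Q : Subgroup R)) ⟨y, hy⟩)⟩⟩
  have hQc : Nat.card Q' = Nat.card (Q : Subgroup R) := by
    rw [hQ', card_subgroupOf hQM, card_subgroupOf hQN, card_map_subtype]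
  have hQi : ¬ p ∣ Q'.index := by
    intro hd
    refine Q.not_dvd_index (hd.trans ?_)
    have h1 := Subgroup.card_mul_index Q'
    have h2 := Subgroup.card_mul_index (Q : Subgroup R)
    rw [hQc] at h1
    have h3 : Nat.card M ∣ Nat.card R := by
      rw [hMd, ← Subgroup.inf_subgroupOf_right, card_subgroupOf inf_le_right]
      exact Subgroup.card_dvd_of_le inf_le_left
    rw [← h1, ← h2] at h3
    exact Nat.dvd_of_mul_dvd_mul_left Nat.card_pos h3
  have hcop : (Nat.card Q').Coprime Q'.index := by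
    obtain ⟨k, hk⟩ := IsPGroup.iff_card.1 Q.2
    rw [hQc, hk]
    exact (hp.out.coprime_iff_not_dvd.2 hQi).pow_left k
  obtain ⟨H, hH⟩ := Subgroup.exists_right_complement'_of_coprime hcop
  have hHc : Nat.card H = Q'.index := hH.symm.index_eq_card.symm
  set L := Subgroup.normalizer ((H.map M.subtype : Subgroup N) : Set N) with hL
  have hNL : ∀ n : N, ∃ x : N, (x : G) ∈ (Q : Subgroup R).map R.subtype ∧ x⁻¹ * n ∈ L := by
    intro n
    set φ : M ≃* M := MulAut.conjNormal n
    have hc2 : Q'.IsComplement' (H.map φ.toMonoidHom) := by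
      refine Subgroup.isComplement'_of_coprime ?_ ?_
      · rw [Subgroup.card_map_of_injective (f := φ.toMonoidHom) φ.injective, hH.card_mul]
      · rw [Subgroup.card_map_of_injective (f := φ.toMonoidHom) φ.injective, hHc]; exact hcop
    obtain ⟨d, hd, hde⟩ := conj_complement_abelian Q' H _ hH hc2 (hHc ▸ hcop)
    refine ⟨(d : N), (hmemQ d).1 hd, mem_normalizer_of_conj_smul_eq ?_⟩
    have h5 := congrArg (Subgroup.map M.subtype) hde
    rw [conj_smul_eq_map, Subgroup.map_map, Subgroup.map_map] at h5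
    rw [conj_smul_eq_map, Subgroup.map_map]
    have e1 : (MulAut.conj ((d : N)⁻¹ * n)).toMonoidHom.comp M.subtype =
        (MulAut.conj (d : N)⁻¹).toMonoidHom.comp (M.subtype.comp φ.toMonoidHom) := by
      refine MonoidHom.ext fun a => ?_
      simp [φ, MulAut.conjNormal_apply, mul_assoc]
    rw [e1, ← Subgroup.map_map, ← h5, Subgroup.map_map]
    congr 1
    refine MonoidHom.ext fun a => ?_
    simp [mul_assoc]
  set g := (QuotientGroup.mk' R).comp (N.subtype.comp L.subtype) with hg
  have hgs : Function.Surjective g := by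
    intro y
    obtain ⟨y, rfl⟩ := QuotientGroup.mk'_surjective R y
    obtain ⟨n, hn, r, hr, e⟩ := Subgroup.mem_sup_of_normal_right.1 (hfr.ge (Subgroup.mem_top y))
    obtain ⟨x, hx, hxL⟩ := hNL ⟨n, hn⟩
    refine ⟨⟨_, hxL⟩, ?_⟩
    show QuotientGroup.mk' R ((x : G)⁻¹ * n) = QuotientGroup.mk' R y
    have h1 : QuotientGroup.mk' R (x : G) = 1 :=
      (QuotientGroup.eq_one_iff _).2 (Subgroup.map_subtype_le _ hx)
    rw [← e, map_mul, map_inv, h1, inv_one, one_mul, map_mul,
      show QuotientGroup.mk' R r = 1 from (QuotientGroup.eq_one_iff r).2 hr, mul_one]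
  let P0 : Sylow p L := default
  have hqp : IsPGroup p (G ⧸ R) := CfsgLib.Inv.isPGroup_quot_pResidual
  have hP0 : (P0 : Subgroup L).map g = ⊤ := by
    rw [← Sylow.coe_mapSurjective hgs P0]
    exact ((P0.mapSurjective hgs).is_maximal' (hqp.to_subgroup ⊤) le_top).symm
  set X := ((P0 : Subgroup L).map L.subtype).map N.subtype with hX
  refine ⟨X, (Subgroup.isComplement'_of_disjoint_and_mul_eq_univ ?_ ?_)⟩
  · rw [disjoint_iff, eq_bot_iff]
    intro z hz
    obtain ⟨hzX, hzR⟩ := Subgroup.mem_inf.1 hz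
    obtain ⟨_, ⟨l, hl, rfl⟩, rfl⟩ := hzX
    have hlM : (l : N) ∈ M := hzR
    obtain ⟨q, hq, b, hb, e⟩ :=
      Subgroup.mem_sup_of_normal_left.1 (hH.sup_eq_top.ge (Subgroup.mem_top (⟨(l : N), hlM⟩ : M)))
    -- `q` normalizes `H`
    have hqL : (q : N) ∈ L := by
      have hbL : (b : N) ∈ L := Subgroup.le_normalizer (Subgroup.mem_map_of_mem M.subtype hb)
      have : (q : N) = (l : N) * (b : N)⁻¹ := by
        rw [show (l : N) = (q : N) * b from congrArg Subtype.val e.symm, mul_inv_cancel_right]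
      rw [this]
      exact mul_mem l.2 (inv_mem hbL)
    have hqc : ∀ a ∈ H, q * a = a * q := by
      intro a ha
      have h1 : q * a * q⁻¹ * a⁻¹ ∈ Q' ⊓ H := by
        refine Subgroup.mem_inf.2 ⟨?_, mul_mem ?_ (inv_mem ha)⟩
        · rw [show q * a * q⁻¹ * a⁻¹ = q * (a * q⁻¹ * a⁻¹) by group]
          exact mul_mem hq (hQ'n.conj_mem _ (inv_mem hq) a)
        · obtain ⟨a', ha', e'⟩ := le_normalizer_iff_forall_conj_mem.1 le_rfl _ hqL _
            (Subgroup.mem_map_of_mem M.subtype ha)
          have : q * a * q⁻¹ = a' := Subtype.ext e'.symm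
          rw [this]; exact ha'
      rw [hH.disjoint.eq_bot, Subgroup.mem_bot] at h1
      calc q * a = (q * a * q⁻¹ * a⁻¹) * (a * q) := by group
        _ = a * q := by rw [h1, one_mul]
    obtain ⟨x, hx, hxe⟩ := (hmemQ q).1 hq
    have hx1 : x = 1 := hfix x hx fun n hn => by
      have hnN : (n : G) ∈ N := by
        have := Subgroup.le_normalizer_map R.subtype (Subgroup.mem_map_of_mem R.subtype hn)
        exact this
      obtain ⟨q1, hq1, a, ha, e1⟩ := Subgroup.mem_sup_of_normal_left.1
        (hH.sup_eq_top.ge (Subgroup.mem_top (⟨⟨(n : G), hnN⟩, n.2⟩ : M)))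
      have h3 : Commute q a := hqc a ha
      have h4 : Commute q q1 := Subtype.ext_iff.1
        (((inferInstance : IsMulCommutative Q')).is_comm.comm (⟨q, hq⟩ : Q') ⟨q1, hq1⟩)
      have h5 : Commute q (⟨⟨(n : G), hnN⟩, n.2⟩ : M) := e1 ▸ h4.mul_right h3
      have h6 := congrArg (fun z : M => ((z : N) : G)) h5.eq
      refine Subtype.ext ?_
      show (n : G) * x * (n : G)⁻¹ = x
      have h7 : (x : G) * n = n * x := by
        rw [show (x : G) = ((q : M) : G) from hxe]
        exact h6
      rw [← h7, mul_inv_cancel_right]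
    have hq1 : q = 1 := Subtype.ext (Subtype.ext (by rw [← hxe, hx1]; rfl))
    rw [hq1, one_mul] at e
    -- so `l` lies in `H` and is a `p`-element
    obtain ⟨k, hk⟩ := P0.2 ⟨l, hl⟩
    have hbk : orderOf b ∣ p ^ k := by
      refine orderOf_dvd_of_pow_eq_one (Subtype.ext ?_)
      rw [SubmonoidClass.coe_pow, OneMemClass.coe_one, congrArg Subtype.val e]
      exact congrArg (fun z : (P0 : Subgroup L) => ((z : L) : N)) hk
    have hb1 : b = 1 := orderOf_eq_one_iff.1 (Nat.eq_one_of_dvd_coprimes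
      ((hp.out.coprime_iff_not_dvd.2 hQi).pow_left k) hbk (hHc ▸ Subgroup.orderOf_dvd_natCard H hb))
    rw [Subgroup.mem_bot]
    show ((l : N) : G) = 1
    rw [show (l : N) = 1 from (congrArg Subtype.val e).symm.trans (by rw [hb1]; rfl)]
    rfl
  · refine Set.eq_univ_of_forall fun y => ?_
    obtain ⟨l, hl, e⟩ := (hP0.ge (Subgroup.mem_top (QuotientGroup.mk' R y)))
    have e' : QuotientGroup.mk' R ((l : N) : G) = QuotientGroup.mk' R y := e
    exact ⟨((l : N) : G), Subgroup.mem_map_of_mem _ (Subgroup.mem_map_of_mem _ hl), _,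
      QuotientGroup.eq.1 e', mul_inv_cancel_left _ _⟩

end CfsgLib.Solv
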