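import Cfsg.Agent.Solv.PGroups

/-!
Isomorphism types of extraspecial groups: exponent `p`, and two classes for `p = 2`.
-/

set_option autoImplicit false
set_option linter.style.haveILetI false
set_option linter.deprecated false
set_option linter.unusedSectionVars false

open scoped commutatorElement Pointwise

namespace CfsgLib.Solv

theorem exists_ne_one_of_card_prime {G : Type*} [Group G] {p : ℕ} [hp : Fact p.Prime] {H : Subgroup G}
    (hH : Nat.card H = p) : ∃ z ∈ H, z ≠ 1 := by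
  by_contra hne
  push Not at hne
  rw [(Subgroup.eq_bot_iff_forall _).2 hne, Subgroup.card_bot] at hH
  exact hp.out.ne_one hH.symm

theorem sympl_exp_p_iso {p : ℕ} [Fact p.Prime] : ∀ (n : ℕ) (E₁ : Type*) (E₂ : Type*) [Group E₁] [Group E₂] [Finite E₁] [Finite E₂],
      Nat.card E₁ = n → Nat.card E₂ = n → (∀ x : E₁, x ^ p = 1) → (∀ x : E₂, x ^ p = 1) →
      Nat.card (Subgroup.center E₁) = p → commutator E₁ ≤ Subgroup.center E₁ →
      Nat.card (Subgroup.center E₂) = p → commutator E₂ ≤ Subgroup.center E₂ →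
      ∀ z₁ ∈ Subgroup.center E₁, z₁ ≠ 1 → ∀ z₂ ∈ Subgroup.center E₂, z₂ ≠ 1 →
      ∃ φ : E₁ ≃* E₂, φ z₁ = z₂ := by
  intro n
  induction n using Nat.strong_induction_on with
  | _ n ih =>
    intro E₁ E₂ _ _ _ _ hn₁ hn₂ he₁ he₂ hZ₁ h2₁ hZ₂ h2₂ z₁ hz₁ hz₁' z₂ hz₂ hz₂'
    by_cases htop : Subgroup.center E₁ = ⊤
    · have hn : n = p := by rw [← hn₁, ← Subgroup.card_top (G := E₁), ← htop, hZ₁]
      have hg₁ : ∀ g, g ∈ Subgroup.zpowers z₁ := fun g => by
        rw [zpowers_eq_top_of_prime_card (p := p) (hn₁.trans hn) hz₁']; trivial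
      have hg₂ : ∀ g, g ∈ Subgroup.zpowers z₂ := fun g => by
        rw [zpowers_eq_top_of_prime_card (p := p) (hn₂.trans hn) hz₂']; trivial
      haveI : IsCyclic E₁ := ⟨⟨z₁, hg₁⟩⟩
      let φ := mulEquivOfOrderOfEq hg₁ hg₂
        (by rw [orderOf_eq_prime (he₁ z₁) hz₁', orderOf_eq_prime (he₂ z₂) hz₂'])
      exact ⟨φ, mulEquivOfOrderOfEq_apply_gen _ _ _⟩
    · have htop₂ : Subgroup.center E₂ ≠ ⊤ := by
        intro h
        apply htop
        refine Subgroup.eq_top_of_card_eq _ ?_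
        rw [hZ₁, hn₁, ← hn₂, ← hZ₂, h, Subgroup.card_top]
      obtain ⟨x₁, -, hx₁⟩ := SetLike.exists_of_lt (lt_top_iff_ne_top.2 htop)
      obtain ⟨x₂, -, hx₂⟩ := SetLike.exists_of_lt (lt_top_iff_ne_top.2 htop₂)
      obtain ⟨y₁, hy₁⟩ := CfsgLib.Solv.sympl_exists_pair hZ₁ h2₁ hx₁ hz₁
      obtain ⟨y₂, hy₂⟩ := CfsgLib.Solv.sympl_exists_pair hZ₂ h2₂ hx₂ hz₂
      have hc₁ : ⁅x₁, y₁⁆ ≠ 1 := hy₁ ▸ hz₁'
      have hc₂ : ⁅x₂, y₂⁆ ≠ 1 := hy₂ ▸ hz₂'
      obtain ⟨hZD₁, h2D₁⟩ := CfsgLib.Solv.sympl_centralizer hZ₁ h2₁ hc₁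
      obtain ⟨hZD₂, h2D₂⟩ := CfsgLib.Solv.sympl_centralizer hZ₂ h2₂ hc₂
      have hk₁ := CfsgLib.Solv.sympl_card_eq hZ₁ h2₁ hc₁
      have hk₂ := CfsgLib.Solv.sympl_card_eq hZ₂ h2₂ hc₂
      have hcd := Nat.eq_of_mul_eq_mul_left (pow_pos (Fact.out : p.Prime).pos 2)
        (hk₁.symm.trans ((hn₁.trans hn₂.symm).trans hk₂))
      have hm₁ : z₁ ∈ Subgroup.centralizer ({x₁, y₁} : Set E₁) := Subgroup.center_le_centralizer _ hz₁
      have hm₂ : z₂ ∈ Subgroup.centralizer ({x₂, y₂} : Set E₂) := Subgroup.center_le_centralizer _ hz₂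
      obtain ⟨ψ, hψ⟩ := ih _ (hn₁ ▸ CfsgLib.Solv.card_lt_of_pair h2₁ (Fact.out : p.Prime).one_lt hk₁)
        _ _ rfl hcd.symm (fun x => Subtype.ext (he₁ x)) (fun x => Subtype.ext (he₂ x))
        hZD₁ h2D₁ hZD₂ h2D₂ ⟨z₁, hm₁⟩
        (Subgroup.mem_center_iff.2 fun g => Subtype.ext (Subgroup.mem_center_iff.1 hz₁ g))
        (fun e => hz₁' (congrArg Subtype.val e)) ⟨z₂, hm₂⟩
        (Subgroup.mem_center_iff.2 fun g => Subtype.ext (Subgroup.mem_center_iff.1 hz₂ g))
        (fun e => hz₂' (congrArg Subtype.val e))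
      obtain ⟨φ, hφ⟩ := CfsgLib.Solv.sympl_iso_extend hZ₁ h2₁ hZ₂ h2₂ hc₁ hc₂ ψ
        (fun h => by
          have e : (⟨⁅x₁, y₁⁆, h⟩ : Subgroup.centralizer ({x₁, y₁} : Set E₁)) = ⟨z₁, hm₁⟩ := Subtype.ext hy₁
          rw [e, hψ]; exact hy₂.symm)
        (a := 0) (b := 0) (by simp [he₁]) (by simp [he₂]) (by simp [he₁]) (by simp [he₂])
      exact ⟨φ, by rw [show z₁ = ((⟨z₁, hm₁⟩ : Subgroup.centralizer ({x₁, y₁} : Set E₁)) : E₁) from rfl, hφ, hψ]⟩


theorem sympl_two_pick {n : ℕ} (hsmall : n ≠ 2) : ∀ (E : Type*) [Group E] [Finite E] (z : E), Nat.card E = n →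
        Nat.card (Subgroup.center E) = 2 → commutator E ≤ Subgroup.center E → z ∈ Subgroup.center E →
        z ≠ 1 → ∃ (e : ℕ) (x y : E), (e = 0 ∨ e = 1 ∧ n = 8) ∧ ⁅x, y⁆ = z ∧ x ^ 2 = z ^ e ∧ y ^ 2 = z ^ e := by
  intro E _ _ z hn hZ h2 hz hz'
  have htop : Subgroup.center E ≠ ⊤ := by
    intro h
    rw [h, Subgroup.card_top] at hZ
    exact hsmall (hn.symm.trans hZ)
  have hsq : ∀ w : E, w ^ 2 = 1 ∨ w ^ 2 = z := by
    intro w
    obtain ⟨i, hi, he⟩ := CfsgLib.Solv.exists_pow_eq_of_mem hZ hz hz' (CfsgLib.Solv.sympl_pow_mem hZ h2 w)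
    interval_cases i
    · left; simpa using he.symm
    · right; simpa using he.symm
  have hz2 : z ^ 2 = 1 := by
    have h : (⟨z, hz⟩ : Subgroup.center E) ^ 2 = 1 := by rw [← hZ]; exact pow_card_eq_one'
    exact congrArg Subtype.val h
  by_cases hiso : ∃ x : E, x ∉ Subgroup.center E ∧ x ^ 2 = 1
  · obtain ⟨x, hx, hx2⟩ := hiso
    obtain ⟨y, hy⟩ := CfsgLib.Solv.sympl_exists_pair hZ h2 hx hz
    rcases hsq y with hy2 | hy2
    · exact ⟨0, x, y, Or.inl rfl, hy, by simpa using hx2, by simpa using hy2⟩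
    · refine ⟨0, x, x * y, Or.inl rfl, ?_, by simpa using hx2, ?_⟩
      · have e : ⁅x, x * y⁆ = x * ⁅x, y⁆ * x⁻¹ := by simp [commutatorElement_def, mul_assoc]
        rw [e, hy, Subgroup.mem_center_iff.1 hz x, mul_inv_cancel_right]
      · rw [CfsgLib.Solv.pow_mul_of_commutator (CfsgLib.Solv.sympl_commute h2 y x x)
          (CfsgLib.Solv.sympl_commute h2 y x y), hx2, hy2, ← commutatorElement_inv x y, hy,
          Nat.choose_self, pow_one, one_mul, inv_mul_cancel, pow_zero]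
  · push Not at hiso
    obtain ⟨x, -, hx⟩ := SetLike.exists_of_lt (lt_top_iff_ne_top.2 htop)
    obtain ⟨y, hy⟩ := CfsgLib.Solv.sympl_exists_pair hZ h2 hx hz
    have hcxy : ⁅x, y⁆ ≠ 1 := hy ▸ hz'
    have hy' : y ∉ Subgroup.center E := fun h =>
      hcxy (commutatorElement_eq_one_iff_mul_comm.2 (Subgroup.mem_center_iff.1 h x))
    refine ⟨1, x, y, Or.inr ⟨rfl, ?_⟩, hy, ?_, ?_⟩
    · have hD : Subgroup.centralizer ({x, y} : Set E) = Subgroup.center E := by
        refine le_antisymm (fun d hd => ?_) (Subgroup.center_le_centralizer _)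
        by_contra hd'
        have hxd : x * d ∉ Subgroup.center E := by
          intro h
          apply hcxy
          have h1 := Subgroup.mem_center_iff.1 h y
          have h2' := Subgroup.mem_centralizer_iff.1 hd y (Or.inr rfl)
          rw [commutatorElement_eq_one_iff_mul_comm]
          refine mul_right_cancel (b := d) ?_
          calc x * y * d = x * (y * d) := mul_assoc _ _ _
            _ = x * (d * y) := by rw [h2']
            _ = (x * d) * y := (mul_assoc _ _ _).symm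
            _ = y * (x * d) := h1.symm
            _ = y * x * d := (mul_assoc _ _ _).symm
        have hcm : Commute x d := Subgroup.mem_centralizer_iff.1 hd x (Or.inl rfl)
        refine hiso _ hxd ?_
        rw [hcm.mul_pow, (hsq x).resolve_left (hiso x hx), (hsq d).resolve_left (hiso d hd'), ← sq, hz2]
      rw [← hn, CfsgLib.Solv.sympl_card_eq hZ h2 hcxy, hD, hZ]; norm_num
    · rw [pow_one]; exact (hsq x).resolve_left (hiso x hx)
    · rw [pow_one]; exact (hsq y).resolve_left (hiso y hy')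

theorem sympl_two_base : ∀ (A : Type*) (B : Type*) [Group A] [Group B] [Finite A] [Finite B] (a : A) (b : B)
          (xA yA : A) (xB yB : B) (e : ℕ), Nat.card (Subgroup.center A) = 2 → commutator A ≤ Subgroup.center A →
          Nat.card (Subgroup.center B) = 2 → commutator B ≤ Subgroup.center B →
          Nat.card (Subgroup.centralizer ({xA, yA} : Set A)) = 2 →
          Nat.card (Subgroup.centralizer ({xB, yB} : Set B)) = 2 →
          a ≠ 1 → b ≠ 1 → ⁅xA, yA⁆ = a → ⁅xB, yB⁆ = b → a ∈ Subgroup.centralizer ({xA, yA} : Set A) →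
          b ∈ Subgroup.centralizer ({xB, yB} : Set B) → xA ^ 2 = a ^ e → yA ^ 2 = a ^ e → xB ^ 2 = b ^ e →
          yB ^ 2 = b ^ e → ∃ φ : A ≃* B, φ a = b := by
  intro A B _ _ _ _ a b xA yA xB yB e hZA h2A hZB h2B hDA hDB ha hb hcA hcB hma hmb h1 h2 h3 h4
  have hga : ∀ g, g ∈ Subgroup.zpowers (⟨a, hma⟩ : Subgroup.centralizer ({xA, yA} : Set A)) :=
    fun g => by
      rw [zpowers_eq_top_of_prime_card (p := 2) hDA fun h => ha (congrArg Subtype.val h)]; trivial
  have hgb : ∀ g, g ∈ Subgroup.zpowers (⟨b, hmb⟩ : Subgroup.centralizer ({xB, yB} : Set B)) :=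
    fun g => by
      rw [zpowers_eq_top_of_prime_card (p := 2) hDB fun h => hb (congrArg Subtype.val h)]; trivial
  haveI : IsCyclic (Subgroup.centralizer ({xA, yA} : Set A)) := ⟨⟨_, hga⟩⟩
  let ψ := mulEquivOfOrderOfEq hga hgb (by
    rw [orderOf_eq_prime (p := 2) (by rw [← hDA]; exact pow_card_eq_one') fun h => ha (congrArg Subtype.val h),
      orderOf_eq_prime (p := 2) (by rw [← hDB]; exact pow_card_eq_one') fun h => hb (congrArg Subtype.val h)])
  have hψ : ψ ⟨a, hma⟩ = ⟨b, hmb⟩ := mulEquivOfOrderOfEq_apply_gen _ _ _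
  obtain ⟨φ, hφ⟩ := CfsgLib.Solv.sympl_iso_extend hZA h2A hZB h2B (hcA ▸ ha) (hcB ▸ hb) ψ
    (fun h => by
      have e : (⟨⁅xA, yA⁆, h⟩ : Subgroup.centralizer ({xA, yA} : Set A)) = ⟨a, hma⟩ := Subtype.ext hcA
      rw [e, hψ]; exact hcB.symm)
    (a := e) (b := e) (by rw [hcA]; exact h1) (by rw [hcB]; exact h3) (by rw [hcA]; exact h2) (by rw [hcB]; exact h4)
  refine ⟨φ, ?_⟩
  rw [show a = ((⟨a, hma⟩ : Subgroup.centralizer ({xA, yA} : Set A)) : A) from rfl, hφ, hψ]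

theorem sympl_two_three : ∀ (n : ℕ) (A : Type*) (B : Type*) (C : Type*) [Group A] [Group B] [Group C]
      [Finite A] [Finite B] [Finite C],
      Nat.card A = n → Nat.card B = n → Nat.card C = n →
      Nat.card (Subgroup.center A) = 2 → commutator A ≤ Subgroup.center A →
      Nat.card (Subgroup.center B) = 2 → commutator B ≤ Subgroup.center B →
      Nat.card (Subgroup.center C) = 2 → commutator C ≤ Subgroup.center C →
      ∀ a ∈ Subgroup.center A, a ≠ 1 → ∀ b ∈ Subgroup.center B, b ≠ 1 →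
      ∀ c ∈ Subgroup.center C, c ≠ 1 →
      (∃ φ : A ≃* B, φ a = b) ∨ (∃ φ : B ≃* C, φ b = c) ∨ (∃ φ : A ≃* C, φ a = c) := by
  intro n
  induction n using Nat.strong_induction_on with
  | _ n ih =>
    intro A B C _ _ _ _ _ _ hnA hnB hnC hZA h2A hZB h2B hZC h2C a ha ha' b hb hb' c hc hc'
    by_cases hsmall : n = 2
    · left
      have hga : ∀ g, g ∈ Subgroup.zpowers a := fun g => by
        rw [zpowers_eq_top_of_prime_card (p := 2) (hnA.trans hsmall) ha']; trivial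
      have hgb : ∀ g, g ∈ Subgroup.zpowers b := fun g => by
        rw [zpowers_eq_top_of_prime_card (p := 2) (hnB.trans hsmall) hb']; trivial
      haveI : IsCyclic A := ⟨⟨a, hga⟩⟩
      let φ := mulEquivOfOrderOfEq hga hgb (by
        rw [orderOf_eq_prime (p := 2) (by rw [← hnA.trans hsmall]; exact pow_card_eq_one') ha',
          orderOf_eq_prime (p := 2) (by rw [← hnB.trans hsmall]; exact pow_card_eq_one') hb'])
      exact ⟨φ, mulEquivOfOrderOfEq_apply_gen _ _ _⟩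
    -- for each group: a pair with equal squares and the exponent of `z` they give
    obtain ⟨eA, xA, yA, heA, hcA, hxA, hyA⟩ := sympl_two_pick hsmall A a hnA hZA h2A ha ha'
    obtain ⟨eB, xB, yB, heB, hcB, hxB, hyB⟩ := sympl_two_pick hsmall B b hnB hZB h2B hb hb'
    obtain ⟨eC, xC, yC, heC, hcC, hxC, hyC⟩ := sympl_two_pick hsmall C c hnC hZC h2C hc hc'
    have hA1 : ⁅xA, yA⁆ ≠ 1 := hcA ▸ ha'
    have hB1 : ⁅xB, yB⁆ ≠ 1 := hcB ▸ hb'
    have hC1 : ⁅xC, yC⁆ ≠ 1 := hcC ▸ hc'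
    obtain ⟨hZA', h2A'⟩ := CfsgLib.Solv.sympl_centralizer hZA h2A hA1
    obtain ⟨hZB', h2B'⟩ := CfsgLib.Solv.sympl_centralizer hZB h2B hB1
    obtain ⟨hZC', h2C'⟩ := CfsgLib.Solv.sympl_centralizer hZC h2C hC1
    have hkA := CfsgLib.Solv.sympl_card_eq hZA h2A hA1
    have hkB := CfsgLib.Solv.sympl_card_eq hZB h2B hB1
    have hkC := CfsgLib.Solv.sympl_card_eq hZC h2C hC1
    have hlt := hnA ▸ CfsgLib.Solv.card_lt_of_pair h2A one_lt_two hkA
    rw [hnA] at hkA
    rw [hnB] at hkB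
    rw [hnC] at hkC
    have hmA : a ∈ Subgroup.centralizer ({xA, yA} : Set A) := Subgroup.center_le_centralizer _ ha
    have hmB : b ∈ Subgroup.centralizer ({xB, yB} : Set B) := Subgroup.center_le_centralizer _ hb
    have hmC : c ∈ Subgroup.centralizer ({xC, yC} : Set C) := Subgroup.center_le_centralizer _ hc
    by_cases h8 : n = 8
    · -- the centralizers are the centres; two of the three exponents agree
      have h2A'' : Nat.card (Subgroup.centralizer ({xA, yA} : Set A)) = 2 := by rw [h8] at hkA; omega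
      have h2B'' : Nat.card (Subgroup.centralizer ({xB, yB} : Set B)) = 2 := by rw [h8] at hkB; omega
      have h2C'' : Nat.card (Subgroup.centralizer ({xC, yC} : Set C)) = 2 := by rw [h8] at hkC; omega
      have hA01 : eA = eB ∨ eB = eC ∨ eA = eC := by
        rcases heA with h1 | ⟨h1, -⟩ <;> rcases heB with h2 | ⟨h2, -⟩ <;> rcases heC with h3 | ⟨h3, -⟩ <;> omega
      rcases hA01 with h | h | h
      · subst h
        exact Or.inl (sympl_two_base A B a b xA yA xB yB eA hZA h2A hZB h2B h2A'' h2B'' ha' hb' hcA hcB hmA hmB hxA hyA hxB hyB)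
      · subst h
        exact Or.inr (Or.inl (sympl_two_base B C b c xB yB xC yC eB hZB h2B hZC h2C h2B'' h2C'' hb' hc' hcB hcC hmB hmC hxB hyB hxC hyC))
      · subst h
        exact Or.inr (Or.inr (sympl_two_base A C a c xA yA xC yC eA hZA h2A hZC h2C h2A'' h2C'' ha' hc' hcA hcC hmA hmC hxA hyA hxC hyC))
    · have e0 : eA = 0 ∧ eB = 0 ∧ eC = 0 := ⟨heA.resolve_right fun h => h8 h.2,
        heB.resolve_right fun h => h8 h.2, heC.resolve_right fun h => h8 h.2⟩
      obtain ⟨rfl, rfl, rfl⟩ := e0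
      rcases ih _ hlt _ _ _ rfl
        (Nat.eq_of_mul_eq_mul_left (by norm_num : 0 < 2 ^ 2) (hkB.symm.trans hkA))
        (Nat.eq_of_mul_eq_mul_left (by norm_num : 0 < 2 ^ 2) (hkC.symm.trans hkA))
        hZA' h2A' hZB' h2B' hZC' h2C' ⟨a, hmA⟩
        (Subgroup.mem_center_iff.2 fun g => Subtype.ext (Subgroup.mem_center_iff.1 ha g))
        (fun e => ha' (congrArg Subtype.val e)) ⟨b, hmB⟩
        (Subgroup.mem_center_iff.2 fun g => Subtype.ext (Subgroup.mem_center_iff.1 hb g))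
        (fun e => hb' (congrArg Subtype.val e)) ⟨c, hmC⟩
        (Subgroup.mem_center_iff.2 fun g => Subtype.ext (Subgroup.mem_center_iff.1 hc g))
        (fun e => hc' (congrArg Subtype.val e)) with ⟨ψ, hψ⟩ | ⟨ψ, hψ⟩ | ⟨ψ, hψ⟩
      · obtain ⟨φ, hφ⟩ := CfsgLib.Solv.sympl_iso_extend hZA h2A hZB h2B hA1 hB1 ψ
          (fun h => by
            have e : (⟨⁅xA, yA⁆, h⟩ : Subgroup.centralizer ({xA, yA} : Set A)) = ⟨a, hmA⟩ := Subtype.ext hcA
            rw [e, hψ]; exact hcB.symm)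
          (a := 0) (b := 0) (by rw [hcA]; exact hxA) (by rw [hcB]; exact hxB) (by rw [hcA]; exact hyA) (by rw [hcB]; exact hyB)
        exact Or.inl ⟨φ, by rw [show a = ((⟨a, hmA⟩ : Subgroup.centralizer ({xA, yA} : Set A)) : A) from rfl, hφ, hψ]⟩
      · obtain ⟨φ, hφ⟩ := CfsgLib.Solv.sympl_iso_extend hZB h2B hZC h2C hB1 hC1 ψ
          (fun h => by
            have e : (⟨⁅xB, yB⁆, h⟩ : Subgroup.centralizer ({xB, yB} : Set B)) = ⟨b, hmB⟩ := Subtype.ext hcB
            rw [e, hψ]; exact hcC.symm)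
          (a := 0) (b := 0) (by rw [hcB]; exact hxB) (by rw [hcC]; exact hxC) (by rw [hcB]; exact hyB) (by rw [hcC]; exact hyC)
        exact Or.inr (Or.inl ⟨φ, by rw [show b = ((⟨b, hmB⟩ : Subgroup.centralizer ({xB, yB} : Set B)) : B) from rfl, hφ, hψ]⟩)
      · obtain ⟨φ, hφ⟩ := CfsgLib.Solv.sympl_iso_extend hZA h2A hZC h2C hA1 hC1 ψ
          (fun h => by
            have e : (⟨⁅xA, yA⁆, h⟩ : Subgroup.centralizer ({xA, yA} : Set A)) = ⟨a, hmA⟩ := Subtype.ext hcA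
            rw [e, hψ]; exact hcC.symm)
          (a := 0) (b := 0) (by rw [hcA]; exact hxA) (by rw [hcC]; exact hxC) (by rw [hcA]; exact hyA) (by rw [hcC]; exact hyC)
        exact Or.inr (Or.inr ⟨φ, by rw [show a = ((⟨a, hmA⟩ : Subgroup.centralizer ({xA, yA} : Set A)) : A) from rfl, hφ, hψ]⟩)


end CfsgLib.Solv
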