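import Cfsg.Agent.Solv.ActionPStable
import Cfsg.Agent.Solv.ThompsonBasic
import Cfsg.Agent.Solv.ThompsonSubgroup

/-!
Thompson factorization from `p`-stability in the action sense.
-/

set_option autoImplicit false
set_option linter.style.haveILetI false
set_option linter.deprecated false

open scoped commutatorElement

namespace CfsgLib.Solv

variable {G : Type*} [Group G] [Finite G] {p : ℕ} [hp : Fact p.Prime]

theorem maxEA_le_centralizer_of_no_quadratic {S V : Subgroup G} [V.Normal] (hS : IsPGroup p S)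
    (hVS : V ≤ S) (hV : Cfsg.IsElementaryAbelian p V)
    (hq : ∀ a ∈ S, ⁅⁅V, Subgroup.zpowers a⁆, Subgroup.zpowers a⁆ = ⊥ →
      a ∈ Subgroup.centralizer (V : Set G)) :
    ∀ A, MaxEA p S A → A ≤ Subgroup.centralizer (V : Set G) := by
  set C := Subgroup.centralizer (V : Set G)
  by_contra hcon
  push Not at hcon
  obtain ⟨A, ⟨hA, hAn⟩, hmax⟩ := Set.exists_max_image
    {A | MaxEA p S A ∧ ¬ A ≤ C}
    (fun A => Nat.card (A ⊓ V : Subgroup G)) (Set.toFinite _) hcon
  by_cases hN : V ≤ Subgroup.normalizer (A : Set G)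
  · refine hAn fun a ha => hq a (hA.1 ha) ?_
    rw [Subgroup.commutator_eq_bot_iff_le_centralizer]
    refine le_trans (?_ : _ ≤ A) fun z hz => Subgroup.mem_centralizer_iff.2 fun y hy =>
      commute_of_isElementaryAbelian hA.2.1 (Subgroup.zpowers_le.2 ha hy) hz
    refine Subgroup.commutator_le.2 fun v hv b hb => ?_
    rw [commutatorElement_def]
    exact mul_mem ((Subgroup.mem_normalizer_iff.1 (hN hv) b).1 (Subgroup.zpowers_le.2 ha hb))
      (inv_mem (Subgroup.zpowers_le.2 ha hb))
  · obtain ⟨B, hB, hlt, hBA⟩ := thompson_replacement hS hVS hV hA hN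
    have hBC : B ≤ C := by
      by_contra hBn
      exact absurd ((hmax B ⟨hB, hBn⟩).trans_lt (lt_of_le_of_ne (Subgroup.card_le_of_le hlt.le)
        fun e => hlt.ne (Subgroup.eq_of_le_of_card_ge hlt.le e.ge))) (lt_irrefl _)
    have hVB : V ≤ Subgroup.centralizer (B : Set G) := Subgroup.le_centralizer_iff.1 hBC
    have h2 := hB.2.2 (B ⊔ V) (sup_le hB.1 hVS) (isElementaryAbelian_sup hB.2.1 hV hVB)
    exact hN ((le_sup_right.trans
      (Subgroup.eq_of_le_of_card_ge (le_sup_left : B ≤ B ⊔ V) h2).ge).trans hBA)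

theorem thompsonFactorizable_of_actionPStable (hst : Cfsg.IsActionPStable p G)
    (hO : Cfsg.pPrimeCore p G = ⊥)
    (hc : Subgroup.centralizer (Cfsg.pCore p G : Set G) ≤ Cfsg.pCore p G) :
    Cfsg.IsThompsonFactorizable p G := by
  rw [thompsonFactorizable_iff hO]
  set W := ⨆ S : Sylow p G, omegaCenterSylow p (S : Subgroup G) with hW
  haveI : W.Normal := normal_iSup_omegaCenter
  have hWle := iSup_omegaCenter_le (p := p) hc
  have hWe : Cfsg.IsElementaryAbelian p W :=
    isElementaryAbelian_of_le (isElementaryAbelian_omegaOne fun a ha b hb =>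
      Subgroup.mem_centralizer_iff.1 (Subgroup.mem_inf.1 hb).2 a (Subgroup.mem_inf.1 ha).1) hWle
  rw [thompsonSubgroup_eq_iSup_sylow]
  refine iSup_le fun S => ?_
  rw [thompsonSubgroupOf_eq]
  refine iSup₂_le (maxEA_le_centralizer_of_no_quadratic S.2
    (hWle.trans (((omegaOne_le _).trans inf_le_left).trans (pCore_le_sylow S))) hWe fun a _ ha => ?_)
  have h1 := hst.1 W hWe a ha
  rw [pCore_quotient_centralizer_eq_bot iSup_omegaCenter_generated, Subgroup.mem_bot] at h1
  exact (QuotientGroup.eq_one_iff a).1 h1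

end CfsgLib.Solv
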