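import Cfsg.Agent.Solv.MinimalNormal
import Mathlib.GroupTheory.GroupAction.Primitive
import Mathlib.GroupTheory.Complement

/-!
Core-free maximal subgroups and primitive solvable groups.
-/

set_option autoImplicit false
set_option linter.style.haveILetI false
set_option linter.deprecated false
set_option linter.unusedSectionVars false

open scoped Pointwise

namespace CfsgLib.Solv

variable {G : Type*} [Group G]

theorem sup_eq_top_of_coreFree {U : Subgroup G} (hU : IsCoatom U) (hcore : U.normalCore = ⊥)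
    {N : Subgroup G} [N.Normal] (hN : N ≠ ⊥) : U ⊔ N = ⊤ := by
  rcases hU.le_iff.1 (le_sup_left : U ≤ U ⊔ N) with h | h
  · exact h
  · exfalso
    refine hN (le_bot_iff.1 ?_)
    rw [← hcore]
    exact Subgroup.normal_le_normalCore.2 (sup_eq_left.1 h)

/-- In a group with a core-free maximal subgroup `U`, centralizers of nontrivial normal
subgroups meet `U` trivially. -/
theorem centralizer_inf_eq_bot {U : Subgroup G} (hU : IsCoatom U) (hcore : U.normalCore = ⊥)
    {N : Subgroup G} [N.Normal] (hN : N ≠ ⊥) :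
    Subgroup.centralizer (N : Set G) ⊓ U = ⊥ := by
  set D := Subgroup.centralizer (N : Set G) ⊓ U
  have hDn : D.Normal := by
    refine ⟨fun x hx g => ?_⟩
    obtain ⟨hxC, hxU⟩ := Subgroup.mem_inf.1 hx
    obtain ⟨u, hu, n, hn, rfl⟩ := Subgroup.mem_sup_of_normal_right.1
      ((sup_eq_top_of_coreFree hU hcore hN).ge (Subgroup.mem_top g))
    have h1 : n * x * n⁻¹ = x := by
      rw [Subgroup.mem_centralizer_iff.1 hxC n hn, mul_inv_cancel_right]
    have h2 : u * n * x * (u * n)⁻¹ = u * x * u⁻¹ := by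
      rw [mul_inv_rev, show u * n * x * (n⁻¹ * u⁻¹) = u * (n * x * n⁻¹) * u⁻¹ by group, h1]
    rw [h2]
    exact Subgroup.mem_inf.2 ⟨(inferInstance : (Subgroup.centralizer (N : Set G)).Normal).conj_mem x hxC u,
      mul_mem (mul_mem hu hxU) (inv_mem hu)⟩
  haveI := hDn
  rw [← le_bot_iff, ← hcore]
  exact Subgroup.normal_le_normalCore.2 inf_le_right

/-- A nontrivial normal subgroup inside such a centralizer is the whole centralizer. -/
theorem eq_centralizer_of_le {U : Subgroup G} (hU : IsCoatom U) (hcore : U.normalCore = ⊥)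
    {N : Subgroup G} [N.Normal] (hN : N ≠ ⊥) {K : Subgroup G} [K.Normal] (hK : K ≠ ⊥)
    (hKC : K ≤ Subgroup.centralizer (N : Set G)) : K = Subgroup.centralizer (N : Set G) := by
  refine le_antisymm hKC fun c hc => ?_
  obtain ⟨u, hu, k, hk, e⟩ := Subgroup.mem_sup_of_normal_right.1
    ((sup_eq_top_of_coreFree hU hcore hK).ge (Subgroup.mem_top c))
  have huC : u ∈ Subgroup.centralizer (N : Set G) := by
    have : u = c * k⁻¹ := by rw [← e, mul_inv_cancel_right]
    rw [this]
    exact mul_mem hc (inv_mem (hKC hk))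
  have h1 := (centralizer_inf_eq_bot hU hcore hN).le (Subgroup.mem_inf.2 ⟨huC, hu⟩)
  rw [Subgroup.mem_bot] at h1
  rw [h1, one_mul] at e
  rwa [← e]

/-- The structure of an abelian minimal normal subgroup under a core-free maximal subgroup. -/
theorem coreFree_abelian {U : Subgroup G} (hU : IsCoatom U) (hcore : U.normalCore = ⊥)
    {M : Subgroup G} [M.Normal] (hM : M ≠ ⊥) (hab : IsMulCommutative M) :
    M.IsComplement' U ∧ Subgroup.centralizer (M : Set G) = M := by
  have hle : M ≤ Subgroup.centralizer (M : Set G) := fun x hx =>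
    Subgroup.mem_centralizer_iff.2 fun y hy => Subtype.ext_iff.1 (hab.is_comm.comm ⟨y, hy⟩ ⟨x, hx⟩)
  refine ⟨Subgroup.isComplement'_of_disjoint_and_mul_eq_univ (disjoint_iff.2 (le_bot_iff.1
    ((inf_le_inf_right U hle).trans (centralizer_inf_eq_bot hU hcore hM).le))) ?_,
    (eq_centralizer_of_le hU hcore hM hM hle).symm⟩
  rw [← Subgroup.normal_mul, sup_comm, sup_eq_top_of_coreFree hU hcore hM, Subgroup.coe_top]

theorem primitive_stabilizer {Ω : Type*} [MulAction G Ω] [FaithfulSMul G Ω]
    (hprim : MulAction.IsPreprimitive G Ω) {M : Subgroup G} (hM : M ≠ ⊥) (ω : Ω) :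
    IsCoatom (MulAction.stabilizer G ω) ∧ (MulAction.stabilizer G ω).normalCore = ⊥ := by
  haveI := hprim
  haveI : Nontrivial Ω := by
    by_contra hnt
    rw [not_nontrivial_iff_subsingleton] at hnt
    refine hM (le_bot_iff.1 fun x _ => Subgroup.mem_bot.2 ?_)
    exact eq_of_smul_eq_smul (α := Ω) fun a => Subsingleton.elim _ _
  refine ⟨MulAction.IsPreprimitive.isCoatom_stabilizer_of_isPreprimitive G ω, le_bot_iff.1 fun x hx => ?_⟩
  refine Subgroup.mem_bot.2 (eq_of_smul_eq_smul (α := Ω) fun a => ?_)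
  obtain ⟨g, rfl⟩ := MulAction.exists_smul_eq G ω a
  have h1 := MulAction.mem_stabilizer_iff.1 (hx g⁻¹)
  rw [inv_inv, mul_smul, mul_smul] at h1
  have h2 := congrArg (fun z => g • z) h1
  rw [smul_inv_smul] at h2
  rw [one_smul]
  exact h2

end CfsgLib.Solv
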