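import Cfsg.Agent.Solv.CoreFree
import Cfsg.Agent.Solv.SystemNorm

/-!
Primitive groups: core-free maximal subgroups.
-/

set_option autoImplicit false
set_option linter.style.haveILetI false
set_option linter.deprecated false
set_option linter.unusedSectionVars false

open scoped Pointwise commutatorElement

namespace CfsgLib.Solv

variable {G : Type*} [Group G]

theorem le_of_normalizes_core {U Q : Subgroup G} (hU : IsCoatom U) (hQ : Q ≠ ⊥) (hQU : Q ≤ U)
    (hcore : U.normalCore = ⊥) (h : U ≤ Subgroup.normalizer (Q : Set G)) :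
    Subgroup.normalizer (Q : Set G) = U := by
  rcases hU.le_iff.1 h with h1 | h1
  · haveI : Q.Normal := Subgroup.normalizer_eq_top_iff.1 h1
    exact absurd (le_bot_iff.1 (hcore ▸ Subgroup.normal_le_normalCore.2 hQU)) hQ
  · exact h1

theorem coreFree_maximal_conj [Finite G] [Group.IsSolvable G] {U V : Subgroup G} (hU : IsCoatom U)
    (hV : IsCoatom V) (hUc : U.normalCore = ⊥) (hVc : V.normalCore = ⊥) :
    ∃ g : G, MulAut.conj g • U = V := by
  haveI : Nontrivial G := by
    by_contra hn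
    rw [not_nontrivial_iff_subsingleton] at hn
    exact hU.1 (Subsingleton.elim _ _)
  obtain ⟨N, p, hp, hN, -, -, hNp⟩ := exists_minimal_normal_pGroup (G := G)
  haveI := Fact.mk hp
  haveI := hN.1
  haveI hab : IsMulCommutative N := isMulCommutative_of_minimal_solvable hN inferInstance
  obtain ⟨hcU, hC⟩ := coreFree_abelian hU hUc hN.2.1 hab
  obtain ⟨hcV, -⟩ := coreFree_abelian hV hVc hN.2.1 hab
  by_cases hNt : N = ⊤
  · refine ⟨1, ?_⟩
    rw [map_one, one_smul]
    subst hNt
    rw [Subgroup.isComplement'_top_left.1 hcU, Subgroup.isComplement'_top_left.1 hcV]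
  haveI : Nontrivial (G ⧸ N) := QuotientGroup.nontrivial_iff.2 hNt
  have hs := QuotientGroup.mk'_surjective N
  haveI : Group.IsSolvable (G ⧸ N) := Group.isSolvable_of_surjective hs
  obtain ⟨M', q, hq, hM', -, -, hM'q⟩ := exists_minimal_normal_pGroup (G := G ⧸ N)
  haveI := Fact.mk hq
  set M := M'.comap (QuotientGroup.mk' N) with hMd
  haveI hMn : M.Normal := hM'.1.comap _
  have hNM : N ≤ M := fun x hx => by
    show QuotientGroup.mk' N x ∈ M'
    rw [QuotientGroup.mk'_apply, (QuotientGroup.eq_one_iff x).2 hx]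
    exact one_mem _
  have hMmap : M.map (QuotientGroup.mk' N) = M' := Subgroup.map_comap_eq_self_of_surjective hs M'
  have hMne : ¬ M ≤ N := fun h => hM'.2.1 (by
    rw [← hMmap, Subgroup.map_eq_bot_iff, QuotientGroup.ker_mk']; exact h)
  have hqp : q ≠ p := by
    intro e
    subst e
    refine hMne ((centralized_of_pGroup_section hN hNp hMn (hC.le.trans hNM) ?_).trans hC.le)
    have hker : (QuotientGroup.mk' N).ker ≤ (QuotientGroup.mk' (Subgroup.centralizer (N : Set G))).ker := by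
      rw [QuotientGroup.ker_mk', QuotientGroup.ker_mk', hC]
    rw [IsPGroup.iff_card]
    obtain ⟨k, hk⟩ := IsPGroup.iff_card.1 hM'q
    have h1 : Nat.card (M.map (QuotientGroup.mk' (Subgroup.centralizer (N : Set G)))) = Nat.card M' := by
      rw [← hMmap, ← Subgroup.relIndex_ker, ← Subgroup.relIndex_ker, QuotientGroup.ker_mk',
        QuotientGroup.ker_mk', hC]
    exact ⟨k, h1.trans hk⟩
  -- Sylow `q`-subgroups of `M` inside the complements
  have hHall : ∀ W : Subgroup G, N.IsComplement' W →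
      PiNat {q} (Nat.card (W.subgroupOf M)) ∧ PiNat {q}ᶜ (W.subgroupOf M).index := by
    intro W hW
    obtain ⟨i, hi⟩ := IsPGroup.iff_card.1 hNp
    obtain ⟨j, hj⟩ := IsPGroup.iff_card.1 hM'q
    have hb : W ⊓ N = ⊥ := by rw [inf_comm]; exact hW.disjoint.eq_bot
    constructor
    · have h1 : Nat.card (W.subgroupOf M) = Nat.card (W ⊓ M : Subgroup G) := by
        rw [← Subgroup.inf_subgroupOf_right, card_subgroupOf inf_le_right]
      rw [h1]
      have h2 := card_map_mk' N (W ⊓ M)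
      rw [show W ⊓ M ⊓ N = ⊥ from le_bot_iff.1 ((inf_le_inf_right N inf_le_left).trans hb.le),
        Subgroup.card_bot, mul_one] at h2
      rw [← h2]
      exact (piNat_of_pow (π := {q}) (k := j) hq rfl).of_dvd (hj ▸ hMmap ▸ Subgroup.card_dvd_of_le (Subgroup.map_mono inf_le_right))
    · refine (piNat_of_pow (π := {q}ᶜ) (k := i) hp (fun e => hqp e.symm)).of_dvd ?_
      rw [← hi, ← hW.index_eq_card]
      exact relIndex_dvd_index_of_normal_right W M
  obtain ⟨m, hm⟩ := hall_conj (PiSolvable.of_isSolvable (G := M) {q}) (hHall U hcU).1 (hHall U hcU).2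
    (hHall V hcV).1 (hHall V hcV).2
  have h5 := congrArg (Subgroup.map M.subtype) hm
  rw [conj_smul_eq_map, Subgroup.map_map] at h5
  have h6 : (M.subtype.comp (MulAut.conj m).toMonoidHom) =
      (MulAut.conj (m : G)).toMonoidHom.comp M.subtype := rfl
  rw [h6, ← Subgroup.map_map, Subgroup.subgroupOf_map_subtype, Subgroup.subgroupOf_map_subtype,
    ← conj_smul_eq_map] at h5
  refine ⟨m, ?_⟩
  set Q := V ⊓ M with hQ
  have hnorm : ∀ W : Subgroup G, W ≤ Subgroup.normalizer ((W ⊓ M : Subgroup G) : Set G) := fun W =>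
    le_normalizer_iff_forall_conj_mem.2 fun w hw x hx => Subgroup.mem_inf.2
      ⟨mul_mem (mul_mem hw (Subgroup.mem_inf.1 hx).1) (inv_mem hw), hMn.conj_mem x (Subgroup.mem_inf.1 hx).2 w⟩
  have hQb : Q ≠ ⊥ := fun e => hMne fun x hx => by
    obtain ⟨a, ha, b, hb, rfl⟩ := Subgroup.mem_sup_of_normal_left.1 (hcV.sup_eq_top.ge (Subgroup.mem_top x))
    have hbM : b ∈ M := by simpa using mul_mem (inv_mem (hNM ha)) hx
    have := e.le (Subgroup.mem_inf.2 ⟨hb, hbM⟩)
    rw [Subgroup.mem_bot] at this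
    rwa [this, mul_one]
  have hNQ := le_of_normalizes_core hV hQb inf_le_left hVc (hnorm V)
  have hle : MulAut.conj (m : G) • U ≤ V := by
    rw [← hNQ, ← h5]
    intro x hx
    rw [mem_conj_smul_iff] at hx
    refine mem_normalizer_of_conj_smul_eq ?_
    have h7 := conj_smul_eq_self_of_mem_normalizer (hnorm U hx)
    conv_rhs => rw [← h7]
    rw [← mul_smul, ← mul_smul, ← map_mul, ← map_mul]
    congr 2
    group
  exact Subgroup.eq_of_le_of_card_ge hle (by
    rw [card_conj_smul]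
    exact (Nat.eq_of_mul_eq_mul_left Nat.card_pos (hcV.card_mul.trans hcU.card_mul.symm)).le)

theorem coreFree_two_minimal [Finite G] {U : Subgroup G} (hU : IsCoatom U) (hcore : U.normalCore = ⊥)
    {A B : Subgroup G} [A.Normal] [B.Normal] (hA : IsMinimalNormal A) (hB : IsMinimalNormal B)
    (hAB : A ≠ B) :
    Subgroup.centralizer (B : Set G) = A ∧ Subgroup.centralizer (A : Set G) = B ∧
      A.IsComplement' U ∧ B.IsComplement' U ∧ ¬ IsMulCommutative A ∧ Nonempty (A ≃* B) ∧
        Nonempty (A ≃* ↥((A ⊔ B) ⊓ U)) := by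
  have hd : A ⊓ B = ⊥ := (hA.2.2 (A ⊓ B) inferInstance inf_le_left).resolve_right fun e =>
    hAB ((hB.2.2 A inferInstance (e.ge.trans inf_le_right)).resolve_left hA.2.1)
  have hcomm : ∀ a ∈ A, ∀ b ∈ B, Commute a b := fun a ha b hb =>
    Subgroup.commute_of_normal_of_disjoint _ _ inferInstance inferInstance (disjoint_iff.2 hd) a b ha hb
  have hAc : A ≤ Subgroup.centralizer (B : Set G) := fun a ha =>
    Subgroup.mem_centralizer_iff.2 fun b hb => (hcomm a ha b hb).eq.symm
  have hBc : B ≤ Subgroup.centralizer (A : Set G) := Subgroup.le_centralizer_iff.1 hAc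
  have h1 := (eq_centralizer_of_le hU hcore hB.2.1 hA.2.1 hAc).symm
  have h2 := (eq_centralizer_of_le hU hcore hA.2.1 hB.2.1 hBc).symm
  have hcompl : ∀ X Y : Subgroup G, X.Normal → X ≠ ⊥ → Y.Normal → Y ≠ ⊥ →
      X ≤ Subgroup.centralizer (Y : Set G) → X.IsComplement' U := by
    intro X Y hX hXb hY hYb hle
    haveI := hX; haveI := hY
    refine Subgroup.isComplement'_of_disjoint_and_mul_eq_univ (disjoint_iff.2 (le_bot_iff.1
      ((inf_le_inf_right U hle).trans (centralizer_inf_eq_bot hU hcore hYb).le))) ?_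
    rw [← Subgroup.normal_mul, sup_comm, sup_eq_top_of_coreFree hU hcore hXb, Subgroup.coe_top]
  have h3 := hcompl A B inferInstance hA.2.1 inferInstance hB.2.1 hAc
  have h4 := hcompl B A inferInstance hB.2.1 inferInstance hA.2.1 hBc
  refine ⟨h1, h2, h3, h4, fun hab => hAB ?_, ?_⟩
  · exact (coreFree_abelian hU hcore hA.2.1 hab).2.symm.trans h2
  have hc : ∀ (a : A) (b : B), Commute (A.subtype a) (B.subtype b) := fun a b => hcomm a a.2 b b.2
  let f : A × B →* G := A.subtype.noncommCoprod B.subtype hc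
  have hf : ∀ x : A × B, f x = (x.1 : G) * x.2 := fun _ => rfl
  have hinj : Function.Injective f := by
    rw [← MonoidHom.ker_eq_bot_iff, eq_bot_iff]
    intro x hx
    rw [MonoidHom.mem_ker, hf] at hx
    have h5 : (x.1 : G) ∈ A ⊓ B := Subgroup.mem_inf.2 ⟨x.1.2, by
      rw [eq_inv_of_mul_eq_one_left hx]; exact inv_mem x.2.2⟩
    rw [hd, Subgroup.mem_bot] at h5
    rw [h5, one_mul] at hx
    exact Subgroup.mem_bot.2 (Prod.ext (Subtype.ext h5) (Subtype.ext hx))
  set S := U.comap f with hS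
  have hrange : f.range = A ⊔ B := by
    show (A.subtype.noncommCoprod B.subtype _).range = _
    rw [MonoidHom.noncommCoprod_range, Subgroup.range_subtype, Subgroup.range_subtype]
  have e0 : Nonempty (S ≃* ↥((A ⊔ B) ⊓ U)) :=
    ⟨(Subgroup.equivMapOfInjective S f hinj).trans (MulEquiv.subgroupCongr (by
      rw [hS, Subgroup.map_comap_eq, hrange]))⟩
  let π1 : S →* A := (MonoidHom.fst A B).comp S.subtype
  let π2 : S →* B := (MonoidHom.snd A B).comp S.subtype
  have hb1 : Function.Bijective π1 := by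
    refine ⟨fun x y hxy => ?_, fun a => ?_⟩
    · obtain ⟨⟨a, b⟩, hx⟩ := x
      obtain ⟨⟨a', b'⟩, hy⟩ := y
      obtain rfl : a = a' := hxy
      have h5 : (b : G)⁻¹ * b' ∈ U ⊓ B := Subgroup.mem_inf.2 ⟨?_, mul_mem (inv_mem b.2) b'.2⟩
      · rw [inf_comm, h4.disjoint.eq_bot, Subgroup.mem_bot, inv_mul_eq_one] at h5
        exact Subtype.ext (Prod.ext rfl (Subtype.ext h5))
      · have := mul_mem (inv_mem (show (a : G) * b ∈ U from hx)) (show (a : G) * b' ∈ U from hy)
        rwa [mul_inv_rev, mul_assoc, inv_mul_cancel_left] at this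
    · obtain ⟨b, hb, u, hu, e⟩ := Subgroup.mem_sup_of_normal_left.1 (h4.sup_eq_top.ge (Subgroup.mem_top (a : G)))
      refine ⟨⟨(a, ⟨b⁻¹, inv_mem hb⟩), ?_⟩, rfl⟩
      show (a : G) * b⁻¹ ∈ U
      rw [(hcomm a a.2 b⁻¹ (inv_mem hb)).eq, ← e, inv_mul_cancel_left]
      exact hu
  have hb2 : Function.Bijective π2 := by
    refine ⟨fun x y hxy => ?_, fun b => ?_⟩
    · obtain ⟨⟨a, b⟩, hx⟩ := x
      obtain ⟨⟨a', b'⟩, hy⟩ := y
      obtain rfl : b = b' := hxy
      have h5 : (a : G) * (a' : G)⁻¹ ∈ U ⊓ A := Subgroup.mem_inf.2 ⟨?_, mul_mem a.2 (inv_mem a'.2)⟩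
      · rw [inf_comm, h3.disjoint.eq_bot, Subgroup.mem_bot, mul_inv_eq_one] at h5
        exact Subtype.ext (Prod.ext (Subtype.ext h5) rfl)
      · have := mul_mem (show (a : G) * b ∈ U from hx) (inv_mem (show (a' : G) * b ∈ U from hy))
        rwa [mul_inv_rev, mul_assoc, mul_inv_cancel_left] at this
    · obtain ⟨a, ha, u, hu, e⟩ := Subgroup.mem_sup_of_normal_left.1 (h3.sup_eq_top.ge (Subgroup.mem_top (b : G)))
      refine ⟨⟨(⟨a⁻¹, inv_mem ha⟩, b), ?_⟩, rfl⟩
      show a⁻¹ * (b : G) ∈ U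
      rw [← e, inv_mul_cancel_left]
      exact hu
  exact ⟨⟨(MulEquiv.ofBijective π1 hb1).symm.trans (MulEquiv.ofBijective π2 hb2)⟩,
    e0.map fun e => (MulEquiv.ofBijective π1 hb1).symm.trans e⟩

end CfsgLib.Solv
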