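import Cfsg.Agent.Solv.FrobeniusNilp
import Cfsg.Agent.Solv.Frobenius

/-!
A finite group with an abelian maximal subgroup has derived length at most three.
-/

set_option autoImplicit false
set_option linter.style.haveILetI false
set_option linter.deprecated false
set_option linter.unusedSectionVars false

open scoped Pointwise commutatorElement

namespace CfsgLib.Solv

universe u

theorem derivedSeries_three_of_abelian_maximal {G : Type u} [Group G] [Finite G] (A : Subgroup G)
    (hA : IsCoatom A) [hAab : IsMulCommutative A] : derivedSeries G 3 = ⊥ := by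
  have hab2 : ∀ X : Subgroup G, X ≤ A → ⁅X, X⁆ = ⊥ := fun X hX => by
    rw [eq_bot_iff, Subgroup.commutator_le]
    intro a ha b hb
    rw [Subgroup.mem_bot, commutatorElement_eq_one_iff_mul_comm]
    exact Subtype.ext_iff.1 (hAab.is_comm.comm (⟨a, hX ha⟩ : A) ⟨b, hX hb⟩)
  -- it suffices that the second derived subgroup lies in `A`
  suffices h : derivedSeries G 2 ≤ A by
    show ⁅derivedSeries G 2, derivedSeries G 2⁆ = ⊥
    exact hab2 _ h
  by_cases hAn : A.Normal
  · haveI := hAn
    refine le_trans (derivedSeries_antitone G (by norm_num : 1 ≤ 2)) ?_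
    rw [derivedSeries_one]
    haveI : IsSimpleGroup (G ⧸ A) := by
      refine { exists_pair_ne := ?_, eq_bot_or_eq_top_of_normal := fun M _ => ?_ }
      · haveI := QuotientGroup.nontrivial_iff.2 hA.1
        exact exists_pair_ne _
      · have hle : A ≤ M.comap (QuotientGroup.mk' A) := fun x hx => by
          show QuotientGroup.mk' A x ∈ M
          rw [QuotientGroup.mk'_apply, (QuotientGroup.eq_one_iff x).2 hx]
          exact one_mem M
        rcases hA.le_iff.1 hle with h | h
        · right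
          rw [← Subgroup.map_comap_eq_self_of_surjective (QuotientGroup.mk'_surjective A) M, h,
            Subgroup.map_top_of_surjective _ (QuotientGroup.mk'_surjective A)]
        · left
          rw [← Subgroup.map_comap_eq_self_of_surjective (QuotientGroup.mk'_surjective A) M, h,
            Subgroup.map_eq_bot_iff, QuotientGroup.ker_mk']
    -- the quotient is cyclic
    obtain ⟨x, hx⟩ := exists_ne (1 : G ⧸ A)
    obtain ⟨g, rfl⟩ := QuotientGroup.mk'_surjective A x
    have htop : A ⊔ Subgroup.zpowers g = ⊤ := hA.2 _ (left_lt_sup.2 fun h => hx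
      ((QuotientGroup.eq_one_iff g).2 (h (Subgroup.mem_zpowers g))))
    rw [commutator_def, Subgroup.commutator_le]
    intro a _ b _
    rw [← QuotientGroup.eq_one_iff]
    show QuotientGroup.mk' A ⁅a, b⁆ = 1
    have hcyc : ∀ a : G, ∃ k : ℤ, QuotientGroup.mk' A a = (QuotientGroup.mk' A g) ^ k := by
      intro a
      obtain ⟨y, hy, z, hz, rfl⟩ := Subgroup.mem_sup_of_normal_left.1 (htop.ge (Subgroup.mem_top a))
      obtain ⟨k, rfl⟩ := Subgroup.mem_zpowers_iff.1 hz
      exact ⟨k, by rw [map_mul, map_zpow, show QuotientGroup.mk' A y = 1 from (QuotientGroup.eq_one_iff y).2 hy, one_mul]⟩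
    obtain ⟨i, hi⟩ := hcyc a
    obtain ⟨j, hj⟩ := hcyc b
    rw [map_commutatorElement, hi, hj, commutatorElement_eq_one_iff_mul_comm]
    exact (Commute.refl _).zpow_zpow i j
  -- `A` is self-normalizing
  have hN : Subgroup.normalizer (A : Set G) = A := by
    rcases hA.le_iff.1 (Subgroup.le_normalizer : A ≤ Subgroup.normalizer (A : Set G)) with h | h
    · exact absurd (Subgroup.normalizer_eq_top_iff.1 h) hAn
    · exact h
  set C := Subgroup.center G ⊓ A with hC
  haveI hCn : C.Normal := by
    refine ⟨fun x hx g => ?_⟩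
    obtain ⟨hxZ, hxA⟩ := Subgroup.mem_inf.1 hx
    rw [show g * x * g⁻¹ = x by rw [Subgroup.mem_center_iff.1 hxZ g, mul_inv_cancel_right]]
    exact hx
  have hTI : ∀ g : G, g ∉ A → A ⊓ (MulAut.conj g • A) ≤ C := by
    intro g hg x hx
    obtain ⟨hxA, hxg⟩ := Subgroup.mem_inf.1 hx
    refine Subgroup.mem_inf.2 ⟨?_, hxA⟩
    have hne : ¬ MulAut.conj g • A ≤ A := fun hle => hg (hN ▸ mem_normalizer_of_conj_smul_eq
      (Subgroup.eq_of_le_of_card_ge hle (by rw [card_conj_smul])))
    have htop : A ⊔ (MulAut.conj g • A) = ⊤ := hA.2 _ (left_lt_sup.2 hne)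
    have hle : A ⊔ (MulAut.conj g • A) ≤ Subgroup.centralizer {x} := by
      refine sup_le (fun a ha => ?_) fun a ha => ?_
      · rw [Subgroup.mem_centralizer_iff]
        rintro y rfl
        exact Subtype.ext_iff.1 (hAab.is_comm.comm (⟨y, hxA⟩ : A) ⟨a, ha⟩)
      · rw [Subgroup.mem_centralizer_iff]
        rintro y rfl
        rw [mem_conj_smul_iff] at hxg ha
        have h1 : (g⁻¹ * y * g) * (g⁻¹ * a * g) = (g⁻¹ * a * g) * (g⁻¹ * y * g) :=
          Subtype.ext_iff.1 (hAab.is_comm.comm (⟨_, hxg⟩ : A) ⟨_, ha⟩)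
        calc y * a = g * ((g⁻¹ * y * g) * (g⁻¹ * a * g)) * g⁻¹ := by group
          _ = g * ((g⁻¹ * a * g) * (g⁻¹ * y * g)) * g⁻¹ := by rw [h1]
          _ = a * y := by group
    rw [htop, top_le_iff] at hle
    exact Subgroup.mem_center_iff.2 fun z =>
      (Subgroup.mem_centralizer_iff.1 (hle.ge (Subgroup.mem_top z)) x rfl).symm
  set f := QuotientGroup.mk' C with hf
  have hs := QuotientGroup.mk'_surjective C
  have hker : f.ker ≤ A := by rw [QuotientGroup.ker_mk']; exact inf_le_right
  set B := A.map f with hB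
  have hcomap : B.comap f = A := Subgroup.comap_map_eq_self hker
  have hBc : IsCoatom B := by
    refine ⟨fun e => hA.1 (by rw [← hcomap, e, Subgroup.comap_top]), fun X hX => ?_⟩
    have h1 : A < X.comap f := by
      rw [← hcomap]; exact (Subgroup.comap_lt_comap_of_surjective hs).2 hX
    rw [← Subgroup.map_comap_eq_self_of_surjective hs X, hA.2 _ h1, Subgroup.map_top_of_surjective f hs]
  have hBf : Cfsg.IsFrobeniusComplement B := by
    refine ⟨fun e => hAn ?_, hBc.1, fun y hy => ?_⟩
    · have h1 : A ≤ C := by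
        rw [← hcomap, e, MonoidHom.comap_bot, QuotientGroup.ker_mk']
      refine ⟨fun x hx g => ?_⟩
      rw [show g * x * g⁻¹ = x by
        rw [Subgroup.mem_center_iff.1 (Subgroup.mem_inf.1 (h1 hx)).1 g, mul_inv_cancel_right]]
      exact hx
    · obtain ⟨g, rfl⟩ := hs y
      rw [eq_bot_iff]
      intro z hz
      obtain ⟨hz1, hz2⟩ := Subgroup.mem_inf.1 hz
      obtain ⟨a, ha, rfl⟩ := hz1
      rw [mem_conj_smul_iff, ← map_inv, ← map_mul, ← map_mul] at hz2
      have h2 : g⁻¹ * a * g ∈ A := hcomap.le hz2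
      have hgA : g ∉ A := fun h => hy (Subgroup.mem_map_of_mem f h)
      exact Subgroup.mem_bot.2 ((QuotientGroup.eq_one_iff a).2
        (hTI g hgA (Subgroup.mem_inf.2 ⟨ha, mem_conj_smul_iff.2 h2⟩)))
  obtain ⟨K, -, hKn, hK⟩ := frobenius_theorem hBf
  haveI := hKn
  have hKnil : Group.IsNilpotent K := frobenius_isNilpotent hBf hK.disjoint.eq_bot
  -- the kernel is abelian
  haveI : Nontrivial K := by
    rw [Subgroup.nontrivial_iff_ne_bot]
    intro e
    exact hBc.1 (by rw [← hK.sup_eq_top, e, bot_sup_eq])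
  have hZ : Subgroup.center K ≠ ⊥ := @Group.IsNilpotent.center_ne_bot K _ _ hKnil
  set Z := (Subgroup.center K).map K.subtype with hZd
  haveI hZn : Z.Normal := normal_map_subtype_of_characteristic _
  have hZB : ¬ Z ≤ B := fun h => hZ (by
    rw [eq_bot_iff]
    intro z hz
    have := hK.disjoint.le_bot (Subgroup.mem_inf.2 ⟨z.2, h (Subgroup.mem_map_of_mem K.subtype hz)⟩)
    rw [Subgroup.mem_bot] at this ⊢
    exact Subtype.ext this)
  have htop : Z ⊔ B = ⊤ := by rw [sup_comm]; exact hBc.2 _ (left_lt_sup.2 hZB)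
  have hKab : ∀ a ∈ K, ∀ b ∈ K, a * b = b * a := by
    have hKZ : K ≤ Z := fun k hk => by
      obtain ⟨z, hz, b, hb, e⟩ := Subgroup.mem_sup_of_normal_left.1 (htop.ge (Subgroup.mem_top k))
      have hbK : b ∈ K := by
        have := mul_mem (inv_mem (Subgroup.map_subtype_le _ hz)) hk
        rwa [← e, inv_mul_cancel_left] at this
      have := hK.disjoint.le_bot (Subgroup.mem_inf.2 ⟨hbK, hb⟩)
      rw [Subgroup.mem_bot] at this
      rw [← e, this, mul_one]
      exact hz
    intro a ha b hb
    obtain ⟨z, hz, rfl⟩ := hKZ ha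
    exact congrArg Subtype.val (Subgroup.mem_center_iff.1 hz ⟨b, hb⟩).symm
  -- the derived group of the quotient lies in the kernel
  have h1 : ∀ x y : G ⧸ C, ⁅x, y⁆ ∈ K := by
    intro x y
    obtain ⟨k, hk, b, hb, rfl⟩ := Subgroup.mem_sup_of_normal_left.1 (hK.sup_eq_top.ge (Subgroup.mem_top x))
    obtain ⟨k', hk', b', hb', rfl⟩ := Subgroup.mem_sup_of_normal_left.1 (hK.sup_eq_top.ge (Subgroup.mem_top y))
    rw [← QuotientGroup.eq_one_iff]
    show QuotientGroup.mk' K ⁅k * b, k' * b'⁆ = 1
    rw [map_commutatorElement, map_mul, map_mul,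
      show QuotientGroup.mk' K k = 1 from (QuotientGroup.eq_one_iff k).2 hk,
      show QuotientGroup.mk' K k' = 1 from (QuotientGroup.eq_one_iff k').2 hk', one_mul, one_mul,
      ← map_commutatorElement]
    obtain ⟨a, ha, rfl⟩ := hb
    obtain ⟨a', ha', rfl⟩ := hb'
    rw [← map_commutatorElement f, show ⁅a, a'⁆ = 1 from
      commutatorElement_eq_one_iff_mul_comm.2 (Subtype.ext_iff.1 (hAab.is_comm.comm (⟨a, ha⟩ : A) ⟨a', ha'⟩)),
      map_one, map_one]
  refine le_trans ?_ (inf_le_right : C ≤ A)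
  show ⁅derivedSeries G 1, derivedSeries G 1⁆ ≤ C
  rw [derivedSeries_one, Subgroup.commutator_le]
  intro a ha b hb
  have hmem : ∀ a ∈ commutator G, f a ∈ K := by
    intro a ha
    have hle : commutator G ≤ K.comap f := by
      rw [commutator_def, Subgroup.commutator_le]
      intro u _ v _
      show f ⁅u, v⁆ ∈ K
      rw [map_commutatorElement]
      exact h1 _ _
    exact hle ha
  rw [← QuotientGroup.eq_one_iff]
  show f ⁅a, b⁆ = 1
  rw [map_commutatorElement, commutatorElement_eq_one_iff_mul_comm]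
  exact hKab _ (hmem a ha) _ (hmem b hb)

end CfsgLib.Solv
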