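import Cfsg.Agent.Solv.TransferTools
import Cfsg.Agent.Solv.MinNonNilp
import Cfsg.Agent.Solv.Tate
import Cfsg.Agent.Solv.FittingBasic

/-!
Nilpotent Hall subgroups: Wielandt's conjugacy theorem, normal complements of self-normalizing
ones.
-/

set_option autoImplicit false
set_option linter.style.haveILetI false
set_option linter.deprecated false
set_option linter.unusedSectionVars false

open scoped Pointwise commutatorElement

namespace CfsgLib.Solv

universe u

variable {G : Type u} [Group G]

theorem exists_sylow_le_nilpotent_hall [Finite G] {H : Subgroup G} (hH : Group.IsNilpotent H)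
    (hHall : (Nat.card H).Coprime H.index) {p : ℕ} [hp : Fact p.Prime] (hpd : p ∣ Nat.card H) :
    ∃ P : Sylow p G, (P : Subgroup G) ≤ H ∧
      ∀ x ∈ H, x ∈ Subgroup.normalizer ((P : Subgroup G) : Set G) ∧
        ((orderOf x).Coprime p → x ∈ Subgroup.centralizer ((P : Subgroup G) : Set G)) := by
  haveI := hH
  let Q : Sylow p H := default
  have hQn : (Q : Subgroup H).Normal := inferInstance
  have h : ¬ p ∣ ((Q : Subgroup H).map H.subtype).index := by
    rw [Subgroup.index_map_subtype]
    exact fun hd => (hp.out.dvd_mul.1 hd).elim Q.not_dvd_index fun hd2 =>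
      hp.out.ne_one (Nat.eq_one_of_dvd_coprimes hHall hpd hd2)
  refine ⟨(Q.2.map H.subtype).toSylow h, Subgroup.map_subtype_le _, fun x hx => ?_⟩
  have hn : (⟨x, hx⟩ : H) ∈ Subgroup.normalizer ((Q : Subgroup H) : Set H) := by
    rw [Subgroup.normalizer_eq_top_iff.2 hQn]
    trivial
  refine ⟨?_, fun hco => ?_⟩
  · exact Subgroup.le_normalizer_map H.subtype (Subgroup.mem_map_of_mem _ hn)
  · have hc := mem_centralizer_of_hnpc (hnpc_of_isNilpotent (p := p) (G := H)) Q.2 hn
      (by rwa [← Subgroup.orderOf_coe (⟨x, hx⟩ : H)])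
    rw [Subgroup.mem_centralizer_iff]
    rintro _ ⟨y, hy, rfl⟩
    exact congrArg Subtype.val (Subgroup.mem_centralizer_iff.1 hc y hy)

theorem exists_hnpc_of_proper_nilpotent {K : Type u} [Group K] [Finite K] [Nontrivial K]
    (h : ∀ U : Subgroup K, U ≠ ⊤ → Group.IsNilpotent U) :
    ∃ p : ℕ, p.Prime ∧ p ∣ Nat.card K ∧ Cfsg.HasNormalPComplement p K := by
  by_cases hK : Group.IsNilpotent K
  · obtain ⟨p, hp, hd⟩ := Nat.exists_prime_and_dvd (Finite.one_lt_card (α := K)).ne'
    haveI := Fact.mk hp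
    haveI := hK
    exact ⟨p, hp, hd, hnpc_of_isNilpotent⟩
  · obtain ⟨p, q, hp, hq, hne, P, Q, -, hQ, htop, hnc⟩ := schmidt_structure h hK
    haveI := Fact.mk hp; haveI := Fact.mk hq; haveI := hQ
    have hPb : (P : Subgroup K) ≠ ⊥ := fun e => hnc (e ▸ bot_le)
    obtain ⟨a, ha⟩ := IsPGroup.iff_card.1 P.2
    obtain ⟨b, hb⟩ := IsPGroup.iff_card.1 Q.2
    have ha0 : a ≠ 0 := fun e => hPb (Subgroup.eq_bot_of_card_eq _ (by rw [ha, e, pow_zero]))
    refine ⟨p, hp, ((dvd_pow_self p ha0).trans ha.symm.dvd).trans (Subgroup.card_subgroup_dvd_card _),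
      CfsgLib.Perm.hasNormalPComplement_of (Q : Subgroup K) ?_ ⟨a, ?_⟩⟩
    · rw [hb]
      exact fun hd => hne ((Nat.prime_dvd_prime_iff_eq hp hq).1 (hp.dvd_of_dvd_pow hd))
    · have h2 := card_sup_mul_card_inf (P : Subgroup K) (Q : Subgroup K)
      rw [htop, Subgroup.card_top, disjoint_iff.1 (IsPGroup.disjoint_of_ne p q hne _ _ P.2 Q.2),
        Subgroup.card_bot, mul_one, ← Subgroup.card_mul_index (Q : Subgroup K), ha, mul_comm] at h2
      exact Nat.eq_of_mul_eq_mul_right Nat.card_pos h2

/-- Wielandt: subgroups whose primes lie in those of a nilpotent Hall subgroup. -/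
theorem wielandt_nilpotent_hall_aux [Finite G] {H : Subgroup G} (hH : Group.IsNilpotent H)
    (hHall : (Nat.card H).Coprime H.index) : ∀ (n : ℕ) (K : Subgroup G), Nat.card K = n →
      (∀ p : ℕ, p.Prime → p ∣ Nat.card K → p ∣ Nat.card H) → ∃ x : G, K ≤ MulAut.conj x • H := by
  intro n
  induction n using Nat.strong_induction_on with
  | _ n IH =>
    intro K hn hK
    by_cases h1 : Nat.card K = 1
    · exact ⟨1, by rw [Subgroup.eq_bot_of_card_eq K h1]; exact bot_le⟩
    haveI : Nontrivial K := (Subgroup.nontrivial_iff_ne_bot K).2 fun e => h1 (by rw [e, Subgroup.card_bot])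
    have hprop : ∀ U : Subgroup K, U ≠ ⊤ → Group.IsNilpotent U := by
      intro U hU
      obtain ⟨x, hx⟩ := IH _ (hn ▸ (card_map_subtype K U).trans_lt (card_lt_of_ne_top hU))
        (U.map K.subtype) rfl fun p hp hd => hK p hp (hd.trans (Subgroup.card_dvd_of_le (Subgroup.map_subtype_le U)))
      haveI : Group.IsNilpotent (MulAut.conj x • H : Subgroup G) :=
        haveI := hH; Group.nilpotent_of_mulEquiv (Subgroup.equivSMul (MulAut.conj x) H)
      haveI : Group.IsNilpotent (U.map K.subtype) :=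
        Group.nilpotent_of_mulEquiv (Subgroup.subgroupOfEquivOfLe hx)
      exact Group.nilpotent_of_mulEquiv (Subgroup.equivMapOfInjective U _ K.subtype_injective).symm
    obtain ⟨p, hp, hpd, hnp⟩ := exists_hnpc_of_proper_nilpotent hprop
    haveI := Fact.mk hp
    have hnd := hnpc_iff.1 hnp
    set R := Cfsg.pResidual p K with hR
    haveI : R.Normal := CfsgLib.Inv.pResidual_normal p K
    have hRt : R ≠ ⊤ := fun e => hnd (by rw [e, Subgroup.card_top]; exact hpd)
    set Q := R.map K.subtype with hQ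
    obtain ⟨x, hx⟩ := IH _ (hn ▸ (card_map_subtype K R).trans_lt (card_lt_of_ne_top hRt)) Q rfl
      fun r hr hd => hK r hr (hd.trans (Subgroup.card_dvd_of_le (Subgroup.map_subtype_le R)))
    set H1 := MulAut.conj x • H with hH1
    haveI hH1n : Group.IsNilpotent H1 :=
      haveI := hH; Group.nilpotent_of_mulEquiv (Subgroup.equivSMul (MulAut.conj x) H)
    have hc1 : Nat.card H1 = Nat.card H := card_conj_smul x H
    obtain ⟨P1, hP1, hP1H⟩ := exists_sylow_le_nilpotent_hall hH1n
      (by rwa [hc1, show H1.index = H.index from index_conj_smul x H]) (p := p)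
      (hc1 ▸ hK p hp hpd)
    set L := Subgroup.normalizer (Q : Set G) with hL
    have hP1L : (P1 : Subgroup G) ≤ L := by
      refine le_trans ?_ (Subgroup.centralizer_le_normalizer _)
      rw [Subgroup.le_centralizer_iff]
      intro y hy
      refine (hP1H y (hx hy)).2 (Nat.Coprime.symm (hp.coprime_iff_not_dvd.2 fun hd => hnd ?_))
      rw [← card_map_subtype K R]
      exact hd.trans (Subgroup.orderOf_dvd_natCard _ hy)
    have hKL : K ≤ L := by
      refine le_normalizer_iff_forall_conj_mem.2 fun k hk y hy => ?_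
      obtain ⟨r, hr, rfl⟩ := hy
      exact ⟨⟨k, hk⟩ * r * (⟨k, hk⟩ : K)⁻¹, Subgroup.Normal.conj_mem ‹_› r hr _, rfl⟩
    let PK : Sylow p K := default
    have hPKL : (PK : Subgroup K).map K.subtype ≤ L := (Subgroup.map_subtype_le _).trans hKL
    have hPKp : IsPGroup p (((PK : Subgroup K).map K.subtype).subgroupOf L) :=
      (PK.2.map K.subtype).comap_of_injective _ L.subtype_injective
    obtain ⟨S, hS⟩ := hPKp.exists_le_sylow
    obtain ⟨y, hy⟩ := MulAction.exists_smul_eq L (P1.subtype hP1L) S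
    refine ⟨(y : G) * x, ?_⟩
    rw [map_mul, mul_smul, ← hH1]
    have hsup : K ≤ Q ⊔ (PK : Subgroup K).map K.subtype := by
      rw [hQ, ← Subgroup.map_sup, sup_comm, sylow_sup_pResidual PK, ← MonoidHom.range_eq_map,
        Subgroup.range_subtype]
    refine hsup.trans (sup_le ?_ ?_)
    · calc Q = MulAut.conj (y : G) • Q := (conj_smul_eq_self_of_mem_normalizer y.2).symm
        _ ≤ MulAut.conj (y : G) • H1 := Subgroup.pointwise_smul_le_pointwise_smul_iff.2 hx
    · intro z hz
      have h2 : (⟨z, hPKL hz⟩ : L) ∈ (S : Subgroup L) := hS hz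
      rw [← hy, Sylow.coe_subgroup_smul, mem_conj_smul_iff] at h2
      rw [mem_conj_smul_iff]
      exact hP1 h2

theorem exists_normal_complement_of_selfNormalizing [Finite G] (H : Subgroup G)
    (hnot : ∀ p : ℕ, p.Prime → ∀ P : Sylow p G, (P : Subgroup G) ≠ H)
    (hnorm : ∀ p : ℕ, p.Prime → p ∣ Nat.card H → ∀ P : Sylow p H,
      Subgroup.normalizer (((P : Subgroup H).map H.subtype : Subgroup G) : Set G) = H) :
    ∃ N : Subgroup G, N.Normal ∧ N.IsComplement' H := by
  have hnil : Group.IsNilpotent H := by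
    refine ((Group.isNilpotent_of_finite_tfae (G := H)).out 0 3).2 fun p hp P => ?_
    haveI := hp
    by_cases hpd : p ∣ Nat.card H
    · refine ⟨fun x hx h => ?_⟩
      have h1 : (h : G) ∈ Subgroup.normalizer (((P : Subgroup H).map H.subtype : Subgroup G) : Set G) := by
        rw [hnorm p hp.out hpd P]; exact h.2
      obtain ⟨y, hy, e⟩ := le_normalizer_iff_forall_conj_mem.1 le_rfl _ h1 _ (Subgroup.mem_map_of_mem _ hx)
      rwa [show h * x * h⁻¹ = y from Subtype.ext e.symm]
    · have : (P : Subgroup H) = ⊥ := Subgroup.eq_bot_of_card_eq _ (by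
        rw [P.card_eq_multiplicity, Nat.factorization_eq_zero_of_not_dvd hpd, pow_zero])
      rw [this]; infer_instance
  have hsyl : ∀ p : ℕ, ∀ [Fact p.Prime], p ∣ Nat.card H → ∃ S : Sylow p G,
      Subgroup.normalizer ((S : Subgroup G) : Set G) = H := by
    intro p hp hpd
    let P : Sylow p H := default
    obtain ⟨S, hS⟩ := (P.2.map H.subtype).exists_le_sylow
    refine ⟨S, ?_⟩
    suffices e : (P : Subgroup H).map H.subtype = (S : Subgroup G) by
      have h1 := hnorm p hp.out hpd P
      rw [e] at h1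
      exact h1
    by_contra hne
    have hlt := lt_normalizer_inf_of_nilpotent (D := (P : Subgroup H).map H.subtype) (M := (S : Subgroup G))
      S.2.isNilpotent (lt_of_le_of_ne hS hne)
    rw [hnorm p hp.out hpd P] at hlt
    refine hlt.ne ?_
    have h2 : (P : Subgroup H) = ((S : Subgroup G)).subgroupOf H :=
      (P.is_maximal' (S.2.comap_of_injective _ H.subtype_injective)
        (Subgroup.map_le_iff_le_comap.1 hS)).symm
    rw [h2, Subgroup.subgroupOf_map_subtype, inf_comm]
  have hHall : (Nat.card H).Coprime H.index := by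
    refine Nat.coprime_of_dvd fun p hp h1 h2 => ?_
    haveI := Fact.mk hp
    obtain ⟨S, hS⟩ := hsyl p h1
    exact S.not_dvd_index (h2.trans (Subgroup.index_dvd_of_le (Subgroup.le_normalizer.trans hS.le)))
  refine exists_normal_complement_of_hnpc H hHall fun p hp hpd => ?_
  haveI := Fact.mk hp
  obtain ⟨P, hP, hPH⟩ := exists_sylow_le_nilpotent_hall hnil hHall (p := p) hpd
  -- a second prime
  obtain ⟨q, hq, hqd, hqp⟩ : ∃ q : ℕ, q.Prime ∧ q ∣ Nat.card H ∧ q ≠ p := by
    by_contra hc
    simp only [not_exists, not_and, not_not] at hc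
    have h1 : IsPGroup p H := by
      rw [IsPGroup.iff_card]
      exact ⟨_, Nat.eq_prime_pow_of_unique_prime_dvd Nat.card_pos.ne' fun {d} hd hdd => hc d hd hdd⟩
    exact hnot p hp P (P.is_maximal' h1 hP).symm
  haveI := Fact.mk hq
  obtain ⟨Q, hQn⟩ := hsyl q hqd
  have hQP : (Q : Subgroup G) ≤ Subgroup.centralizer ((P : Subgroup G) : Set G) := fun y hy => by
    refine (hPH y (hQn ▸ Subgroup.le_normalizer hy)).2 ?_
    obtain ⟨k, hk⟩ := Q.2 ⟨y, hy⟩
    refine Nat.Coprime.coprime_dvd_left (orderOf_dvd_of_pow_eq_one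
      (by simpa using congrArg Subtype.val hk)) (((Nat.coprime_primes hq hp).2 hqp).pow_left k)
  have hctrl : ∀ x ∈ P, ∀ g : G, g * x * g⁻¹ ∈ P → ∃ v ∈ (P : Subgroup G), v * x * v⁻¹ = g * x * g⁻¹ := by
    intro x hx g hg
    set C := Subgroup.centralizer ({x} : Set G)
    have hQC : (Q : Subgroup G) ≤ C := fun y hy => Subgroup.mem_centralizer_iff.2 (by
      rintro z rfl; exact Subgroup.mem_centralizer_iff.1 (hQP hy) z hx)
    have hQC' : ((g⁻¹ • Q : Sylow q G) : Subgroup G) ≤ C := fun y hy => by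
      rw [Sylow.coe_subgroup_smul, mem_conj_smul_iff] at hy
      refine Subgroup.mem_centralizer_iff.2 ?_
      rintro z rfl
      have h1 := Subgroup.mem_centralizer_iff.1 (hQP hy) _ hg
      simp only [inv_inv] at h1
      calc z * y = g⁻¹ * ((g * z * g⁻¹) * (g * y * g⁻¹)) * g := by group
        _ = g⁻¹ * ((g * y * g⁻¹) * (g * z * g⁻¹)) * g := by rw [h1]
        _ = y * z := by group
    obtain ⟨c, hc⟩ := MulAction.exists_smul_eq C (Q.subtype hQC) ((g⁻¹ • Q : Sylow q G).subtype hQC')
    have hc' : MulAut.conj (c : G) • (Q : Subgroup G) = MulAut.conj g⁻¹ • (Q : Subgroup G) := by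
      ext z
      rw [← Sylow.coe_subgroup_smul (g := g⁻¹) (P := Q)]
      constructor <;> intro hz
      · have hzC : z ∈ C := by
          rw [mem_conj_smul_iff] at hz
          have := mul_mem (mul_mem c.2 (hQC hz)) (inv_mem c.2)
          simpa [mul_assoc] using this
        have h2 : (⟨z, hzC⟩ : C) ∈ ((c • Q.subtype hQC : Sylow q C) : Subgroup C) := by
          rw [Sylow.coe_subgroup_smul, mem_conj_smul_iff]
          have h3 := mem_conj_smul_iff.1 hz
          exact h3
        rw [hc] at h2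
        exact h2
      · have hzC : z ∈ C := hQC' hz
        have h2 : (⟨z, hzC⟩ : C) ∈ ((c • Q.subtype hQC : Sylow q C) : Subgroup C) := by
          rw [hc]; exact hz
        rw [Sylow.coe_subgroup_smul, mem_conj_smul_iff] at h2
        exact mem_conj_smul_iff.2 h2
    have hgc : g * (c : G) ∈ H := by
      rw [← hQn]
      refine mem_normalizer_of_conj_smul_eq ?_
      rw [map_mul, mul_smul, hc', ← mul_smul, ← map_mul, mul_inv_cancel, map_one, one_smul]
    have hxc : (c : G) * x * (c : G)⁻¹ = x := by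
      rw [← Subgroup.mem_centralizer_iff.1 c.2 x rfl, mul_inv_cancel_right]
    haveI := hnil
    haveI : (Cfsg.pResidual p H).Normal := CfsgLib.Inv.pResidual_normal p H
    obtain ⟨a, ha, b, hb, e⟩ := Subgroup.mem_sup_of_normal_right.1
      ((sylow_sup_pResidual (P.subtype hP)).ge (Subgroup.mem_top (⟨_, hgc⟩ : H)))
    refine ⟨a, ha, ?_⟩
    have hbP : (b : G) ∈ Subgroup.centralizer ((P : Subgroup G) : Set G) := (hPH b b.2).2 (by
      rw [Subgroup.orderOf_coe]; exact (hnpc_mem_iff hnpc_of_isNilpotent).1 hb)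
    have e' : (a : G) * b = g * c := congrArg Subtype.val e
    calc (a : G) * x * (a : G)⁻¹ = (a : G) * ((b : G) * x * (b : G)⁻¹) * (a : G)⁻¹ := by
          rw [← Subgroup.mem_centralizer_iff.1 hbP x hx, mul_inv_cancel_right]
      _ = ((a : G) * b) * x * ((a : G) * b)⁻¹ := by group
      _ = g * ((c : G) * x * (c : G)⁻¹) * g⁻¹ := by rw [e']; group
      _ = g * x * g⁻¹ := by rw [hxc]
  have hfoc := commutator_inf_eq_of_control P (P : Subgroup G) le_rfl hctrl
  -- the supplement
  set f := QuotientGroup.mk' (commutator G)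
  have hcommq : ∀ a b : G, Commute (f a) (f b) := fun a b => by
    show f a * f b = f b * f a
    rw [← commutatorElement_eq_one_iff_mul_comm, ← map_commutatorElement]
    exact (QuotientGroup.eq_one_iff _).2
      (Subgroup.commutator_mem_commutator (Subgroup.mem_top a) (Subgroup.mem_top b))
  let K : Subgroup G :=
    { carrier := {x | (orderOf (f x)).Coprime p}
      one_mem' := by simp
      mul_mem' := fun {a b} ha hb => by
        show (orderOf (f (a * b))).Coprime p
        rw [map_mul]
        exact (Nat.Coprime.mul_left ha hb).coprime_dvd_left (hcommq a b).orderOf_mul_dvd_mul_orderOf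
      inv_mem' := fun {a} ha => by
        show (orderOf (f a⁻¹)).Coprime p
        rw [map_inv, orderOf_inv]; exact ha }
  haveI hKn : K.Normal := Subgroup.Normal.of_commutator_le G fun x hx => by
    show (orderOf (f x)).Coprime p
    rw [show f x = 1 from (QuotientGroup.eq_one_iff x).2 hx, orderOf_one]
    exact Nat.coprime_one_left p
  refine tate P K hKn ?_ ?_
  · refine Subgroup.index_eq_one.1 ?_
    by_contra hne
    obtain ⟨r, hr, hrd⟩ := Nat.exists_prime_and_dvd hne
    haveI := Fact.mk hr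
    obtain ⟨z, hz⟩ := exists_prime_orderOf_dvd_card' (G := G ⧸ K) r
      (hrd.trans (Subgroup.index_dvd_of_le le_sup_right))
    obtain ⟨g, rfl⟩ := QuotientGroup.mk_surjective z
    have h1 : g ^ p ^ (Nat.card G).factorization p ∈ K := by
      show (orderOf (f (g ^ p ^ (Nat.card G).factorization p))).Coprime p
      refine Nat.Coprime.coprime_dvd_left ?_ (Nat.coprime_ordCompl hp (Nat.card_pos (α := G)).ne').symm
      refine orderOf_dvd_of_pow_eq_one ?_
      rw [← map_pow, ← pow_mul, Nat.ordProj_mul_ordCompl_eq_self, pow_card_eq_one', map_one]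
    have h2 : r ∣ p ^ (Nat.card G).factorization p := by
      rw [← hz]
      exact orderOf_dvd_of_pow_eq_one (by rw [← QuotientGroup.mk_pow]; exact (QuotientGroup.eq_one_iff _).2 h1)
    exact P.not_dvd_index ((((Nat.prime_dvd_prime_iff_eq hr hp).1 (hr.dvd_of_dvd_pow h2)) ▸ hrd).trans
      (Subgroup.index_dvd_of_le le_sup_left))
  · intro x hx
    obtain ⟨hxP, hxK⟩ := Subgroup.mem_inf.1 hx
    obtain ⟨k, hk⟩ := P.2 ⟨x, hxP⟩
    have hxk : x ^ p ^ k = 1 := by simpa using congrArg Subtype.val hk
    have h1 : f x = 1 := orderOf_eq_one_iff.1 (Nat.eq_one_of_dvd_coprimes (Nat.Coprime.pow_right k hxK)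
      dvd_rfl (orderOf_dvd_of_pow_eq_one (by rw [← map_pow, hxk, map_one])))
    have h2 : x ∈ ⁅(P : Subgroup G), (P : Subgroup G)⁆ :=
      (Subgroup.mem_inf.1 (hfoc ▸ Subgroup.mem_inf.2 ⟨(QuotientGroup.eq_one_iff x).1 h1, hxP⟩)).1
    refine Subgroup.map_mono (commutator_le_frattini P.2) ?_
    rw [commutator_def, Subgroup.map_commutator, ← MonoidHom.range_eq_map, Subgroup.range_subtype]
    exact h2

end CfsgLib.Solv
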