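import Cfsg.Agent.Solv.NilpotentHall
import Cfsg.Agent.Solv.Hall
import Cfsg.Agent.Solv.SylowFactor
import Cfsg.Agent.Solv.SystemNorm
import Cfsg.Agent.Solv.Permutable

/-!
Factorised groups `G = A B`: factorised normalizers, Kegel's lemma, permutable Hall factors.
-/

set_option autoImplicit false
set_option linter.style.haveILetI false
set_option linter.deprecated false
set_option linter.unusedSectionVars false

open scoped Pointwise

namespace CfsgLib.Solv

variable {G : Type*} [Group G]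

/-- `G = A B`. -/
def IsFactorization (A B : Subgroup G) : Prop := ∀ g : G, ∃ a ∈ A, ∃ b ∈ B, g = a * b

/-- `K = (K ∩ A) (K ∩ B)`. -/
def IsFactorized (A B K : Subgroup G) : Prop :=
  ∀ g ∈ K, ∃ a ∈ A ⊓ K, ∃ b ∈ B ⊓ K, g = a * b

theorem IsFactorization.symm {A B : Subgroup G} (h : IsFactorization A B) : IsFactorization B A := by
  intro g
  obtain ⟨a, ha, b, hb, e⟩ := h g⁻¹
  exact ⟨b⁻¹, inv_mem hb, a⁻¹, inv_mem ha, by rw [← mul_inv_rev, ← e, inv_inv]⟩

theorem IsFactorization.card_mul [Finite G] {A B : Subgroup G} (h : IsFactorization A B)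
    (hd : A ⊓ B = ⊥) : Nat.card A * Nat.card B = Nat.card G := by
  rw [← Nat.card_prod]
  refine Nat.card_eq_of_bijective (fun x : A × B => (x.1 : G) * x.2) ⟨fun x y hxy => ?_, fun g => ?_⟩
  · have h1 : (y.1 : G)⁻¹ * x.1 = y.2 * (x.2 : G)⁻¹ := by
      rw [eq_mul_inv_iff_mul_eq, mul_assoc, inv_mul_eq_iff_eq_mul]; exact hxy
    have h2 : (y.1 : G)⁻¹ * x.1 ∈ A ⊓ B := Subgroup.mem_inf.2
      ⟨mul_mem (inv_mem y.1.2) x.1.2, h1 ▸ mul_mem y.2.2 (inv_mem x.2.2)⟩
    rw [hd, Subgroup.mem_bot] at h2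
    have h3 : (x.1 : G) = y.1 := (inv_mul_eq_one.1 h2).symm
    have hxy' : (x.1 : G) * x.2 = y.1 * y.2 := hxy
    rw [h3] at hxy'
    exact Prod.ext (Subtype.ext h3) (Subtype.ext (mul_left_cancel hxy'))
  · obtain ⟨a, ha, b, hb, rfl⟩ := h g
    exact ⟨(⟨a, ha⟩, ⟨b, hb⟩), rfl⟩

theorem IsFactorization.map {G' : Type*} [Group G'] {A B : Subgroup G} (h : IsFactorization A B)
    {f : G →* G'} (hf : Function.Surjective f) : IsFactorization (A.map f) (B.map f) := fun y => by
  obtain ⟨g, rfl⟩ := hf y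
  obtain ⟨a, ha, b, hb, rfl⟩ := h g
  exact ⟨f a, Subgroup.mem_map_of_mem f ha, f b, Subgroup.mem_map_of_mem f hb, map_mul f a b⟩

theorem IsFactorized.toFactorization {A B K : Subgroup G} (h : IsFactorized A B K) :
    IsFactorization (A.subgroupOf K) (B.subgroupOf K) := fun g => by
  obtain ⟨a, ha, b, hb, e⟩ := h g g.2
  exact ⟨⟨a, (Subgroup.mem_inf.1 ha).2⟩, (Subgroup.mem_inf.1 ha).1, ⟨b, (Subgroup.mem_inf.1 hb).2⟩,
    (Subgroup.mem_inf.1 hb).1, Subtype.ext e⟩

/-- A subgroup containing `A` is factorised. -/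
theorem isFactorized_of_le {A B H : Subgroup G} (h : IsFactorization A B) (hA : A ≤ H) :
    IsFactorized A B H := fun g hg => by
  obtain ⟨a, ha, b, hb, rfl⟩ := h g
  exact ⟨a, Subgroup.mem_inf.2 ⟨ha, hA ha⟩, b,
    Subgroup.mem_inf.2 ⟨hb, by simpa using mul_mem (inv_mem (hA ha)) hg⟩, rfl⟩

theorem isFactorization_conj_eq {A B : Subgroup G} (h : IsFactorization A B) {A0 B0 : Subgroup G}
    (hA0 : ∀ a ∈ A, ∀ x ∈ A0, a * x * a⁻¹ ∈ A0) (hB0 : ∀ b ∈ B, ∀ x ∈ B0, b * x * b⁻¹ ∈ B0)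
    {S : Subgroup G} {g k : G} (hg : ∀ x ∈ A0, g * x * g⁻¹ ∈ S) (hk : ∀ x ∈ B0, k * x * k⁻¹ ∈ S) :
    ∃ u : G, (∀ x ∈ A0, u * x * u⁻¹ ∈ S) ∧ ∀ x ∈ B0, u * x * u⁻¹ ∈ S := by
  obtain ⟨a, ha, b, hb, e⟩ := h (g⁻¹ * k)
  refine ⟨g * a, fun x hx => ?_, fun x hx => ?_⟩
  · have := hg _ (hA0 a ha x hx)
    simpa [mul_assoc] using this
  · have h1 : g * a = k * b⁻¹ := by
      rw [eq_mul_inv_iff_mul_eq, mul_assoc, ← e, mul_inv_cancel_left]
    have := hk _ (hB0 b⁻¹ (inv_mem hb) x hx)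
    rw [h1]
    simpa [mul_assoc] using this

/-- The normalizer of `⟨A₀, B₀⟩` for `A₀ ⊴ A`, `B₀ ⊴ B` is factorised. -/
theorem isFactorized_normalizer [Finite G] {A B : Subgroup G} (h : IsFactorization A B)
    {A0 B0 : Subgroup G} (hA0 : A ≤ Subgroup.normalizer (A0 : Set G))
    (hB0 : B ≤ Subgroup.normalizer (B0 : Set G)) :
    IsFactorized A B (Subgroup.normalizer ((A0 ⊔ B0 : Subgroup G) : Set G)) := by
  intro g hg
  obtain ⟨a, ha, b, hb, rfl⟩ := h g
  have hX : MulAut.conj (a * b) • (A0 ⊔ B0) = A0 ⊔ B0 := conj_smul_eq_self_of_mem_normalizer hg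
  have h1 : MulAut.conj b • (A0 ⊔ B0) = MulAut.conj a⁻¹ • (A0 ⊔ B0) := by
    conv_rhs => rw [← hX]
    rw [← mul_smul, ← map_mul, inv_mul_cancel_left]
  have h2 : A0 ⊔ B0 ≤ MulAut.conj b • (A0 ⊔ B0) := by
    refine sup_le ?_ ?_
    · rw [h1]
      calc A0 = MulAut.conj a⁻¹ • A0 := (conj_smul_eq_self_of_mem_normalizer (hA0 (inv_mem ha))).symm
        _ ≤ MulAut.conj a⁻¹ • (A0 ⊔ B0) := Subgroup.pointwise_smul_le_pointwise_smul_iff.2 le_sup_left
    · calc B0 = MulAut.conj b • B0 := (conj_smul_eq_self_of_mem_normalizer (hB0 hb)).symm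
        _ ≤ MulAut.conj b • (A0 ⊔ B0) := Subgroup.pointwise_smul_le_pointwise_smul_iff.2 le_sup_right
  have h3 : b ∈ Subgroup.normalizer ((A0 ⊔ B0 : Subgroup G) : Set G) :=
    mem_normalizer_of_conj_smul_eq (Subgroup.eq_of_le_of_card_ge h2 (by rw [card_conj_smul])).symm
  refine ⟨a, Subgroup.mem_inf.2 ⟨ha, ?_⟩, b, Subgroup.mem_inf.2 ⟨hb, h3⟩, rfl⟩
  simpa using mul_mem hg (inv_mem h3)

/-! ### Permutable normal Hall factors -/

theorem mul_eq_hall_of_le [Finite G] {π ρ : Set ℕ} {A B S : Subgroup G} (hAS : A ≤ S) (hBS : B ≤ S)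
    (hA : PiNat π (Nat.card A)) (hAi : PiNat πᶜ A.index) (hB : PiNat ρ (Nat.card B))
    (hBi : PiNat ρᶜ B.index) (hS : PiNat (π ∪ ρ) (Nat.card S)) :
    (A : Set G) * (B : Set G) = (S : Set G) := by
  classical
  refine Set.Subset.antisymm ?_ ?_
  · rintro _ ⟨a, ha, b, hb, rfl⟩
    exact mul_mem (hAS ha) (hBS hb)
  intro x hx
  obtain ⟨a, ha, b, hb, e⟩ := exists_factor_of_coprime_index (A := A.subgroupOf S) (B := B.subgroupOf S)
    (Nat.coprime_of_dvd fun r hr h1 h2 => by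
      have h1' : r ∣ A.index := h1.trans (Subgroup.relIndex_dvd_index_of_le hAS)
      have h2' : r ∣ B.index := h2.trans (Subgroup.relIndex_dvd_index_of_le hBS)
      have h3 := hS r hr (h1.trans (Subgroup.relIndex_dvd_card A S))
      rcases h3 with h3 | h3
      · exact hAi r hr h1' h3
      · exact hBi r hr h2' h3) ⟨x, hx⟩
  exact ⟨a, ha, b, hb, (congrArg Subtype.val e).symm⟩

/-- In a solvable `G = H K`, a Hall subgroup of `G` normal in `H` permutes with one normal in `K`. -/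
theorem hall_factor_permutes [Finite G] [Group.IsSolvable G] {H K A B : Subgroup G}
    (hHK : IsFactorization H K) (hHA : H ≤ Subgroup.normalizer (A : Set G))
    (hKB : K ≤ Subgroup.normalizer (B : Set G))
    (hAh : (Nat.card A).Coprime A.index) (hBh : (Nat.card B).Coprime B.index) :
    ∃ S : Subgroup G, A ≤ S ∧ B ≤ S ∧ (S : Set G) = (A : Set G) * (B : Set G) ∧
      PiNat {q | q ∣ Nat.card A ∨ q ∣ Nat.card B} (Nat.card S) := by
  set π : Set ℕ := {q | q ∣ Nat.card A}
  set ρ : Set ℕ := {q | q ∣ Nat.card B}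
  have hA : PiNat π (Nat.card A) := fun q _ hq => hq
  have hB : PiNat ρ (Nat.card B) := fun q _ hq => hq
  have hAi : PiNat πᶜ A.index := fun q hq hd hm => hq.ne_one (Nat.eq_one_of_dvd_coprimes hAh hm hd)
  have hBi : PiNat ρᶜ B.index := fun q hq hd hm => hq.ne_one (Nat.eq_one_of_dvd_coprimes hBh hm hd)
  obtain ⟨S, hS, hSi⟩ := exists_hall (PiSolvable.of_isSolvable (G := G) (π ∪ ρ))
  obtain ⟨g, hg⟩ := hall_le_conj (PiSolvable.of_isSolvable (G := G) (π ∪ ρ)) hS hSi
    (hA.mono Set.subset_union_left)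
  obtain ⟨k, hk⟩ := hall_le_conj (PiSolvable.of_isSolvable (G := G) (π ∪ ρ)) hS hSi
    (hB.mono Set.subset_union_right)
  obtain ⟨u, hu1, hu2⟩ := isFactorization_conj_eq hHK
    (fun a ha x hx => le_normalizer_iff_forall_conj_mem.1 hHA a ha x hx)
    (fun b hb x hx => le_normalizer_iff_forall_conj_mem.1 hKB b hb x hx) (g := g⁻¹) (k := k⁻¹)
    (S := S) (fun x hx => by simpa using mem_conj_smul_iff.1 (hg hx))
    (fun x hx => by simpa using mem_conj_smul_iff.1 (hk hx))
  set S' := MulAut.conj u⁻¹ • S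
  have hAS : A ≤ S' := fun x hx => mem_conj_smul_iff.2 (by simpa using hu1 x hx)
  have hBS : B ≤ S' := fun x hx => mem_conj_smul_iff.2 (by simpa using hu2 x hx)
  have hS' : PiNat (π ∪ ρ) (Nat.card S') := by
    rw [show Nat.card S' = Nat.card S from card_conj_smul _ _]; exact hS
  exact ⟨S', hAS, hBS, (mul_eq_hall_of_le hAS hBS hA hAi hB hBi hS').symm, hS'⟩

/-! ### Kegel's lemma -/

theorem commute_coe_sup {A A' C : Subgroup G} (h1 : (A : Set G) * C = (C : Set G) * A)
    (h2 : (A' : Set G) * C = (C : Set G) * A') :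
    ((A ⊔ A' : Subgroup G) : Set G) * C = (C : Set G) * (A ⊔ A' : Subgroup G) := by
  have key : ∀ s ∈ A ⊔ A', ∀ c ∈ C, s * c ∈ (C : Set G) * (A ⊔ A' : Subgroup G) := by
    intro s hs
    rw [Subgroup.sup_eq_closure] at hs
    induction hs using Subgroup.closure_induction'' with
    | one => exact fun c hc => ⟨c, hc, 1, one_mem _, show c * 1 = 1 * c by rw [mul_one, one_mul]⟩
    | mem x hx =>
      intro c hc
      rcases hx with hx | hx
      · obtain ⟨d, hd, a, ha, e⟩ := h1.subset ⟨x, hx, c, hc, rfl⟩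
        exact ⟨d, hd, a, Subgroup.mem_sup_left ha, e⟩
      · obtain ⟨d, hd, a, ha, e⟩ := h2.subset ⟨x, hx, c, hc, rfl⟩
        exact ⟨d, hd, a, Subgroup.mem_sup_right ha, e⟩
    | inv_mem x hx =>
      intro c hc
      rcases hx with hx | hx
      · obtain ⟨d, hd, a, ha, e⟩ := h1.subset ⟨x⁻¹, A.inv_mem hx, c, hc, rfl⟩
        exact ⟨d, hd, a, Subgroup.mem_sup_left ha, e⟩
      · obtain ⟨d, hd, a, ha, e⟩ := h2.subset ⟨x⁻¹, A'.inv_mem hx, c, hc, rfl⟩
        exact ⟨d, hd, a, Subgroup.mem_sup_right ha, e⟩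
    | mul x y _ _ ihx ihy =>
      intro c hc
      obtain ⟨d, hd, a, ha, e⟩ := ihy c hc
      obtain ⟨d', hd', a', ha', e'⟩ := ihx d hd
      exact ⟨d', hd', a' * a, mul_mem ha' ha, by
        show d' * (a' * a) = x * y * c
        rw [mul_assoc x, ← (show d * a = y * c from e), ← mul_assoc, (show d' * a' = x * d from e'),
          mul_assoc]⟩
  refine Set.Subset.antisymm ?_ ?_
  · rintro _ ⟨s, hs, c, hc, rfl⟩
    exact key s hs c hc
  · rintro _ ⟨c, hc, s, hs, rfl⟩
    obtain ⟨d, hd, a, ha, e⟩ := key s⁻¹ ((A ⊔ A').inv_mem hs) c⁻¹ (C.inv_mem hc)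
    exact ⟨a⁻¹, (A ⊔ A').inv_mem ha, d⁻¹, C.inv_mem hd, by
      show a⁻¹ * d⁻¹ = c * s
      rw [← mul_inv_rev, (show d * a = s⁻¹ * c⁻¹ from e), mul_inv_rev, inv_inv, inv_inv]⟩

theorem kegel_aux [Finite G] {B : Subgroup G} (hB : B ≠ ⊥) : ∀ (k : ℕ) (A : Subgroup G),
    Nat.card G - Nat.card A = k → A ≠ ⊥ →
    (∀ x : G, ∃ S : Subgroup G, S ≠ ⊤ ∧
      (S : Set G) = (A : Set G) * ((MulAut.conj x • B : Subgroup G) : Set G)) →
    ∃ N : Subgroup G, N.Normal ∧ N ≠ ⊤ ∧ (A ≤ N ∨ B ≤ N) := by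
  intro k
  induction k using Nat.strong_induction_on with
  | _ k IH =>
    intro A hk hA h
    by_cases hAn : A.Normal
    · refine ⟨A, hAn, fun e => ?_, Or.inl le_rfl⟩
      obtain ⟨S, hS, hS'⟩ := h 1
      refine hS (top_unique fun g _ => ?_)
      have : g ∈ (S : Set G) := by
        rw [hS']; exact ⟨g, e ▸ Subgroup.mem_top g, 1, one_mem _, mul_one g⟩
      exact this
    by_cases hall : ∀ x : G, MulAut.conj x • B ≤ Subgroup.normalizer (A : Set G)
    · -- then the normal closure of `B` is proper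
      refine ⟨Subgroup.normalClosure (B : Set G), inferInstance, fun e => hAn ?_,
        Or.inr Subgroup.subset_normalClosure⟩
      rw [← Subgroup.normalizer_eq_top_iff, ← top_le_iff, ← e]
      refine (Subgroup.closure_le _).2 fun z hz => ?_
      obtain ⟨b, hb, hbz⟩ := Group.mem_conjugatesOfSet_iff.1 hz
      obtain ⟨g, rfl⟩ := isConj_iff.1 hbz
      exact hall g (mem_conj_smul_iff.2 (by simpa [mul_assoc] using hb))
    obtain ⟨x, hx⟩ := not_forall.1 hall
    obtain ⟨b, hb, hbA⟩ := SetLike.not_le_iff_exists.1 hx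
    set A' := MulAut.conj b • A with hA'
    set As := A ⊔ A' with hAs
    have hlt : A < As := lt_of_le_of_ne le_sup_left fun e => hbA (mem_normalizer_of_conj_smul_eq
      (Subgroup.eq_of_le_of_card_ge ((le_sup_right : A' ≤ As).trans e.ge) (by rw [card_conj_smul])))
    have hperm : ∀ C : Subgroup G, (∃ S : Subgroup G, (S : Set G) = (A : Set G) * (C : Set G)) →
        (A : Set G) * (C : Set G) = (C : Set G) * (A : Set G) := by
      rintro C ⟨S, hS⟩
      have h1 := congrArg (fun T : Set G => T⁻¹) hS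
      simp only [mul_inv_rev, inv_coe_set] at h1
      rw [← hS, h1]
    -- `A` and `A'` both permute with all conjugates of `B`
    have hp : ∀ y : G, (A : Set G) * ((MulAut.conj y • B : Subgroup G) : Set G) =
        ((MulAut.conj y • B : Subgroup G) : Set G) * (A : Set G) := fun y =>
      hperm _ ⟨(h y).choose, (h y).choose_spec.2⟩
    have hp' : ∀ y : G, (A' : Set G) * ((MulAut.conj y • B : Subgroup G) : Set G) =
        ((MulAut.conj y • B : Subgroup G) : Set G) * (A' : Set G) := by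
      intro y
      have h1 := congrArg (fun T : Set G => MulAut.conj b • T) (hp (b⁻¹ * y))
      simp only [smul_mul', ← Subgroup.coe_pointwise_smul, smul_smul, ← map_mul,
        mul_inv_cancel_left] at h1
      exact h1
    have hsub : ∀ y : G, ∃ S : Subgroup G,
        (S : Set G) = (As : Set G) * ((MulAut.conj y • B : Subgroup G) : Set G) := by
      intro y
      set C := MulAut.conj y • B
      exact ⟨As ⊔ C, coe_sup_of_permute (commute_coe_sup (hp y) (hp' y))⟩
    refine (IH (Nat.card G - Nat.card As) ?_ As rfl (fun e => hA (le_bot_iff.1 (hlt.le.trans e.le)))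
      fun y => ?_).imp fun N hN => ⟨hN.1, hN.2.1, hN.2.2.imp (fun h => hlt.le.trans h) id⟩
    · have h1 : Nat.card A < Nat.card As := by
        rcases lt_or_ge (Nat.card A) (Nat.card As) with h' | h'
        · exact h'
        · exact absurd (Subgroup.eq_of_le_of_card_ge hlt.le h') hlt.ne
      have h2 := Subgroup.card_le_card_group As
      omega
    · obtain ⟨S, hS⟩ := hsub y
      refine ⟨S, fun e => ?_, hS⟩
      -- otherwise `As B^z = G` for all `z`, in particular for `z = x`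
      obtain ⟨T, hT, hT'⟩ := h x
      refine hT (top_unique fun g _ => ?_)
      have hbT : b ∈ T := by
        have : b ∈ (T : Set G) := by rw [hT']; exact ⟨1, one_mem A, b, hb, one_mul b⟩
        exact this
      have hAT : A ≤ T := fun a ha => by
        have : a ∈ (T : Set G) := by rw [hT']; exact ⟨a, ha, 1, one_mem _, mul_one a⟩
        exact this
      have hBT : MulAut.conj x • B ≤ T := fun a ha => by
        have : a ∈ (T : Set G) := by rw [hT']; exact ⟨1, one_mem A, a, ha, one_mul a⟩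
        exact this
      have hAsT : As ≤ T := sup_le hAT fun z hz => by
        have := mul_mem (mul_mem hbT (hAT (mem_conj_smul_iff.1 hz))) (inv_mem hbT)
        simpa [mul_assoc] using this
      have key : ∀ z : G, ∃ c ∈ As, ∃ d ∈ MulAut.conj y • B, z = c * d := fun z => by
        have : z ∈ (S : Set G) := by rw [e]; trivial
        rw [hS] at this
        obtain ⟨c, hc, d, hd, rfl⟩ := this
        exact ⟨c, hc, d, hd, rfl⟩
      obtain ⟨c, hc, d, hd, e1⟩ := key (x * y⁻¹)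
      obtain ⟨c', hc', d', hd', e2⟩ := key (c⁻¹ * g * c)
      have hd2 : c * d' * c⁻¹ ∈ MulAut.conj x • B := by
        rw [mem_conj_smul_iff]
        rw [mem_conj_smul_iff] at hd hd'
        have e3 : x = c * d * y := by rw [← e1, inv_mul_cancel_right]
        have := mul_mem (mul_mem (inv_mem hd) hd') hd
        rw [e3]
        simpa [mul_assoc] using this
      have : g = (c * c' * c⁻¹) * (c * d' * c⁻¹) := by
        calc g = c * (c⁻¹ * g * c) * c⁻¹ := by group
          _ = c * (c' * d') * c⁻¹ := by rw [e2]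
          _ = _ := by group
      rw [this]
      exact mul_mem (mul_mem (mul_mem (hAsT hc) (hAsT hc')) (inv_mem (hAsT hc))) (hBT hd2)

theorem kegel [Finite G] {A B : Subgroup G} (hA : A ≠ ⊥) (hB : B ≠ ⊥)
    (h : ∀ x : G, ∃ S : Subgroup G, S ≠ ⊤ ∧
      (S : Set G) = (A : Set G) * ((MulAut.conj x • B : Subgroup G) : Set G)) :
    ∃ N : Subgroup G, N.Normal ∧ N ≠ ⊤ ∧ (A ≤ N ∨ B ≤ N) :=
  kegel_aux hB _ A rfl hA h

end CfsgLib.Solv
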