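import Cfsg.Agent.Solv.WielandtCount
import Cfsg.Agent.Solv.Primitive
import Cfsg.Agent.Solv.MinimalNormal
import Cfsg.Agent.Char.Burnside

/-!
The Kegel–Wielandt theorem: a product of two nilpotent groups is solvable.
-/

set_option autoImplicit false
set_option linter.style.haveILetI false
set_option linter.deprecated false
set_option linter.unusedSectionVars false

open scoped Pointwise

namespace CfsgLib.Solv

universe u

variable {G : Type u} [Group G]

theorem card_coe_mul_mul_card_inf [Finite G] (A C : Subgroup G) :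
    Nat.card ↑((A : Set G) * (C : Set G)) * Nat.card (A ⊓ C : Subgroup G) =
      Nat.card A * Nat.card C := by
  rw [← Nat.card_prod, ← Nat.card_prod]
  have hsec : ∀ s : ↑((A : Set G) * (C : Set G)), ∃ x : A × C, (x.1 : G) * x.2 = s := fun s => by
    obtain ⟨a, ha, c, hc, e⟩ : (s : G) ∈ (A : Set G) * (C : Set G) := s.2
    exact ⟨(⟨a, ha⟩, ⟨c, hc⟩), e⟩
  choose σ hσ using hsec
  refine Nat.card_congr (Equiv.ofBijective
    (fun p : ↑((A : Set G) * (C : Set G)) × (A ⊓ C : Subgroup G) =>
      ((⟨(σ p.1).1 * p.2, mul_mem (σ p.1).1.2 (Subgroup.mem_inf.1 p.2.2).1⟩ : A),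
       (⟨(p.2 : G)⁻¹ * (σ p.1).2, mul_mem (inv_mem (Subgroup.mem_inf.1 p.2.2).2) (σ p.1).2.2⟩ : C)))
    ⟨?_, ?_⟩)
  · rintro ⟨s, d⟩ ⟨s', d'⟩ e
    have e1 : ((σ s).1 : G) * d = (σ s').1 * d' := congrArg (fun q => ((q.1 : A) : G)) e
    have e2 : (d : G)⁻¹ * (σ s).2 = (d' : G)⁻¹ * (σ s').2 := congrArg (fun q => ((q.2 : C) : G)) e
    have hss : s = s' := Subtype.ext (by
      calc (s : G) = ((σ s).1 * (d : G)) * ((d : G)⁻¹ * (σ s).2) := by rw [← hσ s]; group
        _ = ((σ s').1 * (d' : G)) * ((d' : G)⁻¹ * (σ s').2) := by rw [e1, e2]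
        _ = s' := by rw [← hσ s']; group)
    subst hss
    exact Prod.ext rfl (Subtype.ext (mul_left_cancel e1))
  · rintro ⟨a, c⟩
    set s : ↑((A : Set G) * (C : Set G)) := ⟨(a : G) * c, ⟨a, a.2, c, c.2, rfl⟩⟩
    have e : ((σ s).1 : G) * (σ s).2 = a * c := hσ s
    have hd : ((σ s).1 : G)⁻¹ * a ∈ A ⊓ C := by
      refine Subgroup.mem_inf.2 ⟨mul_mem (inv_mem (σ s).1.2) a.2, ?_⟩
      rw [show ((σ s).1 : G)⁻¹ * a = (σ s).2 * (c : G)⁻¹ by
        rw [eq_mul_inv_iff_mul_eq, mul_assoc, inv_mul_eq_iff_eq_mul]; exact e.symm]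
      exact mul_mem (σ s).2.2 (inv_mem c.2)
    refine ⟨(s, ⟨_, hd⟩), Prod.ext (Subtype.ext ?_) (Subtype.ext ?_)⟩
    · simp
    · show (((σ s).1 : G)⁻¹ * a)⁻¹ * (σ s).2 = c
      rw [mul_inv_rev, inv_inv, mul_assoc, e, inv_mul_cancel_left]

theorem piNat_of_mul_set [Finite G] {π : Set ℕ} {A C S : Subgroup G}
    (hS : (S : Set G) = (A : Set G) * (C : Set G)) (hA : PiNat π (Nat.card A))
    (hC : PiNat π (Nat.card C)) : PiNat π (Nat.card S) := by
  refine (hA.mul hC).of_dvd ⟨Nat.card (A ⊓ C : Subgroup G), ?_⟩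
  rw [← card_coe_mul_mul_card_inf A C, ← hS]
  rfl

/-- Normal Sylow subgroups of the factors multiply to a Sylow subgroup. -/
theorem exists_sylow_prod [Finite G] {p : ℕ} [hp : Fact p.Prime] {A B A0 B0 : Subgroup G}
    (hfac : IsFactorization A B) (hA0 : A0 ≤ A) (hA0n : A ≤ Subgroup.normalizer (A0 : Set G))
    (hA0c : Nat.card A0 = p ^ (Nat.card A).factorization p)
    (hB0 : B0 ≤ B) (hB0n : B ≤ Subgroup.normalizer (B0 : Set G))
    (hB0c : Nat.card B0 = p ^ (Nat.card B).factorization p) :
    ∃ S : Subgroup G, (S : Set G) = (A0 : Set G) * (B0 : Set G) := by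
  obtain ⟨P, hP⟩ := (IsPGroup.of_card hA0c).exists_le_sylow
  obtain ⟨Q, hQ⟩ := (IsPGroup.of_card hB0c).exists_le_sylow
  obtain ⟨g, hg⟩ := MulAction.exists_smul_eq G Q P
  obtain ⟨u, hu1, hu2⟩ := isFactorization_conj_eq hfac (le_normalizer_iff_forall_conj_mem.1 hA0n)
    (le_normalizer_iff_forall_conj_mem.1 hB0n) (g := 1) (k := g) (S := (P : Subgroup G))
    (fun x hx => by simpa using hP hx) (fun x hx => by
      rw [← hg, Sylow.coe_subgroup_smul, mem_conj_smul_iff]
      simpa [mul_assoc] using hQ hx)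
  set S := MulAut.conj u⁻¹ • (P : Subgroup G)
  refine ⟨S, (Set.eq_of_subset_of_ncard_le ?_ ?_ (Set.toFinite _)).symm⟩
  · rintro _ ⟨a, ha, b, hb, rfl⟩
    exact mul_mem (mem_conj_smul_iff.2 (by simpa using hu1 a ha))
      (mem_conj_smul_iff.2 (by simpa using hu2 b hb))
  rw [← Nat.card_coe_set_eq, ← Nat.card_coe_set_eq]
  show Nat.card S ≤ _
  rw [card_conj_smul, P.card_eq_multiplicity]
  -- compare `p`-parts
  have h1 := card_coe_mul_mul_card_inf A0 B0
  have h2 := card_coe_mul_mul_card_inf A B
  rw [show (A : Set G) * (B : Set G) = Set.univ from Set.eq_univ_of_forall fun z => by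
    obtain ⟨a, ha, b, hb, rfl⟩ := hfac z
    exact ⟨a, ha, b, hb, rfl⟩, Nat.card_univ] at h2
  have h3 := congrArg (fun n => n.factorization p) h2
  simp only [Nat.factorization_mul Nat.card_pos.ne' Nat.card_pos.ne', Finsupp.add_apply] at h3
  have h4 : Nat.card (A0 ⊓ B0 : Subgroup G) ≤ p ^ (Nat.card (A ⊓ B : Subgroup G)).factorization p := by
    obtain ⟨j, hj⟩ := IsPGroup.iff_card.1 ((IsPGroup.of_card hA0c).to_le
      (inf_le_left : A0 ⊓ B0 ≤ A0))
    rw [hj]
    refine Nat.pow_le_pow_right hp.out.pos ?_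
    refine (hp.out.pow_dvd_iff_le_factorization Nat.card_pos.ne').1 ?_
    rw [← hj]
    exact Subgroup.card_dvd_of_le (inf_le_inf hA0 hB0)
  rw [hA0c, hB0c, ← pow_add, ← h3, pow_add] at h1
  refine Nat.le_of_mul_le_mul_right (c := Nat.card (A0 ⊓ B0 : Subgroup G)) ?_ Nat.card_pos
  rw [h1]
  exact Nat.mul_le_mul_left _ h4

/-- A `p`-group permuting with all conjugates of the `p`-group `B` lies in a `p`-group normalised
by all of them. -/
theorem exists_pGroup_normalized_by_conjugates [Finite G] {p : ℕ} [Fact p.Prime] {B : Subgroup G}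
    (hB : IsPGroup p B) : ∀ (k : ℕ) (A : Subgroup G), Nat.card G - Nat.card A = k → IsPGroup p A →
      (∀ x : G, ∃ S : Subgroup G,
        (S : Set G) = (A : Set G) * ((MulAut.conj x • B : Subgroup G) : Set G)) →
      ∃ A' : Subgroup G, A ≤ A' ∧ IsPGroup p A' ∧
        ∀ x : G, MulAut.conj x • B ≤ Subgroup.normalizer (A' : Set G) := by
  intro k
  induction k using Nat.strong_induction_on with
  | _ k IH =>
    intro A hk hA h
    by_cases hall : ∀ x : G, MulAut.conj x • B ≤ Subgroup.normalizer (A : Set G)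
    · exact ⟨A, le_rfl, hA, hall⟩
    obtain ⟨x, hx⟩ := not_forall.1 hall
    obtain ⟨b, hb, hbA⟩ := SetLike.not_le_iff_exists.1 hx
    set A' := MulAut.conj b • A with hA'
    set As := A ⊔ A' with hAs
    have hlt : A < As := lt_of_le_of_ne le_sup_left fun e => hbA (mem_normalizer_of_conj_smul_eq
      (Subgroup.eq_of_le_of_card_ge ((le_sup_right : A' ≤ As).trans e.ge) (by rw [card_conj_smul])))
    have hperm : ∀ C : Subgroup G, (∃ S : Subgroup G, (S : Set G) = (A : Set G) * (C : Set G)) →
        (A : Set G) * (C : Set G) = (C : Set G) * (A : Set G) := by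
      rintro C ⟨S, hS⟩
      have h1 := congrArg (fun T : Set G => T⁻¹) hS
      simp only [mul_inv_rev, inv_coe_set] at h1
      rw [← hS, h1]
    have hp : ∀ y : G, (A : Set G) * ((MulAut.conj y • B : Subgroup G) : Set G) =
        ((MulAut.conj y • B : Subgroup G) : Set G) * (A : Set G) := fun y => hperm _ (h y)
    have hp' : ∀ y : G, (A' : Set G) * ((MulAut.conj y • B : Subgroup G) : Set G) =
        ((MulAut.conj y • B : Subgroup G) : Set G) * (A' : Set G) := by
      intro y
      have h1 := congrArg (fun T : Set G => MulAut.conj b • T) (hp (b⁻¹ * y))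
      simp only [smul_mul', ← Subgroup.coe_pointwise_smul, smul_smul, ← map_mul,
        mul_inv_cancel_left] at h1
      exact h1
    obtain ⟨S, hS⟩ := h x
    have hSp : IsPGroup p S := by
      have hπ : PiNat {p} (Nat.card S) := piNat_of_mul_set hS (PiNat.of_isPGroup hA rfl)
        (by rw [card_conj_smul]; exact PiNat.of_isPGroup hB rfl)
      exact IsPGroup.of_card (Nat.eq_prime_pow_of_unique_prime_dvd Nat.card_pos.ne'
        fun {d} hd hdd => hπ d hd hdd)
    have hAsS : As ≤ S := by
      have hAS : A ≤ S := fun a ha => by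
        rw [← SetLike.mem_coe, hS]; exact ⟨a, ha, 1, one_mem _, mul_one a⟩
      have hbS : b ∈ S := by
        rw [← SetLike.mem_coe, hS]; exact ⟨1, one_mem A, b, hb, one_mul b⟩
      refine sup_le hAS fun z hz => ?_
      have := mul_mem (mul_mem hbS (hAS (mem_conj_smul_iff.1 hz))) (inv_mem hbS)
      simpa [mul_assoc] using this
    obtain ⟨A₂, h2, h3, h4⟩ := IH (Nat.card G - Nat.card As) (by
        have h1 : Nat.card A < Nat.card As := by
          rcases lt_or_ge (Nat.card A) (Nat.card As) with h' | h'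
          · exact h'
          · exact absurd (Subgroup.eq_of_le_of_card_ge hlt.le h') hlt.ne
        have h2 := Subgroup.card_le_card_group As
        omega) As rfl (hSp.to_le hAsS)
      fun y => ⟨As ⊔ MulAut.conj y • B, coe_sup_of_permute (commute_coe_sup (hp y) (hp' y))⟩
    exact ⟨A₂, hlt.le.trans h2, h3, h4⟩

theorem exists_sylow_nilpotent_subgroup [Finite G] {p : ℕ} [hp : Fact p.Prime] {A : Subgroup G}
    (hA : Group.IsNilpotent A) :
    ∃ P : Subgroup G, P ≤ A ∧ IsPGroup p P ∧ A ≤ Subgroup.normalizer (P : Set G) ∧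
      (p ∣ Nat.card A → P ≠ ⊥) ∧ Nat.card P = p ^ (Nat.card A).factorization p := by
  haveI := hA
  obtain ⟨P⟩ : Nonempty (Sylow p A) := inferInstance
  refine ⟨(P : Subgroup A).map A.subtype, Subgroup.map_subtype_le _, P.2.map _, ?_, fun hd e => ?_,
    by rw [card_map_subtype]; exact P.card_eq_multiplicity⟩
  · haveI : (P : Subgroup A).Normal := inferInstance
    refine le_normalizer_iff_forall_conj_mem.2 ?_
    rintro a ha _ ⟨x, hx, rfl⟩
    exact ⟨⟨a, ha⟩ * x * (⟨a, ha⟩ : A)⁻¹, Subgroup.Normal.conj_mem inferInstance x hx _, rfl⟩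
  · exact P.ne_bot_of_dvd_card hd ((Subgroup.map_eq_bot_iff_of_injective _ A.subtype_injective).1 e)

/-- Common prime: a normal `p`-subgroup or two commuting nontrivial normal subgroups. -/
theorem false_of_common_prime [Finite G] {A B : Subgroup G} (hfac : IsFactorization A B)
    (hA : Group.IsNilpotent A) (hB : Group.IsNilpotent B) {p : ℕ} [hp : Fact p.Prime]
    (hpA : p ∣ Nat.card A) (hpB : p ∣ Nat.card B)
    (hsol : ∀ N : Subgroup G, N.Normal → Group.IsSolvable N → N = ⊥)
    (hint : ∀ M N : Subgroup G, M.Normal → N.Normal → M ⊓ N = ⊥ → M = ⊥ ∨ N = ⊥) : False := by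
  obtain ⟨A0, hA0, hA0p, hA0n, hA0b, hA0c⟩ := exists_sylow_nilpotent_subgroup (p := p) hA
  obtain ⟨B0, hB0, hB0p, hB0n, hB0b, hB0c⟩ := exists_sylow_nilpotent_subgroup (p := p) hB
  obtain ⟨S, hS⟩ := exists_sylow_prod hfac hA0 hA0n hA0c hB0 hB0n hB0c
  obtain ⟨A', hA0A', hA'p, hA'n⟩ := exists_pGroup_normalized_by_conjugates hB0p _ A0 rfl hA0p
    fun x => by
      obtain ⟨a, ha, b, hb, rfl⟩ := hfac x
      refine ⟨MulAut.conj a • S, ?_⟩
      rw [Subgroup.coe_pointwise_smul, hS, smul_mul', map_mul, mul_smul,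
        conj_smul_eq_self_of_mem_normalizer (hB0n hb), ← Subgroup.coe_pointwise_smul,
        ← Subgroup.coe_pointwise_smul, conj_smul_eq_self_of_mem_normalizer (hA0n ha)]
  set L := Subgroup.normalClosure (B0 : Set G) with hL
  have hLA' : L ≤ Subgroup.normalizer (A' : Set G) := by
    refine (Subgroup.closure_le _).2 fun z hz => ?_
    obtain ⟨b, hb, hbz⟩ := Group.mem_conjugatesOfSet_iff.1 hz
    obtain ⟨g, rfl⟩ := isConj_iff.1 hbz
    exact hA'n g (mem_conj_smul_iff.2 (by simpa [mul_assoc] using hb))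
  -- `A' ∩ L` is trivial
  haveI hn : ((A' ⊓ L).subgroupOf L).Normal := ⟨fun x hx g => by
    obtain ⟨h1, h2⟩ := Subgroup.mem_inf.1 hx
    exact Subgroup.mem_inf.2 ⟨le_normalizer_iff_forall_conj_mem.1 hLA' g g.2 _ h1,
      mul_mem (mul_mem g.2 h2) (inv_mem g.2)⟩⟩
  have hinf : A' ⊓ L = ⊥ := by
    have h1 : (A' ⊓ L).subgroupOf L ≤ Cfsg.pCore p L :=
      le_pCore ((hA'p.to_le inf_le_left).comap_subtype)
    haveI := pCore_normal L p
    haveI := pCore_characteristic (p := p) (G := L)
    haveI := normal_map_subtype_of_characteristic (Cfsg.pCore p L)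
    have h2 := hsol ((Cfsg.pCore p L).map L.subtype) inferInstance (by
      haveI := ((pCore_isPGroup L p).map L.subtype).isNilpotent
      infer_instance)
    rw [eq_bot_iff]
    intro x hx
    have h3 := Subgroup.mem_map_of_mem L.subtype
      (h1 (show (⟨x, (Subgroup.mem_inf.1 hx).2⟩ : L) ∈ (A' ⊓ L).subgroupOf L from hx))
    rw [h2] at h3
    exact h3
  have hcent : A0 ≤ Subgroup.centralizer (L : Set G) := by
    intro a ha
    rw [Subgroup.mem_centralizer_iff]
    intro l hl
    have h1 : l * a * l⁻¹ * a⁻¹ ∈ A' ⊓ L := by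
      refine Subgroup.mem_inf.2 ⟨mul_mem (le_normalizer_iff_forall_conj_mem.1 hLA' l hl a (hA0A' ha))
        (inv_mem (hA0A' ha)), ?_⟩
      rw [mul_assoc, mul_assoc, ← mul_assoc a]
      exact mul_mem hl (Subgroup.Normal.conj_mem inferInstance _ (inv_mem hl) a)
    rw [hinf, Subgroup.mem_bot] at h1
    calc l * a = (l * a * l⁻¹ * a⁻¹) * (a * l) := by group
      _ = a * l := by rw [h1, one_mul]
  have hLb : L ≠ ⊥ := fun e => hB0b hpB (le_bot_iff.1 (fun b hb => e ▸ Subgroup.subset_normalClosure hb))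
  have hCL : L ⊓ Subgroup.centralizer (L : Set G) = ⊥ := by
    refine hsol _ inferInstance (Group.isSolvable_of_comm fun x y => Subtype.ext ?_)
    exact Subgroup.mem_centralizer_iff.1 (Subgroup.mem_inf.1 y.2).2 x (Subgroup.mem_inf.1 x.2).1
  rcases hint L (Subgroup.centralizer (L : Set G)) inferInstance inferInstance hCL with e | e
  · exact hLb e
  · exact hA0b hpA (le_bot_iff.1 (hcent.trans e.le))

/-- The Kegel–Wielandt theorem. -/
theorem kegel_wielandt_aux : ∀ (n : ℕ) (G : Type u) [Group G] [Finite G] (A B : Subgroup G),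
    Nat.card G = n → Group.IsNilpotent A → Group.IsNilpotent B → IsFactorization A B →
    Group.IsSolvable G := by
  intro n
  induction n using Nat.strong_induction_on with
  | _ n IH =>
    intro G _ _ A B hn hA hB hfac
    by_contra hns
    haveI := hA; haveI := hB
    have hproper : ∀ K : Subgroup G, K ≠ ⊤ → IsFactorized A B K → Group.IsSolvable K := by
      intro K hK hKf
      have hnil : ∀ C : Subgroup G, Group.IsNilpotent C → Group.IsNilpotent (C.subgroupOf K) := by
        intro C hC
        haveI := hC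
        let φ : C.subgroupOf K →* C :=
          { toFun := fun n => ⟨((n : K) : G), n.2⟩
            map_one' := rfl
            map_mul' := fun _ _ => rfl }
        exact Group.nilpotent_of_mulEquiv (MonoidHom.ofInjective (f := φ) fun m n e =>
          Subtype.ext (Subtype.ext (congrArg Subtype.val e : _))).symm
      exact IH _ (hn ▸ card_lt_of_ne_top hK) K _ _ rfl (hnil A hA) (hnil B hB) hKf.toFactorization
    have hquot : ∀ N : Subgroup G, ∀ hN : N.Normal, N ≠ ⊥ → Group.IsSolvable (G ⧸ N) := by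
      intro N hN hNb
      exact IH _ (hn ▸ card_quotient_lt hNb) (G ⧸ N) (A.map (QuotientGroup.mk' N))
        (B.map (QuotientGroup.mk' N)) rfl
        (Group.nilpotent_of_surjective _ ((QuotientGroup.mk' N).subgroupMap_surjective A))
        (Group.nilpotent_of_surjective _ ((QuotientGroup.mk' N).subgroupMap_surjective B))
        (hfac.map (QuotientGroup.mk'_surjective N))
    have hsol : ∀ N : Subgroup G, N.Normal → Group.IsSolvable N → N = ⊥ := by
      intro N hN hNs
      by_contra hNb
      haveI := hquot N hN hNb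
      exact hns (Group.isSolvable_of_ker_le_range N.subtype (QuotientGroup.mk' N) (by simp))
    have hint : ∀ M N : Subgroup G, M.Normal → N.Normal → M ⊓ N = ⊥ → M = ⊥ ∨ N = ⊥ := by
      intro M N hM hN hMN
      by_cases hNb : N = ⊥
      · exact Or.inr hNb
      refine Or.inl (hsol M hM ?_)
      haveI := hquot N hN hNb
      refine Group.isSolvable_of_isSolvable_injective (f := (QuotientGroup.mk' N).comp M.subtype) ?_
      rw [injective_iff_map_eq_one]
      intro x hx
      have h1 : (x : G) ∈ M ⊓ N := ⟨x.2, (QuotientGroup.eq_one_iff _).1 hx⟩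
      rw [hMN, Subgroup.mem_bot] at h1
      exact Subtype.ext h1
    by_cases hcop : (Nat.card A).Coprime (Nat.card B)
    swap
    · obtain ⟨p, hp, hpA, hpB⟩ := Nat.Prime.not_coprime_iff_dvd.1 hcop
      haveI := Fact.mk hp
      exact false_of_common_prime hfac hA hB hpA hpB hsol hint
    -- coprime orders: `G` is simple
    have hcard := hfac.card_mul (Subgroup.inf_eq_bot_of_coprime hcop)
    have hidxA : A.index = Nat.card B := Nat.eq_of_mul_eq_mul_left Nat.card_pos
      ((Subgroup.card_mul_index A).trans hcard.symm)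
    have hidxB : B.index = Nat.card A := Nat.eq_of_mul_eq_mul_left Nat.card_pos
      ((Subgroup.card_mul_index B).trans (hcard.symm.trans (mul_comm _ _)))
    have hsimple : ∀ N : Subgroup G, N.Normal → N = ⊥ ∨ N = ⊤ := by
      intro N hN
      by_contra hc
      obtain ⟨hNb, hNt⟩ := not_or.1 hc
      refine hNb (hsol N hN (hproper N hNt fun g hg => ?_))
      have hco : ((A ⊓ N).subgroupOf N).index.Coprime ((B ⊓ N).subgroupOf N).index := by
        rw [Subgroup.inf_subgroupOf_right, Subgroup.inf_subgroupOf_right]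
        have hd : ∀ C : Subgroup G, (C.subgroupOf N).index ∣ C.index := fun C => by
          show C.relIndex N ∣ C.index
          refine dvd_trans (dvd_of_eq ?_) (Dvd.intro _ (Subgroup.relIndex_mul_index (le_sup_left : C ≤ C ⊔ N)))
          refine Nat.eq_of_mul_eq_mul_left (Nat.mul_pos (Nat.card_pos (α := C))
            (Nat.card_pos (α := (C ⊓ N : Subgroup G)))) ?_
          rw [← Subgroup.inf_relIndex_right C N]
          calc Nat.card C * Nat.card (C ⊓ N : Subgroup G) * (C ⊓ N).relIndex N
              = Nat.card C * Nat.card N := by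
                rw [mul_assoc, relIndex_mul_card inf_le_right]
            _ = Nat.card (C ⊔ N : Subgroup G) * Nat.card (C ⊓ N : Subgroup G) :=
                (card_sup_mul_card_inf C N).symm
            _ = Nat.card C * Nat.card (C ⊓ N : Subgroup G) * C.relIndex (C ⊔ N) := by
                rw [← relIndex_mul_card (le_sup_left : C ≤ C ⊔ N)]; ring
        exact (hcop.symm.coprime_dvd_left ((hd A).trans hidxA.dvd)).coprime_dvd_right
          ((hd B).trans hidxB.dvd)
      obtain ⟨a, ha, b, hb, e⟩ := exists_factor_of_coprime_index hco ⟨g, hg⟩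
      exact ⟨a, ha, b, hb, congrArg Subtype.val e⟩
    haveI : Nontrivial G := by
      by_contra hc
      rw [not_nontrivial_iff_subsingleton] at hc
      exact hns inferInstance
    haveI : IsSimpleGroup G := ⟨hsimple⟩
    have hne : ∀ C D : Subgroup G, IsFactorization C D → Group.IsNilpotent D → C ≠ ⊥ := by
      intro C D hCD hD e
      haveI := hD
      refine hns (Group.isSolvable_of_surjective (f := D.subtype) fun g => ?_)
      obtain ⟨a, ha, b, hb, rfl⟩ := hCD g
      rw [e, Subgroup.mem_bot] at ha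
      exact ⟨⟨b, hb⟩, by simp [ha]⟩
    -- a factor which is a group of prime power order gives a small conjugacy class
    have hone : ∀ C D : Subgroup G, IsFactorization C D → Group.IsNilpotent D → D ≠ ⊥ →
        D.index = Nat.card C → ∀ r : ℕ, r.Prime → (∀ s : ℕ, s.Prime → s ∣ Nat.card C → s = r) → False := by
      intro C D hCD hD hDb hidx r hr hC
      haveI := hD
      haveI : Nontrivial D := D.nontrivial_iff_ne_bot.2 hDb
      haveI : Nontrivial (Subgroup.center D) := (Subgroup.center D).nontrivial_iff_ne_bot.2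
        (Group.IsNilpotent.center_ne_bot (G := D))
      obtain ⟨⟨z, hz⟩, hz1⟩ := exists_ne (1 : Subgroup.center D)
      have hzne : (z : G) ≠ 1 := fun e => hz1 (Subtype.ext (Subtype.ext e))
      have hle : D ≤ Subgroup.centralizer ({(z : G)} : Set G) := fun d hd => by
        rw [Subgroup.mem_centralizer_iff]
        rintro y rfl
        exact (congrArg Subtype.val (Subgroup.mem_center_iff.1 hz ⟨d, hd⟩)).symm
      have hd : (Subgroup.centralizer ({(z : G)} : Set G)).index ∣ Nat.card C :=
        hidx ▸ Subgroup.index_dvd_of_le hle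
      haveI := Fact.mk (CfsgLib.Char.prime_card_of_class_prime_pow r _ hr (z : G) hzne
        (Nat.eq_prime_pow_of_unique_prime_dvd Subgroup.index_ne_zero_of_finite
          fun {s} hs hsd => hC s hs (hsd.trans hd)))
      haveI := isCyclic_of_prime_card (α := G) (p := Nat.card G) rfl
      exact hns (Group.isSolvable_of_comm fun x y => IsCyclic.commGroup.mul_comm x y)
    have hAb := hne A B hfac hB
    have hBb := hne B A hfac.symm hA
    have htwo : ∀ C : Subgroup G, (∀ r : ℕ, r.Prime → (∀ s : ℕ, s.Prime → s ∣ Nat.card C → s = r) → False) →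
        ∀ r : ℕ, ∃ s : ℕ, s.Prime ∧ s ∣ Nat.card C ∧ s ≠ r := by
      intro C hC r
      by_contra hc
      push Not at hc
      by_cases hr : r.Prime
      · exact hC r hr hc
      · exact hC 2 Nat.prime_two fun s hs hd => absurd (hc s hs hd ▸ hs) hr
    exact WHyp.false (A := A) (B := B) ⟨hfac, hcop, hA, hB,
      htwo A (hone A B hfac hB hBb hidxB), htwo B (hone B A hfac.symm hA hAb hidxA), hsimple, hproper⟩

/-- The Kegel–Wielandt theorem. -/
theorem kegel_wielandt [Finite G] {A B : Subgroup G} (hA : Group.IsNilpotent A)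
    (hB : Group.IsNilpotent B) (hfac : IsFactorization A B) : Group.IsSolvable G :=
  kegel_wielandt_aux _ G A B rfl hA hB hfac

/-- A proper product of two nilpotent groups has a proper normal subgroup containing a factor. -/
theorem exists_normal_containing_factor_aux : ∀ (n : ℕ) (G : Type u) [Group G] [Finite G]
    (A B : Subgroup G), Nat.card G = n → Group.IsNilpotent A → Group.IsNilpotent B →
    IsFactorization A B → (A ≠ ⊤ ∨ B ≠ ⊤) →
    ∃ N : Subgroup G, N.Normal ∧ N ≠ ⊤ ∧ (A ≤ N ∨ B ≤ N) := by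
  intro n
  induction n using Nat.strong_induction_on with
  | _ n IH =>
    intro G _ _ A B hn hA hB hfac hpr
    haveI := hA; haveI := hB
    haveI := kegel_wielandt hA hB hfac
    by_contra hno
    -- `G` is not nilpotent
    have hG : ¬ Group.IsNilpotent G := by
      intro hG
      rcases hpr with h | h <;>
      · obtain ⟨M, hM, hle⟩ := (eq_top_or_exists_le_coatom _).resolve_left h
        refine hno ⟨M, Subgroup.NormalizerCondition.normal_of_coatom M
          (Group.normalizerCondition_of_isNilpotent) hM, hM.1, ?_⟩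
        first | exact Or.inl hle | exact Or.inr hle
    have hnilmap : ∀ (C : Subgroup G), Group.IsNilpotent C → C = ⊤ → False := by
      intro C hC e
      haveI := hC
      exact hG (Group.nilpotent_of_surjective C.subtype fun g => ⟨⟨g, e ▸ Subgroup.mem_top g⟩, rfl⟩)
    have hAt : A ≠ ⊤ := fun e => hnilmap A hA e
    have hBt : B ≠ ⊤ := fun e => hnilmap B hB e
    haveI : Nontrivial G := by
      by_contra hc
      rw [not_nontrivial_iff_subsingleton] at hc
      exact hAt (Subsingleton.elim _ _)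
    -- every minimal normal subgroup supplements both factors
    have hsup : ∀ N : Subgroup G, IsMinimalNormal N → A ⊔ N = ⊤ ∧ B ⊔ N = ⊤ := by
      intro N hN
      haveI := hN.1
      by_contra hc
      have hpr' : A.map (QuotientGroup.mk' N) ≠ ⊤ ∨ B.map (QuotientGroup.mk' N) ≠ ⊤ := by
        by_contra h
        push Not at h
        refine hc ⟨?_, ?_⟩
        · have := congrArg (Subgroup.comap (QuotientGroup.mk' N)) h.1
          rwa [Subgroup.comap_map_eq, QuotientGroup.ker_mk', Subgroup.comap_top] at this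
        · have := congrArg (Subgroup.comap (QuotientGroup.mk' N)) h.2
          rwa [Subgroup.comap_map_eq, QuotientGroup.ker_mk', Subgroup.comap_top] at this
      obtain ⟨M, hM, hMt, hle⟩ := IH _ (hn ▸ card_quotient_lt hN.2.1) (G ⧸ N) _ _ rfl
        (Group.nilpotent_of_surjective _ ((QuotientGroup.mk' N).subgroupMap_surjective A))
        (Group.nilpotent_of_surjective _ ((QuotientGroup.mk' N).subgroupMap_surjective B))
        (hfac.map (QuotientGroup.mk'_surjective N)) hpr'
      exact hno ⟨M.comap (QuotientGroup.mk' N), inferInstance, fun e => hMt (by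
        rw [← Subgroup.map_comap_eq_self_of_surjective (QuotientGroup.mk'_surjective N) M, e,
          Subgroup.map_top_of_surjective _ (QuotientGroup.mk'_surjective N)]),
        hle.imp Subgroup.map_le_iff_le_comap.1 Subgroup.map_le_iff_le_comap.1⟩
    obtain ⟨N, hN⟩ := exists_isMinimalNormal (G := G)
    have hmax : ∀ C : Subgroup G, C ≠ ⊤ → (∀ M, IsMinimalNormal M → C ⊔ M = ⊤) →
        IsCoatom C ∧ C.normalCore = ⊥ := by
      intro C hC hCs
      have hcore : C.normalCore = ⊥ := by
        by_contra hne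
        obtain ⟨M, hM, hMle⟩ := exists_isMinimalNormal_le C.normalCore hne
        refine hC ?_
        rw [← hCs M hM, eq_comm, sup_eq_left]
        exact hMle.trans (Subgroup.normalCore_le C)
      refine ⟨⟨hC, fun D hD => ?_⟩, hcore⟩
      haveI := hN.1
      haveI := isMulCommutative_of_minimal_solvable hN inferInstance
      -- `D ∩ N` is normal in `G = D N`
      have hDN : D ⊔ N = ⊤ := top_unique ((hCs N hN).ge.trans (sup_le_sup_right hD.le _))
      have hn' : (D ⊓ N).Normal := by
        rw [← Subgroup.normalizer_eq_top_iff, ← top_le_iff, ← hDN]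
        refine sup_le (le_normalizer_iff_forall_conj_mem.2 fun d hd x hx => ?_)
          (le_normalizer_iff_forall_conj_mem.2 fun m hm x hx => ?_)
        · exact Subgroup.mem_inf.2 ⟨mul_mem (mul_mem hd (Subgroup.mem_inf.1 hx).1) (inv_mem hd),
            hN.1.conj_mem _ (Subgroup.mem_inf.1 hx).2 d⟩
        · have h1 : m * x = x * m := congrArg Subtype.val
            (mul_comm' (⟨m, hm⟩ : N) ⟨x, (Subgroup.mem_inf.1 hx).2⟩)
          rw [h1, mul_inv_cancel_right]
          exact hx
      rcases hN.2.2 _ hn' inf_le_right with e | e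
      · exfalso
        obtain ⟨d, hd, hdC⟩ := SetLike.exists_of_lt hD
        obtain ⟨c, hc, m, hm, rfl⟩ : d ∈ ((C : Set G) * (N : Set G)) := by
          rw [← Subgroup.mul_normal, hCs N hN]; trivial
        have hm1 : m ∈ D ⊓ N := Subgroup.mem_inf.2 ⟨by simpa using mul_mem (inv_mem (hD.le hc)) hd, hm⟩
        rw [e, Subgroup.mem_bot] at hm1
        exact hdC (by show c * m ∈ C; rw [hm1, mul_one]; exact hc)
      · rw [← hDN, eq_comm, sup_eq_left]
        exact e.ge.trans inf_le_left
    obtain ⟨hAm, hAc⟩ := hmax A hAt fun M hM => (hsup M hM).1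
    obtain ⟨hBm, hBc⟩ := hmax B hBt fun M hM => (hsup M hM).2
    obtain ⟨g, hg⟩ := coreFree_maximal_conj hAm hBm hAc hBc
    obtain ⟨a, ha, b, hb, e⟩ := hfac g⁻¹
    rw [← hg, mem_conj_smul_iff] at hb
    have hgA : g ∈ A := by
      have h1 : g = a⁻¹ * (g⁻¹ * b * g)⁻¹ := by
        have e' : g⁻¹ = a * b := e
        have : b = a⁻¹ * g⁻¹ := by rw [e', inv_mul_cancel_left]
        rw [this]; group
      rw [h1]
      exact mul_mem (inv_mem ha) (inv_mem hb)
    rw [conj_smul_eq_self_of_mem_normalizer (Subgroup.le_normalizer hgA)] at hg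
    refine hAt (top_unique fun x _ => ?_)
    obtain ⟨a, ha, b, hb, rfl⟩ := hfac x
    exact mul_mem ha (hg ▸ hb)

theorem exists_normal_containing_factor [Finite G] {A B : Subgroup G} (hA : Group.IsNilpotent A)
    (hB : Group.IsNilpotent B) (hfac : IsFactorization A B) (hpr : A ≠ ⊤ ∨ B ≠ ⊤) :
    ∃ N : Subgroup G, N.Normal ∧ N ≠ ⊤ ∧ (A ≤ N ∨ B ≤ N) :=
  exists_normal_containing_factor_aux _ G A B rfl hA hB hfac hpr

end CfsgLib.Solv
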