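import Cfsg.Agent.Solv.SSGClt

/-!
Products of two cyclic groups; conjugacy of supersolvable Hall subgroups.
-/

set_option autoImplicit false
set_option linter.style.haveILetI false
set_option linter.deprecated false
set_option linter.unusedSectionVars false

open scoped Pointwise

namespace CfsgLib.Solv

universe u

theorem eq_of_card_eq_of_le_isCyclic {G : Type u} [Group G] [Finite G] {C X Y : Subgroup G}
    [IsCyclic C] (hX : X ≤ C) (hY : Y ≤ C) (h : Nat.card X = Nat.card Y) : X = Y := by
  classical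
  haveI : Fintype C := Fintype.ofFinite _
  have key : ∀ Z : Subgroup G, ∀ hZ : Z ≤ C, Nat.card Z = Nat.card X →
      Finset.univ.filter (fun a : C => (a : G) ∈ Z) =
        Finset.univ.filter (fun a : C => a ^ Nat.card X = 1) := by
    intro Z hZ hc
    refine Finset.eq_of_subset_of_card_le (fun a ha => ?_) ?_
    · rw [Finset.mem_filter] at ha ⊢
      refine ⟨ha.1, ?_⟩
      have h1 := pow_card_eq_one' (x := (⟨(a : G), ha.2⟩ : Z))
      have h2 := congrArg Subtype.val h1
      rw [SubmonoidClass.coe_pow, OneMemClass.coe_one, hc] at h2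
      exact Subtype.ext (by rw [SubmonoidClass.coe_pow, OneMemClass.coe_one]; exact h2)
    · refine (IsCyclic.card_pow_eq_one_le Nat.card_pos).trans (le_of_eq ?_)
      rw [← hc, ← Fintype.card_subtype, ← Nat.card_eq_fintype_card]
      exact Nat.card_congr ((Subgroup.subgroupOfEquivOfLe hZ).symm.toEquiv)
  have e := (key X hX rfl).trans (key Y hY h.symm).symm
  ext x
  constructor <;> intro hx
  · have h1 : (⟨x, hX hx⟩ : C) ∈ Finset.univ.filter (fun a : C => (a : G) ∈ X) := by simpa using hx
    rw [e] at h1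
    simpa using h1
  · have h1 : (⟨x, hY hx⟩ : C) ∈ Finset.univ.filter (fun a : C => (a : G) ∈ Y) := by simpa using hx
    rw [← e] at h1
    simpa using h1

theorem exists_normal_le_of_cyclic_product {G : Type u} [Group G] [Finite G] (A B : Subgroup G)
    [IsCyclic A] [IsCyclic B] (hAB : ∀ g : G, ∃ a ∈ A, ∃ b ∈ B, g = a * b)
    (hle : Nat.card B ≤ Nat.card A) (hA : A ≠ ⊤) : ∃ X : Subgroup G, X.Normal ∧ X ≠ ⊥ ∧ X ≤ A := by
  obtain ⟨b0, hb0⟩ := IsCyclic.exists_generator (α := B)
  set b : G := (b0 : G)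
  set A' := A.map (MulAut.conj b).toMonoidHom with hA'
  haveI : IsCyclic A' :=
    isCyclic_of_surjective (Subgroup.equivMapOfInjective A _ (MulAut.conj b).injective).toMonoidHom
      (Subgroup.equivMapOfInjective A _ (MulAut.conj b).injective).surjective
  have hcard : Nat.card A' = Nat.card A :=
    (Nat.card_congr (Subgroup.equivMapOfInjective A _ (MulAut.conj b).injective).toEquiv).symm
  have hGle : Nat.card G ≤ Nat.card A * Nat.card B := by
    rw [← Nat.card_prod]
    refine Nat.card_le_card_of_surjective (fun x : A × B => (x.1 : G) * x.2) fun g => ?_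
    obtain ⟨a, ha, b, hb, rfl⟩ := hAB g
    exact ⟨(⟨a, ha⟩, ⟨b, hb⟩), rfl⟩
  set X := A ⊓ A' with hX
  have hXb : X ≠ ⊥ := by
    intro e
    let f : A × A' → G := fun x => (x.1 : G) * x.2
    have hinj : Function.Injective f := by
      intro x y hxy
      have h1 : (y.1 : G)⁻¹ * x.1 = y.2 * (x.2 : G)⁻¹ := by
        rw [eq_mul_inv_iff_mul_eq, mul_assoc, inv_mul_eq_iff_eq_mul]; exact hxy
      have h2 : (y.1 : G)⁻¹ * x.1 ∈ X :=
        Subgroup.mem_inf.2 ⟨mul_mem (inv_mem y.1.2) x.1.2, h1 ▸ mul_mem y.2.2 (inv_mem x.2.2)⟩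
      rw [e, Subgroup.mem_bot] at h2
      have h3 : (x.1 : G) = y.1 := (inv_mul_eq_one.1 h2).symm
      have hxy' : (x.1 : G) * x.2 = y.1 * y.2 := hxy
      rw [h3] at hxy'
      exact Prod.ext (Subtype.ext h3) (Subtype.ext (mul_left_cancel hxy'))
    have hns : ¬ Function.Surjective f := by
      intro hs
      refine hA (top_unique fun g _ => ?_)
      have key : ∀ x : G, ∃ a ∈ A, ∃ c ∈ A, x = a * b * c := fun x => by
        obtain ⟨⟨a, ⟨a', c, hc, rfl⟩⟩, he⟩ := hs (x * b⁻¹)
        refine ⟨a, a.2, c, hc, ?_⟩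
        have he' : (a : G) * (b * c * b⁻¹) = x * b⁻¹ := he
        rw [eq_mul_inv_iff_mul_eq] at he'
        rw [← he']; group
      have hbA : b ∈ A := by
        obtain ⟨a, ha, c, hc, e1⟩ := key 1
        have : b = a⁻¹ * c⁻¹ := by
          calc b = a⁻¹ * (a * b * c) * c⁻¹ := by group
            _ = a⁻¹ * c⁻¹ := by rw [← e1]; group
        rw [this]
        exact mul_mem (inv_mem ha) (inv_mem hc)
      obtain ⟨a, ha, c, hc, rfl⟩ := key g
      exact mul_mem (mul_mem ha hbA) hc
    have := lt_of_le_of_ne (Nat.card_le_card_of_injective f hinj) fun e => hns (((Nat.bijective_iff_injective_and_card f).2 ⟨hinj, e⟩).2)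
    rw [Nat.card_prod, hcard] at this
    exact absurd (hGle.trans (Nat.mul_le_mul_left _ hle)) (not_le.2 this)
  refine ⟨X, ?_, hXb, inf_le_left⟩
  haveI : IsMulCommutative A := inferInstance
  have hXb' : X.map (MulAut.conj b).toMonoidHom = X :=
    eq_of_card_eq_of_le_isCyclic (C := A') (Subgroup.map_mono inf_le_left) inf_le_right
      (Nat.card_congr (Subgroup.equivMapOfInjective X _ (MulAut.conj b).injective).toEquiv).symm
  rw [← Subgroup.normalizer_eq_top_iff, ← top_le_iff]
  intro g _
  obtain ⟨a, ha, c, hc, rfl⟩ := hAB g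
  refine mul_mem ?_ ?_
  · refine mem_normalizer_of_conj_smul_eq ?_
    rw [conj_smul_eq_map]
    have hc' : ∀ x ∈ X, a * x * a⁻¹ = x := fun x hx => by
      have h : a * x = x * a := Subtype.ext_iff.1
        (IsMulCommutative.is_comm.comm (⟨a, ha⟩ : A) ⟨x, (Subgroup.mem_inf.1 hx).1⟩)
      rw [h, mul_inv_cancel_right]
    refine le_antisymm ?_ fun x hx => ⟨x, hx, hc' x hx⟩
    rintro _ ⟨x, hx, rfl⟩
    show a * x * a⁻¹ ∈ X
    rw [hc' x hx]
    exact hx
  · have hb : b ∈ Subgroup.normalizer (X : Set G) := mem_normalizer_of_conj_smul_eq (by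
      rw [conj_smul_eq_map]; exact hXb')
    obtain ⟨k, hk⟩ := Subgroup.mem_zpowers_iff.1 (hb0 ⟨c, hc⟩)
    have hk' : b ^ k = c := congrArg Subtype.val hk
    rw [← hk']
    exact zpow_mem hb k

theorem ssg_cyclic_product_aux : ∀ (n : ℕ) (G : Type u) [Group G] [Finite G], Nat.card G = n →
    ∀ (A B : Subgroup G) [IsCyclic A] [IsCyclic B], (∀ g : G, ∃ a ∈ A, ∃ b ∈ B, g = a * b) →
      SSG G := by
  intro n
  induction n using Nat.strong_induction_on with
  | _ n IH =>
    intro G _ _ hn A B _ _ hAB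
    rcases subsingleton_or_nontrivial G with hs | hs
    · exact ssg_of_subsingleton
    have step : ∀ (A B : Subgroup G) [IsCyclic A] [IsCyclic B],
        (∀ g : G, ∃ a ∈ A, ∃ b ∈ B, g = a * b) → Nat.card B ≤ Nat.card A → SSG G := by
      intro A B _ _ hAB hle
      by_cases hA : A = ⊤
      · subst hA
        haveI : Subsingleton (G ⧸ (⊤ : Subgroup G)) := QuotientGroup.subsingleton_quotient_top
        exact ssg_of_cyclic_normal ⊤ ssg_of_subsingleton
      obtain ⟨X, hX, hXb, hXA⟩ := exists_normal_le_of_cyclic_product A B hAB hle hA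
      haveI := hX
      haveI : IsCyclic X := Subgroup.isCyclic_of_le hXA
      set f := QuotientGroup.mk' X
      haveI : IsCyclic (A.map f) := isCyclic_of_surjective (f.subgroupMap A) (f.subgroupMap_surjective A)
      haveI : IsCyclic (B.map f) := isCyclic_of_surjective (f.subgroupMap B) (f.subgroupMap_surjective B)
      refine ssg_of_cyclic_normal X (IH _ (hn ▸ card_quotient_lt hXb) _ rfl (A.map f) (B.map f) fun y => ?_)
      obtain ⟨g, rfl⟩ := QuotientGroup.mk'_surjective X y
      obtain ⟨a, ha, b, hb, rfl⟩ := hAB g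
      exact ⟨f a, Subgroup.mem_map_of_mem f ha, f b, Subgroup.mem_map_of_mem f hb, map_mul f a b⟩
    rcases le_total (Nat.card B) (Nat.card A) with hle | hle
    · exact step A B hAB hle
    · refine step B A (fun g => ?_) hle
      obtain ⟨a, ha, b, hb, e⟩ := hAB g⁻¹
      exact ⟨b⁻¹, inv_mem hb, a⁻¹, inv_mem ha, by rw [← mul_inv_rev, ← e, inv_inv]⟩

theorem ssg_cyclic_product {G : Type u} [Group G] [Finite G] (A B : Subgroup G)
    [IsCyclic A] [IsCyclic B] (hAB : ∀ g : G, ∃ a ∈ A, ∃ b ∈ B, g = a * b) : SSG G :=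
  ssg_cyclic_product_aux _ G rfl A B hAB

/-- The Sylow subgroup for the largest prime of a supersolvable Hall subgroup. -/
theorem exists_sylow_le_hall {G : Type u} [Group G] [Finite G] {H : Subgroup G} (hH : SSG H)
    (hHall : (Nat.card H).Coprime H.index) {p : ℕ} [hp : Fact p.Prime]
    (hmax : ∀ q : ℕ, q.Prime → q ∣ Nat.card H → q ≤ p) (hpd : p ∣ Nat.card H) :
    ∃ P : Sylow p G, (P : Subgroup G) ≤ H ∧ H ≤ Subgroup.normalizer ((P : Subgroup G) : Set G) := by
  let Q : Sylow p H := default
  haveI hQn := ssg_sylow_normal hH hmax Q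
  set P0 := (Q : Subgroup H).map H.subtype with hP0
  have hle : P0 ≤ H := Subgroup.map_subtype_le _
  have hc : Nat.card P0 = p ^ (Nat.card G).factorization p := by
    rw [hP0, card_map_subtype, Q.card_eq_multiplicity, ← Subgroup.card_mul_index H]
    congr 1
    rw [Nat.factorization_mul Nat.card_pos.ne' Subgroup.index_ne_zero_of_finite, Finsupp.add_apply,
      Nat.factorization_eq_zero_of_not_dvd (n := H.index), add_zero]
    exact fun h => hp.out.ne_one (Nat.eq_one_of_dvd_coprimes hHall hpd h)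
  refine ⟨Sylow.ofCard P0 hc, hle, ?_⟩
  show H ≤ Subgroup.normalizer (P0 : Set G)
  refine le_normalizer_iff_forall_conj_mem.2 fun g hg x hx => ?_
  obtain ⟨y, hy, rfl⟩ := hx
  exact ⟨⟨g, hg⟩ * y * (⟨g, hg⟩ : H)⁻¹, hQn.conj_mem y hy _, rfl⟩

theorem ssg_hall_conj_aux : ∀ (n : ℕ) (G : Type u) [Group G] [Finite G], Nat.card G = n →
    ∀ H K : Subgroup G, SSG H → SSG K → Nat.card H = Nat.card K → (Nat.card H).Coprime H.index →
      ∃ x : G, MulAut.conj x • H = K := by
  intro n
  induction n using Nat.strong_induction_on with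
  | _ n IH =>
    intro G _ _ hn H K hH hK hcard hHall
    by_cases h1 : Nat.card H = 1
    · refine ⟨1, ?_⟩
      rw [Subgroup.eq_bot_of_card_eq H h1, Subgroup.eq_bot_of_card_eq K (hcard ▸ h1), map_one, one_smul]
    have hKi : K.index = H.index := by
      have := Subgroup.card_mul_index K
      rw [← hcard, ← Subgroup.card_mul_index H] at this
      exact Nat.eq_of_mul_eq_mul_left Nat.card_pos this
    obtain ⟨p, hp, hpd, hmax⟩ := exists_largest_prime (n := Nat.card H)
      (lt_of_le_of_ne Nat.card_pos (Ne.symm h1))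
    haveI : Fact p.Prime := ⟨hp⟩
    obtain ⟨P1, hP1, hP1n⟩ := exists_sylow_le_hall hH hHall hmax hpd
    obtain ⟨P, hP, hPn⟩ := exists_sylow_le_hall hK (by rwa [← hcard, hKi]) (hcard ▸ hmax) (hcard ▸ hpd)
    obtain ⟨x, hx⟩ := MulAction.exists_smul_eq G P1 P
    have hx' : MulAut.conj x • (P1 : Subgroup G) = (P : Subgroup G) := congrArg Sylow.toSubgroup hx
    set H1 := MulAut.conj x • H with hH1
    set L := Subgroup.normalizer ((P : Subgroup G) : Set G)
    have hPH1 : (P : Subgroup G) ≤ H1 := hx' ▸ Subgroup.pointwise_smul_le_pointwise_smul_iff.2 hP1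
    have hH1L : H1 ≤ L := by
      refine le_normalizer_iff_forall_conj_mem.2 fun g hg y hy => ?_
      rw [← hx', mem_conj_smul_iff] at hy ⊢
      have := le_normalizer_iff_forall_conj_mem.1 hP1n _ (mem_conj_smul_iff.1 hg) _ hy
      convert this using 1
      group
    have hcard1 : Nat.card H1 = Nat.card H := card_conj_smul x H
    have hH1i : H1.index = H.index := index_conj_smul x H
    have hPL : (P : Subgroup G) ≤ L := Subgroup.le_normalizer
    set N := (P : Subgroup G).subgroupOf L
    haveI : N.Normal := Subgroup.normal_in_normalizer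
    set f := QuotientGroup.mk' N
    have hs := QuotientGroup.mk'_surjective N
    have hker : ∀ X : Subgroup G, (P : Subgroup G) ≤ X → f.ker ≤ X.subgroupOf L := fun X hX => by
      rw [QuotientGroup.ker_mk']; exact Subgroup.comap_mono hX
    have hNb : N ≠ ⊥ := fun e => by
      have h2 : Nat.card N = 1 := by rw [e]; exact Subgroup.card_bot
      rw [card_subgroupOf hPL] at h2
      exact P.ne_bot_of_dvd_card (hpd.trans (Subgroup.card_subgroup_dvd_card H))
        (Subgroup.eq_bot_of_card_eq _ h2)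
    have hssg : ∀ X : Subgroup G, X ≤ L → SSG X → SSG ((X.subgroupOf L).map f) := fun X hX h =>
      ssg_of_surjective (f.subgroupMap_surjective _)
        (ssg_mulEquiv (Subgroup.subgroupOfEquivOfLe hX).symm h)
    have hc : ∀ X : Subgroup G, X ≤ L → (P : Subgroup G) ≤ X →
        Nat.card ((X.subgroupOf L).map f) * Nat.card N = Nat.card X := fun X hX hPX => by
      rw [← card_comap_mk', Subgroup.comap_map_eq_self (hker X hPX), card_subgroupOf hX]
    have hKL : K ≤ L := hPn
    obtain ⟨y, hy⟩ := IH (Nat.card (L ⧸ N)) (hn ▸ lt_of_lt_of_le (card_quotient_lt hNb)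
      (Subgroup.card_le_card_group L)) (L ⧸ N) rfl ((H1.subgroupOf L).map f) ((K.subgroupOf L).map f)
      (hssg H1 hH1L (ssg_mulEquiv (Subgroup.equivSMul (MulAut.conj x) H) hH)) (hssg K hKL hK)
      (Nat.eq_of_mul_eq_mul_right (Nat.card_pos (α := N))
        (by rw [hc H1 hH1L hPH1, hc K hKL hP, hcard1, hcard]))
      (by
        rw [Subgroup.index_map_eq _ hs (hker H1 hPH1)]
        refine (hHall.coprime_dvd_left ?_).coprime_dvd_right ?_
        · exact ⟨Nat.card N, by rw [hc H1 hH1L hPH1, hcard1]⟩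
        · rw [← hH1i]; exact Subgroup.relIndex_dvd_index_of_le hH1L)
    obtain ⟨z, rfl⟩ := hs y
    have e : (H1.subgroupOf L).map (MulAut.conj z).toMonoidHom = K.subgroupOf L := by
      have hk : f.ker ≤ (H1.subgroupOf L).map (MulAut.conj z).toMonoidHom := by
        intro a ha
        refine ⟨z⁻¹ * a * z, hker H1 hPH1 ?_, ?_⟩
        · rw [MonoidHom.mem_ker] at ha ⊢
          rw [map_mul, map_mul, ha, mul_one, ← map_mul, inv_mul_cancel, map_one]
        · show z * (z⁻¹ * a * z) * z⁻¹ = a
          group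
      rw [← Subgroup.comap_map_eq_self hk, ← Subgroup.comap_map_eq_self (hker K hP), ← hy,
        conj_smul_eq_map, Subgroup.map_map, Subgroup.map_map]
      congr 2
    refine ⟨(z : G) * x, ?_⟩
    rw [map_mul, mul_smul, ← hH1, conj_smul_eq_map, ← Subgroup.map_subgroupOf_eq_of_le hH1L,
      Subgroup.map_map, ← Subgroup.map_subgroupOf_eq_of_le hKL, ← e, Subgroup.map_map]
    rfl

end CfsgLib.Solv
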