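import Cfsg.Agent.Solv.MinNonNilp
import Cfsg.Agent.Solv.SystemNorm
import Cfsg.Agent.Solv.CoprimeAction
import Cfsg.Agent.Solv.FittingBasic

/-!
A minimal non-nilpotent group modulo the commutator of its normal Sylow subgroup.
-/

set_option autoImplicit false
set_option linter.style.haveILetI false
set_option linter.deprecated false
set_option linter.unusedSectionVars false

open scoped Pointwise commutatorElement

namespace CfsgLib.Solv

universe u

theorem minNonNilp_minNonAb {G : Type u} [Group G] [Finite G] (hG : Cfsg.IsMinimalNonNilpotent G)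
    {q : ℕ} [Fact q.Prime] (hq : q ∣ Nat.card G) (Q : Sylow q G) (hQ : (Q : Subgroup G).Normal)
    (D : Subgroup G) [D.Normal]
    (hD : D = (commutator ↥(Q : Subgroup G)).map (Q : Subgroup G).subtype) :
    ¬ IsMulCommutative (G ⧸ D) ∧ ∀ K : Subgroup (G ⧸ D), K ≠ ⊤ → IsMulCommutative K := by
  obtain ⟨p, q', hp, hq', hne, P, Q', hPc, hQ'n, htop, hnc⟩ := schmidt_structure hG.2 hG.1
  haveI := Fact.mk hp; haveI := Fact.mk hq'
  haveI := hQ'n; haveI := hQ
  have hdisj : ∀ (r s : ℕ) [Fact r.Prime] [Fact s.Prime], r ≠ s → ∀ (R : Sylow r G) (S : Sylow s G),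
      (R : Subgroup G).Normal → (S : Subgroup G).Normal →
        (R : Subgroup G) ≤ Subgroup.centralizer ((S : Subgroup G) : Set G) := fun r s _ _ hrs R S hR hS a ha =>
    Subgroup.mem_centralizer_iff.2 fun b hb => (Subgroup.commute_of_normal_of_disjoint _ _ hR hS
      (IsPGroup.disjoint_of_ne r s hrs _ _ R.2 S.2) a b ha hb).eq.symm
  have hcard : Nat.card G = Nat.card (P : Subgroup G) * Nat.card (Q' : Subgroup G) := by
    have h2 := card_sup_mul_card_inf (P : Subgroup G) (Q' : Subgroup G)
    rwa [htop, Subgroup.card_top, disjoint_iff.1 (IsPGroup.disjoint_of_ne p q' hne _ _ P.2 Q'.2),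
      Subgroup.card_bot, mul_one] at h2
  have hqq : q = q' := by
    by_contra hqne
    by_cases hqp : q = p
    · subst hqp
      haveI := Q.unique_of_normal hQ
      rw [Subsingleton.elim P Q] at hnc
      exact hnc (hdisj q q' hne Q Q' hQ hQ'n)
    · -- `Q` is trivial, so `G` is a product of `P` and `Q'` only
      have hQb : (Q : Subgroup G) = ⊥ := by
        refine Subgroup.eq_bot_of_card_eq _ (Nat.eq_one_of_dvd_coprimes ?_ dvd_rfl
          (hcard ▸ Subgroup.card_subgroup_dvd_card (Q : Subgroup G)))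
        obtain ⟨a, ha⟩ := IsPGroup.iff_card.1 P.2
        obtain ⟨b, hb⟩ := IsPGroup.iff_card.1 Q'.2
        obtain ⟨c, hc⟩ := IsPGroup.iff_card.1 Q.2
        rw [ha, hb, hc]
        exact Nat.Coprime.mul_right (((Nat.coprime_primes (Fact.out : q.Prime) hp).2 hqp).pow _ _)
          (((Nat.coprime_primes (Fact.out : q.Prime) hq').2 hqne).pow _ _)
      exact Q.ne_bot_of_dvd_card hq hQb
  subst hqq
  haveI := Q'.unique_of_normal hQ'n
  obtain rfl : Q = Q' := Subsingleton.elim _ _
  set f := QuotientGroup.mk' D with hf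
  obtain ⟨a, ha⟩ := IsPGroup.iff_card.1 P.2
  have hPi : (Q : Subgroup G).index = p ^ a := by
    have h1 := Subgroup.card_mul_index (Q : Subgroup G)
    rw [hcard, mul_comm (Nat.card (P : Subgroup G)), ← ha] at *
    exact Nat.eq_of_mul_eq_mul_left Nat.card_pos h1
  have hDΦ : D ≤ (frattini (Q : Subgroup G)).map (Q : Subgroup G).subtype :=
    hD ▸ Subgroup.map_mono (commutator_le_frattini Q.2)
  refine ⟨fun hab => hnc ?_, fun K hK => ?_⟩
  · refine le_centralizer_of_trivial_on_frattini_quotient ?_ ?_
    · obtain ⟨b, hb⟩ := IsPGroup.iff_card.1 (Q.2.to_subgroup (frattini (Q : Subgroup G)))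
      rw [ha, hb]
      exact ((Nat.coprime_primes hp (Fact.out : q.Prime)).2 hne).pow _ _
    · intro x _ y _
      refine hDΦ ((QuotientGroup.eq_one_iff _).1 ?_)
      show f ⁅x, y⁆ = 1
      rw [map_commutatorElement, commutatorElement_eq_one_iff_mul_comm]
      exact hab.is_comm.comm _ _
  · set U := K.comap f with hU
    have hUt : U ≠ ⊤ := fun e => hK (by
      rw [← Subgroup.map_comap_eq_self_of_surjective (QuotientGroup.mk'_surjective D) K, ← hf, ← hU, e,
        Subgroup.map_top_of_surjective _ (QuotientGroup.mk'_surjective D)])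
    haveI hUn := hG.2 U hUt
    let R : Sylow p U := default
    set B := (Q : Subgroup G).subgroupOf U with hB
    have hco : ((R : Subgroup U).index).Coprime B.index := by
      obtain ⟨j, -, hj⟩ := (Nat.dvd_prime_pow hp).1
        ((Subgroup.relIndex_dvd_index_of_normal (H := (Q : Subgroup G)) (K := U)).trans (dvd_of_eq hPi))
      rw [show B.index = p ^ j from hj]
      exact ((hp.coprime_iff_not_dvd.2 R.not_dvd_index).symm).pow_right j
    -- the Sylow `p`-subgroup of `U` is abelian
    have hRc : ∀ x ∈ (R : Subgroup U), ∀ y ∈ (R : Subgroup U), x * y = y * x := by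
      obtain ⟨S, hS⟩ := (R.2.map U.subtype).exists_le_sylow
      haveI : IsCyclic (S : Subgroup G) := by
        haveI := hPc
        exact isCyclic_of_surjective (P.equiv S).toMonoidHom (P.equiv S).surjective
      intro x hx y hy
      exact Subtype.ext (Subtype.ext_iff.1 (IsMulCommutative.is_comm.comm
        (⟨(x : G), hS (Subgroup.mem_map_of_mem _ hx)⟩ : (S : Subgroup G))
        ⟨(y : G), hS (Subgroup.mem_map_of_mem _ hy)⟩) :)
    have hRB : ∀ x ∈ (R : Subgroup U), ∀ y ∈ B, y * x = x * y := fun x hx y hy =>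
      Subgroup.mem_centralizer_iff.1 (commute_of_isNilpotent hUn hp (Fact.out : q.Prime) hne R.2
        (Q.2.comap_of_injective _ U.subtype_injective) hx) y hy
    have hBc : ∀ x ∈ B, ∀ y ∈ B, f (x : G) * f (y : G) = f (y : G) * f (x : G) := by
      intro x hx y hy
      rw [← commutatorElement_eq_one_iff_mul_comm, ← map_commutatorElement]
      refine (QuotientGroup.eq_one_iff _).2 ?_
      rw [hD]
      exact ⟨⁅(⟨(x : G), hx⟩ : (Q : Subgroup G)), ⟨(y : G), hy⟩⁆,
        Subgroup.commutator_mem_commutator (Subgroup.mem_top _) (Subgroup.mem_top _), rfl⟩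
    have key : ∀ x y : U, f (x : G) * f (y : G) = f (y : G) * f (x : G) := by
      intro x y
      obtain ⟨a, ha, b, hb, rfl⟩ := exists_factor_of_coprime_index hco x
      obtain ⟨c, hc, d, hd, rfl⟩ := exists_factor_of_coprime_index hco y
      set g := f.comp U.subtype with hg
      show g (a * b) * g (c * d) = g (c * d) * g (a * b)
      have h1 : Commute (g a) (g c) := (Commute.map (hRc a ha c hc : Commute a c) g)
      have h2 : Commute (g a) (g d) := (Commute.map ((hRB a ha d hd).symm : Commute a d) g)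
      have h3 : Commute (g b) (g c) := (Commute.map (hRB c hc b hb : Commute b c) g)
      have h4 : Commute (g b) (g d) := hBc b hb d hd
      rw [map_mul, map_mul]
      exact ((h1.mul_right h2).mul_left (h3.mul_right h4)).eq
    refine ⟨⟨fun x y => Subtype.ext ?_⟩⟩
    obtain ⟨⟨x, hx⟩, ⟨y, hy⟩⟩ := x, y
    obtain ⟨x, rfl⟩ := QuotientGroup.mk'_surjective D x
    obtain ⟨y, rfl⟩ := QuotientGroup.mk'_surjective D y
    exact key ⟨x, hx⟩ ⟨y, hy⟩

end CfsgLib.Solv
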