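import Cfsg.Agent.Solv.SSGTheorems
import Cfsg.Agent.Solv.Eigen
import Cfsg.Agent.Solv.MinNonNilp

/-!
Huppert's supersolvability criterion and its applications.
-/

set_option autoImplicit false
set_option linter.style.haveILetI false
set_option linter.deprecated false
set_option linter.unusedSectionVars false
set_option maxHeartbeats 800000

open scoped Pointwise commutatorElement

namespace CfsgLib.Solv

universe u

/-- All maximal subgroups have prime index. -/
def MaxPrime (G : Type u) [Group G] : Prop := ∀ M : Subgroup G, IsCoatom M → M.index.Prime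

theorem isCoatom_comap_mk' {G : Type u} [Group G] (A : Subgroup G) [A.Normal]
    {M : Subgroup (G ⧸ A)} (hM : IsCoatom M) : IsCoatom (M.comap (QuotientGroup.mk' A)) := by
  have hs := QuotientGroup.mk'_surjective A
  refine ⟨fun e => hM.1 (by
    rw [← Subgroup.map_comap_eq_self_of_surjective hs M, e, Subgroup.map_top_of_surjective _ hs]),
    fun X hX => ?_⟩
  have hker : (QuotientGroup.mk' A).ker ≤ X := (Subgroup.ker_le_comap _ _).trans hX.le
  have h1 : M < X.map (QuotientGroup.mk' A) := by
    rw [← Subgroup.comap_lt_comap_of_surjective hs, Subgroup.comap_map_eq_self hker]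
    exact hX
  rw [← Subgroup.comap_map_eq_self hker, hM.2 _ h1, Subgroup.comap_top]

theorem maxPrime_quotient {G : Type u} [Group G] [Finite G] (A : Subgroup G) [A.Normal]
    (h : MaxPrime G) : MaxPrime (G ⧸ A) := fun M hM => by
  rw [← Subgroup.index_comap_of_surjective M (QuotientGroup.mk'_surjective A)]
  exact h _ (isCoatom_comap_mk' A hM)

theorem maxPrime_sylow_normal {G : Type u} [Group G] [Finite G] (h : MaxPrime G) {p : ℕ}
    [hp : Fact p.Prime] (hmax : ∀ q : ℕ, q.Prime → q ∣ Nat.card G → q ≤ p) (P : Sylow p G) :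
    (P : Subgroup G).Normal := by
  by_contra hn
  set N := Subgroup.normalizer ((P : Subgroup G) : Set G) with hNd
  obtain ⟨M, hM, hNM⟩ := (eq_top_or_exists_le_coatom N).resolve_left
    (fun e => hn (Subgroup.normalizer_eq_top_iff.1 e))
  have hPM : (P : Subgroup G) ≤ M := Subgroup.le_normalizer.trans hNM
  have hq := h M hM
  have hqp : M.index ≠ p := fun e => by
    have h1 := Subgroup.index_dvd_of_le hPM
    rw [e] at h1
    exact P.not_dvd_index h1
  have hqlt : M.index < p := lt_of_le_of_ne (hmax _ hq (Subgroup.index_dvd_card M)) hqp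
  have h1 : N.index ≡ 1 [MOD p] := by
    have h := card_sylow_modEq_one p G
    rw [P.card_eq_index_normalizer] at h
    exact h
  have h2 : N.relIndex M ≡ 1 [MOD p] := by
    have h := card_sylow_modEq_one p M
    rw [(P.subtype hPM).card_eq_index_normalizer] at h
    rw [Subgroup.relIndex, hNd, Subgroup.subgroupOf_normalizer_eq hPM]
    exact h
  rw [← Subgroup.relIndex_mul_index hNM] at h1
  have h3 : M.index ≡ 1 [MOD p] := by
    have := (h2.mul_right M.index).symm.trans h1
    rwa [one_mul] at this
  rw [Nat.ModEq, Nat.mod_eq_of_lt hqlt, Nat.mod_eq_of_lt hp.out.one_lt] at h3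
  exact hq.ne_one h3

theorem maxPrime_solvable_aux : ∀ (n : ℕ) (G : Type u) [Group G] [Finite G], Nat.card G = n →
    MaxPrime G → Group.IsSolvable G := by
  intro n
  induction n using Nat.strong_induction_on with
  | _ n IH =>
    intro G _ _ hn h
    rcases subsingleton_or_nontrivial G with hs | hs
    · exact inferInstance
    obtain ⟨p, hp, hpd, hmax⟩ := exists_largest_prime (Finite.one_lt_card (α := G))
    haveI : Fact p.Prime := ⟨hp⟩
    let P : Sylow p G := default
    haveI := maxPrime_sylow_normal h hmax P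
    haveI : Group.IsNilpotent (P : Subgroup G) := P.2.isNilpotent
    haveI : Group.IsSolvable (G ⧸ (P : Subgroup G)) := IH _
      (hn ▸ card_quotient_lt (P.ne_bot_of_dvd_card hpd)) _ rfl (maxPrime_quotient _ h)
    exact Group.isSolvable_of_ker_le_range (P : Subgroup G).subtype (QuotientGroup.mk' (P : Subgroup G))
      (by rw [QuotientGroup.ker_mk', Subgroup.range_subtype])

/-- The subgroup generated by commutators and `(p-1)`-st powers. -/
def powCommSub (p : ℕ) (G : Type u) [Group G] : Subgroup G :=
  commutator G ⊔ Subgroup.closure (Set.range fun g : G => g ^ (p - 1))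

theorem map_powCommSub_le (p : ℕ) {G G' : Type u} [Group G] [Group G'] (f : G →* G') :
    (powCommSub p G).map f ≤ powCommSub p G' := by
  rw [powCommSub, powCommSub, Subgroup.map_sup, MonoidHom.map_closure]
  refine sup_le_sup ?_ (Subgroup.closure_mono ?_)
  · rw [commutator_def, commutator_def, Subgroup.map_commutator]
    exact Subgroup.commutator_mono le_top le_top
  · rintro _ ⟨_, ⟨g, rfl⟩, rfl⟩
    exact ⟨f g, (map_pow f g _).symm⟩

theorem powCommSub_le_centralizer {G : Type u} [Group G] {p : ℕ} [Fact p.Prime]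
    (A : Subgroup G) [A.Normal] (hA : Nat.card A = p) :
    powCommSub p G ≤ Subgroup.centralizer (A : Set G) := by
  haveI : IsCyclic A := isCyclic_of_prime_card hA
  refine sup_le (commutator_le_centralizer_cyclic A) ((Subgroup.closure_le _).2 ?_)
  rintro _ ⟨g, rfl⟩
  exact pow_sub_one_mem_centralizer A hA g

theorem powCommSub_centralizes_aux {p : ℕ} [hp : Fact p.Prime] : ∀ (n : ℕ) (G : Type u) [Group G]
    [Finite G], Nat.card G = n → SSG G → ∀ (P : Subgroup G), P.Normal → IsPGroup p P →
      ∀ u ∈ powCommSub p G, (orderOf u).Coprime p → ∀ x ∈ P, u * x = x * u := by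
  intro n
  induction n using Nat.strong_induction_on with
  | _ n IH =>
    intro G _ _ hn h P hP hPp u hu hco x hx
    haveI := hP
    by_cases hxb : x = 1
    · simp [hxb]
    haveI : Nontrivial G := ⟨⟨x, 1, hxb⟩⟩
    obtain ⟨A, hA, hAp⟩ := exists_normal_prime h
    haveI := hA
    set f := QuotientGroup.mk' A
    have hq := IH _ (hn ▸ card_quotient_lt (ne_bot_of_card_prime hAp)) _ rfl (ssg_quotient A h)
      (P.map f) (hP.map f (QuotientGroup.mk'_surjective A)) (hPp.map f) (f u)
      (map_powCommSub_le p f (Subgroup.mem_map_of_mem f hu))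
      (hco.coprime_dvd_left (orderOf_map_dvd f u)) (f x) (Subgroup.mem_map_of_mem f hx)
    have ha : u * x * u⁻¹ * x⁻¹ ∈ P ⊓ A := by
      refine Subgroup.mem_inf.2 ⟨mul_mem (hP.conj_mem x hx u) (inv_mem hx), ?_⟩
      rw [← QuotientGroup.eq_one_iff]
      show f _ = 1
      rw [map_mul, map_mul, map_mul, map_inv, map_inv, hq]
      group
    set a := u * x * u⁻¹ * x⁻¹ with had
    have ha' : u * x * u⁻¹ = a * x := by rw [had]; group
    by_cases ha1 : a = 1
    · rw [ha1, one_mul] at ha'
      exact mul_inv_eq_iff_eq_mul.1 ha'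
    obtain ⟨haP, haA⟩ := Subgroup.mem_inf.1 ha
    have hAc : Nat.card A = p := by
      obtain ⟨k, hk⟩ := hPp ⟨a, haP⟩
      have h1 : a ^ p ^ k = 1 := by simpa using congrArg Subtype.val hk
      have h2 : orderOf a = Nat.card A := by
        refine (hAp.eq_one_or_self_of_dvd _ ?_).resolve_left (orderOf_eq_one_iff.not.2 ha1)
        exact Subgroup.orderOf_dvd_natCard A haA
      have h3 := orderOf_dvd_of_pow_eq_one h1
      rw [h2] at h3
      exact (Nat.prime_dvd_prime_iff_eq hAp hp.out).1 (hAp.dvd_of_dvd_pow h3)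
    have hua : u * a * u⁻¹ = a := by
      rw [← Subgroup.mem_centralizer_iff.1 (powCommSub_le_centralizer A hAc hu) a haA,
        mul_inv_cancel_right]
    have hpow : ∀ n : ℕ, u ^ n * x * (u ^ n)⁻¹ = a ^ n * x := by
      intro n
      induction n with
      | zero => simp
      | succ n ih =>
        rw [pow_succ', show u * u ^ n * x * (u * u ^ n)⁻¹ = u * (u ^ n * x * (u ^ n)⁻¹) * u⁻¹ by group,
          ih, show u * (a ^ n * x) * u⁻¹ = (u * a ^ n * u⁻¹) * (u * x * u⁻¹) by group, ha',
          ← conj_pow, hua, pow_succ]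
        simp only [mul_assoc]
    have h1 := hpow (orderOf u)
    rw [pow_orderOf_eq_one, inv_one, one_mul, mul_one] at h1
    have h2 : a ^ orderOf u = 1 := mul_eq_right.1 h1.symm
    have h3 : a = 1 := orderOf_eq_one_iff.1 (Nat.eq_one_of_dvd_coprimes hco
      (orderOf_dvd_of_pow_eq_one h2) (hAc ▸ Subgroup.orderOf_dvd_natCard A haA))
    exact absurd h3 ha1

theorem index_eq_card_of_minimal {G : Type u} [Group G] [Finite G] {M N : Subgroup G} [N.Normal]
    [IsMulCommutative N] (hN : IsMinimalNormal N) (hM : IsCoatom M) (hle : ¬ N ≤ M) :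
    M.index = Nat.card N :=
  (isComplement'_of_isCoatom hN.2.2 hM hle).index_eq_card

theorem maxPrime_ssg_aux : ∀ (n : ℕ) (G : Type u) [Group G] [Finite G], Nat.card G = n →
    MaxPrime G → SSG G := by
  intro n
  induction n using Nat.strong_induction_on with
  | _ n IH =>
    intro G _ _ hn h
    rcases subsingleton_or_nontrivial G with hs | hs
    · exact ssg_of_subsingleton
    haveI := maxPrime_solvable_aux _ G rfl h
    -- it suffices to find a normal subgroup of prime order
    suffices hA : ∃ A : Subgroup G, A.Normal ∧ (Nat.card A).Prime by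
      obtain ⟨A, hA, hAp⟩ := hA
      haveI := hA
      haveI : Fact (Nat.card A).Prime := ⟨hAp⟩
      haveI : IsCyclic A := isCyclic_of_prime_card rfl
      exact ssg_of_cyclic_normal A
        (IH _ (hn ▸ card_quotient_lt (ne_bot_of_card_prime hAp)) _ rfl (maxPrime_quotient A h))
    obtain ⟨p, hp, hpd, hmax⟩ := exists_largest_prime (Finite.one_lt_card (α := G))
    haveI : Fact p.Prime := ⟨hp⟩
    let P : Sylow p G := default
    haveI hPn := maxPrime_sylow_normal h hmax P
    have hPb : (P : Subgroup G) ≠ ⊥ := P.ne_bot_of_dvd_card hpd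
    obtain ⟨H, hH⟩ := Subgroup.exists_right_complement'_of_coprime (N := (P : Subgroup G)) P.card_coprime_index
    have hcopH : (Nat.card H).Coprime (Nat.card (P : Subgroup G)) := by
      rw [← hH.symm.index_eq_card]; exact P.card_coprime_index.symm
    set Φ := (frattini (P : Subgroup G)).map (P : Subgroup G).subtype with hΦ
    haveI hΦn : Φ.Normal := normal_map_subtype_of_characteristic _
    have hΦP : Φ ≤ (P : Subgroup G) := Subgroup.map_subtype_le _
    have hPnil : Group.IsNilpotent (P : Subgroup G) := P.2.isNilpotent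
    by_cases hΦb : Φ = ⊥
    · -- `P` is elementary abelian
      have hfb : frattini (P : Subgroup G) = ⊥ :=
        (Subgroup.map_eq_bot_iff_of_injective _ (Subgroup.subtype_injective _)).1 hΦb
      haveI hPab : IsMulCommutative (P : Subgroup G) := ⟨⟨fun a b => by
        have h1 := (commutator_le_frattini P.2) (Subgroup.commutator_mem_commutator
          (Subgroup.mem_top a) (Subgroup.mem_top b))
        rw [hfb, Subgroup.mem_bot, commutatorElement_eq_one_iff_mul_comm] at h1
        exact h1⟩⟩
      obtain ⟨N, hN, hNP⟩ := exists_isMinimalNormal_le (P : Subgroup G) hPb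
      haveI := hN.1
      haveI : IsMulCommutative N := isMulCommutative_of_minimal_solvable hN inferInstance
      -- a complement of `N` in `P`
      obtain ⟨W0, hW0P, hW0, hW0'⟩ : ∃ W : Subgroup G, W ≤ (P : Subgroup G) ∧ N ⊓ W = ⊥ ∧ N ⊔ W = (P : Subgroup G) := by
        haveI : (N.subgroupOf (P : Subgroup G)).Normal := Subgroup.normal_subgroupOf
        haveI : IsMulCommutative (N.subgroupOf (P : Subgroup G)) := ⟨⟨fun a b => Subtype.ext (hPab.is_comm.comm _ _)⟩⟩
        obtain ⟨W, hW⟩ := exists_complement_of_abelian_inf_frattini (A := N.subgroupOf (P : Subgroup G))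
          (by rw [hfb, inf_bot_eq])
        refine ⟨W.map (P : Subgroup G).subtype, Subgroup.map_subtype_le _, ?_, ?_⟩
        · rw [eq_bot_iff]
          intro x hx
          obtain ⟨hxN, y, hy, rfl⟩ := Subgroup.mem_inf.1 hx
          have := hW.disjoint.le_bot (Subgroup.mem_inf.2 ⟨(hxN : y ∈ N.subgroupOf (P : Subgroup G)), hy⟩)
          rw [Subgroup.mem_bot] at this
          simp [this]
        · conv_rhs => rw [← Subgroup.range_subtype (P : Subgroup G), MonoidHom.range_eq_map, ← hW.sup_eq_top]
          rw [Subgroup.map_sup, Subgroup.map_subgroupOf_eq_of_le hNP]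
      have hAV : H ≤ Subgroup.normalizer ((P : Subgroup G) : Set G) := by
        rw [Subgroup.normalizer_eq_top]; exact le_top
      have hAU : H ≤ Subgroup.normalizer (N : Set G) := by
        rw [Subgroup.normalizer_eq_top]; exact le_top
      obtain ⟨W, hWP, hWn, hWd, hWs⟩ := exists_invariant_complement (P : Subgroup G) H N hPab hAV hcopH
        hNP hAU W0 hW0P hW0 hW0'
      -- `W ⊔ H` is a proper subgroup supplementing `N`
      have hMne : W ⊔ H ≠ ⊤ := fun e => hN.2.1 (le_bot_iff.1 (by
        rw [← hWd]
        refine le_inf le_rfl fun x hx => ?_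
        obtain ⟨w, hw, k, hk, rfl⟩ := exists_mul_of_mem_sup hWn (by rw [sup_comm, e]; exact Subgroup.mem_top x)
        have hkP : k ∈ (P : Subgroup G) := by
          have := mul_mem (inv_mem (hWP hw)) (hNP hx)
          rwa [inv_mul_cancel_left] at this
        have := hH.disjoint.le_bot (Subgroup.mem_inf.2 ⟨hkP, hk⟩)
        rw [Subgroup.mem_bot] at this
        rwa [this, mul_one]))
      obtain ⟨M, hM, hle⟩ := (eq_top_or_exists_le_coatom _).resolve_left hMne
      have hNM : ¬ N ≤ M := fun hNM => hM.1 (top_unique (by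
        rw [← hH.sup_eq_top, ← hWs]
        exact sup_le (sup_le hNM (le_sup_left.trans hle)) (le_sup_right.trans hle)))
      exact ⟨N, hN.1, index_eq_card_of_minimal hN hM hNM ▸ h M hM⟩
    · -- a minimal normal subgroup inside `Φ(P)`
      obtain ⟨N, hN, hNΦ⟩ := exists_isMinimalNormal_le Φ hΦb
      haveI := hN.1
      haveI hNab : IsMulCommutative N := isMulCommutative_of_minimal_solvable hN inferInstance
      have hNP : N ≤ (P : Subgroup G) := hNΦ.trans hΦP
      have hq : SSG (G ⧸ N) := IH _ (hn ▸ card_quotient_lt hN.2.1) _ rfl (maxPrime_quotient N h)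
      set f := QuotientGroup.mk' N
      have htriv : ∀ u ∈ powCommSub p G, (orderOf u).Coprime p →
          u ∈ Subgroup.centralizer ((P : Subgroup G) : Set G) := by
        intro u hu hco
        refine le_centralizer_of_trivial_on_frattini_quotient (A := Subgroup.zpowers u) ?_ ?_
          (Subgroup.mem_zpowers u)
        · rw [Nat.card_zpowers]
          obtain ⟨k, hk⟩ := IsPGroup.iff_card.1 (P.2.to_subgroup (frattini (P : Subgroup G)))
          rw [hk]; exact hco.pow_right k
        · intro a ha k hk
          obtain ⟨i, rfl⟩ := Subgroup.mem_zpowers_iff.1 ha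
          have h1 := powCommSub_centralizes_aux _ (G ⧸ N) rfl hq _ (hPn.map f (QuotientGroup.mk'_surjective N))
            (P.2.map f) (f u) (map_powCommSub_le p f (Subgroup.mem_map_of_mem f hu))
            (hco.coprime_dvd_left (orderOf_map_dvd f u)) (f k) (Subgroup.mem_map_of_mem f hk)
          refine hNΦ ((QuotientGroup.eq_one_iff _).1 ?_)
          show f ⁅u ^ i, k⁆ = 1
          rw [map_commutatorElement, map_zpow, commutatorElement_eq_one_iff_mul_comm]
          exact Commute.zpow_left h1 i
      have hPN : (P : Subgroup G) ≤ Subgroup.centralizer (N : Set G) :=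
        le_centralizer_minimalNormal hPnil hN
      have hcopu : ∀ u ∈ H, (orderOf u).Coprime p := fun u hu => by
        obtain ⟨k, hk⟩ := IsPGroup.iff_card.1 P.2
        have hk0 : k ≠ 0 := fun e => hPb (Subgroup.eq_bot_of_card_eq _ (by rw [hk, e, pow_zero]))
        rw [hk, Nat.coprime_pow_right_iff (Nat.pos_of_ne_zero hk0)] at hcopH
        exact hcopH.coprime_dvd_left (Subgroup.orderOf_dvd_natCard H hu)
      have hexp : ∀ x : N, x ^ p = 1 := by
        obtain ⟨q, hq', hexp, hqg⟩ := exists_prime_exponent_of_minimal_solvable hN inferInstance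
        have e : q = p := by
          by_contra hne
          haveI : Fact q.Prime := ⟨hq'⟩
          have := IsPGroup.disjoint_of_ne q p hne _ _ hqg P.2
          exact hN.2.1 (le_bot_iff.1 fun x hx => this.le_bot (Subgroup.mem_inf.2 ⟨hx, hNP hx⟩))
        exact fun x => Subtype.ext (by rw [SubmonoidClass.coe_pow, OneMemClass.coe_one, ← e]; exact hexp x x.2)
      letI : CommGroup N := { (inferInstance : Group N) with mul_comm := hNab.is_comm.comm }
      haveI : Nontrivial N := (Subgroup.nontrivial_iff_ne_bot N).2 hN.2.1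
      -- every element of `H` acts on `N` as a power map
      have hscalar : ∀ u ∈ H, ∃ c : ℕ, ∀ x ∈ N, u * x * u⁻¹ = x ^ c := by
        intro u hu
        let φ : N →* N := (MulAut.conjNormal u).toMonoidHom
        have hφ : ∀ x : N, ((φ x : N) : G) = u * x * u⁻¹ := fun x => MulAut.conjNormal_apply u x
        have hiter : ∀ (k : ℕ) (x : N), ((φ^[k] x : N) : G) = u ^ k * x * (u ^ k)⁻¹ := by
          intro k x
          induction k with
          | zero => simp
          | succ k ih => rw [Function.iterate_succ_apply', hφ, ih, pow_succ']; group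
        have hup : u ^ (p - 1) ∈ Subgroup.centralizer (N : Set G) :=
          Subgroup.centralizer_le hNP (htriv _ (Subgroup.mem_sup_right (Subgroup.subset_closure ⟨u, rfl⟩))
            (hcopu _ (pow_mem hu _)))
        obtain ⟨x0, hx0, c, hc⟩ := exists_eigen hexp φ fun x => Subtype.ext (by
          rw [hiter, ← Subgroup.mem_centralizer_iff.1 hup x x.2, mul_inv_cancel_right])
        refine ⟨c, ?_⟩
        let E : Subgroup G :=
          { carrier := {x | x ∈ N ∧ u * x * u⁻¹ = x ^ c}
            one_mem' := ⟨one_mem N, by simp⟩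
            mul_mem' := fun {a b} ha hb => ⟨mul_mem ha.1 hb.1, by
              have hc' : Commute a b := Subtype.ext_iff.1 (hNab.is_comm.comm ⟨a, ha.1⟩ ⟨b, hb.1⟩)
              rw [hc'.mul_pow, ← ha.2, ← hb.2]; group⟩
            inv_mem' := fun {a} ha => ⟨inv_mem ha.1, by rw [inv_pow, ← ha.2]; group⟩ }
        have hEn : E.Normal := by
          refine ⟨fun x hx g => ?_⟩
          obtain ⟨⟨⟨y, hy⟩, ⟨k, hk⟩⟩, e, -⟩ := hH.existsUnique g
          have hgx : g * x * g⁻¹ = k * x * k⁻¹ := by
            rw [← e]
            have h1 := Subgroup.mem_centralizer_iff.1 (hPN hy) (k * x * k⁻¹) (hN.1.conj_mem x hx.1 k)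
            calc y * k * x * (y * k)⁻¹ = y * (k * x * k⁻¹) * y⁻¹ := by group
              _ = k * x * k⁻¹ := by rw [← h1, mul_inv_cancel_right]
          rw [hgx]
          refine ⟨hN.1.conj_mem x hx.1 k, ?_⟩
          have hcomm : ⁅u, k⁆ ∈ Subgroup.centralizer (N : Set G) :=
            Subgroup.centralizer_le hNP (htriv _ (Subgroup.mem_sup_left (by
              rw [commutator_def]; exact Subgroup.commutator_mem_commutator (Subgroup.mem_top u) (Subgroup.mem_top k)))
              (hcopu _ (mul_mem (mul_mem (mul_mem hu hk) (inv_mem hu)) (inv_mem hk))))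
          have h2 := Subgroup.mem_centralizer_iff.1 hcomm (k * (u * x * u⁻¹) * k⁻¹)
            (hN.1.conj_mem _ (hN.1.conj_mem x hx.1 u) k)
          calc u * (k * x * k⁻¹) * u⁻¹ = ⁅u, k⁆ * (k * (u * x * u⁻¹) * k⁻¹) * ⁅u, k⁆⁻¹ := by
                rw [commutatorElement_def]; group
            _ = k * (u * x * u⁻¹) * k⁻¹ := by rw [← h2, mul_inv_cancel_right]
            _ = (k * x * k⁻¹) ^ c := by rw [hx.2, conj_pow]
        have hE : E = N := (hN.2.2 E hEn fun x hx => hx.1).resolve_left fun e => hx0 (by
          have : (x0 : G) ∈ E := ⟨x0.2, by rw [← hφ, hc, SubmonoidClass.coe_pow]⟩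
          rw [e, Subgroup.mem_bot] at this
          exact Subtype.ext this)
        exact fun x hx => (hE.ge hx : x ∈ E).2
      obtain ⟨x1, hx1⟩ := exists_ne (1 : N)
      haveI hz : (Subgroup.zpowers (x1 : G)).Normal := by
        refine ⟨fun w hw g => ?_⟩
        obtain ⟨i, rfl⟩ := Subgroup.mem_zpowers_iff.1 hw
        obtain ⟨⟨⟨y, hy⟩, ⟨k, hk⟩⟩, e, -⟩ := hH.existsUnique g
        obtain ⟨c, hc⟩ := hscalar k hk
        refine ⟨(c : ℤ) * i, ?_⟩
        show (x1 : G) ^ ((c : ℤ) * i) = g * (x1 : G) ^ i * g⁻¹
        have h1 : y * (x1 : G) ^ c * y⁻¹ = (x1 : G) ^ c := by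
          rw [← Subgroup.mem_centralizer_iff.1 (hPN hy) _ (pow_mem x1.2 c), mul_inv_cancel_right]
        rw [← e, show y * k * (x1 : G) ^ i * (y * k)⁻¹ = y * (k * (x1 : G) ^ i * k⁻¹) * y⁻¹ by group,
          ← conj_zpow, hc _ x1.2, ← conj_zpow, h1, zpow_mul, zpow_natCast]
      have hzN : Subgroup.zpowers (x1 : G) = N :=
        (hN.2.2 _ hz (Subgroup.zpowers_le.2 x1.2)).resolve_left fun e => hx1 (Subtype.ext
          (Subgroup.mem_bot.1 (e ▸ Subgroup.mem_zpowers (x1 : G))))
      refine ⟨N, hN.1, ?_⟩
      have h1 : orderOf (x1 : G) = p := orderOf_eq_prime (by simpa using congrArg Subtype.val (hexp x1))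
        fun e => hx1 (Subtype.ext e)
      rw [← hzN, Nat.card_zpowers, h1]
      exact hp

theorem maxPrime_ssg {G : Type u} [Group G] [Finite G] (h : MaxPrime G) : SSG G :=
  maxPrime_ssg_aux _ G rfl h

end CfsgLib.Solv
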