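import Cfsg.Agent.Solv.ActionPStable
import Cfsg.Agent.Inv.BaerSuzuki

/-!
Faithful quadratic pairs: sections `SL₂(p)`, non-abelian Sylow 2-subgroups, `p = 3` for
`p`-solvable groups.
-/

set_option autoImplicit false
set_option linter.style.haveILetI false
set_option linter.deprecated false

open scoped commutatorElement
open CfsgLib.Glau (IsSec)
open Matrix (SpecialLinearGroup)

namespace CfsgLib.Solv

variable {G : Type*} [Group G] {p : ℕ}

theorem quad_elem {V : Subgroup G} {x : G}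
    (hq : ⁅⁅V, Subgroup.zpowers x⁆, Subgroup.zpowers x⁆ = ⊥) : ∀ v ∈ V, ⁅x, ⁅x, v⁆⁆ = 1 := by
  intro v hv
  have h1 : ⁅⁅v, x⁆, x⁆ = 1 := by
    rw [← Subgroup.mem_bot, ← hq]
    exact Subgroup.commutator_mem_commutator
      (Subgroup.commutator_mem_commutator hv (Subgroup.mem_zpowers x)) (Subgroup.mem_zpowers x)
  have h2 := commutatorElement_eq_one_iff_commute.1 h1
  rw [← commutatorElement_inv v x]
  exact commutatorElement_eq_one_iff_commute.2 h2.symm.inv_right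

theorem pow_eq_one_of_quad {V H : Subgroup G} (hV : Cfsg.IsElementaryAbelian p V)
    (hHV : H ≤ Subgroup.normalizer (V : Set G)) (hf : H ⊓ Subgroup.centralizer (V : Set G) = ⊥)
    {a : G} (haH : a ∈ H) (hq : ∀ v ∈ V, ⁅a, ⁅a, v⁆⁆ = 1) [hp : Fact p.Prime] : a ^ p = 1 := by
  rw [← Subgroup.mem_bot, ← hf]
  refine Subgroup.mem_inf.2 ⟨pow_mem haH p, Subgroup.mem_centralizer_iff.2 fun v hv => ?_⟩
  have hc : a * ⁅a, v⁆ * a⁻¹ = ⁅a, v⁆ := by
    rw [(commutatorElement_eq_one_iff_commute.1 (hq v hv)).eq, mul_inv_cancel_right]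
  have hcV : ⁅a, v⁆ ∈ V := by
    rw [commutatorElement_def]
    exact mul_mem ((Subgroup.mem_normalizer_iff.1 (hHV haH) v).1 hv) (inv_mem hv)
  have h := CfsgLib.Dickson.conj_pow_of_fixed
    (show a * v * a⁻¹ = ⁅a, v⁆ * v by rw [commutatorElement_def]; group) hc p
  rw [hV.2 _ hcV, one_mul, mul_inv_eq_iff_eq_mul] at h
  exact h.symm

variable [Finite G] [hp : Fact p.Prime]

theorem sl2_section_of_pair (hp2 : p ≠ 2) {V H : Subgroup G} (hV : Cfsg.IsElementaryAbelian p V)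
    (hHV : H ≤ Subgroup.normalizer (V : Set G)) (hf : H ⊓ Subgroup.centralizer (V : Set G) = ⊥)
    {a b : G} (haH : a ∈ H) (hbH : b ∈ H) (ha : ∀ v ∈ V, ⁅a, ⁅a, v⁆⁆ = 1)
    (hb : ∀ v ∈ V, ⁅b, ⁅b, v⁆⁆ = 1) (hnp : ¬ IsPGroup p ↥(Subgroup.closure ({a, b} : Set G))) :
    ∃ (K' L : Subgroup G) (_ : (L.subgroupOf K').Normal), K' ≤ H ∧
      Nonempty ((K' ⧸ L.subgroupOf K') ≃* SpecialLinearGroup (Fin 2) (ZMod p)) := by
  obtain ⟨hexp, hcomm⟩ := show (∀ v ∈ V, v ^ p = 1) ∧ ∀ x ∈ V, ∀ y ∈ V, x * y = y * x from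
    ⟨hV.2, fun x hx y hy => congrArg Subtype.val (hV.1.is_comm.comm ⟨x, hx⟩ ⟨y, hy⟩)⟩
  have hVp : IsPGroup p V := fun v => ⟨1, Subtype.ext (by simpa using hexp v v.2)⟩
  have hd : H ⊓ V = ⊥ := le_bot_iff.1 (le_trans (inf_le_inf_left H (fun v hv =>
    Subgroup.mem_centralizer_iff.2 fun w hw => hcomm w hw v hv)) hf.le)
  set N := V ⊔ H with hN
  have hVN : V ≤ N := le_sup_left
  have hHN : H ≤ N := le_sup_right
  have hnorm : ∀ (g : G) (hg : g ∈ H), (⟨g, hHN hg⟩ : ↥N) ∈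
      Subgroup.normalizer (V.subgroupOf N : Set ↥N) := fun g hg =>
    Subgroup.mem_normalizer_iff.2 fun w => Subgroup.mem_normalizer_iff.1 (hHV hg) (w : G)
  obtain ⟨K, f, hfs⟩ := CfsgLib.Dickson.isSec_qd_of_pair (p := p) hp2 (V.subgroupOf N)
    ⟨a, hHN haH⟩ ⟨b, hHN hbH⟩ (hnorm _ haH) (hnorm _ hbH)
    (fun x hx y hy => Subtype.ext (hcomm _ hx _ hy)) (fun x hx => Subtype.ext (by simpa using hexp _ hx))
    (fun u hu => Subtype.ext (ha _ hu)) (fun u hu => Subtype.ext (hb _ hu)) (by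
      intro h
      refine hnp fun ⟨l, hl⟩ => ?_
      have hlH : l ∈ H := (Subgroup.closure_le H).2 (by rintro y (rfl | rfl); exacts [haH, hbH]) hl
      have hl' : (⟨l, hHN hlH⟩ : ↥N) ∈
          Subgroup.closure ({⟨a, hHN haH⟩, ⟨b, hHN hbH⟩} : Set ↥N) := by
        have h1 : Subgroup.closure ({⟨a, hHN haH⟩, ⟨b, hHN hbH⟩} : Set ↥N) =
            (Subgroup.closure ({a, b} : Set G)).comap N.subtype := by
          refine Subgroup.map_injective N.subtype_injective ?_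
          rw [MonoidHom.map_closure, Set.image_pair, Subgroup.map_comap_eq_self (by
            rw [Subgroup.range_subtype]
            refine (Subgroup.closure_le N).2 ?_
            rintro y (rfl | rfl); exacts [hHN haH, hHN hbH])]
          rfl
        rw [h1]; exact hl
      obtain ⟨n, hn⟩ := h _ hl'
      refine ⟨n, Subtype.ext ?_⟩
      rw [SubmonoidClass.coe_pow, OneMemClass.coe_one, ← Subgroup.mem_bot, ← hf]
      refine Subgroup.mem_inf.2 ⟨pow_mem hlH _, Subgroup.mem_centralizer_iff.2 fun v hv => ?_⟩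
      exact (commutatorElement_eq_one_iff_mul_comm.1 (congrArg Subtype.val (hn ⟨v, hVN hv⟩ hv))).symm)
  exact sl2_section_of_qd hVp hHV hd (Subgroup.map_subtype_le K)
    (f.comp (K.equivMapOfInjective N.subtype N.subtype_injective).symm.toMonoidHom)
    (hfs.comp (MulEquiv.surjective _))

theorem sl2_section_of_not_pCore (hp2 : p ≠ 2) {V H : Subgroup G}
    (hV : Cfsg.IsElementaryAbelian p V) (hHV : H ≤ Subgroup.normalizer (V : Set G))
    (hf : H ⊓ Subgroup.centralizer (V : Set G) = ⊥) {a : G} (haH : a ∈ H)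
    (hq : ∀ v ∈ V, ⁅a, ⁅a, v⁆⁆ = 1) (hna : a ∉ (Cfsg.pCore p H).map H.subtype) :
    ∃ (K' L : Subgroup G) (_ : (L.subgroupOf K').Normal), K' ≤ H ∧
      Nonempty ((K' ⧸ L.subgroupOf K') ≃* SpecialLinearGroup (Fin 2) (ZMod p)) := by
  by_contra hcon
  set x : ↥H := ⟨a, haH⟩
  set Ω : Set (Subgroup ↥H) :=
    Set.range fun h : ↥H => Subgroup.zpowers (h * x * h⁻¹) with hΩ
  have hconj : ∀ Y ∈ Ω, ∀ h, Y.map (MulAut.conj h).toMonoidHom ∈ Ω := by
    rintro _ ⟨k, rfl⟩ h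
    refine ⟨h * k, ?_⟩
    show Subgroup.zpowers _ = Subgroup.map _ _
    rw [MonoidHom.map_zpowers]
    congr 1
    simp [mul_assoc]
  have hquad : ∀ h : ↥H, ∀ v ∈ V,
      ⁅((h * x * h⁻¹ : ↥H) : G), ⁅((h * x * h⁻¹ : ↥H) : G), v⁆⁆ = 1 := by
    intro h v hv
    have hv' : (h : G)⁻¹ * v * (h : G) ∈ V := by
      simpa using (Subgroup.mem_normalizer_iff.1 (hHV (inv_mem h.2)) v).1 hv
    show ⁅(h : G) * a * (h : G)⁻¹, ⁅(h : G) * a * (h : G)⁻¹, v⁆⁆ = 1
    rw [show v = (h : G) * ((h : G)⁻¹ * v * (h : G)) * (h : G)⁻¹ by group,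
      ← conjugate_commutatorElement, ← conjugate_commutatorElement, hq _ hv', mul_one,
      mul_inv_cancel]
  have hpair : ∀ Y ∈ Ω, ∀ Z ∈ Ω, IsPGroup p ↥(Y ⊔ Z) := by
    rintro _ ⟨h₁, rfl⟩ _ ⟨h₂, rfl⟩
    by_contra hnp
    refine hcon (sl2_section_of_pair hp2 hV hHV hf (h₁ * x * h₁⁻¹).2 (h₂ * x * h₂⁻¹).2
      (hquad h₁) (hquad h₂) fun hP => hnp ?_)
    refine (hP.comap_of_injective H.subtype H.subtype_injective).to_le ?_
    refine sup_le (Subgroup.zpowers_le.2 ?_) (Subgroup.zpowers_le.2 ?_)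
    · exact Subgroup.subset_closure (Or.inl rfl)
    · exact Subgroup.subset_closure (Or.inr rfl)
  have hS := CfsgLib.Inv.baer_suzuki Ω hconj hpair
  haveI : (sSup Ω).Normal := by
    refine ⟨fun z hz h => ?_⟩
    have : (sSup Ω).map (MulAut.conj h).toMonoidHom ≤ sSup Ω := by
      rw [sSup_eq_iSup', Subgroup.map_iSup]
      exact iSup_le fun Y => le_iSup_of_le (⟨_, hconj Y.1 Y.2 h⟩ : Ω) le_rfl
    exact this ⟨z, hz, rfl⟩
  refine hna ⟨x, le_pCore hS (?_ : x ∈ sSup Ω), rfl⟩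
  exact le_sSup (show Subgroup.zpowers x ∈ Ω from ⟨1, by simp⟩) (Subgroup.mem_zpowers x)

omit [Finite G] hp in
theorem isSec_of_section {K' L H : Subgroup G} [(L.subgroupOf K').Normal] (h : K' ≤ H)
    {S : Type*} [Group S] (e : (K' ⧸ L.subgroupOf K') ≃* S) : IsSec ↥H S :=
  ⟨K'.subgroupOf H,
    e.toMonoidHom.comp ((QuotientGroup.mk' _).comp (Subgroup.subgroupOfEquivOfLe h).toMonoidHom),
    e.surjective.comp ((QuotientGroup.mk'_surjective _).comp (MulEquiv.surjective _))⟩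

theorem not_abelian_two_of_section (hp2 : p ≠ 2) {H : Subgroup G}
    (h : IsSec ↥H (SpecialLinearGroup (Fin 2) (ZMod p))) (T : Sylow 2 H) : ¬ IsMulCommutative T := by
  intro hT
  refine no_sl2_section_of_abelian_two hp2 (fun T' => ?_) h
  haveI : Fact (Nat.Prime 2) := ⟨Nat.prime_two⟩
  exact ⟨⟨fun x y => (Sylow.equiv T' T).injective (by
    rw [map_mul, map_mul]; exact hT.is_comm.comm _ _)⟩⟩

theorem eq_three_of_pSolvable (hp2 : p ≠ 2) {H : Type*} [Group H] [Finite H]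
    (hsep : Cfsg.IsPSolvable p H) (h : IsSec H (SpecialLinearGroup (Fin 2) (ZMod p))) : p = 3 := by
  by_contra h3
  refine no_sl2_section_of_pSolvable ?_ hsep h
  have h2 := hp.out.two_le
  have : p ≠ 4 := fun e => by have := hp.out; rw [e] at this; norm_num at this
  omega

theorem three_of_quad_pSolvable (hp2 : p ≠ 2) {V H : Subgroup G}
    (hV : Cfsg.IsElementaryAbelian p V) (hHV : H ≤ Subgroup.normalizer (V : Set G))
    (hf : H ⊓ Subgroup.centralizer (V : Set G) = ⊥) (hsep : Cfsg.IsPSolvable p H) {a : G}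
    (haH : a ∈ H) (hq : ∀ v ∈ V, ⁅a, ⁅a, v⁆⁆ = 1) (hna : a ∉ (Cfsg.pCore p H).map H.subtype) :
    p = 3 ∧ ∃ (K L : Subgroup G) (_ : (L.subgroupOf K).Normal), K ≤ H ∧
      Nonempty ((K ⧸ L.subgroupOf K) ≃* SpecialLinearGroup (Fin 2) (ZMod 3)) := by
  obtain ⟨K, L, hn, hK, ⟨e⟩⟩ := sl2_section_of_not_pCore hp2 hV hHV hf haH hq hna
  haveI := hn
  have h3 : p = 3 := eq_three_of_pSolvable hp2 hsep (isSec_of_section hK e)
  subst h3
  exact ⟨rfl, K, L, hn, hK, ⟨e⟩⟩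

theorem three_of_normal_pPrime (hp2 : p ≠ 2) {V H : Subgroup G}
    (hV : Cfsg.IsElementaryAbelian p V) (hHV : H ≤ Subgroup.normalizer (V : Set G))
    (hf : H ⊓ Subgroup.centralizer (V : Set G) = ⊥) {a : G} (haH : a ∈ H)
    (hq : ∀ v ∈ V, ⁅a, ⁅a, v⁆⁆ = 1) {Q : Subgroup G} (hQH : Q ≤ H)
    (hQn : H ≤ Subgroup.normalizer (Q : Set G)) (hQ : (Nat.card Q).Coprime p)
    (hQa : ⁅Q, Subgroup.zpowers a⁆ ≠ ⊥) :
    p = 3 ∧ ∃ (K L : Subgroup G) (_ : (L.subgroupOf K).Normal), K ≤ H ∧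
      Nonempty ((K ⧸ L.subgroupOf K) ≃* SpecialLinearGroup (Fin 2) (ZMod 3)) := by
  set M := Q ⊔ Subgroup.zpowers a with hM
  have hMH : M ≤ H := sup_le hQH (Subgroup.zpowers_le.2 haH)
  have haM : a ∈ M := Subgroup.mem_sup_right (Subgroup.mem_zpowers a)
  haveI hQn' : (Q.subgroupOf M).Normal :=
    Subgroup.normal_subgroupOf_of_le_normalizer (hMH.trans hQn)
  have hap := pow_eq_one_of_quad hV hHV hf haH hq
  have hsep : Cfsg.IsPSolvable p M := by
    refine ⟨2, ![⊥, Q.subgroupOf M, ⊤], rfl, rfl, ?_, ?_, ?_⟩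
    · refine Fin.monotone_iff_le_succ.2 fun i => ?_
      fin_cases i <;> simp
    · intro i; fin_cases i <;> simp <;> infer_instance
    · intro i
      fin_cases i
      · right
        show ((⊥ : Subgroup M).relIndex (Q.subgroupOf M)).Coprime p
        rw [Subgroup.relIndex_bot_left, card_subgroupOf le_sup_left]
        exact hQ
      · left
        show ∃ m, (Q.subgroupOf M).relIndex ⊤ = p ^ m
        rw [Subgroup.relIndex_top_right]
        have hP : IsPGroup p (↥M ⧸ Q.subgroupOf M) := by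
          intro y
          obtain ⟨⟨x, hx⟩, rfl⟩ := QuotientGroup.mk_surjective y
          have h1 : Subgroup.zpowers a ≤ Subgroup.normalizer (Q : Set G) :=
            (Subgroup.zpowers_le.2 haH).trans hQn
          obtain ⟨y, hy, z, hz, e⟩ : ∃ y ∈ Subgroup.zpowers a, ∃ z ∈ Q, y * z = x := by
            have h2 : x ∈ Subgroup.zpowers a ⊔ Q := by rw [sup_comm]; exact hx
            rw [← SetLike.mem_coe, Subgroup.coe_mul_of_left_le_normalizer_right _ _ h1] at h2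
            exact h2
          refine ⟨1, ?_⟩
          have h3 : ((⟨x, hx⟩ : M) : ↥M ⧸ Q.subgroupOf M) =
              ((⟨y, Subgroup.mem_sup_right hy⟩ : M) : ↥M ⧸ Q.subgroupOf M) := by
            rw [QuotientGroup.eq, Subgroup.mem_subgroupOf]
            show x⁻¹ * y ∈ Q
            rw [← e, mul_inv_rev, mul_assoc, inv_mul_cancel, mul_one]
            exact inv_mem hz
          rw [pow_one, h3, ← QuotientGroup.mk_pow, QuotientGroup.eq_one_iff, Subgroup.mem_subgroupOf]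
          obtain ⟨k, rfl⟩ := Subgroup.mem_zpowers_iff.1 hy
          show (a ^ k) ^ p ∈ Q
          rw [← zpow_natCast, ← zpow_mul, mul_comm, zpow_mul, zpow_natCast, hap, one_zpow]
          exact one_mem Q
        exact IsPGroup.iff_card.1 hP
  have hna : a ∉ (Cfsg.pCore p M).map M.subtype := by
    rintro ⟨z, hz, hza⟩
    refine hQa (Subgroup.commutator_eq_bot_iff_le_centralizer.2 ?_)
    haveI := pCore_normal M p
    have hdis : Q.subgroupOf M ⊓ Cfsg.pCore p M = ⊥ := by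
      refine Subgroup.inf_eq_bot_of_coprime ?_
      obtain ⟨j, hj⟩ := IsPGroup.iff_card.1 (pCore_isPGroup M p)
      rw [hj, card_subgroupOf le_sup_left]
      exact hQ.pow_right j
    intro q hq
    rw [Subgroup.mem_centralizer_iff]
    intro y hy
    obtain ⟨i, rfl⟩ := Subgroup.mem_zpowers_iff.1 hy
    have hqa : (⟨q, Subgroup.mem_sup_left hq⟩ : M) * z = z * ⟨q, Subgroup.mem_sup_left hq⟩ :=
      Subgroup.commute_of_normal_of_disjoint _ _ inferInstance inferInstance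
        (disjoint_iff.2 hdis) _ _ hq hz
    have hc : Commute q a := hza ▸ congrArg Subtype.val hqa
    exact ((hc.zpow_right i).eq).symm
  obtain ⟨h3, K, L, hn, hK, he⟩ := three_of_quad_pSolvable hp2 hV (hMH.trans hHV)
    (le_bot_iff.1 ((inf_le_inf_right _ hMH).trans hf.le)) hsep haM hq hna
  exact ⟨h3, K, L, hn, hK.trans hMH, he⟩

end CfsgLib.Solv
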