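import Cfsg.Agent.Solv.TransvectionBlock

/-!
Decomposition of best offenders into transvection subgroups and of `H` into `SL(2,p)` blocks.
-/

set_option autoImplicit false
set_option linter.style.haveILetI false
set_option linter.deprecated false
set_option linter.unusedSectionVars false

open scoped commutatorElement Pointwise

namespace CfsgLib.Solv.FFP

variable {G : Type*} [Group G] [Finite G] {p : ℕ} [hp : Fact p.Prime] {V H Q A A₀ E W : Subgroup G}

theorem Ctx.exists_moved (C : Ctx p V H Q) (T : IsTrans p V H A) :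
    ∃ x ∈ Q, x ∉ Subgroup.centralizer (A : Set G) := by
  by_contra h
  push Not at h
  exact T.ne_bot (le_bot_iff.1 ((le_inf le_rfl (Subgroup.le_centralizer_iff.1 h)).trans
    (C.inf_centralizer_Q T.le T.pGroup).le))

theorem Ctx.block (C : Ctx p V H Q) (T : IsTrans p V H A) :
    Block p V H Q A (⁅Q, A⁆ ⊔ A) ⁅V, ⁅Q, A⁆ ⊔ A⁆ := by
  obtain ⟨x, hx, hxA⟩ := C.exists_moved T
  exact (block_of C T hx hxA).1

theorem Block.le_E (B : Block p V H Q A E W) : A ≤ E := le_sup_right.trans B.eq.ge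

theorem Block.comm_le_W (B : Block p V H Q A E W) : ⁅V, A⁆ ≤ W :=
  (Subgroup.commutator_mono le_rfl B.le_E).trans B.hW.ge

theorem Block.not_le_centralizer (B : Block p V H Q A E W) (T : IsTrans p V H A) :
    ¬ A ≤ Subgroup.centralizer (W : Set G) :=
  fun h => T.ne_bot (le_bot_iff.1 ((le_inf B.le_E h).trans B.faith.le))

theorem Block.inf_centralizer (C : Ctx p V H Q) (T : IsTrans p V H A) (B : Block p V H Q A E W) :
    W ⊓ Subgroup.centralizer (A : Set G) = ⁅V, A⁆ := by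
  obtain ⟨hc, -, hA⟩ := T.card_comm C
  have hle : ⁅V, A⁆ ≤ W ⊓ Subgroup.centralizer (A : Set G) :=
    le_inf B.comm_le_W (Subgroup.le_centralizer_iff.1 hA)
  have hlt : W ⊓ Subgroup.centralizer (A : Set G) < W := lt_of_le_of_ne inf_le_left fun e =>
    B.not_le_centralizer T (Subgroup.le_centralizer_iff.1 (inf_eq_left.1 e))
  refine (Subgroup.eq_of_le_of_card_ge hle ?_).symm
  have h := mul_le_of_lt (C.isPGroup.to_le B.hWV) hlt
  rw [B.card, pow_two] at h
  rw [hc]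
  exact Nat.le_of_mul_le_mul_right h hp.out.pos

/-- An element acting on `W` like a transvection with centre `[V, A]` agrees there with an element of `A`. -/
theorem Block.adjust (C : Ctx p V H Q) (T : IsTrans p V H A) (B : Block p V H Q A E W) {g : G}
    (hg : g ∈ Subgroup.centralizer ((⁅V, A⁆ : Subgroup G) : Set G))
    (hgW : ∀ f ∈ W, ⁅g, f⁆ ∈ ⁅V, A⁆) : ∃ a ∈ A, a⁻¹ * g ∈ Subgroup.centralizer (W : Set G) := by
  obtain ⟨hc, hZV, hA⟩ := T.card_comm C
  obtain ⟨a₀, ha₀, ha₁, hAz, -⟩ := T.exists_gen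
  obtain ⟨f, hfW, hfZ⟩ : ∃ f ∈ W, f ∉ ⁅V, A⁆ := by
    by_contra h
    push Not at h
    have h1 := Subgroup.card_le_of_le (show W ≤ ⁅V, A⁆ from h)
    rw [B.card, hc] at h1
    have := hp.out.two_le
    nlinarith
  set u := ⁅a₀, f⁆ with hu
  have hmemu : ∀ x ∈ A, ⁅x, f⁆ ∈ ⁅V, A⁆ := fun x hx => by
    rw [← commutatorElement_inv]
    exact inv_mem (Subgroup.commutator_mem_commutator (B.hWV hfW) hx)
  have hu1 : u ≠ 1 := by
    intro h
    refine hfZ ((B.inf_centralizer C T).le ⟨hfW, Subgroup.mem_centralizer_iff.2 fun x hx => ?_⟩)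
    rw [SetLike.mem_coe, hAz] at hx
    obtain ⟨i, rfl⟩ := Subgroup.mem_zpowers_iff.1 hx
    exact ((show Commute a₀ f from commutatorElement_eq_one_iff_mul_comm.1 h).zpow_left i).eq
  obtain ⟨k, hk⟩ := mem_powers_of_prime_card (G := (⁅V, A⁆ : Subgroup G)) hc
    (g := ⟨u, hmemu a₀ ha₀⟩) (g' := ⟨⁅g, f⁆, hgW f hfW⟩) (fun h => hu1 (congrArg Subtype.val h))
  have hk' : u ^ k = ⁅g, f⁆ := congrArg Subtype.val hk
  have hpw : ∀ n : ℕ, a₀ ^ n * f * (a₀ ^ n)⁻¹ = u ^ n * f := by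
    intro n
    induction n with
    | zero => simp
    | succ n ih =>
      have hcu : Commute a₀ (u ^ n) := by
        have : Commute a₀ u :=
          (Subgroup.mem_centralizer_iff.1 (hA ha₀) u (hmemu a₀ ha₀)).symm
        exact this.pow_right n
      calc a₀ ^ (n + 1) * f * (a₀ ^ (n + 1))⁻¹ = a₀ * (a₀ ^ n * f * (a₀ ^ n)⁻¹) * a₀⁻¹ := by
            rw [pow_succ']; group
        _ = (a₀ * u ^ n) * f * a₀⁻¹ := by rw [ih]; group
        _ = u ^ n * a₀ * f * a₀⁻¹ := by rw [hcu.eq]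
        _ = u ^ n * (u * f) := by rw [hu, commutatorElement_def]; group
        _ = u ^ (n + 1) * f := by rw [pow_succ]; group
  refine ⟨a₀ ^ k, pow_mem ha₀ k, ?_⟩
  set d := (a₀ ^ k)⁻¹ * g with hdd
  have hdZ : ∀ z ∈ ⁅V, A⁆, z * d = d * z := fun z hz => Subgroup.mem_centralizer_iff.1
    (mul_mem (inv_mem (hA (pow_mem ha₀ k))) hg) z hz
  have hdf : f * d = d * f := by
    have h1 : g * f * g⁻¹ = a₀ ^ k * f * (a₀ ^ k)⁻¹ := by
      rw [hpw, hk', commutatorElement_def]; group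
    calc f * d = (a₀ ^ k)⁻¹ * (a₀ ^ k * f * (a₀ ^ k)⁻¹) * g := by rw [hdd]; group
      _ = (a₀ ^ k)⁻¹ * (g * f * g⁻¹) * g := by rw [h1]
      _ = d * f := by rw [hdd]; group
  have hW : W ≤ ⁅V, A⁆ ⊔ Subgroup.zpowers f := by
    have h := card_sup_in C.hV.1 hZV (Subgroup.zpowers_le.2 (B.hWV hfW))
    have h0 : ⁅V, A⁆ ⊓ Subgroup.zpowers f = ⊥ := by
      refine le_bot_iff.1 fun z hz => Subgroup.mem_bot.2 ?_
      by_contra hz1
      refine hfZ ?_
      have hfp : orderOf f = p := orderOf_eq_prime (C.hV.2 f (B.hWV hfW)) fun h1 => hfZ (h1 ▸ one_mem _)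
      have h2 := mem_powers_of_prime_card (G := Subgroup.zpowers f) (by rw [Nat.card_zpowers, hfp])
        (g := ⟨z, hz.2⟩) (g' := ⟨f, Subgroup.mem_zpowers f⟩) (fun h => hz1 (congrArg Subtype.val h))
      obtain ⟨n, hn⟩ := h2
      have : z ^ n = f := congrArg Subtype.val hn
      exact this ▸ pow_mem hz.1 n
    have hfp : orderOf f = p := orderOf_eq_prime (C.hV.2 f (B.hWV hfW)) fun h1 => hfZ (h1 ▸ one_mem _)
    rw [h0, Subgroup.card_bot, mul_one, hc, Nat.card_zpowers, hfp, ← pow_two, ← B.card] at h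
    exact (Subgroup.eq_of_le_of_card_ge (sup_le B.comm_le_W (Subgroup.zpowers_le.2 hfW)) h.ge).ge
  have : ⁅V, A⁆ ⊔ Subgroup.zpowers f ≤ Subgroup.centralizer ({d} : Set G) :=
    sup_le (fun z hz => Subgroup.mem_centralizer_singleton_iff.2 (hdZ z hz))
      (Subgroup.zpowers_le.2 (Subgroup.mem_centralizer_singleton_iff.2 hdf))
  exact Subgroup.mem_centralizer_iff.2 fun w hw =>
    Subgroup.mem_centralizer_singleton_iff.1 (this (hW hw))

/-- Splitting a transvection subgroup off a best offender. -/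
theorem Ctx.split (C : Ctx p V H Q) (hAH : A ≤ H) (hA : Cfsg.IsBestOffenderOn p V A)
    (T : IsTrans p V H A₀) (h0 : A₀ ≤ A) :
    ∃ A' : Subgroup G, A' ≤ A ∧ Cfsg.IsBestOffenderOn p V A' ∧ A₀ ⊓ A' = ⊥ ∧ A₀ ⊔ A' = A := by
  obtain ⟨B⟩ : Nonempty (PLift (Block p V H Q A₀ (⁅Q, A₀⁆ ⊔ A₀) ⁅V, ⁅Q, A₀⁆ ⊔ A₀⁆)) :=
    ⟨⟨C.block T⟩⟩
  have B := B.down
  set W := ⁅V, ⁅Q, A₀⁆ ⊔ A₀⁆ with hWdef
  obtain ⟨hc, hZV, hA₀⟩ := T.card_comm C
  have hcent : A ≤ Subgroup.centralizer (A₀ : Set G) := fun a ha =>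
    Subgroup.mem_centralizer_iff.2 fun x hx => C.offender_comm hAH hA (h0 hx) ha
  have hAN0 : A ≤ Subgroup.normalizer (A₀ : Set G) := hcent.trans (Subgroup.centralizer_le_normalizer _)
  have hAE : A ≤ Subgroup.normalizer ((⁅Q, A₀⁆ ⊔ A₀ : Subgroup G) : Set G) := by
    refine le_normalizer_iff_forall_conj_mem.2 fun a ha g hg => ?_
    have h : ⁅Q, A₀⁆ ⊔ A₀ ≤ (⁅Q, A₀⁆ ⊔ A₀).comap (MulAut.conj a).toMonoidHom :=
      sup_le (fun y hy => Subgroup.mem_sup_left (le_normalizer_iff_forall_conj_mem.1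
        (le_normalizer_commutator' (hAH.trans C.hHQ) hAN0) a ha y hy))
        fun y hy => Subgroup.mem_sup_right (le_normalizer_iff_forall_conj_mem.1 hAN0 a ha y hy)
    exact h hg
  have hAW : A ≤ Subgroup.normalizer (W : Set G) :=
    le_normalizer_commutator' (hAH.trans C.hHV) hAE
  have hAZ : A ≤ Subgroup.centralizer ((⁅V, A₀⁆ : Subgroup G) : Set G) :=
    le_centralizer_of_card_prime (C.offender_pGroup hAH hA)
      (le_normalizer_commutator' (hAH.trans C.hHV) hAN0) hc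
  set A' := A ⊓ Subgroup.centralizer (W : Set G) with hA'
  have hdec : ∀ a ∈ A, ∃ x ∈ A₀, x⁻¹ * a ∈ A' := by
    intro a ha
    obtain ⟨x, hx, hxW⟩ := B.adjust C T (hAZ ha) (fun f hf => by
      refine (B.inf_centralizer C T).le (Subgroup.mem_inf.2 ⟨?_, ?_⟩)
      · rw [commutatorElement_def]
        exact mul_mem (le_normalizer_iff_forall_conj_mem.1 hAW a ha f hf) (inv_mem hf)
      · refine Subgroup.mem_centralizer_iff.2 fun y hy => ?_
        have hu : ⁅y, f⁆ ∈ ⁅V, A₀⁆ := by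
          rw [← commutatorElement_inv]
          exact inv_mem (Subgroup.commutator_mem_commutator (B.hWV hf) hy)
        have h1 : y * f * y⁻¹ = ⁅y, f⁆ * f := by simp [commutatorElement_def, mul_assoc]
        have hay : y * a = a * y := C.offender_comm hAH hA (h0 hy) ha
        have hau : a * ⁅y, f⁆ * a⁻¹ = ⁅y, f⁆ := by
          rw [← Subgroup.mem_centralizer_iff.1 (hAZ ha) _ hu, mul_inv_cancel_right]
        have h2 : y * (a * f * a⁻¹) * y⁻¹ = ⁅y, f⁆ * (a * f * a⁻¹) := by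
          calc y * (a * f * a⁻¹) * y⁻¹ = (y * a) * f * (y * a)⁻¹ := by group
            _ = (a * y) * f * (a * y)⁻¹ := by rw [hay]
            _ = a * (y * f * y⁻¹) * a⁻¹ := by group
            _ = (a * ⁅y, f⁆ * a⁻¹) * (a * f * a⁻¹) := by rw [h1]; group
            _ = ⁅y, f⁆ * (a * f * a⁻¹) := by rw [hau]
        rw [commutatorElement_def a f]
        have h3 : y * (a * f * a⁻¹ * f⁻¹) * y⁻¹ = a * f * a⁻¹ * f⁻¹ := by
          have hafV : a * f * a⁻¹ ∈ V :=
            le_normalizer_iff_forall_conj_mem.1 (hAH.trans C.hHV) a ha f (B.hWV hf)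
          calc y * (a * f * a⁻¹ * f⁻¹) * y⁻¹
              = (y * (a * f * a⁻¹) * y⁻¹) * (y * f * y⁻¹)⁻¹ := by group
            _ = (⁅y, f⁆ * (a * f * a⁻¹)) * (⁅y, f⁆ * f)⁻¹ := by rw [h2, h1]
            _ = (⁅y, f⁆ * (a * f * a⁻¹ * f⁻¹)) * ⁅y, f⁆⁻¹ := by group
            _ = (a * f * a⁻¹ * f⁻¹ * ⁅y, f⁆) * ⁅y, f⁆⁻¹ := by
              rw [C.comm (hZV hu) (mul_mem hafV (inv_mem (B.hWV hf)))]
            _ = a * f * a⁻¹ * f⁻¹ := by group
        calc y * (a * f * a⁻¹ * f⁻¹) = y * (a * f * a⁻¹ * f⁻¹) * y⁻¹ * y := by group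
          _ = a * f * a⁻¹ * f⁻¹ * y := by rw [h3])
    exact ⟨x, hx, Subgroup.mem_inf.2 ⟨mul_mem (inv_mem (h0 hx)) ha, hxW⟩⟩
  have hsup : A₀ ⊔ A' = A := by
    refine le_antisymm (sup_le h0 inf_le_left) fun a ha => ?_
    obtain ⟨x, hx, hxa⟩ := hdec a ha
    rw [show a = x * (x⁻¹ * a) by group]
    exact mul_mem (Subgroup.mem_sup_left hx) (Subgroup.mem_sup_right hxa)
  have hdisj : A₀ ⊓ A' = ⊥ :=
    le_bot_iff.1 ((le_inf (inf_le_left.trans B.le_E) (inf_le_right.trans inf_le_right)).trans B.faith.le)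
  have hcard : Nat.card A ≤ p * Nat.card A' := by
    rw [← T.card, ← Nat.card_prod]
    refine Nat.card_le_card_of_surjective (fun x : A₀ × A' => (⟨x.1 * x.2, mul_mem (h0 x.1.2) x.2.2.1⟩ : A)) ?_
    rintro ⟨a, ha⟩
    obtain ⟨x, hx, hxa⟩ := hdec a ha
    exact ⟨(⟨x, hx⟩, ⟨_, hxa⟩), Subtype.ext (by simp)⟩
  refine ⟨A', inf_le_left, bestOffender_of_measure hA inf_le_left ?_, hdisj, hsup⟩
  set CA := V ⊓ Subgroup.centralizer (A : Set G) with hCA
  have hle : CA ⊔ W ≤ V ⊓ Subgroup.centralizer (A' : Set G) :=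
    sup_le (inf_le_inf_left V (Subgroup.centralizer_le inf_le_left))
      (le_inf B.hWV (Subgroup.le_centralizer_iff.1 inf_le_right))
  have h1 := card_sup_in C.hV.1 (inf_le_left : CA ≤ V) B.hWV
  have h2 : Nat.card (CA ⊓ W : Subgroup G) ≤ p := by
    rw [← hc, ← B.inf_centralizer C T]
    exact Subgroup.card_le_of_le (le_inf inf_le_right
      ((inf_le_left.trans inf_le_right).trans (Subgroup.centralizer_le h0)))
  have h3 := Subgroup.card_le_of_le hle
  rw [B.card] at h1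
  have h4 : Nat.card CA * p ^ 2 ≤ Nat.card (V ⊓ Subgroup.centralizer (A' : Set G) : Subgroup G) * p := by
    rw [← h1]; exact Nat.mul_le_mul h3 h2
  have h5 : Nat.card CA * p ≤ Nat.card (V ⊓ Subgroup.centralizer (A' : Set G) : Subgroup G) := by
    refine Nat.le_of_mul_le_mul_right ?_ hp.out.pos
    rw [mul_assoc, ← pow_two]; exact h4
  calc Nat.card A * Nat.card CA ≤ p * Nat.card A' * Nat.card CA := Nat.mul_le_mul_right _ hcard
    _ = Nat.card A' * (Nat.card CA * p) := by ring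
    _ ≤ _ := Nat.mul_le_mul_left _ h5

/-- Every best offender is a direct product of transvection subgroups. -/
theorem Ctx.decompose (C : Ctx p V H Q) : ∀ A : Subgroup G, A ≤ H → Cfsg.IsBestOffenderOn p V A →
    ∃ (k : ℕ) (B : Fin k → Subgroup G), (∀ i, B i ≤ A ∧ IsTrans p V H (B i)) ∧
      iSupIndep B ∧ ⨆ i, B i = A := by
  suffices key : ∀ (n : ℕ) (A : Subgroup G), Nat.card A ≤ n → A ≤ H → Cfsg.IsBestOffenderOn p V A →
      ∃ (k : ℕ) (B : Fin k → Subgroup G), (∀ i, B i ≤ A ∧ IsTrans p V H (B i)) ∧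
        iSupIndep B ∧ ⨆ i, B i = A from fun A => key _ A le_rfl
  intro n
  induction n with
  | zero => intro A h; exact absurd (Nat.le_zero.1 h) Nat.card_pos.ne'
  | succ n ih =>
    intro A hn hAH hA
    by_cases hA1 : A = ⊥
    · subst hA1
      exact ⟨0, Fin.elim0, fun i => i.elim0, fun i => i.elim0, by simp⟩
    obtain ⟨-, A₀, h0, T⟩ := C.exists_trans A hAH hA hA1
    obtain ⟨A', hA', hAo, hdisj, hsup⟩ := C.split hAH hA T h0
    have hlt : Nat.card A' < Nat.card A := by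
      refine lt_of_le_of_ne (Subgroup.card_le_of_le hA') fun e => T.ne_bot ?_
      rw [← hdisj, inf_eq_left.2 (h0.trans (Subgroup.eq_of_le_of_card_ge hA' e.ge).ge)]
    obtain ⟨k, B, hB, hind, hBsup⟩ := ih A' (by omega) (hA'.trans hAH) hAo
    refine ⟨k + 1, Fin.cons A₀ B, Fin.cases ⟨h0, T⟩ fun i => ⟨(hB i).1.trans hA', (hB i).2⟩, ?_, ?_⟩
    · intro i
      rw [disjoint_iff]
      induction i using Fin.cases with
      | zero =>
        refine le_bot_iff.1 (le_trans (inf_le_inf_left _ (iSup₂_le fun j hj => ?_)) hdisj.le)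
        induction j using Fin.cases with
        | zero => exact absurd rfl hj
        | succ j => exact (hB j).1
      | succ i =>
        have hY : (⨆ (j : Fin (k + 1)) (_ : j ≠ i.succ), (Fin.cons A₀ B : Fin (k + 1) → Subgroup G) j) ≤
            A₀ ⊔ ⨆ (j : Fin k) (_ : j ≠ i), B j := by
          refine iSup₂_le fun j hj => ?_
          induction j using Fin.cases with
          | zero => exact le_sup_left
          | succ j =>
            exact le_sup_of_le_right (le_iSup₂_of_le j (fun e => hj (by rw [e])) le_rfl)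
        refine le_bot_iff.1 (le_trans (inf_le_inf_left _ hY) ?_)
        set R := ⨆ (j : Fin k) (_ : j ≠ i), B j with hR
        have hRA : R ≤ A' := iSup₂_le fun j _ => (hB j).1
        rintro x hx
        obtain ⟨hxB, hxS⟩ := Subgroup.mem_inf.1 hx
        simp only [Fin.cons_succ] at hxB
        have hnorm : A₀ ≤ Subgroup.normalizer (R : Set G) := fun a ha =>
          Subgroup.centralizer_le_normalizer _ (Subgroup.mem_centralizer_iff.2 fun y hy =>
            C.offender_comm hAH hA (hA' (hRA hy)) (h0 ha))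
        obtain ⟨m, hm, a, ha, rfl⟩ := exists_mul_of_mem_sup hnorm hxS
        have ha' : a ∈ A₀ ⊓ A' := Subgroup.mem_inf.2 ⟨ha, by
          rw [show a = m⁻¹ * (m * a) by group]
          exact mul_mem (inv_mem (hRA hm)) ((hB i).1 hxB)⟩
        rw [hdisj, Subgroup.mem_bot] at ha'
        subst ha'
        rw [mul_one] at hxB ⊢
        exact (disjoint_iff.1 (hind i)).le ⟨hxB, hm⟩
    · refine le_antisymm (iSup_le (Fin.cases h0 fun i => (hB i).1.trans hA')) ?_
      rw [← hsup]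
      refine sup_le (le_iSup_of_le 0 le_rfl) ?_
      rw [← hBsup]
      exact iSup_le fun i => le_iSup_of_le i.succ le_rfl

/-- `H` is generated by transvection subgroups once it is generated by best offenders. -/
theorem Ctx.gen (C : Ctx p V H Q)
    (hS3 : H = ⨆ A : {A : Subgroup G // A ≤ H ∧ Cfsg.IsBestOffenderOn p V A}, (A : Subgroup G))
    (K : Subgroup G) (hK : ∀ D : Subgroup G, IsTrans p V H D → D ≤ K) : H ≤ K := by
  rw [hS3]
  refine iSup_le fun A => ?_
  obtain ⟨k, B, hB, -, hsup⟩ := C.decompose A.1 A.2.1 A.2.2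
  rw [← hsup]
  exact iSup_le fun i => hK _ (hB i).2

theorem le_normalizer_stab (hK : A ≤ H) (hAV : A ≤ Subgroup.normalizer (V : Set G))
    (hAW : A ≤ Subgroup.normalizer (W : Set G)) :
    A ≤ Subgroup.normalizer ((stab V H W : Subgroup G) : Set G) := by
  refine le_normalizer_iff_forall_conj_mem.2 fun h hh s hs => ?_
  obtain ⟨hsH, hsN, hs'⟩ := hs
  refine ⟨mul_mem (mul_mem (hK hh) hsH) (inv_mem (hK hh)),
    mul_mem (mul_mem (hAW hh) hsN) (inv_mem (hAW hh)), fun v hv => ?_⟩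
  have hv' : h⁻¹ * v * h ∈ V := by
    simpa using le_normalizer_iff_forall_conj_mem.1 hAV h⁻¹ (inv_mem hh) v hv
  rw [show ⁅v, h * s * h⁻¹⁆ = h * ⁅h⁻¹ * v * h, s⁆ * h⁻¹ by simp [commutatorElement_def, mul_assoc]]
  exact le_normalizer_iff_forall_conj_mem.1 hAW h hh _ (hs' _ hv')

/-- The global properties of a block. -/
theorem Block.global (C : Ctx p V H Q) (T : IsTrans p V H A) (B : Block p V H Q A E W)
    (hgen : ∀ K : Subgroup G, (∀ D : Subgroup G, IsTrans p V H D → D ≤ K) → H ≤ K) :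
    H ≤ Subgroup.normalizer (W : Set G) ∧
      (∀ D : Subgroup G, IsTrans p V H D → D ≤ E ∨ D ≤ Subgroup.centralizer (W : Set G)) ∧
      ⁅E, H ⊓ Subgroup.centralizer (W : Set G)⁆ = ⊥ ∧
      E ⊔ (H ⊓ Subgroup.centralizer (W : Set G)) = H ∧
      H ≤ Subgroup.normalizer (E : Set G) ∧
      ⁅V, H ⊓ Subgroup.centralizer (W : Set G)⁆ ≤ V ⊓ Subgroup.centralizer (E : Set G) := by
  have hHW : H ≤ Subgroup.normalizer (W : Set G) := by
    refine le_trans (le_inf (hgen (H ⊓ Subgroup.normalizer (W : Set G)) fun D TD => le_inf TD.le ?_)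
      le_rfl) (inf_le_left.trans inf_le_right)
    refine le_normalizer_iff_forall_conj_mem.2 fun h hh w hw => ?_
    obtain ⟨hcD, hZD, -⟩ := TD.card_comm C
    have hhH := TD.le hh
    set W1 := W.map (MulAut.conj h).toMonoidHom with hW1
    suffices hW1W : W1 = W by exact hW1W.le ⟨w, hw, rfl⟩
    have hle : W1 ≤ W ⊔ ⁅V, D⁆ := by
      rintro _ ⟨x, hx, rfl⟩
      show h * x * h⁻¹ ∈ _
      rw [show h * x * h⁻¹ = ⁅h, x⁆ * x by simp [commutatorElement_def, mul_assoc]]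
      refine mul_mem (Subgroup.mem_sup_right ?_) (Subgroup.mem_sup_left hx)
      rw [← commutatorElement_inv]
      exact inv_mem (Subgroup.commutator_mem_commutator (B.hWV hx) hh)
    have hcard1 : Nat.card W1 = p ^ 2 := by
      rw [hW1, Subgroup.card_map_of_injective (MulAut.conj h).injective, B.card]
    obtain ⟨i, hi, hi1⟩ : ∃ i ∈ W1 ⊓ W, i ≠ 1 := by
      refine (Subgroup.bot_or_exists_ne_one _).resolve_left fun e => ?_
      have h1 := card_mul_inf_le (X := W1) (Y := W) (Z := W ⊔ ⁅V, D⁆) hle le_sup_left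
      rw [e, Subgroup.card_bot, mul_one, hcard1, B.card] at h1
      have h2 := card_sup_in C.hV.1 B.hWV hZD
      rw [B.card, hcD] at h2
      have h3 : 0 < Nat.card (W ⊓ ⁅V, D⁆ : Subgroup G) := Nat.card_pos
      have := hp.out.two_le
      have h4 : Nat.card (W ⊔ ⁅V, D⁆ : Subgroup G) ≤ p ^ 2 * p := by
        rw [← h2]; exact Nat.le_mul_of_pos_right _ h3
      have h5 : p ^ 2 * p ^ 2 ≤ p ^ 2 * p := h1.trans h4
      have h6 := Nat.le_of_mul_le_mul_left h5 (pow_pos hp.out.pos 2)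
      nlinarith
    refine (Subgroup.eq_of_le_of_card_ge (fun x hx => ?_) (by rw [hcard1, B.card])).symm
    by_cases hx1 : x = 1
    · rw [hx1]; exact one_mem _
    obtain ⟨q, hq, hqi⟩ := B.trans i hi.2 hi1 x hx hx1
    obtain ⟨y, hy, hyi⟩ := Subgroup.mem_map.1 hi.1
    have hq' : h⁻¹ * q * h ∈ Q := by
      simpa using le_normalizer_iff_forall_conj_mem.1 C.hHQ h⁻¹ (inv_mem hhH) q hq.1
    refine Subgroup.mem_map.2 ⟨(h⁻¹ * q * h) * y * (h⁻¹ * q * h)⁻¹,
      le_normalizer_iff_forall_conj_mem.1 B.hQW _ hq' y hy, ?_⟩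
    rw [← hqi, ← hyi]
    show h * ((h⁻¹ * q * h) * y * (h⁻¹ * q * h)⁻¹) * h⁻¹ = q * (h * y * h⁻¹) * q⁻¹
    group
  set S := stab V H W with hS
  set CW := H ⊓ Subgroup.centralizer (W : Set G) with hCW
  have hHS : H ≤ Subgroup.normalizer (S : Set G) := le_normalizer_stab le_rfl C.hHV hHW
  have hHC : H ≤ Subgroup.normalizer (CW : Set G) :=
    le_normalizer_inf_of_le Subgroup.le_normalizer (hHW.trans (normalizer_le_normalizer_cent _))
  have hSH : S ≤ H := fun g hg => hg.1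
  have hSC : S ⊓ CW = ⊥ := by
    set N := S ⊓ CW with hN
    have hNp : IsPGroup p N := fun g => ⟨1, Subtype.ext (by
      simpa using pow_eq_one_of_stab C B.hWV g.2.1 g.2.2.2)⟩
    have hNQ : N ≤ Subgroup.centralizer (Q : Set G) := by
      refine Subgroup.commutator_eq_bot_iff_le_centralizer.1 (le_bot_iff.1 ?_)
      refine le_trans (le_inf ?_ ?_) (C.inf_Q hNp).le
      · rw [Subgroup.commutator_comm]
        exact commutator_le_of_le_normalizer (A := Q) (C.hQH.trans (le_normalizer_inf_of_le hHS hHC))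
          |>.trans' (Subgroup.commutator_comm _ _).le
      · exact commutator_le_of_le_normalizer (K := Q) ((inf_le_left.trans hSH).trans C.hHQ)
          |>.trans' (Subgroup.commutator_comm _ _).le
    exact le_bot_iff.1 ((le_inf le_rfl hNQ).trans (C.inf_centralizer_Q (inf_le_left.trans hSH) hNp).le)
  have hD : ∀ D : Subgroup G, IsTrans p V H D → D ≤ E ∨ D ≤ Subgroup.centralizer (W : Set G) := by
    intro D TD
    by_cases hDC : D ≤ Subgroup.centralizer (W : Set G)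
    · exact Or.inr hDC
    left
    obtain ⟨hcD, hZD, -⟩ := TD.card_comm C
    obtain ⟨d, hd, hdW⟩ := SetLike.not_le_iff_exists.1 hDC
    obtain ⟨w, hw, hwd⟩ : ∃ w ∈ W, ⁅w, d⁆ ≠ 1 := by
      by_contra h
      push Not at h
      exact hdW (Subgroup.mem_centralizer_iff.2 fun w hw =>
        commutatorElement_eq_one_iff_mul_comm.1 (h w hw))
    have hzZ : ⁅w, d⁆ ∈ ⁅V, D⁆ := Subgroup.commutator_mem_commutator (B.hWV hw) hd
    have hzW : ⁅w, d⁆ ∈ W := by
      rw [show ⁅w, d⁆ = w * (d * w⁻¹ * d⁻¹) by simp [commutatorElement_def, mul_assoc]]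
      exact mul_mem hw (le_normalizer_iff_forall_conj_mem.1 hHW d (TD.le hd) _ (inv_mem hw))
    obtain ⟨e, he, he1⟩ := (⁅V, A⁆).bot_or_exists_ne_one.resolve_left (C.comm_ne_bot T.le T.ne_bot)
    obtain ⟨q, hq, hqe⟩ := B.trans e (B.comm_le_W he) he1 _ hzW hwd
    have hqH : q⁻¹ ∈ H := inv_mem (C.hQH hq.1)
    obtain ⟨TD', hZD'⟩ := TD.map_conj C hqH
    set D' := D.map (MulAut.conj q⁻¹).toMonoidHom with hD'
    have hZ' : ⁅V, D'⁆ = ⁅V, A⁆ := by
      obtain ⟨hcD', -, -⟩ := TD'.card_comm C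
      obtain ⟨hcA, -, -⟩ := T.card_comm C
      have hmem : e ∈ ⁅V, D'⁆ := by
        rw [hZD']
        refine Subgroup.mem_map.2 ⟨_, hzZ, ?_⟩
        show q⁻¹ * ⁅w, d⁆ * q⁻¹⁻¹ = e
        rw [← hqe]; group
      refine (Subgroup.eq_of_le_of_card_ge (fun y hy => ?_) (by rw [hcD', hcA])).symm
      obtain ⟨n, hn⟩ := mem_powers_of_prime_card (G := (⁅V, A⁆ : Subgroup G)) hcA (g := ⟨e, he⟩)
        (g' := ⟨y, hy⟩) (fun h => he1 (congrArg Subtype.val h))
      have : e ^ n = y := congrArg Subtype.val hn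
      exact this ▸ pow_mem hmem n
    have hD'E : D' ≤ E := by
      intro x hx
      obtain ⟨a, ha, hax⟩ := B.adjust C T (g := x) (hZ' ▸ (TD'.card_comm C).2.2 hx) (fun f hf => by
        rw [← hZ', ← commutatorElement_inv]
        exact inv_mem (Subgroup.commutator_mem_commutator (B.hWV hf) hx))
      have : a⁻¹ * x ∈ S ⊓ CW := Subgroup.mem_inf.2
        ⟨mul_mem (inv_mem (B.stabE (B.le_E ha))) (TD'.le_stab C B.hWV (hZ'.le.trans B.comm_le_W) hx),
          Subgroup.mem_inf.2 ⟨mul_mem (inv_mem (T.le ha)) (TD'.le hx), hax⟩⟩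
      rw [hSC, Subgroup.mem_bot, inv_mul_eq_one] at this
      exact this ▸ B.le_E ha
    intro y hy
    have h1 : q⁻¹ * y * q⁻¹⁻¹ ∈ E := hD'E (Subgroup.mem_map.2 ⟨y, hy, rfl⟩)
    rw [show y = q * (q⁻¹ * y * q⁻¹⁻¹) * q⁻¹ by group]
    exact mul_mem (mul_mem hq.2 h1) (inv_mem hq.2)
  have hEC : ⁅E, CW⁆ = ⊥ := by
    refine le_bot_iff.1 (le_trans (le_inf ?_ ?_) hSC.le)
    · rw [Subgroup.commutator_le]
      intro g hg c hc
      rw [show ⁅g, c⁆ = g * (c * g⁻¹ * c⁻¹) by simp [commutatorElement_def, mul_assoc]]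
      exact mul_mem (B.stabE hg)
        (le_normalizer_iff_forall_conj_mem.1 hHS c hc.1 _ (inv_mem (B.stabE hg)))
    · rw [Subgroup.commutator_le]
      intro g hg c hc
      rw [show ⁅g, c⁆ = (g * c * g⁻¹) * c⁻¹ by simp [commutatorElement_def, mul_assoc]]
      exact mul_mem (le_normalizer_iff_forall_conj_mem.1 hHC g (B.hEH hg) c hc) (inv_mem hc)
  have hsup : E ⊔ CW = H := le_antisymm (sup_le B.hEH inf_le_left) (hgen _ fun D TD => by
    rcases hD D TD with h | h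
    · exact h.trans le_sup_left
    · exact (le_inf TD.le h).trans le_sup_right)
  have hcent : CW ≤ Subgroup.centralizer (E : Set G) :=
    Subgroup.le_centralizer_iff.1 (Subgroup.commutator_eq_bot_iff_le_centralizer.1 hEC)
  refine ⟨hHW, hD, hEC, hsup, hsup ▸ sup_le Subgroup.le_normalizer
    (hcent.trans (Subgroup.centralizer_le_normalizer _)), Subgroup.commutator_le.2 fun v hv c hc => ?_⟩
  have hnV : W ≤ Subgroup.normalizer ((V ⊓ Subgroup.centralizer (E : Set G) : Subgroup G) : Set G) :=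
    le_trans (fun x hx => Subgroup.mem_centralizer_iff.2 fun y hy => C.comm hy.1 (B.hWV hx))
      (Subgroup.centralizer_le_normalizer _)
  obtain ⟨m, hm, w, hw, rfl⟩ := exists_mul_of_mem_sup hnV (B.split.ge hv)
  have h1 : w * c = c * w := Subgroup.mem_centralizer_iff.1 hc.2 w hw
  have h2 : ⁅m * w, c⁆ = ⁅m, c⁆ := by
    calc ⁅m * w, c⁆ = m * (w * c) * w⁻¹ * m⁻¹ * c⁻¹ := by simp [commutatorElement_def, mul_assoc]
      _ = m * (c * w) * w⁻¹ * m⁻¹ * c⁻¹ := by rw [h1]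
      _ = ⁅m, c⁆ := by simp [commutatorElement_def, mul_assoc]
  rw [h2]
  refine Subgroup.mem_inf.2 ⟨?_, ?_⟩
  · exact commutator_le_of_le_normalizer C.hHV (Subgroup.commutator_mem_commutator hm.1 hc.1)
  · rw [show ⁅m, c⁆ = m * (c * m⁻¹ * c⁻¹) by simp [commutatorElement_def, mul_assoc]]
    exact mul_mem hm.2 (mul_mem (mul_mem (hcent hc) (inv_mem hm.2)) (inv_mem (hcent hc)))

end CfsgLib.Solv.FFP
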