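import Cfsg.Agent.Solv.TransvectionBlock

/-!
Subnormal subgroups acting irreducibly on their commutators commute.
-/

set_option autoImplicit false
set_option linter.style.haveILetI false
set_option linter.deprecated false
set_option linter.unusedSectionVars false

open scoped commutatorElement Pointwise

namespace CfsgLib.Solv.IrrSN

variable {G : Type*} [Group G]

/-- `X` is a subnormal subgroup of `E`. -/
def Sn (E X : Subgroup G) : Prop := X ≤ E ∧ (X.subgroupOf E).IsSubnormal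

theorem Sn.trans {E Y X : Subgroup G} (h : Sn Y X) (hY : Sn E Y) : Sn E X := by
  refine ⟨h.1.trans hY.1, Subgroup.IsSubnormal.trans (fun x hx => h.1 hx) ?_ hY.2⟩
  exact h.2.comap (Subgroup.subgroupOfEquivOfLe hY.1).toMonoidHom

theorem Sn.mono {E K X : Subgroup G} (h : Sn E X) (hX : X ≤ K) (hK : K ≤ E) : Sn K X :=
  ⟨hX, h.2.comap (Subgroup.inclusion hK)⟩

variable [Finite G] {p : ℕ} [hp : Fact p.Prime]

theorem Sn.conj {E X : Subgroup G} (h : Sn E X) {g : G} (hg : g ∈ E) :
    Sn E (X.map (MulAut.conj g).toMonoidHom) := by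
  refine ⟨?_, ?_⟩
  · rintro _ ⟨x, hx, rfl⟩; exact mul_mem (mul_mem hg (h.1 hx)) (inv_mem hg)
  · have : (X.map (MulAut.conj g).toMonoidHom).subgroupOf E =
        (X.subgroupOf E).comap (MulAut.conj (⟨g, hg⟩⁻¹ : E)).toMonoidHom := by
      ext y
      rw [Subgroup.mem_subgroupOf, FFP.map_mem_iff, Subgroup.mem_comap, Subgroup.mem_subgroupOf]
      simp
    rw [this]
    exact h.2.comap _



/-- The hypotheses on a single subgroup. -/
structure Irr (V E : Subgroup G) : Prop where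
  irr : ∀ U : Subgroup G, U ≤ ⁅V, E⁆ → E ≤ Subgroup.normalizer (U : Set G) → U = ⊥ ∨ U = ⁅V, E⁆
  two : 2 < Nat.card E

theorem irr_conj {V E : Subgroup G} (h : Irr V E) {g : G}
    (hV : V.map (MulAut.conj g).toMonoidHom = V) :
    Irr V (E.map (MulAut.conj g).toMonoidHom) := by
  refine ⟨fun U hU hn => ?_, by
    rw [Subgroup.card_map_of_injective (MulAut.conj g).injective]; exact h.two⟩
  have e : ⁅V, E.map (MulAut.conj g).toMonoidHom⁆ = (⁅V, E⁆).map (MulAut.conj g).toMonoidHom := by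
    rw [Subgroup.map_commutator, hV]
  rw [e] at hU ⊢
  have hinj := (MulAut.conj g).injective
  have h1 : U.comap (MulAut.conj g).toMonoidHom ≤ ⁅V, E⁆ := fun u hu => by
    obtain ⟨w, hw, hwu⟩ := Subgroup.mem_map.1 (hU hu)
    exact hinj hwu ▸ hw
  have h2 : (U.comap (MulAut.conj g).toMonoidHom).map (MulAut.conj g).toMonoidHom = U :=
    Subgroup.map_comap_eq_self_of_surjective (MulAut.conj g).surjective U
  rcases h.irr _ h1 (le_normalizer_iff_forall_conj_mem.2 fun x hx u hu => by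
    show (MulAut.conj g).toMonoidHom (x * u * x⁻¹) ∈ U
    rw [map_mul, map_mul, map_inv]
    exact le_normalizer_iff_forall_conj_mem.1 hn _ (Subgroup.mem_map_of_mem _ hx) _ hu) with h3 | h3
  · left; rw [← h2, h3, Subgroup.map_bot]
  · right; rw [← h2, h3]

theorem comm_le {V E : Subgroup G} (h : E ≤ Subgroup.normalizer (V : Set G)) : ⁅V, E⁆ ≤ V :=
  commutator_le_of_le_normalizer h

theorem pSub_eq_bot {E X : Subgroup G} (hOp : Cfsg.pCore p E = ⊥) (hX : Sn E X) (hXp : IsPGroup p X) :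
    X = ⊥ := by
  have hXp' : IsPGroup p (X.subgroupOf E) := hXp.comap_of_injective E.subtype E.subtype_injective
  have h3 := piNat_subnormal_le_piCore (π := {p}) hX.2 (PiNat.of_isPGroup hXp' rfl)
  have h4 : Cfsg.piCore ({p} : Set ℕ) E ≤ Cfsg.pCore p E := by
    refine le_pCore (hN := Subgroup.sSup_normal _ fun _ h => h.1) ?_
    obtain hπ := piNat_card_piCore (G := E) (π := ({p} : Set ℕ))
    exact IsPGroup.of_card (Nat.eq_prime_pow_of_unique_prime_dvd Nat.card_pos.ne'
      fun {d} hd hdd => hπ d hd hdd)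
  rw [hOp, le_bot_iff] at h4
  rw [h4, le_bot_iff, Subgroup.subgroupOf_eq_bot] at h3
  exact le_bot_iff.1 fun x hx => h3.le_bot ⟨hx, hX.1 hx⟩

theorem pSub_eq_bot' {E X : Subgroup G}
    (hOp : ∀ Y : Subgroup G, Sn E Y → IsPGroup p Y → Y = ⊥) (hX : Sn E X) {Z : Subgroup G}
    (hZ : Sn X Z) (hZp : IsPGroup p Z) : Z = ⊥ := hOp Z (hZ.trans hX) hZp

/-- A nontrivial irreducible subgroup is not centralised by its commutator. -/
theorem fix_eq_bot {V E X : Subgroup G} (hV : Cfsg.IsElementaryAbelian p V)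
    (hEV : E ≤ Subgroup.normalizer (V : Set G)) (hf : E ⊓ Subgroup.centralizer (V : Set G) = ⊥)
    (hOp : ∀ Y : Subgroup G, Sn E Y → IsPGroup p Y → Y = ⊥) (hX : Sn E X) (hI : Irr V X) :
    ⁅V, X⁆ ⊓ Subgroup.centralizer (X : Set G) = ⊥ := by
  have hn : X ≤ Subgroup.normalizer ((⁅V, X⁆ ⊓ Subgroup.centralizer (X : Set G) : Subgroup G) : Set G) :=
    le_normalizer_inf_of_le (right_le_normalizer_commutator V X)
      (Subgroup.le_normalizer.trans (FFP.normalizer_le_normalizer_cent X))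
  rcases hI.irr _ inf_le_left hn with h | h
  · exact h
  · exfalso
    have hq : X ≤ Subgroup.centralizer ((⁅V, X⁆ : Subgroup G) : Set G) :=
      Subgroup.le_centralizer_iff.1 (h ▸ inf_le_right)
    have hWV : ⁅V, X⁆ ≤ V := comm_le (hX.1.trans hEV)
    have hpow : ∀ x ∈ X, x ^ p = 1 := fun x hx => by
      have hx' : x ∈ FFP.stab V E ⁅V, X⁆ := ⟨hX.1 hx, right_le_normalizer_commutator V X hx,
        fun v hv => Subgroup.commutator_mem_commutator hv hx⟩
      obtain ⟨hgH, -, hg'⟩ := hx'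
      refine Subgroup.mem_bot.1 (hf.le (Subgroup.mem_inf.2 ⟨pow_mem hgH p, ?_⟩))
      rw [Subgroup.mem_centralizer_iff]
      intro v hv
      have hwd : ⁅v, x⁆ * x = x * ⁅v, x⁆ := Subgroup.mem_centralizer_iff.1 (hq hx) _ (hg' v hv)
      have h3 : ∀ k : ℕ, v * x ^ k = ⁅v, x⁆ ^ k * x ^ k * v := by
        intro k
        induction k with
        | zero => simp
        | succ k ih =>
          have e : v * x = ⁅v, x⁆ * x * v := by simp [commutatorElement_def, mul_assoc]
          calc v * x ^ (k + 1) = v * x ^ k * x := by rw [pow_succ]; group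
            _ = ⁅v, x⁆ ^ k * x ^ k * (v * x) := by rw [ih]; group
            _ = ⁅v, x⁆ ^ k * (x ^ k * ⁅v, x⁆) * x * v := by rw [e]; group
            _ = ⁅v, x⁆ ^ k * (⁅v, x⁆ * x ^ k) * x * v := by
              rw [((show Commute ⁅v, x⁆ x from hwd).pow_right k).eq]
            _ = ⁅v, x⁆ ^ (k + 1) * x ^ (k + 1) * v := by rw [pow_succ ⁅v, x⁆, pow_succ x]; group
      rw [h3 p, hV.2 _ (hWV (hg' v hv)), one_mul]
    have := hOp X hX fun x => ⟨1, Subtype.ext (by simpa using hpow x x.2)⟩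
    have h2 := hI.two
    rw [this, Subgroup.card_bot] at h2
    omega

theorem commute_of_successive {V E E1 E2 : Subgroup G} (hV : Cfsg.IsElementaryAbelian p V)
    (hEV : E ≤ Subgroup.normalizer (V : Set G)) (hf : E ⊓ Subgroup.centralizer (V : Set G) = ⊥)
    (hOp : ∀ Y : Subgroup G, Sn E Y → IsPGroup p Y → Y = ⊥) (h1 : Sn E E1) (h2 : Sn E E2)
    (hc : ⁅⁅V, E1⁆, E2⁆ = ⊥) : ⁅E1, E2⁆ = ⊥ := by
  have h := commutator_le_pCore_of_successive hV hEV hf h1.1 h2.1 h1.2 h2.2 hc
  have h' : (Cfsg.pCore p E).map E.subtype = ⊥ := by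
    refine hOp _ ⟨Subgroup.map_subtype_le _, ?_⟩ ((pCore_isPGroup E p).map E.subtype)
    rw [Subgroup.subgroupOf, Subgroup.comap_map_eq_self_of_injective E.subtype_injective]
    exact Subgroup.Normal.isSubnormal (pCore_normal E p)
  rw [h'] at h
  exact le_bot_iff.1 h

set_option maxHeartbeats 1000000 in
theorem main {V : Subgroup G} (hV : Cfsg.IsElementaryAbelian p V) :
    ∀ (n : ℕ) (E E1 E2 : Subgroup G), Nat.card E ≤ n → E ≤ Subgroup.normalizer (V : Set G) →
      E ⊓ Subgroup.centralizer (V : Set G) = ⊥ →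
      (∀ Y : Subgroup G, Sn E Y → IsPGroup p Y → Y = ⊥) →
      E = E1 ⊔ E2 → Sn E E1 → Sn E E2 → Irr V E1 → Irr V E2 →
      ¬ ⁅V, E1⁆ ≤ ⁅V, E2⁆ → ¬ ⁅V, E2⁆ ≤ ⁅V, E1⁆ →
      ⁅V, E1⁆ ⊓ ⁅V, E2⁆ = ⊥ ∧ ⁅⁅V, E1⁆, E2⁆ = ⊥ ∧ ⁅⁅V, E2⁆, E1⁆ = ⊥ ∧ ⁅E1, E2⁆ = ⊥ := by
  classical
  intro n
  induction n with
  | zero => intro E _ _ h; exact absurd (Nat.le_zero.1 h) Nat.card_pos.ne'
  | succ n ih =>
    intro E E1 E2 hn hEV hf hOp hgen s1 s2 I1 I2 h12 h21
    have hcommV : ∀ a ∈ V, ∀ b ∈ V, a * b = b * a := fun a ha b hb =>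
      congrArg Subtype.val (hV.1.is_comm.comm ⟨a, ha⟩ ⟨b, hb⟩)
    have hW1 : ⁅V, E1⁆ ≤ V := comm_le (s1.1.trans hEV)
    have hW2 : ⁅V, E2⁆ ≤ V := comm_le (s2.1.trans hEV)
    -- it is enough that one side is invariant
    have easy : ∀ X Y : Subgroup G, Sn E X → Sn E Y → Irr V Y → ¬ ⁅V, Y⁆ ≤ ⁅V, X⁆ →
        Y ≤ Subgroup.normalizer ((⁅V, X⁆ : Subgroup G) : Set G) →
        ⁅V, X⁆ ⊓ ⁅V, Y⁆ = ⊥ ∧ ⁅⁅V, X⁆, Y⁆ = ⊥ ∧ ⁅X, Y⁆ = ⊥ := by
      intro X Y sX sY IY hYX hY
      have hWX : ⁅V, X⁆ ≤ V := comm_le (sX.1.trans hEV)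
      have hI : ⁅V, X⁆ ⊓ ⁅V, Y⁆ = ⊥ := by
        rcases IY.irr _ inf_le_right (le_normalizer_inf_of_le hY (right_le_normalizer_commutator V Y)) with h | h
        · exact h
        · exact absurd (h.ge.trans inf_le_left) hYX
      have hc : ⁅⁅V, X⁆, Y⁆ = ⊥ := le_bot_iff.1 (le_trans (le_inf (commutator_le_of_le_normalizer hY)
        (Subgroup.commutator_mono hWX le_rfl)) hI.le)
      exact ⟨hI, hc, commute_of_successive hV hEV hf hOp sX sY hc⟩
    have hsym : ∀ X Y : Subgroup G, ⁅X, Y⁆ = ⊥ → Y ≤ Subgroup.normalizer (X : Set G) := fun X Y h =>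
      (Subgroup.le_centralizer_iff.1 (Subgroup.commutator_eq_bot_iff_le_centralizer.1 h)).trans
        (Subgroup.centralizer_le_normalizer _)
    by_cases hinv2 : E2 ≤ Subgroup.normalizer ((⁅V, E1⁆ : Subgroup G) : Set G)
    · obtain ⟨hI, hc, he⟩ := easy E1 E2 s1 s2 I2 h21 hinv2
      have he' : ⁅E2, E1⁆ = ⊥ := by rw [Subgroup.commutator_comm]; exact he
      obtain ⟨-, hc', -⟩ := easy E2 E1 s2 s1 I1 h12
        (FFP.le_normalizer_commutator' (s1.1.trans hEV) (hsym E2 E1 he'))
      exact ⟨hI, hc, hc', he⟩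
    by_cases hinv1 : E1 ≤ Subgroup.normalizer ((⁅V, E2⁆ : Subgroup G) : Set G)
    · obtain ⟨hI, hc, he⟩ := easy E2 E1 s2 s1 I1 h12 hinv1
      have he' : ⁅E1, E2⁆ = ⊥ := by rw [Subgroup.commutator_comm]; exact he
      exact absurd (FFP.le_normalizer_commutator' (s2.1.trans hEV) (hsym E1 E2 he')) hinv2
    exfalso
    -- the pair formed by two conjugates
    have hpair : ∀ X : Subgroup G, Sn E X → Irr V X → X ≠ E → ∀ g ∈ E,
        (⁅V, X⁆).map (MulAut.conj g).toMonoidHom ≠ ⁅V, X⁆ →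
        ⁅V, X⁆ ⊓ (⁅V, X⁆).map (MulAut.conj g).toMonoidHom = ⊥ ∧
          ⁅(⁅V, X⁆).map (MulAut.conj g).toMonoidHom, X⁆ = ⊥ := by
      intro X sX IX hXE g hg hne
      set X' := X.map (MulAut.conj g).toMonoidHom with hX'
      have hgV : V.map (MulAut.conj g).toMonoidHom = V := by
        refine le_antisymm ?_ fun v hv => (FFP.map_mem_iff V v).2 ?_
        · rintro _ ⟨v, hv, rfl⟩; exact le_normalizer_iff_forall_conj_mem.1 hEV g hg v hv
        · simpa using le_normalizer_iff_forall_conj_mem.1 hEV g⁻¹ (inv_mem hg) v hv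
      have e : ⁅V, X'⁆ = (⁅V, X⁆).map (MulAut.conj g).toMonoidHom := by
        rw [hX', Subgroup.map_commutator, hgV]
      have sX' : Sn E X' := sX.conj hg
      obtain ⟨K, hKn, hXK, hKtop⟩ := sX.2.exists_normal_and_le_and_lt_top_of_ne
        (fun h => hXE (le_antisymm sX.1 (Subgroup.subgroupOf_eq_top.1 h)))
      set E' := X ⊔ X' with hE'
      have hE'E : E' ≤ E := sup_le sX.1 sX'.1
      have hlt : Nat.card E' < Nat.card E := by
        have hle : E'.subgroupOf E ≤ K := by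
          rw [hE', Subgroup.subgroupOf_sup sX.1 sX'.1]
          refine sup_le hXK fun y hy => ?_
          have hy' : g⁻¹ * (y : G) * g ∈ X := (FFP.map_mem_iff X _).1 hy
          have h1 : (⟨g, hg⟩ : E)⁻¹ * y * ⟨g, hg⟩ ∈ K := hXK (by
            rw [Subgroup.mem_subgroupOf]; simpa using hy')
          have h2 := hKn.conj_mem _ h1 ⟨g, hg⟩
          simpa [mul_assoc] using h2
        refine lt_of_le_of_ne (Subgroup.card_le_of_le hE'E) fun h => hKtop.ne (top_le_iff.1 ?_)
        intro y _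
        exact hle (Subgroup.mem_subgroupOf.2 ((Subgroup.eq_of_le_of_card_ge hE'E h.ge).ge y.2))
      have sE' : Sn E E' := ⟨hE'E, by
        rw [hE', Subgroup.subgroupOf_sup sX.1 sX'.1]; exact isSubnormal_sup sX.2 sX'.2⟩
      have hcardW : Nat.card (⁅V, X'⁆ : Subgroup G) = Nat.card (⁅V, X⁆ : Subgroup G) := by
        rw [e, Subgroup.card_map_of_injective (MulAut.conj g).injective]
      obtain ⟨h1, -, h3, -⟩ := ih E' X X' (by omega) (hE'E.trans hEV)
        (le_bot_iff.1 ((inf_le_inf_right _ hE'E).trans hf.le))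
        (fun Y hY hYp => pSub_eq_bot' hOp sE' hY hYp) hE'
        (sX.mono le_sup_left hE'E) (sX'.mono le_sup_right hE'E) IX (irr_conj IX hgV)
        (fun h => hne (e ▸ (Subgroup.eq_of_le_of_card_ge h hcardW.le).symm))
        (fun h => hne (e ▸ Subgroup.eq_of_le_of_card_ge h hcardW.ge))
      rw [e] at h1 h3
      exact ⟨h1, h3⟩
    have hE1ne : E1 ≠ E := fun h => h21 (Subgroup.commutator_mono le_rfl (h ▸ s2.1))
    have hE2ne : E2 ≠ E := fun h => h12 (Subgroup.commutator_mono le_rfl (h ▸ s1.1))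
    obtain ⟨x, hx, hxW⟩ : ∃ x ∈ E2,
        (⁅V, E1⁆).map (MulAut.conj x).toMonoidHom ≠ ⁅V, E1⁆ := by
      by_contra h
      push Not at h
      exact hinv2 (le_normalizer_iff_forall_conj_mem.2 fun y hy w hw =>
        (h y hy).le ⟨w, hw, rfl⟩)
    obtain ⟨hxI, hxC⟩ := hpair E1 s1 I1 hE1ne x (s2.1 hx) hxW
    set W1 := ⁅V, E1⁆ with hW1d
    set W2 := ⁅V, E2⁆ with hW2d
    set W1x := W1.map (MulAut.conj x).toMonoidHom with hW1x
    have hconjW1 : ∀ w ∈ W1, x * w * x⁻¹ ∈ V := fun w hw =>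
      le_normalizer_iff_forall_conj_mem.1 hEV x (s2.1 hx) w (hW1 hw)
    let δ : W1 →* G := MonoidHom.mk' (fun w => ⁅x, (w : G)⁆) fun a b => by
      show ⁅x, (a : G) * b⁆ = ⁅x, (a : G)⁆ * ⁅x, (b : G)⁆
      rw [commutatorElement_def, commutatorElement_def, commutatorElement_def]
      calc x * ((a : G) * b) * x⁻¹ * ((a : G) * b)⁻¹
          = (x * a * x⁻¹) * ((x * b * x⁻¹ * (b : G)⁻¹) * (a : G)⁻¹) := by group
        _ = (x * a * x⁻¹) * ((a : G)⁻¹ * (x * b * x⁻¹ * (b : G)⁻¹)) := by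
          rw [hcommV _ (mul_mem (hconjW1 b b.2) (inv_mem (hW1 b.2))) _ (inv_mem (hW1 a.2))]
        _ = _ := by group
    have hδinj : Function.Injective δ := by
      rw [injective_iff_map_eq_one]
      intro w hw
      refine Subtype.ext (Subgroup.mem_bot.1 (hxI.le (Subgroup.mem_inf.2 ⟨w.2, ?_⟩)))
      refine Subgroup.mem_map.2 ⟨w, w.2, ?_⟩
      show x * w * x⁻¹ = w
      rw [← commutatorElement_eq_one_iff_mul_comm.1 (show ⁅x, (w : G)⁆ = 1 from hw) |>.symm,
        mul_inv_cancel_right]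
    set D := δ.range with hD
    have hDcard : Nat.card D = Nat.card W1 :=
      (Nat.card_congr (MonoidHom.ofInjective hδinj).toEquiv).symm
    have hDW2 : D ≤ W2 := by
      rintro _ ⟨w, rfl⟩
      show ⁅x, (w : G)⁆ ∈ W2
      rw [← commutatorElement_inv]
      exact inv_mem (Subgroup.commutator_mem_commutator (hW1 w.2) hx)
    set S12 := W1x ⊔ W1 with hS12
    have hDS : D ≤ S12 := by
      rintro _ ⟨w, rfl⟩
      show ⁅x, (w : G)⁆ ∈ S12
      rw [commutatorElement_def]
      exact mul_mem (Subgroup.mem_sup_left (Subgroup.mem_map.2 ⟨w, w.2, rfl⟩))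
        (inv_mem (Subgroup.mem_sup_right w.2))
    have hW1xV : W1x ≤ V := by rintro _ ⟨w, hw, rfl⟩; exact hconjW1 w hw
    have hS12card : Nat.card S12 = Nat.card W1 * Nat.card W1 := by
      have h := FFP.card_sup_in hV.1 hW1xV hW1
      rw [inf_comm, hxI, Subgroup.card_bot, mul_one,
        Subgroup.card_map_of_injective (MulAut.conj x).injective] at h
      exact h
    have hE1S : ∀ e ∈ E1, S12.map (MulAut.conj e).toMonoidHom ≤ S12 := by
      intro e he
      rw [hS12, Subgroup.map_sup]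
      refine sup_le_sup ?_ ?_
      · rintro _ ⟨w, hw, rfl⟩
        show e * w * e⁻¹ ∈ W1x
        rw [← Subgroup.mem_centralizer_iff.1
          ((Subgroup.le_centralizer_iff.1 (Subgroup.commutator_eq_bot_iff_le_centralizer.1 hxC)) he)
          w hw, mul_inv_cancel_right]
        exact hw
      · rintro _ ⟨w, hw, rfl⟩
        exact le_normalizer_iff_forall_conj_mem.1 (right_le_normalizer_commutator V E1) e he w hw
    let T : Subgroup E1 := (Subgroup.normalizer (W2 : Set G)).subgroupOf E1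
    have hmove : ∀ e : E1, e ∉ T → W2.map (MulAut.conj (e : G)).toMonoidHom ≠ W2 := by
      intro e he h
      refine he (Subgroup.mem_subgroupOf.2 (Subgroup.mem_normalizer_iff.2 fun w => ?_))
      conv_rhs => rw [← h, FFP.map_mem_iff]
      rw [show (e : G)⁻¹ * ((e : G) * w * (e : G)⁻¹) * e = w by group]
    -- two cosets outside `T` give three independent commutators
    have hthree : ∀ a b : E1, a ∉ T → b ∉ T → a⁻¹ * b ∈ T := by
      intro a b ha hb
      by_contra hab
      set Da := D.map (MulAut.conj (a : G)).toMonoidHom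
      set Db := D.map (MulAut.conj (b : G)).toMonoidHom
      have pa := hpair E2 s2 I2 hE2ne a (s1.1 a.2) (hmove a ha)
      have pb := hpair E2 s2 I2 hE2ne b (s1.1 b.2) (hmove b hb)
      have pab := hpair E2 s2 I2 hE2ne ((b⁻¹ * a : E1) : G) (s1.1 (b⁻¹ * a).2)
        (hmove _ (fun h => hab (by simpa using inv_mem h)))
      set E2b := E2.map (MulAut.conj (b : G)).toMonoidHom
      set W2b := W2.map (MulAut.conj (b : G)).toMonoidHom
      have hfix := fix_eq_bot hV hEV hf hOp s2 I2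
      -- `E2` conjugated by `b` centralises the two other modules
      have hc1 : W2 ≤ Subgroup.centralizer (E2b : Set G) := by
        refine fun w hw => Subgroup.mem_centralizer_iff.2 ?_
        rintro _ ⟨y, hy, rfl⟩
        have pb' := hpair E2 s2 I2 hE2ne ((b⁻¹ : E1) : G) (s1.1 (b⁻¹).2)
          (hmove _ (fun h => hb (by simpa using inv_mem h)))
        have h1 := Subgroup.mem_centralizer_iff.1
          (Subgroup.commutator_eq_bot_iff_le_centralizer.1 pb'.2 (Subgroup.mem_map.2 ⟨w, hw, rfl⟩)) y hy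
        refine (MulAut.conj (b : G)⁻¹).injective ?_
        simpa [map_mul, mul_assoc] using h1
      have hc2 : W2.map (MulAut.conj (a : G)).toMonoidHom ≤ Subgroup.centralizer (E2b : Set G) := by
        rintro _ ⟨w, hw, rfl⟩
        refine Subgroup.mem_centralizer_iff.2 ?_
        rintro _ ⟨y, hy, rfl⟩
        have h1 := Subgroup.mem_centralizer_iff.1
          (Subgroup.commutator_eq_bot_iff_le_centralizer.1 pab.2 (Subgroup.mem_map.2 ⟨w, hw, rfl⟩)) y hy
        refine (MulAut.conj (b : G)⁻¹).injective ?_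
        simpa [map_mul, mul_assoc] using h1
      have hindep : (D ⊔ Da) ⊓ Db = ⊥ := by
        refine le_bot_iff.1 fun z hz => Subgroup.mem_bot.2 ?_
        obtain ⟨hz1, hz2⟩ := Subgroup.mem_inf.1 hz
        have hzc := sup_le (hDW2.trans hc1) ((Subgroup.map_mono hDW2).trans hc2) hz1
        obtain ⟨w, hw, rfl⟩ := Subgroup.mem_map.1 hz2
        have hw' : w ∈ W2 ⊓ Subgroup.centralizer (E2 : Set G) := Subgroup.mem_inf.2 ⟨hDW2 hw,
          Subgroup.mem_centralizer_iff.2 fun y hy => by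
            refine (MulAut.conj (b : G)).injective ?_
            simpa [map_mul] using Subgroup.mem_centralizer_iff.1 hzc _ (Subgroup.mem_map.2 ⟨y, hy, rfl⟩)⟩
        rw [hfix, Subgroup.mem_bot] at hw'
        rw [hw', map_one]
      have hindep2 : D ⊓ Da = ⊥ :=
        le_bot_iff.1 (le_trans (inf_le_inf hDW2 (Subgroup.map_mono hDW2)) pa.1.le)
      have hDV : D ≤ V := hDW2.trans hW2
      have hmapV : ∀ e : E1, D.map (MulAut.conj (e : G)).toMonoidHom ≤ V := by
        rintro e _ ⟨w, hw, rfl⟩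
        exact le_normalizer_iff_forall_conj_mem.1 hEV e (s1.1 e.2) w (hDV hw)
      have h1 := FFP.card_sup_in hV.1 hDV (hmapV a)
      have h2 := FFP.card_sup_in hV.1 (sup_le hDV (hmapV a)) (hmapV b)
      rw [hindep, Subgroup.card_bot, mul_one] at h2
      rw [hindep2, Subgroup.card_bot, mul_one] at h1
      rw [h1, Subgroup.card_map_of_injective (MulAut.conj (a : G)).injective,
        Subgroup.card_map_of_injective (MulAut.conj (b : G)).injective, hDcard] at h2
      have h3 : Nat.card ((D ⊔ Da) ⊔ Db : Subgroup G) ≤ Nat.card S12 := Subgroup.card_le_of_le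
        (sup_le (sup_le hDS ((Subgroup.map_mono hDS).trans (hE1S a a.2)))
          ((Subgroup.map_mono hDS).trans (hE1S b b.2)))
      rw [h2, hS12card] at h3
      have h4 : Nat.card W1 ≤ 1 := by
        have hpos : 0 < Nat.card W1 := Nat.card_pos
        by_contra h
        nlinarith [Nat.mul_pos hpos hpos]
      have h5 : W1 = ⊥ := Subgroup.card_eq_one.1 (le_antisymm h4 Nat.card_pos)
      exact h12 (h5 ▸ bot_le)
    obtain ⟨a, ha⟩ : ∃ a : E1, a ∉ T := by
      by_contra h
      push Not at h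
      exact hinv1 fun e he => Subgroup.mem_subgroupOf.1 (h ⟨e, he⟩)
    -- the stabiliser acts trivially
    have hT : T = ⊥ := by
      refine le_bot_iff.1 fun s hs => Subgroup.mem_bot.2 ?_
      have hs' : a * s * a⁻¹ ∈ T := by
        by_contra h
        have hai : a⁻¹ ∉ T := fun h' => ha (by simpa using inv_mem h')
        have h1 := hthree (a * s * a⁻¹) a h ha
        have h2 : a * s⁻¹ ∈ T := by
          rw [show (a * s * a⁻¹)⁻¹ * a = a * s⁻¹ * a⁻¹ * a by group] at h1
          simpa [mul_assoc] using h1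
        exact ha (by simpa [mul_assoc] using mul_mem h2 hs)
      have hWn : (s : G) ∈ Subgroup.normalizer (W2 : Set G) := hs
      have himg : ∀ t : E1, t ∈ T → ∀ w ∈ W1, ⁅w, (t : G)⁆ ∈ W2 := by
        intro t ht w hw
        have hd : ⁅x, w⁆ ∈ W2 := hDW2 ⟨⟨w, hw⟩, rfl⟩
        have h1 : (t : G) * ⁅x, w⁆ * (t : G)⁻¹ ∈ W2 :=
          (Subgroup.mem_normalizer_iff.1 (Subgroup.mem_subgroupOf.1 ht) _).1 hd
        have hxw : x * w * x⁻¹ ∈ W1x := Subgroup.mem_map.2 ⟨w, hw, rfl⟩
        have hfixx : (t : G) * (x * w * x⁻¹) * (t : G)⁻¹ = x * w * x⁻¹ := by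
          rw [← Subgroup.mem_centralizer_iff.1
            ((Subgroup.le_centralizer_iff.1 (Subgroup.commutator_eq_bot_iff_le_centralizer.1 hxC)) t.2)
            _ hxw, mul_inv_cancel_right]
        have h2 : ⁅w, (t : G)⁆ = ⁅x, w⁆⁻¹ * ((t : G) * ⁅x, w⁆ * (t : G)⁻¹) := by
          calc ⁅w, (t : G)⁆ = ⁅x, w⁆⁻¹ * ((x * w * x⁻¹) * ((t : G) * w⁻¹ * (t : G)⁻¹)) := by
                simp [commutatorElement_def, mul_assoc]
            _ = ⁅x, w⁆⁻¹ * (((t : G) * (x * w * x⁻¹) * (t : G)⁻¹) * ((t : G) * w⁻¹ * (t : G)⁻¹)) := by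
                rw [hfixx]
            _ = _ := by simp [commutatorElement_def, mul_assoc]
        rw [h2]
        exact mul_mem (inv_mem hd) h1
      have hsW1 : ∀ w ∈ W1, ⁅w, (s : G)⁆ = 1 := by
        intro w hw
        have h1 : (a : G) * w * (a : G)⁻¹ ∈ W1 :=
          le_normalizer_iff_forall_conj_mem.1 (right_le_normalizer_commutator V E1) a a.2 w hw
        have h2 := himg _ hs' _ h1
        have h3 : ⁅(a : G) * w * (a : G)⁻¹, ((a * s * a⁻¹ : E1) : G)⁆ =
            (a : G) * ⁅w, (s : G)⁆ * (a : G)⁻¹ := by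
          simp [commutatorElement_def, mul_assoc]
        rw [h3] at h2
        have h4 : ⁅w, (s : G)⁆ ∈ W2.map (MulAut.conj ((a⁻¹ : E1) : G)).toMonoidHom := by
          rw [FFP.map_mem_iff]
          simpa using h2
        have pa := hpair E2 s2 I2 hE2ne ((a⁻¹ : E1) : G) (s1.1 (a⁻¹).2)
          (hmove _ (fun h => ha (by simpa using inv_mem h)))
        exact Subgroup.mem_bot.1 (pa.1.le (Subgroup.mem_inf.2 ⟨himg s hs w hw, h4⟩))
      -- so `s` stabilizes `V ≥ W1 ≥ 1`
      have hT1 : ∀ t : E1, (∀ w ∈ W1, ⁅w, (t : G)⁆ = 1) → (t : G) ^ p = 1 := by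
        intro t ht
        refine Subgroup.mem_bot.1 (hf.le (Subgroup.mem_inf.2 ⟨pow_mem (s1.1 t.2) p, ?_⟩))
        rw [Subgroup.mem_centralizer_iff]
        intro v hv
        have hw : ⁅v, (t : G)⁆ ∈ W1 := Subgroup.commutator_mem_commutator hv t.2
        have hwd : Commute ⁅v, (t : G)⁆ (t : G) := commutatorElement_eq_one_iff_mul_comm.1 (ht _ hw)
        have h3 : ∀ k : ℕ, v * (t : G) ^ k = ⁅v, (t : G)⁆ ^ k * (t : G) ^ k * v := by
          intro k
          induction k with
          | zero => simp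
          | succ k ih =>
            have e : v * (t : G) = ⁅v, (t : G)⁆ * t * v := by simp [commutatorElement_def, mul_assoc]
            calc v * (t : G) ^ (k + 1) = v * (t : G) ^ k * t := by rw [pow_succ]; group
              _ = ⁅v, (t : G)⁆ ^ k * (t : G) ^ k * (v * t) := by rw [ih]; group
              _ = ⁅v, (t : G)⁆ ^ k * ((t : G) ^ k * ⁅v, (t : G)⁆) * t * v := by rw [e]; group
              _ = ⁅v, (t : G)⁆ ^ k * (⁅v, (t : G)⁆ * (t : G) ^ k) * t * v := by
                rw [(hwd.pow_right k).eq]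
              _ = ⁅v, (t : G)⁆ ^ (k + 1) * (t : G) ^ (k + 1) * v := by
                rw [pow_succ ⁅v, (t : G)⁆, pow_succ (t : G)]; group
        rw [h3 p, hV.2 _ (hW1 hw), one_mul]
      set N := (E1 ⊓ Subgroup.centralizer (W1 : Set G)) with hN
      have hNp : IsPGroup p N := fun t => ⟨1, Subtype.ext (by
        simpa using hT1 ⟨t, t.2.1⟩ fun w hw => commutatorElement_eq_one_iff_mul_comm.2
          (Subgroup.mem_centralizer_iff.1 t.2.2 w hw))⟩
      have hNn : (N.subgroupOf E1).Normal := by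
        refine (Subgroup.normal_subgroupOf_iff_le_normalizer inf_le_left).2
          (le_normalizer_inf_of_le Subgroup.le_normalizer
            ((right_le_normalizer_commutator V E1).trans (FFP.normalizer_le_normalizer_cent _)))
      have hbot : N = ⊥ := hOp N ((show Sn E1 N from ⟨inf_le_left, hNn.isSubnormal⟩).trans s1) hNp
      refine Subtype.ext (Subgroup.mem_bot.1 (hbot.le (Subgroup.mem_inf.2 ⟨s.2, ?_⟩)))
      exact Subgroup.mem_centralizer_iff.2 fun w hw => commutatorElement_eq_one_iff_mul_comm.1 (hsW1 w hw)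
    have hcard : Nat.card E1 ≤ 2 := by
      have hall : ∀ b : E1, b = 1 ∨ b = a := by
        intro b
        by_cases hb : b ∈ T
        · exact Or.inl (by rwa [hT, Subgroup.mem_bot] at hb)
        · have h := hthree a b ha hb
          rw [hT, Subgroup.mem_bot, inv_mul_eq_one] at h
          exact Or.inr h.symm
      have : Nat.card E1 ≤ Nat.card Bool := Nat.card_le_card_of_surjective
        (fun c : Bool => if c then a else 1) fun b => by
          rcases hall b with h | h
          · exact ⟨false, by simp [h]⟩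
          · exact ⟨true, by simp [h]⟩
      simpa using this
    exact absurd I1.two (by omega)

end CfsgLib.Solv.IrrSN
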