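import Cfsg.Agent.Solv.TransvectionDecomp
import Cfsg.Agent.Perm.HallHigman
import Cfsg.Agent.Fus.SolvableRealized
import Cfsg.Agent.Inv.FStarAction
import Mathlib.GroupTheory.SemidirectProduct

/-!
The transvection blocks of the Thompson subgroup on a normal elementary abelian subgroup.
-/

set_option autoImplicit false
set_option linter.style.haveILetI false
set_option linter.deprecated false
set_option linter.unusedSectionVars false

open scoped commutatorElement Pointwise

namespace CfsgLib.Solv.FFP

variable {G : Type*} [Group G] [Finite G] {p : ℕ} [hp : Fact p.Prime]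

/-- Hall–Higman 1.2.3, dual form: `O_p(G) = 1` gives `C(O_{p'}(G)) ≤ O_{p'}(G)`. -/
theorem centralizer_pPrimeCore_le_of_pSolvable (hG : Cfsg.IsPSolvable p G)
    (hO : Cfsg.pCore p G = ⊥) :
    Subgroup.centralizer (Cfsg.pPrimeCore p G : Set G) ≤ Cfsg.pPrimeCore p G := by
  classical
  set P₀ := Cfsg.pPrimeCore p G with hP₀
  haveI : P₀.Normal := pPrimeCore_normal G p
  obtain ⟨n, H, h0, hlast, hmono, hHn, hstep⟩ := hG
  set C := Subgroup.centralizer (P₀ : Set G)
  haveI hCn : C.Normal := Subgroup.normal_centralizer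
  suffices ∀ i : Fin (n + 1), C ⊓ H i ≤ P₀ by
    have := this (Fin.last n)
    rwa [hlast, inf_top_eq] at this
  intro i
  induction i using Fin.induction with
  | zero => rw [h0, inf_bot_eq]; exact bot_le
  | succ i ih =>
    haveI := hHn i.castSucc
    haveI := hHn i.succ
    set D := C ⊓ H i.succ with hD
    set Z := C ⊓ H i.castSucc with hZ
    have hle : H i.castSucc ≤ H i.succ := hmono i.castSucc_le_succ
    have hZD : Z ≤ D := inf_le_inf_left _ hle
    have hdvd : Z.relIndex D ∣ (H i.castSucc).relIndex (H i.succ) := by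
      have e : Z.relIndex D = (H i.castSucc).relIndex D := by
        rw [← Subgroup.inf_relIndex_right (H i.castSucc) D, hD, hZ, ← inf_assoc, inf_comm (H i.castSucc) C, inf_assoc,
          inf_eq_left.2 hle]
      rw [e]
      rw [← Subgroup.relIndex_subgroupOf (inf_le_right : D ≤ H i.succ)]
      exact Subgroup.relIndex_dvd_index_of_normal _ _
    have hZc : (Nat.card Z).Coprime p :=
      Nat.Coprime.coprime_dvd_left (Subgroup.card_dvd_of_le ih) (pPrimeCore_coprime G p)
    have hcard := relIndex_mul_card hZD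
    rcases hstep i with ⟨m, hm⟩ | hco
    · obtain ⟨b, -, hb⟩ := (Nat.dvd_prime_pow hp.out).1 (hm ▸ hdvd)
      obtain ⟨S⟩ : Nonempty (Sylow p D) := inferInstance
      have hdcard : Nat.card D = p ^ b * Nat.card Z := by rw [← hcard, hb, mul_comm]
      obtain ⟨c, hc⟩ := S.2.exists_card_eq
      have hSb : p ^ b ∣ Nat.card (S : Subgroup D) := by
        rw [Sylow.card_eq_multiplicity S]
        exact pow_dvd_pow p ((hp.out.pow_dvd_iff_le_factorization Nat.card_pos.ne').1
          (hdcard ▸ dvd_mul_right _ _))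
      set Z' := Z.subgroupOf D
      haveI : Z'.Normal := by
        haveI : Z.Normal := by rw [hZ]; exact Subgroup.normal_inf_normal C (H i.castSucc)
        exact Subgroup.normal_subgroupOf
      have hZ'card : Nat.card Z' = Nat.card Z :=
        Nat.card_congr (Subgroup.subgroupOfEquivOfLe hZD).toEquiv
      have hdisj : (S : Subgroup D) ⊓ Z' = ⊥ := inf_eq_bot_of_coprime_card (by
        rw [hc, hZ'card]; exact (hZc.pow_right c).symm)
      have htop : (S : Subgroup D) ⊔ Z' = ⊤ := by
        refine Subgroup.eq_top_of_le_card _ ?_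
        have h := card_sup_mul_card_inf (S : Subgroup D) Z'
        rw [hdisj, Subgroup.card_bot, mul_one] at h
        rw [h, hdcard, hZ'card]
        exact Nat.mul_le_mul_right _ (Nat.le_of_dvd Nat.card_pos hSb)
      haveI hSn : (S : Subgroup D).Normal := by
        rw [← Subgroup.normalizer_eq_top_iff, eq_top_iff, ← htop]
        refine sup_le Subgroup.le_normalizer ?_
        refine le_trans (fun z hz => ?_) (Subgroup.centralizer_le_normalizer _)
        refine Subgroup.mem_centralizer_iff.2 fun s _ => Subtype.ext ?_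
        exact (Subgroup.mem_centralizer_iff.1 (s.2 : (s : G) ∈ C ⊓ H i.succ).1 (z : G) (ih hz)).symm
      have hSle : (S : Subgroup D) ≤ Cfsg.pCore p D := le_pCore S.2
      haveI : D.Normal := by rw [hD]; exact Subgroup.normal_inf_normal C (H i.succ)
      haveI : (Cfsg.pCore p D).Characteristic := pCore_characteristic
      haveI : ((Cfsg.pCore p D).map D.subtype).Normal :=
        normal_map_subtype_of_characteristic (Cfsg.pCore p D)
      have hbot : (Cfsg.pCore p D).map D.subtype = ⊥ := le_bot_iff.1 (hO ▸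
        le_pCore ((pCore_isPGroup D p).map D.subtype))
      rw [Subgroup.map_eq_bot_iff_of_injective _ D.subtype_injective] at hbot
      rw [hbot, le_bot_iff] at hSle
      rw [hSle, bot_sup_eq] at htop
      exact (Subgroup.subgroupOf_eq_top.1 htop).trans ih
    · have hco' : (Z.relIndex D).Coprime p := hco.coprime_dvd_left hdvd
      haveI : D.Normal := by rw [hD]; exact Subgroup.normal_inf_normal C (H i.succ)
      exact le_pPrimeCore (by rw [← hcard]; exact (Nat.Coprime.mul_left hZc hco'))

theorem card_map_mul_ker {G' : Type*} [Group G'] (f : G →* G') (B : Subgroup G) :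
    Nat.card (B.map f) * Nat.card (B ⊓ f.ker : Subgroup G) = Nat.card B := by
  let g := f.comp B.subtype
  have h1 : g.range = B.map f := by rw [MonoidHom.range_comp, Subgroup.range_subtype]
  have h2 : Nat.card g.ker = Nat.card (B ⊓ f.ker : Subgroup G) := by
    have : g.ker = (B ⊓ f.ker).subgroupOf B := by
      ext x
      simp [g, MonoidHom.mem_ker, Subgroup.mem_subgroupOf]
    rw [this, Nat.card_congr (Subgroup.subgroupOfEquivOfLe inf_le_left).toEquiv]
  rw [← h1, ← Subgroup.index_ker g, ← h2, mul_comm, Subgroup.card_mul_index]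

/-- A max elementary abelian subgroup is an offender of measure `|V|`, and if `J(G)` moves `V`
there is an `SL(2,p)` block. -/
theorem transfer (hsep : Cfsg.IsPSolvable p G) (V : Subgroup G) [V.Normal]
    (hV : Cfsg.IsElementaryAbelian p V)
    (hO : Cfsg.pCore p (G ⧸ Subgroup.centralizer (V : Set G)) = ⊥) :
    (∀ A ∈ Cfsg.maxElementaryAbelianSubgroups p G,
      Nat.card A * Nat.card (V ⊓ Subgroup.centralizer (A : Set G) : Subgroup G) =
        Nat.card (A ⊓ Subgroup.centralizer (V : Set G) : Subgroup G) * Nat.card V) ∧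
    (¬ Cfsg.thompsonSubgroup p G ≤ Subgroup.centralizer (V : Set G) →
      (p = 2 ∨ p = 3) ∧ ∃ E : Subgroup G, Subgroup.centralizer (V : Set G) ≤ E ∧
        E ≤ Cfsg.thompsonSubgroup p G ⊔ Subgroup.centralizer (V : Set G) ∧
        Cfsg.thompsonSubgroup p G ⊔ Subgroup.centralizer (V : Set G) ≤
          Subgroup.normalizer (E : Set G) ∧
        ∃ _ : ((Subgroup.centralizer (V : Set G)).subgroupOf E).Normal,
          Nonempty ((E ⧸ (Subgroup.centralizer (V : Set G)).subgroupOf E) ≃*
            Matrix.SpecialLinearGroup (Fin 2) (ZMod p))) := by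
  classical
  set C := Subgroup.centralizer (V : Set G) with hC
  haveI : C.Normal := Subgroup.normal_centralizer
  let α : G ⧸ C →* MulAut V := QuotientGroup.lift C (MulAut.conjNormal : G →* MulAut V)
    fun g hg => MonoidHom.mem_ker.2 (MulEquiv.ext fun v => Subtype.ext (by
      rw [MulAut.conjNormal_apply, MulAut.one_apply, ← Subgroup.mem_centralizer_iff.1 hg _ v.2,
        mul_inv_cancel_right]))
  let S := SemidirectProduct V (G ⧸ C) α
  haveI : Finite S := Finite.of_equiv _ SemidirectProduct.equivProd.symm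
  let i : V →* S := SemidirectProduct.inl
  let f : G →* S := (SemidirectProduct.inr : G ⧸ C →* S).comp (QuotientGroup.mk' C)
  have hconj : ∀ (g : G) (v : V), f g * i v * (f g)⁻¹ = i (MulAut.conjNormal g v) := by
    intro g v
    show (SemidirectProduct.inr (QuotientGroup.mk g) : S) * SemidirectProduct.inl v *
      (SemidirectProduct.inr (QuotientGroup.mk g) : S)⁻¹ = _
    rw [← map_inv, ← SemidirectProduct.inl_aut]
    rfl
  have hcomm : ∀ (g : G) (v : V), i v * f g = f g * i v ↔ (v : G) * g = g * v := by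
    intro g v
    constructor
    · intro h
      have h1 : f g * i v * (f g)⁻¹ = i v := by rw [← h, mul_inv_cancel_right]
      rw [hconj] at h1
      have h2 : g * v * g⁻¹ = v := congrArg Subtype.val (SemidirectProduct.inl_injective h1)
      calc (v : G) * g = g * v * g⁻¹ * g := by rw [h2]
        _ = g * v := by group
    · intro h
      have h1 : MulAut.conjNormal g v = v := Subtype.ext (by
        rw [MulAut.conjNormal_apply, ← h, mul_inv_cancel_right])
      calc i v * f g = f g * i v * (f g)⁻¹ * f g := by rw [hconj, h1]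
        _ = f g * i v := by rw [inv_mul_cancel_right]
  have hker : f.ker = C := by
    ext g
    rw [MonoidHom.mem_ker, ← QuotientGroup.eq_one_iff (N := C)]
    exact (map_eq_one_iff _ SemidirectProduct.inr_injective).trans Iff.rfl
  set V' := i.range with hV'
  haveI : V'.Normal := by
    rw [hV']; show (SemidirectProduct.inl : V →* S).range.Normal
    rw [SemidirectProduct.range_inl_eq_ker_rightHom]; infer_instance
  have hV'ea : Cfsg.IsElementaryAbelian p V' := by
    refine ⟨⟨⟨?_⟩⟩, ?_⟩
    · rintro ⟨_, a, rfl⟩ ⟨_, b, rfl⟩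
      refine Subtype.ext ?_
      show i a * i b = i b * i a
      rw [← map_mul, ← map_mul, show a * b = b * a from hV.1.is_comm.comm a b]
    · rintro _ ⟨a, rfl⟩
      rw [← map_pow, show a ^ p = 1 from Subtype.ext (by simpa using hV.2 a a.2), map_one]
  set J := Cfsg.thompsonSubgroup p G with hJ
  set H' := J.map f with hH'
  have hf : H' ⊓ Subgroup.centralizer (V' : Set S) = ⊥ := by
    refine le_bot_iff.1 fun x hx => ?_
    obtain ⟨hx1, hx2⟩ := Subgroup.mem_inf.1 hx
    obtain ⟨g, hg, rfl⟩ := Subgroup.mem_map.1 hx1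
    rw [Subgroup.mem_bot, ← MonoidHom.mem_ker, hker, hC, Subgroup.mem_centralizer_iff]
    intro v hv
    exact (hcomm g ⟨v, hv⟩).1 (Subgroup.mem_centralizer_iff.1 hx2 _ ⟨⟨v, hv⟩, rfl⟩)
  haveI : J.Characteristic := thompsonSubgroup_characteristic
  set Jq := J.map (QuotientGroup.mk' C) with hJq
  haveI : Jq.Normal := Subgroup.Normal.map inferInstance _ (QuotientGroup.mk'_surjective C)
  have hH'q : H' = Jq.map (SemidirectProduct.inr : G ⧸ C →* S) := by
    rw [hH', hJq, Subgroup.map_map]
  have hsepq : Cfsg.IsPSolvable p Jq :=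
    CfsgLib.Fus.SolvReal.isPSolvable_subgroup (CfsgLib.Perm.isPSolvable_quotient hsep C) Jq
  have hOq : Cfsg.pCore p Jq = ⊥ :=
    CfsgLib.Inv.FStar.pCore_eq_bot (Subgroup.Normal.isSubnormal inferInstance) hO
  let e : Jq ≃* H' :=
    (Jq.equivMapOfInjective _ SemidirectProduct.inr_injective).trans (MulEquiv.subgroupCongr hH'q.symm)
  have hS1 : Subgroup.centralizer (Cfsg.pPrimeCore p H' : Set H') ≤ Cfsg.pPrimeCore p H' :=
    centralizer_pPrimeCore_le_of_pSolvable
      (CfsgLib.Fus.SolvReal.isPSolvable_of_surjective (f := e.toMonoidHom) e.surjective hsepq)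
      (by rw [← map_pCore_equiv e, hOq, Subgroup.map_bot])
  have Cx := ctx_of hV'ea (Subgroup.normalizer_eq_top (H := V') ▸ le_top) hf hS1
  -- centralizers and measures
  have hcent : ∀ B : Subgroup G, Nat.card (V' ⊓ Subgroup.centralizer ((B.map f : Subgroup S) : Set S) :
      Subgroup S) = Nat.card (V ⊓ Subgroup.centralizer (B : Set G) : Subgroup G) := by
    intro B
    have : V' ⊓ Subgroup.centralizer ((B.map f : Subgroup S) : Set S) =
        ((V ⊓ Subgroup.centralizer (B : Set G)).subgroupOf V).map i := by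
      refine le_antisymm (fun x hx => ?_) ?_
      · obtain ⟨hx1, hx2⟩ := Subgroup.mem_inf.1 hx
        obtain ⟨v, rfl⟩ := hx1
        refine Subgroup.mem_map.2 ⟨v, ⟨v.2, Subgroup.mem_centralizer_iff.2 fun b hb => ?_⟩, rfl⟩
        exact ((hcomm b v).1 (Subgroup.mem_centralizer_iff.1 hx2 _ (Subgroup.mem_map_of_mem f hb)).symm).symm
      · rintro _ ⟨v, hv, rfl⟩
        refine ⟨⟨v, rfl⟩, Subgroup.mem_centralizer_iff.2 ?_⟩
        rintro _ ⟨b, hb, rfl⟩
        exact ((hcomm b v).2 (Subgroup.mem_centralizer_iff.1 hv.2 b hb).symm).symm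
    rw [this, Subgroup.card_map_of_injective SemidirectProduct.inl_injective,
      Nat.card_congr (Subgroup.subgroupOfEquivOfLe inf_le_left).toEquiv]
  have hcardV' : Nat.card V' = Nat.card V :=
    (Nat.card_congr (MonoidHom.ofInjective SemidirectProduct.inl_injective).toEquiv).symm
  have hoff : ∀ A ∈ Cfsg.maxElementaryAbelianSubgroups p G,
      A.map f ≤ H' ∧ Cfsg.IsBestOffenderOn p V' (A.map f) := by
    intro A hA
    refine ⟨Subgroup.map_mono (le_sSup hA), fun B' hB' => ?_, ?_, ?_⟩
    · set B := A ⊓ B'.comap f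
      have hBmap : B.map f = B' := by
        refine le_antisymm ?_ fun x hx => ?_
        · exact (Subgroup.map_mono inf_le_right).trans (Subgroup.map_comap_le _ _)
        · obtain ⟨a, ha, rfl⟩ := Subgroup.mem_map.1 (hB' hx)
          exact Subgroup.mem_map_of_mem _ (Subgroup.mem_inf.2 ⟨ha, hx⟩)
      have hBker : B ⊓ f.ker = A ⊓ f.ker := le_antisymm (inf_le_inf_right _ inf_le_left)
        (le_inf (le_inf inf_le_left (inf_le_right.trans (Subgroup.ker_le_comap f B'))) inf_le_right)
      have h1 := (max_isBestOffenderOn hV hA).1 B inf_le_left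
      rw [← card_map_mul_ker f B, ← card_map_mul_ker f A, hBker, hBmap, ← hcent B, ← hcent A, hBmap] at h1
      refine Nat.le_of_mul_le_mul_right (c := Nat.card (A ⊓ f.ker : Subgroup G)) ?_ Nat.card_pos
      calc _ = Nat.card B' * Nat.card (A ⊓ f.ker : Subgroup G) *
            Nat.card (V' ⊓ Subgroup.centralizer (B' : Set S) : Subgroup S) := by ring
        _ ≤ _ := h1
        _ = _ := by ring
    · rw [← Subgroup.map_commutator]
      have : ⁅A, A⁆ = ⊥ := Subgroup.commutator_eq_bot_iff_le_centralizer.2 fun a ha =>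
        Subgroup.mem_centralizer_iff.2 fun b hb => commute_of_isElementaryAbelian hA.1 hb ha
      rw [this, Subgroup.map_bot]; exact bot_le
    · rintro _ ⟨a, ha, rfl⟩
      rw [← map_pow, hA.1.2 a ha, map_one]; exact one_mem _
  have hgen : H' = ⨆ A : {A : Subgroup S // A ≤ H' ∧ Cfsg.IsBestOffenderOn p V' A}, (A : Subgroup S) := by
    refine le_antisymm ?_ (iSup_le fun A => A.2.1)
    conv_lhs => rw [hH', hJ, Cfsg.thompsonSubgroup, sSup_eq_iSup', Subgroup.map_iSup]
    refine iSup_le fun A => le_iSup_of_le ⟨_, (hoff A.1 A.2).1, (hoff A.1 A.2).2⟩ le_rfl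
  refine ⟨fun A hA => ?_, fun hJC => ?_⟩
  · have hk : Nat.card (A.map f) * Nat.card (V' ⊓ Subgroup.centralizer ((A.map f : Subgroup S) : Set S) :
        Subgroup S) = Nat.card V' := by
      by_cases h1 : A.map f = ⊥
      · rw [h1, centralizer_bot_inf, Subgroup.card_bot, one_mul]
      · exact (Cx.exists_trans _ (hoff A hA).1 (hoff A hA).2 h1).1
    rw [hcent, hcardV'] at hk
    rw [← hker, ← card_map_mul_ker f A]
    calc _ = (Nat.card (A.map f) * Nat.card (V ⊓ Subgroup.centralizer (A : Set G) : Subgroup G)) *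
          Nat.card (A ⊓ f.ker : Subgroup G) := by ring
      _ = _ := by rw [hk, mul_comm]
  · obtain ⟨A, hA, hAC⟩ : ∃ A ∈ Cfsg.maxElementaryAbelianSubgroups p G, ¬ A ≤ C := by
      by_contra h
      push Not at h
      exact hJC (sSup_le h)
    have h1 : A.map f ≠ ⊥ := fun h => hAC (by rwa [Subgroup.map_eq_bot_iff, hker] at h)
    obtain ⟨-, A₀, hA₀, T⟩ := Cx.exists_trans _ (hoff A hA).1 (hoff A hA).2 h1
    have B := Cx.block T
    obtain ⟨-, -, -, -, hHE, -⟩ := B.global Cx T (Cx.gen hgen)
    obtain ⟨eiso⟩ := B.iso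
    set E' := ⁅(Cfsg.pPrimeCore p ↥H').map H'.subtype, A₀⁆ ⊔ A₀
    set E := E'.comap f with hE
    have hCE : C ≤ E := hker.ge.trans (Subgroup.ker_le_comap f E')
    have hEle : E ≤ J ⊔ C := by
      rw [← hker, ← Subgroup.comap_map_eq]
      exact Subgroup.comap_mono B.hEH
    have hnorm : J ⊔ C ≤ Subgroup.normalizer (E : Set G) := by
      rw [← hker, ← Subgroup.comap_map_eq]
      intro g hg
      refine Subgroup.mem_normalizer_iff.2 fun n => ?_
      show f n ∈ E' ↔ f (g * n * g⁻¹) ∈ E'
      rw [map_mul, map_mul, map_inv]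
      exact Subgroup.mem_normalizer_iff.1 (hHE hg) (f n)
    let r : E →* S := f.comp E.subtype
    have hkr : r.ker = C.subgroupOf E := by
      ext x
      rw [MonoidHom.mem_ker, Subgroup.mem_subgroupOf, ← SetLike.ext_iff.1 hker (x : G), MonoidHom.mem_ker]
      rfl
    have hrr : r.range = E' := by
      rw [MonoidHom.range_comp, Subgroup.range_subtype, hE, Subgroup.map_comap_eq, inf_eq_right]
      refine B.hEH.trans ?_
      rw [hH']; exact Subgroup.map_le_range f J
    have hn : (C.subgroupOf E).Normal := Subgroup.normal_subgroupOf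
    refine ⟨B.hp23, E, hCE, hEle, hnorm, hn, ⟨?_⟩⟩
    exact (QuotientGroup.quotientMulEquivOfEq hkr.symm).trans
      ((QuotientGroup.quotientKerEquivRange r).trans ((MulEquiv.subgroupCongr hrr).trans eiso))

end CfsgLib.Solv.FFP
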