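import Cfsg.Agent.Solv.TransvectionOrbit
import Cfsg.Agent.Solv.TransvectionTransfer
import Cfsg.Agent.Solv.ThompsonFactorStable

/-!
Failure of factorization under coprime operators.
-/

set_option autoImplicit false
set_option linter.style.haveILetI false
set_option linter.deprecated false
set_option linter.unusedSectionVars false

open scoped commutatorElement Pointwise

namespace CfsgLib.Solv.FFP

variable {G : Type*} [Group G] [Finite G] {p : ℕ} [hp : Fact p.Prime]

set_option maxHeartbeats 1000000 in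
theorem operators {q : ℕ} [hqf : Fact q.Prime] (K X : Subgroup G)
    (hXK : X ≤ Subgroup.normalizer (K : Set G)) (hX : Cfsg.IsElementaryAbelian q X)
    (hq : ¬ q ∣ Nat.card K) (hsep : Cfsg.IsPSolvable p K) (hO : Cfsg.pPrimeCore p K = ⊥)
    (S : Sylow p K) :
    (¬ Cfsg.IsThompsonFactorizable p K → (p = 2 ∨ p = 3) ∧ ∃ W D : Subgroup G,
      W ≤ K ⊓ Subgroup.centralizer (X : Set G) ∧ D ≤ K ⊓ Subgroup.centralizer (X : Set G) ∧
      Cfsg.IsElementaryAbelian p W ∧ Nat.card W = p ^ 2 ∧ D ≤ Subgroup.normalizer (W : Set G) ∧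
      ∃ _ : ((Subgroup.centralizer (W : Set G)).subgroupOf D).Normal,
        Nonempty ((D ⧸ (Subgroup.centralizer (W : Set G)).subgroupOf D) ≃*
          Matrix.SpecialLinearGroup (Fin 2) (ZMod p))) ∧
    Cfsg.thompsonSubgroup p K ≤
      Subgroup.normalizer (Cfsg.thompsonSubgroupOf p (S : Subgroup K) : Set K) ⊔
        Subgroup.centralizer (omegaCenterSylow p (S : Subgroup K) : Set K) ⊔
        (Subgroup.centralizer (X : Set G)).subgroupOf K := by
  classical
  have hc := CfsgLib.Perm.centralizer_pCore_le_of_pSolvable hsep hO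
  set W := ⨆ S : Sylow p K, omegaCenterSylow p (S : Subgroup K) with hW
  haveI : W.Normal := normal_iSup_omegaCenter
  have hWea : Cfsg.IsElementaryAbelian p W :=
    isElementaryAbelian_of_le (isElementaryAbelian_omegaOne fun a ha b hb =>
      Subgroup.mem_centralizer_iff.1 (Subgroup.mem_inf.1 hb).2 a (Subgroup.mem_inf.1 ha).1)
      (iSup_omegaCenter_le hc)
  set C := Subgroup.centralizer (W : Set K) with hC
  haveI : C.Normal := Subgroup.normal_centralizer
  have hOC : Cfsg.pCore p (K ⧸ C) = ⊥ := pCore_quotient_centralizer_eq_bot iSup_omegaCenter_generated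
  -- `W` is invariant under automorphisms
  have hWinv : ∀ (ξ : K ≃* K) (k : K), k ∈ W → ξ k ∈ W := by
    intro ξ k hk
    have h : W.map ξ.toMonoidHom ≤ W := by
      rw [hW, Subgroup.map_iSup]
      refine iSup_le fun T => le_iSup_of_le (Sylow.mapSurjective (f := ξ.toMonoidHom) ξ.surjective T) ?_
      rw [omegaOne_map_of_injOn _ _ ξ.injective.injOn, map_zOf _ ξ.injective]
      rfl
    exact h ⟨k, hk, rfl⟩
  haveI : (Cfsg.thompsonSubgroup p K).Characteristic := thompsonSubgroup_characteristic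
  set V := W.map K.subtype with hV
  have hKN : K ≤ Subgroup.normalizer (V : Set G) := by
    refine le_normalizer_iff_forall_conj_mem.2 ?_
    rintro k hk _ ⟨w, hw, rfl⟩
    exact ⟨⟨k, hk⟩ * w * ⟨k, hk⟩⁻¹, Subgroup.Normal.conj_mem inferInstance w hw _, rfl⟩
  have hXN : X ≤ Subgroup.normalizer (V : Set G) := by
    refine le_normalizer_iff_forall_conj_mem.2 ?_
    rintro x hx _ ⟨w, hw, rfl⟩
    exact ⟨_, hWinv (K.normalizerMonoidHom ⟨x, hXK hx⟩) w hw, rfl⟩
  -- the ambient group
  let S₀ := SemidirectProduct V (MulAut V) (MonoidHom.id (MulAut V))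
  haveI : Finite (MulAut V) := inferInstanceAs (Finite (V ≃* V))
  haveI : Finite S₀ := Finite.of_equiv _ SemidirectProduct.equivProd.symm
  let f : Subgroup.normalizer (V : Set G) →* S₀ :=
    (SemidirectProduct.inr : MulAut V →* S₀).comp V.normalizerMonoidHom
  let g : K →* S₀ := f.comp (Subgroup.inclusion hKN)
  let i : V →* S₀ := SemidirectProduct.inl
  have hcommG : ∀ (n : Subgroup.normalizer (V : Set G)) (v : V),
      i v * f n = f n * i v ↔ (v : G) * n = n * v := by
    intro n v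
    have hconj : f n * i v * (f n)⁻¹ = i (V.normalizerMonoidHom n v) := by
      show (SemidirectProduct.inr (V.normalizerMonoidHom n) : S₀) * SemidirectProduct.inl v *
        (SemidirectProduct.inr (V.normalizerMonoidHom n) : S₀)⁻¹ = _
      rw [← map_inv, ← SemidirectProduct.inl_aut]
      rfl
    constructor
    · intro h
      have h1 : f n * i v * (f n)⁻¹ = i v := by rw [← h, mul_inv_cancel_right]
      rw [hconj] at h1
      have h2 : (n : G) * v * (n : G)⁻¹ = v := congrArg Subtype.val (SemidirectProduct.inl_injective h1)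
      exact (mul_inv_eq_iff_eq_mul.1 h2).symm
    · intro h
      have h1 : V.normalizerMonoidHom n v = v := Subtype.ext (by
        show (n : G) * v * (n : G)⁻¹ = v
        rw [← h, mul_inv_cancel_right])
      rw [h1] at hconj
      exact (mul_inv_eq_iff_eq_mul.1 hconj).symm
  have hfker : ∀ n : Subgroup.normalizer (V : Set G),
      f n = 1 ↔ (n : G) ∈ Subgroup.centralizer (V : Set G) := by
    intro n
    constructor
    · intro h
      exact Subgroup.mem_centralizer_iff.2 fun v hv =>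
        (hcommG n ⟨v, hv⟩).1 (by rw [h, mul_one, one_mul])
    · intro h
      show (SemidirectProduct.inr (V.normalizerMonoidHom n) : S₀) = 1
      rw [map_eq_one_iff _ SemidirectProduct.inr_injective]
      refine MulEquiv.ext fun v => Subtype.ext ?_
      show (n : G) * v * (n : G)⁻¹ = v
      rw [← Subgroup.mem_centralizer_iff.1 h v v.2, mul_inv_cancel_right]
  let j : W →* S₀ := i.comp (W.equivMapOfInjective K.subtype K.subtype_injective).toMonoidHom
  have hjinj : Function.Injective j :=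
    SemidirectProduct.inl_injective.comp (W.equivMapOfInjective K.subtype K.subtype_injective).injective
  have hcomm : ∀ (k : K) (w : W), j w * g k = g k * j w ↔ (w : K) * k = k * w := by
    intro k w
    refine (hcommG _ _).trans ?_
    rw [Subtype.ext_iff]
    rfl
  have hker : g.ker = C := by
    ext k
    rw [MonoidHom.mem_ker]
    refine (hfker _).trans ?_
    rw [Subgroup.mem_centralizer_iff, hC, Subgroup.mem_centralizer_iff]
    refine ⟨fun h w hw => Subtype.ext (h _ ⟨w, hw, rfl⟩), ?_⟩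
    rintro h _ ⟨w, hw, rfl⟩
    exact congrArg Subtype.val (h w hw)
  set V' := i.range with hV'
  have hjr : j.range = V' := by
    rw [hV', MonoidHom.range_comp, MonoidHom.range_eq_top.2
      (W.equivMapOfInjective K.subtype K.subtype_injective).surjective, ← MonoidHom.range_eq_map]
  haveI : V'.Normal := by
    rw [hV']; show (SemidirectProduct.inl : V →* S₀).range.Normal
    rw [SemidirectProduct.range_inl_eq_ker_rightHom]; infer_instance
  have hV'ea : Cfsg.IsElementaryAbelian p V' := by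
    rw [← hjr]
    refine ⟨⟨⟨?_⟩⟩, ?_⟩
    · rintro ⟨_, a, rfl⟩ ⟨_, b, rfl⟩
      refine Subtype.ext ?_
      show j a * j b = j b * j a
      rw [← map_mul, ← map_mul, show a * b = b * a from hWea.1.is_comm.comm a b]
    · rintro _ ⟨a, rfl⟩
      rw [← map_pow, show a ^ p = 1 from Subtype.ext (by simpa using hWea.2 a a.2), map_one]
  set J := Cfsg.thompsonSubgroup p K with hJ
  set H' := J.map g with hH'
  have hf : H' ⊓ Subgroup.centralizer (V' : Set S₀) = ⊥ := by
    refine le_bot_iff.1 fun x hx => ?_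
    obtain ⟨hx1, hx2⟩ := Subgroup.mem_inf.1 hx
    obtain ⟨k, hk, rfl⟩ := Subgroup.mem_map.1 hx1
    rw [Subgroup.mem_bot, ← MonoidHom.mem_ker, hker, hC, Subgroup.mem_centralizer_iff]
    intro w hw
    exact (hcomm k ⟨w, hw⟩).1 (Subgroup.mem_centralizer_iff.1 hx2 _ (hjr.le ⟨⟨w, hw⟩, rfl⟩))
  set Jr := J.map g.rangeRestrict with hJr
  haveI : Jr.Normal := Subgroup.Normal.map inferInstance _ g.rangeRestrict_surjective
  have hJrmap : Jr.map g.range.subtype = H' := by
    rw [hJr, Subgroup.map_map, MonoidHom.subtype_comp_rangeRestrict]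
  have hOr : Cfsg.pCore p g.range = ⊥ := by
    rw [← map_pCore_equiv ((QuotientGroup.quotientMulEquivOfEq hker.symm).trans
      (QuotientGroup.quotientKerEquivRange g)), hOC, Subgroup.map_bot]
  have hOJr : Cfsg.pCore p Jr = ⊥ :=
    CfsgLib.Inv.FStar.pCore_eq_bot (Subgroup.Normal.isSubnormal inferInstance) hOr
  let e : Jr ≃* H' :=
    (Jr.equivMapOfInjective _ g.range.subtype_injective).trans (MulEquiv.subgroupCongr hJrmap)
  have hS1 : Subgroup.centralizer (Cfsg.pPrimeCore p H' : Set H') ≤ Cfsg.pPrimeCore p H' :=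
    centralizer_pPrimeCore_le_of_pSolvable
      (CfsgLib.Fus.SolvReal.isPSolvable_of_surjective (f := g.subgroupMap J)
        (g.subgroupMap_surjective J) (CfsgLib.Fus.SolvReal.isPSolvable_subgroup hsep J))
      (by rw [← map_pCore_equiv e, hOJr, Subgroup.map_bot])
  have Cx := ctx_of hV'ea (Subgroup.normalizer_eq_top (H := V') ▸ le_top) hf hS1
  have hcent : ∀ B : Subgroup K,
      Nat.card (V' ⊓ Subgroup.centralizer ((B.map g : Subgroup S₀) : Set S₀) : Subgroup S₀) =
        Nat.card (W ⊓ Subgroup.centralizer (B : Set K) : Subgroup K) := by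
    intro B
    have : V' ⊓ Subgroup.centralizer ((B.map g : Subgroup S₀) : Set S₀) =
        ((W ⊓ Subgroup.centralizer (B : Set K)).subgroupOf W).map j := by
      refine le_antisymm (fun x hx => ?_) ?_
      · obtain ⟨hx1, hx2⟩ := Subgroup.mem_inf.1 hx
        obtain ⟨v, rfl⟩ := hjr.ge hx1
        refine Subgroup.mem_map.2 ⟨v, ⟨v.2, Subgroup.mem_centralizer_iff.2 fun b hb => ?_⟩, rfl⟩
        exact ((hcomm b v).1 (Subgroup.mem_centralizer_iff.1 hx2 _ (Subgroup.mem_map_of_mem g hb)).symm).symm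
      · rintro _ ⟨v, hv, rfl⟩
        refine ⟨hjr.le ⟨v, rfl⟩, Subgroup.mem_centralizer_iff.2 ?_⟩
        rintro _ ⟨b, hb, rfl⟩
        exact ((hcomm b v).2 (Subgroup.mem_centralizer_iff.1 hv.2 b hb).symm).symm
    rw [this, Subgroup.card_map_of_injective hjinj,
      Nat.card_congr (Subgroup.subgroupOfEquivOfLe inf_le_left).toEquiv]
  have hoff : ∀ A ∈ Cfsg.maxElementaryAbelianSubgroups p K,
      A.map g ≤ H' ∧ Cfsg.IsBestOffenderOn p V' (A.map g) := by
    intro A hA
    refine ⟨Subgroup.map_mono (le_sSup hA), fun B' hB' => ?_, ?_, ?_⟩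
    · set B := A ⊓ B'.comap g
      have hBmap : B.map g = B' := by
        refine le_antisymm ?_ fun x hx => ?_
        · exact (Subgroup.map_mono inf_le_right).trans (Subgroup.map_comap_le _ _)
        · obtain ⟨a, ha, rfl⟩ := Subgroup.mem_map.1 (hB' hx)
          exact Subgroup.mem_map_of_mem _ (Subgroup.mem_inf.2 ⟨ha, hx⟩)
      have hBker : B ⊓ g.ker = A ⊓ g.ker := le_antisymm (inf_le_inf_right _ inf_le_left)
        (le_inf (le_inf inf_le_left (inf_le_right.trans (Subgroup.ker_le_comap g B'))) inf_le_right)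
      have h1 := (max_isBestOffenderOn hWea hA).1 B inf_le_left
      rw [← card_map_mul_ker g B, ← card_map_mul_ker g A, hBker, hBmap, ← hcent B, ← hcent A, hBmap] at h1
      refine Nat.le_of_mul_le_mul_right (c := Nat.card (A ⊓ g.ker : Subgroup K)) ?_ Nat.card_pos
      calc _ = Nat.card B' * Nat.card (A ⊓ g.ker : Subgroup K) *
            Nat.card (V' ⊓ Subgroup.centralizer (B' : Set S₀) : Subgroup S₀) := by ring
        _ ≤ _ := h1
        _ = _ := by ring
    · rw [← Subgroup.map_commutator]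
      have : ⁅A, A⁆ = ⊥ := Subgroup.commutator_eq_bot_iff_le_centralizer.2 fun a ha =>
        Subgroup.mem_centralizer_iff.2 fun b hb => commute_of_isElementaryAbelian hA.1 hb ha
      rw [this, Subgroup.map_bot]; exact bot_le
    · rintro _ ⟨a, ha, rfl⟩
      rw [← map_pow, hA.1.2 a ha, map_one]; exact one_mem _
  have hgen0 : H' = ⨆ A : {A : Subgroup S₀ // A ≤ H' ∧ Cfsg.IsBestOffenderOn p V' A},
      (A : Subgroup S₀) := by
    refine le_antisymm ?_ (iSup_le fun A => A.2.1)
    conv_lhs => rw [hH', hJ, Cfsg.thompsonSubgroup, sSup_eq_iSup', Subgroup.map_iSup]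
    exact iSup_le fun A => le_iSup_of_le ⟨_, (hoff A.1 A.2).1, (hoff A.1 A.2).2⟩ le_rfl
  have hgen := Cx.gen hgen0
  -- the operators
  set X' := (X.subgroupOf (Subgroup.normalizer (V : Set G))).map f with hX'
  have hXe : ∀ x ∈ X', x ^ q = 1 := by
    rintro _ ⟨n, hn, rfl⟩
    rw [← map_pow, show n ^ q = 1 from Subtype.ext (by simpa using hX.2 n hn), map_one]
  have hXH : X' ≤ Subgroup.normalizer (H' : Set S₀) := by
    refine le_normalizer_iff_forall_conj_mem.2 ?_
    rintro _ ⟨n, hn, rfl⟩ _ ⟨k, hk, rfl⟩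
    refine ⟨K.normalizerMonoidHom ⟨n, hXK hn⟩ k,
      (Subgroup.characteristic_iff_map_eq.1 (inferInstanceAs J.Characteristic) _).le ⟨k, hk, rfl⟩, ?_⟩
    show f _ = f n * f _ * (f n)⁻¹
    rw [← map_inv, ← map_mul, ← map_mul]
    rfl
  have hXV : X' ≤ Subgroup.normalizer (V' : Set S₀) := Subgroup.normalizer_eq_top (H := V') ▸ le_top
  set Q := (Cfsg.pPrimeCore p H').map H'.subtype with hQ
  have hXQ : X' ≤ Subgroup.normalizer (Q : Set S₀) := by
    refine le_normalizer_iff_forall_conj_mem.2 ?_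
    rintro x hx _ ⟨y, hy, rfl⟩
    exact ⟨H'.normalizerMonoidHom ⟨x, hXH hx⟩ y,
      (map_pPrimeCore_equiv (p := p) (H'.normalizerMonoidHom ⟨x, hXH hx⟩)).le ⟨y, hy, rfl⟩, rfl⟩
  have hqH : ¬ q ∣ Nat.card H' := fun h =>
    hq (h.trans ((J.card_map_dvd g).trans (Subgroup.card_subgroup_dvd_card J)))
  have hcop : (Nat.card X).Coprime (Nat.card K) := by
    obtain ⟨n, hn⟩ := (isPGroup_of_isElementaryAbelian hX).exists_card_eq
    rw [hn]
    exact (hqf.out.coprime_iff_not_dvd.2 hq).pow_left n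
  -- fixed points lift
  have hlift : ∀ h ∈ H', h ∈ Subgroup.centralizer (X' : Set S₀) →
      ∃ k : K, (k : G) ∈ Subgroup.centralizer (X : Set G) ∧ g k = h := by
    rintro _ ⟨k, -, rfl⟩ hc'
    set D := C.map K.subtype with hD
    have hXD : X ≤ Subgroup.normalizer (D : Set G) := by
      refine le_normalizer_iff_forall_conj_mem.2 ?_
      rintro x hx _ ⟨c, hc, rfl⟩
      refine ⟨K.normalizerMonoidHom ⟨x, hXK hx⟩ c, Subgroup.mem_centralizer_iff.2 fun w hw => ?_, rfl⟩
      obtain ⟨w', hw', rfl⟩ : ∃ w' ∈ W, K.normalizerMonoidHom ⟨x, hXK hx⟩ w' = w :=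
        ⟨(K.normalizerMonoidHom ⟨x, hXK hx⟩).symm w, hWinv _ w hw, MulEquiv.apply_symm_apply _ _⟩
      rw [← map_mul, ← map_mul, Subgroup.mem_centralizer_iff.1 hc w' hw']
    have hd : X ⊓ K = ⊥ := inf_eq_bot_of_coprime_card hcop
    have hDK : D ≤ K := Subgroup.map_subtype_le _
    have hfix : ∀ a ∈ X, (k : G)⁻¹ * a * k * a⁻¹ ∈ D := by
      intro a ha
      have hmem : (k : G)⁻¹ * a * k * a⁻¹ ∈ K := by
        rw [show (k : G)⁻¹ * a * k * a⁻¹ = (k : G)⁻¹ * (a * k * a⁻¹) by group]
        exact mul_mem (inv_mem k.2) (le_normalizer_iff_forall_conj_mem.1 hXK a ha k k.2)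
      refine ⟨⟨_, hmem⟩, ?_, rfl⟩
      show (⟨_, hmem⟩ : K) ∈ C
      rw [← hker, MonoidHom.mem_ker]
      show f ((Subgroup.inclusion hKN k)⁻¹ * ⟨a, hXN ha⟩ * Subgroup.inclusion hKN k * ⟨a, hXN ha⟩⁻¹) = 1
      rw [map_mul, map_mul, map_mul, map_inv, map_inv,
        mul_assoc (f (Subgroup.inclusion hKN k))⁻¹]
      show (g k)⁻¹ * (f ⟨a, hXN ha⟩ * g k) * (f ⟨a, hXN ha⟩)⁻¹ = 1
      rw [Subgroup.mem_centralizer_iff.1 hc' (f ⟨a, hXN ha⟩) ⟨⟨a, hXN ha⟩, ha, rfl⟩, ← mul_assoc]
      show (g k)⁻¹ * g k * f ⟨a, hXN ha⟩ * (f ⟨a, hXN ha⟩)⁻¹ = 1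
      rw [inv_mul_cancel, one_mul, mul_inv_cancel]
    obtain ⟨d, hd', hdX⟩ := exists_centralizing_in_coset hXK hd hDK hXD
      (hcop.coprime_dvd_right (Subgroup.card_dvd_of_le hDK)) (Or.inl (Group.isSolvable_of_comm fun a b : X => hX.1.is_comm.comm a b))
      k.2 hfix
    obtain ⟨c, hc, rfl⟩ := hd'
    refine ⟨k * c, hdX, ?_⟩
    have hc1 : g c = 1 := MonoidHom.mem_ker.1 (hker.ge hc)
    rw [map_mul, hc1, mul_one]
  refine ⟨fun hnf => ?_, ?_⟩
  · obtain ⟨A, hA, hAC⟩ : ∃ A ∈ Cfsg.maxElementaryAbelianSubgroups p K, ¬ A ≤ C := by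
      by_contra h
      push Not at h
      exact hnf ((thompsonFactorizable_iff hO).2 (sSup_le h))
    have h1 : A.map g ≠ ⊥ := fun h => hAC (by rwa [Subgroup.map_eq_bot_iff, hker] at h)
    obtain ⟨-, A₀, -, T⟩ := Cx.exists_trans _ (hoff A hA).1 (hoff A hA).2 h1
    obtain ⟨W₀, D₀, hW₀, hD₀, hcard, hDW, hfaith, ⟨eiso⟩, -⟩ :=
      Cx.orbit hgen X' hXe hXH hXV hXQ hqH T
    refine ⟨(Cx.block T).hp23, ?_⟩
    set WG := (W₀.comap i).map V.subtype with hWG
    set DG := (D₀.comap g).map K.subtype ⊓ Subgroup.centralizer (X : Set G) with hDG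
    have hWGK : WG ≤ V := Subgroup.map_subtype_le _
    have hWGea : Cfsg.IsElementaryAbelian p WG := by
      refine isElementaryAbelian_of_le ?_ hWGK
      exact isElementaryAbelian_map hWea
    have hWGX : WG ≤ Subgroup.centralizer (X : Set G) := by
      rintro _ ⟨v, hv, rfl⟩
      refine Subgroup.mem_centralizer_iff.2 fun x hx => ?_
      exact ((hcommG ⟨x, hXN hx⟩ v).1
        (Subgroup.mem_centralizer_iff.1 (hW₀ hv).2 _ ⟨⟨x, hXN hx⟩, hx, rfl⟩).symm).symm
    have hWGcard : Nat.card WG = p ^ 2 := by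
      rw [hWG, Subgroup.card_map_of_injective V.subtype_injective, ← hcard,
        ← Subgroup.card_map_of_injective (f := i) SemidirectProduct.inl_injective,
        Subgroup.map_comap_eq, inf_eq_right.2 (hW₀.trans inf_le_left)]
    have hDle : DG ≤ K ⊓ Subgroup.centralizer (X : Set G) :=
      inf_le_inf_right _ (Subgroup.map_subtype_le _)
    have hDmem : ∀ d ∈ DG, ∃ (k : K), (k : G) = d ∧ g k ∈ D₀ := by
      rintro d ⟨⟨k, hk, rfl⟩, -⟩
      exact ⟨k, rfl, hk⟩
    have hDN : DG ≤ Subgroup.normalizer (WG : Set G) := by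
      refine le_normalizer_iff_forall_conj_mem.2 ?_
      rintro d hd _ ⟨v, hv, rfl⟩
      obtain ⟨k, rfl, hk⟩ := hDmem d hd
      refine ⟨V.normalizerMonoidHom (Subgroup.inclusion hKN k) v, ?_, rfl⟩
      show i _ ∈ W₀
      have h := le_normalizer_iff_forall_conj_mem.1 hDW (g k) hk (i v) hv
      convert h using 1
      show _ = (SemidirectProduct.inr (V.normalizerMonoidHom (Subgroup.inclusion hKN k)) : S₀) *
        SemidirectProduct.inl v *
        (SemidirectProduct.inr (V.normalizerMonoidHom (Subgroup.inclusion hKN k)) : S₀)⁻¹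
      rw [← map_inv, ← SemidirectProduct.inl_aut]
      rfl
    let r : DG →* S₀ := g.comp (Subgroup.inclusion (hDle.trans inf_le_left))
    have hr : r.range = D₀ := by
      refine le_antisymm ?_ fun h hh => ?_
      · rintro _ ⟨d, rfl⟩
        obtain ⟨k, hk1, hk⟩ := hDmem d d.2
        have : Subgroup.inclusion (hDle.trans inf_le_left) d = k := Subtype.ext hk1.symm
        show g _ ∈ D₀
        rwa [this]
      · obtain ⟨k, hkX, hkh⟩ := hlift h (hD₀ hh).1 (hD₀ hh).2
        exact ⟨⟨k, Subgroup.mem_inf.2 ⟨⟨k, (show g k ∈ D₀ from hkh ▸ hh), rfl⟩, hkX⟩⟩, hkh⟩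
    have hrker : r.ker = (Subgroup.centralizer (WG : Set G)).subgroupOf DG := by
      ext d
      rw [MonoidHom.mem_ker, Subgroup.mem_subgroupOf, Subgroup.mem_centralizer_iff]
      constructor
      · intro h
        have h' := (hfker _).1 h
        exact fun w hw => Subgroup.mem_centralizer_iff.1 h' w (hWGK hw)
      · intro h
        refine Subgroup.mem_bot.1 (hfaith.le (Subgroup.mem_inf.2 ⟨hr.le ⟨d, rfl⟩, ?_⟩))
        refine Subgroup.mem_centralizer_iff.2 fun z hz => ?_
        obtain ⟨v, rfl⟩ := (hW₀ hz).1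
        exact (hcommG _ v).2 (h v ⟨v, hz, rfl⟩)
    have hn : ((Subgroup.centralizer (WG : Set G)).subgroupOf DG).Normal := hrker ▸ MonoidHom.normal_ker r
    refine ⟨WG, DG, le_inf (hWGK.trans (Subgroup.map_subtype_le _)) hWGX, hDle, hWGea, hWGcard, hDN,
      hn, ⟨?_⟩⟩
    exact (QuotientGroup.quotientMulEquivOfEq hrker.symm).trans
      ((QuotientGroup.quotientKerEquivRange r).trans ((MulEquiv.subgroupCongr hr).trans eiso))
  · set M := Subgroup.normalizer (Cfsg.thompsonSubgroupOf p (S : Subgroup K) : Set K) ⊔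
      Subgroup.centralizer (omegaCenterSylow p (S : Subgroup K) : Set K) ⊔
      (Subgroup.centralizer (X : Set G)).subgroupOf K
    have hCM : C ≤ M := le_sup_of_le_left (le_sup_of_le_right (Subgroup.centralizer_le
      (le_iSup (fun T : Sylow p K => omegaCenterSylow p (T : Subgroup K)) S)))
    have hSM : (S : Subgroup K) ≤ M := le_sup_of_le_left (le_sup_of_le_left
      (Subgroup.le_normalizer.trans (normalizer_le_normalizer_thompsonSubgroupOf _)))
    -- a Sylow subgroup of `H'`
    haveI : J.Normal := inferInstance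
    let SJ : Sylow p J := (S.2.comap_of_injective J.subtype J.subtype_injective).toSylow
      (fun hd => S.not_dvd_index (hd.trans (relIndex_normal_dvd_index (S : Subgroup K) J)))
    let P : Sylow p H' := Sylow.mapSurjective (f := g.subgroupMap J) (g.subgroupMap_surjective J) SJ
    have hP : (P : Subgroup H').map H'.subtype ≤ (S : Subgroup K).map g := by
      rintro _ ⟨_, ⟨k, hk, rfl⟩, rfl⟩
      exact ⟨k, hk, rfl⟩
    have hall : ∀ D : Subgroup S₀, IsTrans p V' H' D → D ≤ M.map g := by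
      intro D TD
      obtain ⟨P', hP'⟩ :=
        (TD.pGroup.comap_of_injective H'.subtype H'.subtype_injective).exists_le_sylow
      obtain ⟨h, hh⟩ := MulAction.exists_smul_eq H' P' P
      obtain ⟨TD', -⟩ := TD.map_conj Cx h.2
      set D' := D.map (MulAut.conj (h : S₀)).toMonoidHom with hD'
      have hD'S : D' ≤ M.map g := by
        refine le_trans ?_ (Subgroup.map_mono hSM)
        refine le_trans ?_ hP
        rw [← hh, Sylow.coe_subgroup_smul]
        rintro _ ⟨d, hd, rfl⟩
        exact ⟨MulAut.conj h ⟨d, TD.le hd⟩,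
          Subgroup.smul_mem_pointwise_smul _ _ _ (hP' (show (⟨d, TD.le hd⟩ : H') ∈ D.comap _ from hd)),
          rfl⟩
      obtain ⟨-, D₀, -, hD₀, -, -, -, -, d, hd, hE⟩ := Cx.orbit hgen X' hXe hXH hXV hXQ hqH TD'
      have hdM : d ∈ M.map g := by
        obtain ⟨k, hkX, hkd⟩ := hlift d (hD₀ hd).1 (hD₀ hd).2
        exact ⟨k, Subgroup.mem_sup_right (show k ∈ (Subgroup.centralizer (X : Set G)).subgroupOf K from hkX), hkd⟩
      have hEM : ⁅Q, D'⁆ ⊔ D' ≤ M.map g := by
        rw [hE]
        refine sup_le hD'S ?_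
        rintro _ ⟨y, hy, rfl⟩
        exact mul_mem (mul_mem hdM (hD'S hy)) (inv_mem hdM)
      obtain ⟨-, -, -, -, hHE, -⟩ := (Cx.block TD').global Cx TD' hgen
      intro y hy
      have hy' : (h : S₀) * y * (h : S₀)⁻¹ ∈ ⁅Q, D'⁆ ⊔ D' := Subgroup.mem_sup_right ⟨y, hy, rfl⟩
      refine hEM ?_
      have := le_normalizer_iff_forall_conj_mem.1 hHE (h : S₀)⁻¹ (inv_mem h.2) _ hy'
      rwa [show (h : S₀)⁻¹ * ((h : S₀) * y * (h : S₀)⁻¹) * (h : S₀)⁻¹⁻¹ = y by simp [mul_assoc]] at this
    have := hgen _ hall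
    rw [hH', Subgroup.map_le_iff_le_comap, Subgroup.comap_map_eq, hker] at this
    exact this.trans (sup_le le_rfl hCM)

end CfsgLib.Solv.FFP
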