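import Cfsg.Agent.Fus.QdStable
import Cfsg.Agent.Fus.Dickson
import Cfsg.Agent.Solv.Basic

/-!
A faithful quadratic `p`-element outside the `p`-core gives a section `SL₂(p)` of the operator group.
-/

set_option autoImplicit false
set_option linter.style.haveILetI false

open scoped commutatorElement
open Matrix (SpecialLinearGroup)

namespace CfsgLib.Solv

variable {p : ℕ} [Fact p.Prime]

theorem sl2_eq_one_of_normal_pgroup {N : Subgroup (SpecialLinearGroup (Fin 2) (ZMod p))} [hN : N.Normal]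
    (hp : IsPGroup p N) {g : SpecialLinearGroup (Fin 2) (ZMod p)} (hg : g ∈ N) : g = 1 := by
  open CfsgLib.Dickson in
  have key : ∀ u : SpecialLinearGroup (Fin 2) (ZMod p), u ^ p = 1 → tr (g * u) = 2 := by
    intro u hu
    have hU : IsPGroup p (Subgroup.zpowers u) := by
      rintro ⟨_, i, rfl⟩
      refine ⟨1, Subtype.ext ?_⟩
      simp only [SubmonoidClass.coe_pow, pow_one, OneMemClass.coe_one]
      rw [← zpow_natCast, ← zpow_mul, mul_comm, zpow_mul, zpow_natCast, hu, one_zpow]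
    obtain ⟨n, hn⟩ := (hp.to_sup_of_normal_left hU) ⟨g * u,
      mul_mem (Subgroup.mem_sup_left hg) (Subgroup.mem_sup_right (Subgroup.mem_zpowers u))⟩
    exact tr_eq_two_of_ppow p (congrArg Subtype.val hn)
  have h0 := key 1 (one_pow p)
  have h1 := key (CfsgLib.Dickson.up 1) (by
    rw [CfsgLib.Dickson.up_pow, CharP.cast_eq_zero, zero_mul]
    apply CfsgLib.Dickson.ext4 <;> simp [CfsgLib.Dickson.up])
  have h2 := key (CfsgLib.Dickson.lo 1) (by
    rw [CfsgLib.Dickson.lo_pow, CharP.cast_eq_zero, zero_mul]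
    apply CfsgLib.Dickson.ext4 <;> simp [CfsgLib.Dickson.lo])
  open CfsgLib.Dickson in
  simp [tr, mul00, mul11, up, lo] at h0 h1 h2
  have hd := CfsgLib.Dickson.det_eq g
  have e10 : g.1 1 0 = 0 := by linear_combination h1 - h0
  have e01 : g.1 0 1 = 0 := by linear_combination h2 - h0
  have e00 : g.1 0 0 = 1 := by
    refine sub_eq_zero.1 (sq_eq_zero_iff.1 (?_ : (g.1 0 0 - 1) ^ 2 = 0))
    linear_combination g.1 0 0 * h0 - hd - g.1 1 0 * e01
  have e11 : g.1 1 1 = 1 := by linear_combination h0 - e00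
  apply CfsgLib.Dickson.ext4 <;> simp [e10, e01, e00, e11]

/-- The block map of `qd p` onto `SL₂(p)`. -/
def qdBlock : ↥(Cfsg.qd p) →* SpecialLinearGroup (Fin 2) (ZMod p) where
  toFun M := ⟨CfsgLib.Fus.Qd.blockHom M, by
    obtain ⟨a, b, c, d, x, y, hd, rfl⟩ := CfsgLib.Fus.Qd.eq_mk M
    rw [Matrix.det_fin_two]
    simpa [CfsgLib.Fus.Qd.blockHom, CfsgLib.Fus.Qd.mk] using hd⟩
  map_one' := Subtype.ext (map_one _)
  map_mul' a b := Subtype.ext (map_mul _ a b)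

theorem qdBlock_surjective : Function.Surjective (qdBlock (p := p)) := fun S => by
  refine ⟨CfsgLib.Fus.Qd.mk (S.1 0 0) (S.1 0 1) (S.1 1 0) (S.1 1 1) 0 0
    (by rw [← Matrix.det_fin_two, S.2]), Subtype.ext ?_⟩
  show CfsgLib.Fus.Qd.blockHom _ = S.1
  ext i j
  fin_cases i <;> fin_cases j <;> simp [CfsgLib.Fus.Qd.blockHom, CfsgLib.Fus.Qd.mk]

/-- A section `qd p` of `V ⊔ H`, `V` an invariant `p`-group disjoint from `H`, gives a section `SL₂(p)` of `H`. -/
theorem sl2_section_of_qd {G : Type*} [Group G] [Finite G] {V H : Subgroup G} (hV : IsPGroup p V)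
    (hHV : H ≤ Subgroup.normalizer (V : Set G)) (hd : H ⊓ V = ⊥) {K : Subgroup G} (hK : K ≤ V ⊔ H)
    (f : ↥K →* ↥(Cfsg.qd p)) (hf : Function.Surjective f) :
    ∃ (K' L : Subgroup G) (_ : (L.subgroupOf K').Normal), K' ≤ H ∧
      Nonempty ((K' ⧸ L.subgroupOf K') ≃* SpecialLinearGroup (Fin 2) (ZMod p)) := by
  classical
  set φ := (qdBlock (p := p)).comp f with hφ
  have hφs : Function.Surjective φ := qdBlock_surjective.comp hf
  haveI hKV : (V.subgroupOf K).Normal :=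
    Subgroup.normal_subgroupOf_of_le_normalizer (hK.trans (sup_le Subgroup.le_normalizer hHV))
  have hKVφ := hKV.map φ hφs
  have hker : ∀ k : ↥K, (k : G) ∈ V → φ k = 1 := fun k hk => @sl2_eq_one_of_normal_pgroup p _ _ hKVφ
    (IsPGroup.map (hV.comap_of_injective K.subtype K.subtype_injective) φ) _ (Subgroup.mem_map_of_mem φ hk)
  set K' : Subgroup G := H ⊓ (V ⊔ K) with hK'
  have hKN : K ≤ Subgroup.normalizer (V : Set G) := hK.trans (sup_le Subgroup.le_normalizer hHV)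
  have hdec : ∀ x : ↥K', ∃ k : ↥K, ∃ v ∈ V, (x : G) = v * k := fun x => by
    have hx : (x : G) ∈ K ⊔ V := sup_comm V K ▸ (Subgroup.mem_inf.1 x.2).2
    rw [← SetLike.mem_coe, Subgroup.coe_mul_of_left_le_normalizer_right K V hKN] at hx
    obtain ⟨k, hk, v, hv, he⟩ := hx
    refine ⟨⟨k, hk⟩, k * v * k⁻¹, (Subgroup.mem_normalizer_iff.1 (hKN hk) v).1 hv, ?_⟩
    rw [← he]; simp
  choose kf vf hvf hxf using hdec
  have heq : ∀ (x : ↥K') (k : ↥K) (v : G), v ∈ V → (x : G) = v * k → φ (kf x) = φ k := by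
    intro x k v hv he
    have h : ((kf x * k⁻¹ : ↥K) : G) = (vf x)⁻¹ * v := by
      have := (hxf x).symm.trans he
      calc ((kf x * k⁻¹ : ↥K) : G) = (vf x)⁻¹ * (vf x * (kf x : G)) * (k : G)⁻¹ := by
            rw [Subgroup.coe_mul, Subgroup.coe_inv]; group
        _ = (vf x)⁻¹ * v := by rw [this]; group
    have h1 := hker (kf x * k⁻¹) (h ▸ mul_mem (inv_mem (hvf x)) hv)
    rwa [map_mul, map_inv, mul_inv_eq_one] at h1
  let ψ : ↥K' →* SpecialLinearGroup (Fin 2) (ZMod p) :=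
    MonoidHom.mk' (fun x => φ (kf x)) fun x y => by
      rw [← map_mul]
      refine heq _ _ (vf x * ((kf x : G) * vf y * (kf x : G)⁻¹))
        (mul_mem (hvf x) ((Subgroup.mem_normalizer_iff.1 (hKN (kf x).2) _).1 (hvf y))) ?_
      rw [Subgroup.coe_mul, Subgroup.coe_mul]
      conv_lhs => rw [hxf x, hxf y]
      group
  have hψ : Function.Surjective ψ := by
    intro s
    obtain ⟨k, rfl⟩ := hφs s
    have hk : (k : G) ∈ H ⊔ V := sup_comm V H ▸ hK k.2
    rw [← SetLike.mem_coe, Subgroup.coe_mul_of_left_le_normalizer_right H V hHV] at hk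
    obtain ⟨h, hh, v, hv, he⟩ := hk
    have hhK : h ∈ K' := by
      refine Subgroup.mem_inf.2 ⟨hh, ?_⟩
      rw [show h = (k : G) * v⁻¹ by rw [← he]; simp]
      exact mul_mem (Subgroup.mem_sup_right k.2) (Subgroup.mem_sup_left (inv_mem hv))
    refine ⟨⟨h, hhK⟩, heq _ k (h * v⁻¹ * h⁻¹)
      ((Subgroup.mem_normalizer_iff.1 (hHV hh) _).1 (inv_mem hv)) ?_⟩
    show h = _
    rw [← he]; simp
  have hL : (ψ.ker.map K'.subtype).subgroupOf K' = ψ.ker :=
    Subgroup.comap_map_eq_self_of_injective K'.subtype_injective _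
  haveI hn : ((ψ.ker.map K'.subtype).subgroupOf K').Normal := by rw [hL]; infer_instance
  exact ⟨K', ψ.ker.map K'.subtype, hn, inf_le_left,
    ⟨(QuotientGroup.quotientMulEquivOfEq hL).trans (QuotientGroup.quotientKerEquivOfSurjective ψ hψ)⟩⟩

theorem sl2_section_of_quadratic {G : Type*} [Group G] [Finite G] (hp : p ≠ 2) {V H : Subgroup G}
    (hV : Cfsg.IsElementaryAbelian p V) (hHV : H ≤ Subgroup.normalizer (V : Set G))
    (hf : H ⊓ Subgroup.centralizer (V : Set G) = ⊥) (hO : Cfsg.pCore p ↥H = ⊥) {x : G} (hxH : x ∈ H)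
    (hx1 : x ≠ 1) (hq : ∀ v ∈ V, ⁅x, ⁅x, v⁆⁆ = 1) :
    ∃ (K' L : Subgroup G) (_ : (L.subgroupOf K').Normal), K' ≤ H ∧
      Nonempty ((K' ⧸ L.subgroupOf K') ≃* SpecialLinearGroup (Fin 2) (ZMod p)) := by
  classical
  obtain ⟨hexp, hcomm⟩ := show (∀ v ∈ V, v ^ p = 1) ∧ ∀ a ∈ V, ∀ b ∈ V, a * b = b * a from
    ⟨hV.2, fun a ha b hb => congrArg Subtype.val (hV.1.is_comm.comm ⟨a, ha⟩ ⟨b, hb⟩)⟩
  have hVp : IsPGroup p V := fun v => ⟨1, Subtype.ext (by simpa using hexp v v.2)⟩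
  have hd : H ⊓ V = ⊥ := le_bot_iff.1 (le_trans (inf_le_inf_left H (fun v hv =>
    Subgroup.mem_centralizer_iff.2 fun w hw => hcomm w hw v hv)) hf.le)
  by_contra hcon
  set Ω : Set (Subgroup ↥H) :=
    Set.range fun h : ↥H => (Subgroup.zpowers (⟨x, hxH⟩ : ↥H)).map (MulAut.conj h).toMonoidHom with hΩ
  have hconj : ∀ Y ∈ Ω, ∀ h, Y.map (MulAut.conj h).toMonoidHom ∈ Ω := by
    rintro _ ⟨k, rfl⟩ h
    exact ⟨h * k, by
      show _ = Subgroup.map _ (Subgroup.map _ _)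
      rw [Subgroup.map_map]; congr 1; ext a; simp [mul_assoc]⟩
  have hquad : ∀ h : ↥H, ∀ v ∈ V, ⁅(h : G) * x * (h : G)⁻¹, ⁅(h : G) * x * (h : G)⁻¹, v⁆⁆ = 1 := by
    intro h v hv
    have hv' : (h : G)⁻¹ * v * (h : G) ∈ V := by
      simpa using (Subgroup.mem_normalizer_iff.1 (hHV (inv_mem h.2)) v).1 hv
    rw [show v = (h : G) * ((h : G)⁻¹ * v * (h : G)) * (h : G)⁻¹ by group,
      ← conjugate_commutatorElement, ← conjugate_commutatorElement, hq _ hv', mul_one, mul_inv_cancel]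
  have hpair : ∀ Y ∈ Ω, ∀ Z ∈ Ω, IsPGroup p ↥(Y ⊔ Z) := by
    rintro _ ⟨h₁, rfl⟩ _ ⟨h₂, rfl⟩
    set y₁ := h₁ * ⟨x, hxH⟩ * h₁⁻¹ with hy₁
    set y₂ := h₂ * ⟨x, hxH⟩ * h₂⁻¹ with hy₂
    have hle : Subgroup.map (MulAut.conj h₁).toMonoidHom (Subgroup.zpowers (⟨x, hxH⟩ : ↥H)) ⊔
        Subgroup.map (MulAut.conj h₂).toMonoidHom (Subgroup.zpowers (⟨x, hxH⟩ : ↥H)) ≤
        Subgroup.closure ({y₁, y₂} : Set ↥H) := by
      rw [MonoidHom.map_zpowers, MonoidHom.map_zpowers]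
      exact sup_le (Subgroup.zpowers_le.2 (Subgroup.subset_closure (Or.inl rfl)))
        (Subgroup.zpowers_le.2 (Subgroup.subset_closure (Or.inr rfl)))
    refine IsPGroup.to_le ?_ hle
    rintro ⟨l, hl⟩
    by_contra hnp
    set N := V ⊔ H with hN
    have hVN : V ≤ N := le_sup_left
    have hHN : H ≤ N := le_sup_right
    have hnorm : ∀ (g : G) (hg : g ∈ H), (⟨g, hHN hg⟩ : ↥N) ∈ Subgroup.normalizer (V.subgroupOf N : Set ↥N) :=
      fun g hg => Subgroup.mem_normalizer_iff.2 fun w => Subgroup.mem_normalizer_iff.1 (hHV hg) (w : G)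
    obtain ⟨K, f, hfs⟩ := CfsgLib.Dickson.isSec_qd_of_pair (p := p) hp (V.subgroupOf N)
      ⟨(y₁ : G), hHN y₁.2⟩ ⟨(y₂ : G), hHN y₂.2⟩ (hnorm _ y₁.2) (hnorm _ y₂.2)
      (fun a ha b hb => Subtype.ext (hcomm _ ha _ hb)) (fun a ha => Subtype.ext (by simpa using hexp _ ha))
      (fun u hu => Subtype.ext (hquad h₁ _ hu)) (fun u hu => Subtype.ext (hquad h₂ _ hu)) (by
        intro h
        let ι : ↥H →* ↥N := Subgroup.inclusion hHN
        have hl' : ι l ∈ Subgroup.closure ({⟨(y₁ : G), hHN y₁.2⟩, ⟨(y₂ : G), hHN y₂.2⟩} : Set ↥N) := by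
          have h' := Subgroup.mem_map_of_mem ι hl
          rw [MonoidHom.map_closure, Set.image_pair] at h'
          exact h'
        obtain ⟨n, hn⟩ := h _ hl'
        refine hnp ⟨n, Subtype.ext (Subtype.ext ?_)⟩
        have hmem : ((l ^ p ^ n : ↥H) : G) ∈ H ⊓ Subgroup.centralizer (V : Set G) := by
          refine Subgroup.mem_inf.2 ⟨(l ^ p ^ n).2, Subgroup.mem_centralizer_iff.2 fun v hv => ?_⟩
          have h1 := congrArg Subtype.val (hn ⟨v, hVN hv⟩ hv)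
          exact (commutatorElement_eq_one_iff_mul_comm.1 h1).symm
        rw [hf, Subgroup.mem_bot] at hmem
        simpa using hmem)
    exact hcon (sl2_section_of_qd hVp hHV hd (Subgroup.map_subtype_le K)
      (f.comp (K.equivMapOfInjective N.subtype N.subtype_injective).symm.toMonoidHom)
      (hfs.comp (MulEquiv.surjective _)))
  have hS := CfsgLib.Inv.baer_suzuki Ω hconj hpair
  haveI : (sSup Ω).Normal := by
    refine ⟨fun a ha h => ?_⟩
    have : (sSup Ω).map (MulAut.conj h).toMonoidHom ≤ sSup Ω := by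
      rw [sSup_eq_iSup', Subgroup.map_iSup]
      exact iSup_le fun Y => le_iSup_of_le (⟨_, hconj Y.1 Y.2 h⟩ : Ω) le_rfl
    exact this ⟨a, ha, rfl⟩
  have hle : sSup Ω ≤ Cfsg.pCore p ↥H := CfsgLib.Solv.le_pCore hS
  have hxS : (⟨x, hxH⟩ : ↥H) ∈ sSup Ω :=
    le_sSup (show Subgroup.zpowers (⟨x, hxH⟩ : ↥H) ∈ Ω from ⟨1, by
      show Subgroup.map _ _ = _
      rw [map_one]; exact Subgroup.map_id _⟩) (Subgroup.mem_zpowers _)
  have hx := hle hxS
  rw [hO, Subgroup.mem_bot] at hx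
  exact hx1 (congrArg Subtype.val hx)

end CfsgLib.Solv
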