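import Cfsg.Agent.Solv.Basic
import Cfsg.Agent.Solv.QuadraticSL2
import Cfsg.Agent.Solv.ThompsonBasic
import Cfsg.Agent.Fus.QdStable
import Cfsg.Agent.Lie.SL2Sylow
import Cfsg.Prelude.Def_PLocal
import Cfsg.Prelude.Def_LocalEven

/-!
`p`-stability in the action sense for groups without a section `SL₂(p)`: `p`-solvable groups
(`p ≥ 5`) and groups with abelian Sylow 2-subgroups.
-/

set_option autoImplicit false
set_option linter.style.haveILetI false
set_option linter.deprecated false

open scoped commutatorElement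
open CfsgLib.Glau (IsSec)
open Matrix (SpecialLinearGroup)

namespace CfsgLib.Solv

variable {G : Type*} [Group G] [Finite G] {p : ℕ} [hp : Fact p.Prime]

theorem pStableOn_of_normalizerStable (h : Cfsg.IsNormalizerPStable p G) (V : Subgroup G) [V.Normal]
    (hV : IsPGroup p V) : Cfsg.IsPStableOn p V := by
  intro a ha
  set C := Subgroup.centralizer (V : Set G)
  set N := Subgroup.normalizer (V : Set G)
  have hN : N = ⊤ := Subgroup.normalizer_eq_top_iff.2 inferInstance
  have h1 := h V hV a (show a ∈ N by rw [hN]; exact Subgroup.mem_top a) ha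
  set φ : (↥N ⧸ C.subgroupOf N) →* G ⧸ C := QuotientGroup.map _ _ N.subtype le_rfl
  have hφ : Function.Surjective φ := fun y => by
    obtain ⟨x, rfl⟩ := QuotientGroup.mk_surjective y
    exact ⟨QuotientGroup.mk (⟨x, by rw [hN]; exact Subgroup.mem_top x⟩ : N), rfl⟩
  exact map_pCore_le hφ ⟨_, h1, rfl⟩

theorem normalizerStable_of_no_qd (hp2 : p ≠ 2) {Γ : Type*} [Group Γ] [Finite Γ]
    (hsec : IsSec G Γ) (hq : ¬ IsSec G ↥(Cfsg.qd p)) : Cfsg.IsNormalizerPStable p Γ := by
  by_contra h
  exact hq (CfsgLib.Dickson.isSec_trans hsec (CfsgLib.Dickson.isSec_qd_of_not_stable hp2 h))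

theorem actionPStable_of_no_qd (hp2 : p ≠ 2) (hq : ¬ IsSec G ↥(Cfsg.qd p)) :
    Cfsg.IsActionPStable p G := by
  have hG : Cfsg.IsNormalizerPStable p G :=
    normalizerStable_of_no_qd hp2 ⟨⊤, Subgroup.subtype _, fun y => ⟨⟨y, trivial⟩, rfl⟩⟩ hq
  refine ⟨fun V _ hV => pStableOn_of_normalizerStable hG V (isPGroup_of_isElementaryAbelian hV),
    ?_, fun S V _ hV => ?_⟩
  · haveI := pCore_normal G p
    intro a ha
    set N := (frattini ↥(Cfsg.pCore p G)).map (Cfsg.pCore p G).subtype
    set π := QuotientGroup.mk' N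
    set K := (Cfsg.pCore p G).map π
    have hsurj := QuotientGroup.mk'_surjective N
    haveI : K.Normal := (pCore_normal G p).map π hsurj
    have hst := pStableOn_of_normalizerStable
      (normalizerStable_of_no_qd hp2 ⟨⊤, π.comp (Subgroup.subtype _),
        hsurj.comp fun y => ⟨⟨y, trivial⟩, rfl⟩⟩ hq) K ((pCore_isPGroup G p).map π)
    have h1 := hst (π a) (by
      rw [← MonoidHom.map_zpowers, ← Subgroup.map_commutator, ← Subgroup.map_commutator,
        Subgroup.map_eq_bot_iff, QuotientGroup.ker_mk']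
      exact ha)
    set f := (QuotientGroup.mk' (Subgroup.centralizer (K : Set (G ⧸ N)))).comp π with hf
    have hfs : Function.Surjective f := (QuotientGroup.mk'_surjective _).comp hsurj
    have hker : f.ker = Cfsg.sectionKernel (Cfsg.pCore p G) N := by
      rw [hf, ← MonoidHom.comap_ker, QuotientGroup.ker_mk']
      rfl
    set D := (Cfsg.pCore p ((G ⧸ N) ⧸ Subgroup.centralizer (K : Set (G ⧸ N)))).comap f
    refine ⟨D, (pCore_normal _ p).comap f, hker ▸ Subgroup.ker_le_comap f _, ?_, h1⟩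
    rw [← hker, Subgroup.relIndex_ker, Subgroup.map_comap_eq_self_of_surjective hfs]
    exact IsPGroup.iff_card.1 (pCore_isPGroup _ p)
  · refine pStableOn_of_normalizerStable (normalizerStable_of_no_qd hp2
      ⟨_, MonoidHom.id _, Function.surjective_id⟩ hq) V ?_
    refine IsPGroup.of_equiv ?_ (V.equivMapOfInjective _ (Subgroup.subtype_injective _)).symm
    refine IsPGroup.to_le ?_ hV
    exact (S.2.to_subgroup _).map _

omit [Finite G] in
theorem isSec_sl2_of_qd (h : IsSec G ↥(Cfsg.qd p)) :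
    IsSec G (SpecialLinearGroup (Fin 2) (ZMod p)) :=
  h.of_surjective qdBlock_surjective

theorem eq_top_of_pSolvable_section (hG : Cfsg.IsPSolvable p G) {S : Type*} [Group S] [Finite S]
    (hsec : IsSec G S) (hperf : commutator S = ⊤)
    (hgen : Subgroup.closure {x : S | x ^ p = 1} = ⊤) : (⊤ : Subgroup S) = ⊥ := by
  obtain ⟨K, f, hf⟩ := hsec
  obtain ⟨n, H, h0, hn, hm, hN, hs⟩ := hG
  set T : Fin (n + 1) → Subgroup S := fun i => ((H i).subgroupOf K).map f
  have hT : ∀ i, T i = ⊤ := by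
    intro i
    induction i using Fin.reverseInduction with
    | last =>
      show ((H (Fin.last n)).subgroupOf K).map f = ⊤
      rw [hn, Subgroup.top_subgroupOf, Subgroup.map_top_of_surjective f hf]
    | cast i ih =>
      haveI := hN i.castSucc
      haveI hMn : (T i.castSucc).Normal :=
        ((hN i.castSucc).comap K.subtype).map f hf
      set M := T i.castSucc with hM
      have hdvd : M.index ∣ (H i.castSucc).relIndex (H i.succ) := by
        rw [← Subgroup.relIndex_top_right, ← ih, ← Subgroup.relIndex_comap]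
        refine (Subgroup.relIndex_dvd_of_le_left _ (Subgroup.le_comap_map f _)).trans ?_
        show ((H i.castSucc).comap K.subtype).relIndex ((H i.succ).subgroupOf K) ∣ _
        rw [Subgroup.relIndex_comap, Subgroup.subgroupOf_map_subtype]
        have e : ∀ X : Subgroup G, (H i.castSucc).relIndex X =
            Nat.card (X.map (QuotientGroup.mk' (H i.castSucc))) := fun X => by
          rw [← Subgroup.relIndex_ker, QuotientGroup.ker_mk']
        rw [e, e]
        exact Subgroup.card_dvd_of_le (Subgroup.map_mono inf_le_left)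
      by_contra hne
      haveI : Nontrivial (S ⧸ M) := QuotientGroup.nontrivial_iff.2 hne
      rcases hs i with ⟨m, hm⟩ | hco
      · obtain ⟨k, -, hk⟩ := (Nat.dvd_prime_pow hp.out).1 (hm ▸ hdvd)
        have hpg : IsPGroup p (S ⧸ M) := IsPGroup.of_card (n := k) hk
        haveI := hpg.isNilpotent
        refine (Group.IsSolvable.commutator_lt_top_of_nontrivial (S ⧸ M)).ne ?_
        rw [commutator_def, ← Subgroup.map_top_of_surjective _ (QuotientGroup.mk'_surjective M),
          ← Subgroup.map_commutator, ← commutator_def, hperf]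
      · refine hne (top_le_iff.1 (hgen ▸ (Subgroup.closure_le _).2 fun x hx => ?_))
        have h1 : orderOf ((x : S) : S ⧸ M) ∣ p := orderOf_dvd_of_pow_eq_one (by
          rw [← QuotientGroup.mk_pow, show x ^ p = 1 from hx]; rfl)
        have h2 : orderOf ((x : S) : S ⧸ M) ∣ (H i.castSucc).relIndex (H i.succ) :=
          (orderOf_dvd_natCard _).trans hdvd
        have h3 := Nat.eq_one_of_dvd_coprimes hco h2 h1
        exact (QuotientGroup.eq_one_iff x).1 (orderOf_eq_one_iff.1 h3)
  rw [← hT 0]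
  show ((H 0).subgroupOf K).map f = ⊥
  rw [h0, Subgroup.bot_subgroupOf, Subgroup.map_bot]

/-- Transvections. -/
def upMat (s : ZMod p) : SpecialLinearGroup (Fin 2) (ZMod p) :=
  ⟨!![1, s; 0, 1], by simp [Matrix.det_fin_two]⟩

/-- Lower transvections. -/
def lowMat (s : ZMod p) : SpecialLinearGroup (Fin 2) (ZMod p) :=
  ⟨!![1, 0; s, 1], by simp [Matrix.det_fin_two]⟩

theorem upMat_pow (s : ZMod p) (n : ℕ) : upMat s ^ n = upMat ((n : ZMod p) * s) := by
  induction n with
  | zero =>
    rw [pow_zero, Nat.cast_zero, zero_mul]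
    exact Subtype.ext Matrix.one_fin_two
  | succ n ih =>
    rw [pow_succ, ih]
    refine Subtype.ext ?_
    show (!![1, (n : ZMod p) * s; 0, 1] : Matrix _ _ _) * !![1, s; 0, 1] = !![1, _; 0, 1]
    ext i j; fin_cases i <;> fin_cases j <;> simp [Matrix.mul_apply, Fin.sum_univ_two]
    ring

theorem lowMat_pow (s : ZMod p) (n : ℕ) : lowMat s ^ n = lowMat ((n : ZMod p) * s) := by
  induction n with
  | zero =>
    rw [pow_zero, Nat.cast_zero, zero_mul]
    exact Subtype.ext Matrix.one_fin_two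
  | succ n ih =>
    rw [pow_succ, ih]
    refine Subtype.ext ?_
    show (!![1, 0; (n : ZMod p) * s, 1] : Matrix _ _ _) * !![1, 0; s, 1] = !![1, 0; _, 1]
    ext i j; fin_cases i <;> fin_cases j <;> simp [Matrix.mul_apply, Fin.sum_univ_two]
    ring

theorem mem_closure_transvections (g : SpecialLinearGroup (Fin 2) (ZMod p)) :
    g ∈ Subgroup.closure (Set.range (upMat (p := p)) ∪ Set.range lowMat) := by
  set T := Subgroup.closure (Set.range (upMat (p := p)) ∪ Set.range lowMat)
  have hU : ∀ s, upMat s ∈ T := fun s => Subgroup.subset_closure (Or.inl ⟨s, rfl⟩)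
  have hL : ∀ s, lowMat s ∈ T := fun s => Subgroup.subset_closure (Or.inr ⟨s, rfl⟩)
  have key : ∀ g : SpecialLinearGroup (Fin 2) (ZMod p), g.1 1 0 ≠ 0 → g ∈ T := by
    intro g hc
    have hd := g.2
    rw [Matrix.det_fin_two] at hd
    have : g = upMat ((g.1 0 0 - 1) * (g.1 1 0)⁻¹) * lowMat (g.1 1 0) *
        upMat ((g.1 1 1 - 1) * (g.1 1 0)⁻¹) := by
      refine Subtype.ext ?_
      show g.1 = !![1, (g.1 0 0 - 1) * (g.1 1 0)⁻¹; 0, 1] * !![1, 0; g.1 1 0, 1] *
        !![1, (g.1 1 1 - 1) * (g.1 1 0)⁻¹; 0, 1]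
      ext i j
      fin_cases i <;> fin_cases j <;>
        simp [Matrix.mul_apply, Fin.sum_univ_two] <;> field_simp <;> first | linear_combination hd | linear_combination -hd | ring
    rw [this]
    exact mul_mem (mul_mem (hU _) (hL _)) (hU _)
  by_cases hc : g.1 1 0 = 0
  · have h2 : lowMat 1 * g ∈ T := key _ (by
      have hd := g.2
      rw [Matrix.det_fin_two, hc, mul_zero, sub_zero] at hd
      show ((!![1, 0; 1, 1] : Matrix (Fin 2) (Fin 2) (ZMod p)) * g.1) 1 0 ≠ 0
      simpa [Matrix.mul_apply, Fin.sum_univ_two, hc] using left_ne_zero_of_mul_eq_one hd)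
    simpa using mul_mem (inv_mem (hL 1)) h2
  · exact key g hc

theorem no_sl2_section_of_pSolvable (h5 : 5 ≤ p) (hG : Cfsg.IsPSolvable p G) :
    ¬ IsSec G (SpecialLinearGroup (Fin 2) (ZMod p)) := by
  intro hsec
  have h2 : (2 : ZMod p) ≠ 0 := fun h => by
    have := Nat.le_of_dvd (by norm_num) ((ZMod.natCast_eq_zero_iff 2 p).1 (by simpa using h))
    omega
  have h3 : (3 : ZMod p) ≠ 0 := fun h => by
    have := Nat.le_of_dvd (by norm_num) ((ZMod.natCast_eq_zero_iff 3 p).1 (by simpa using h))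
    omega
  have hperf : commutator (SpecialLinearGroup (Fin 2) (ZMod p)) = ⊤ := by
    refine eq_top_iff.2 fun g _ => (Subgroup.closure_le _).2 ?_ (mem_closure_transvections g)
    set D : SpecialLinearGroup (Fin 2) (ZMod p) :=
      ⟨!![2, 0; 0, 2⁻¹], by simp [Matrix.det_fin_two, h2]⟩ with hD
    rintro x (⟨s, rfl⟩ | ⟨s, rfl⟩)
    · have e : ⁅D, upMat (s * 3⁻¹)⁆ = upMat s := by
        have hmul : D * upMat (s * 3⁻¹) = upMat s * (upMat (s * 3⁻¹) * D) := by
          refine Subtype.ext ?_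
          show (!![2, 0; 0, 2⁻¹] : Matrix _ _ _) * !![1, s * 3⁻¹; 0, 1] =
            !![1, s; 0, 1] * (!![1, s * 3⁻¹; 0, 1] * !![2, 0; 0, 2⁻¹])
          ext i j
          fin_cases i <;> fin_cases j <;> simp [Matrix.mul_apply, Fin.sum_univ_two] <;> field_simp <;>
            ring
        rw [commutatorElement_def, hmul]; group
      rw [SetLike.mem_coe, ← e]
      exact Subgroup.commutator_mem_commutator (Subgroup.mem_top _) (Subgroup.mem_top _)
    · have e : ⁅D⁻¹, lowMat (s * 3⁻¹)⁆ = lowMat s := by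
        have hmul : lowMat (s * 3⁻¹) * D = D * (lowMat s * lowMat (s * 3⁻¹)) := by
          refine Subtype.ext ?_
          show (!![1, 0; s * 3⁻¹, 1] : Matrix _ _ _) * !![2, 0; 0, 2⁻¹] =
            !![2, 0; 0, 2⁻¹] * (!![1, 0; s, 1] * !![1, 0; s * 3⁻¹, 1])
          ext i j
          fin_cases i <;> fin_cases j <;> simp [Matrix.mul_apply, Fin.sum_univ_two] <;> field_simp <;>
            ring
        calc ⁅D⁻¹, lowMat (s * 3⁻¹)⁆ = D⁻¹ * (lowMat (s * 3⁻¹) * D) * (lowMat (s * 3⁻¹))⁻¹ := by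
              rw [commutatorElement_def, inv_inv]; group
          _ = lowMat s := by rw [hmul]; group
      rw [SetLike.mem_coe, ← e]
      exact Subgroup.commutator_mem_commutator (Subgroup.mem_top _) (Subgroup.mem_top _)
  have hgen : Subgroup.closure {x : SpecialLinearGroup (Fin 2) (ZMod p) | x ^ p = 1} = ⊤ := by
    refine eq_top_iff.2 fun g _ => (Subgroup.closure_le _).2 ?_ (mem_closure_transvections g)
    rintro x (⟨s, rfl⟩ | ⟨s, rfl⟩)
    · refine Subgroup.subset_closure ?_
      show upMat s ^ p = 1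
      rw [upMat_pow, ZMod.natCast_self, zero_mul]
      exact Subtype.ext Matrix.one_fin_two.symm
    · refine Subgroup.subset_closure ?_
      show lowMat s ^ p = 1
      rw [lowMat_pow, ZMod.natCast_self, zero_mul]
      exact Subtype.ext Matrix.one_fin_two.symm
  have h := eq_top_of_pSolvable_section hG hsec hperf hgen
  have h1 : upMat (1 : ZMod p) = 1 := by
    rw [← Subgroup.mem_bot, ← h]; exact Subgroup.mem_top _
  have h1' := congrArg (fun M : SpecialLinearGroup (Fin 2) (ZMod p) => M.1 0 1) h1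
  simp [upMat] at h1'

theorem no_sl2_section_of_abelian_two (hp2 : p ≠ 2) (hab : ∀ T : Sylow 2 G, IsMulCommutative T) :
    ¬ IsSec G (SpecialLinearGroup (Fin 2) (ZMod p)) := by
  rintro ⟨K, f, hf⟩
  haveI : Fact (Nat.Prime 2) := ⟨Nat.prime_two⟩
  let P : Sylow 2 K := default
  obtain ⟨T, hT⟩ := (P.2.map K.subtype).exists_le_sylow
  obtain ⟨k, hk, ⟨e⟩⟩ := CfsgLib.Lie.SL2Sylow.sylow_quaternion
    (F := ZMod p) (by rw [ZMod.card]; exact Nat.odd_iff.1 (hp.out.odd_of_ne_two hp2))
    (P.mapSurjective hf)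
  have hcomm : ∀ x y : ↥((P.mapSurjective hf : Sylow 2 _) :
      Subgroup (SpecialLinearGroup (Fin 2) (ZMod p))), x * y = y * x := by
    rintro ⟨x, hx⟩ ⟨y, hy⟩
    rw [Sylow.coe_mapSurjective] at hx hy
    obtain ⟨a, ha, rfl⟩ := hx
    obtain ⟨b, hb, rfl⟩ := hy
    refine Subtype.ext ?_
    show f a * f b = f b * f a
    rw [← map_mul, ← map_mul]
    congr 1
    refine Subtype.ext ?_
    exact congrArg (fun t : ↥(T : Subgroup G) => (t : G))
      ((hab T).is_comm.comm ⟨_, hT (Subgroup.mem_map_of_mem K.subtype ha)⟩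
        ⟨_, hT (Subgroup.mem_map_of_mem K.subtype hb)⟩)
  have h := congrArg e (hcomm (e.symm (QuaternionGroup.a 1)) (e.symm (QuaternionGroup.xa 0)))
  rw [map_mul, map_mul, MulEquiv.apply_symm_apply, MulEquiv.apply_symm_apply,
    QuaternionGroup.a_mul_xa, QuaternionGroup.xa_mul_a, QuaternionGroup.xa.injEq] at h
  have h' : ((2 : ℕ) : ZMod (2 * 2 ^ k)) = 0 := by push_cast; linear_combination -h
  have h4 := Nat.le_of_dvd (by norm_num) ((ZMod.natCast_eq_zero_iff _ _).1 h')
  have : 2 ≤ 2 ^ k := Nat.le_self_pow (by omega) 2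
  omega

theorem actionPStable_of_pSolvable (h5 : 5 ≤ p) (hG : Cfsg.IsPSolvable p G) :
    Cfsg.IsActionPStable p G :=
  actionPStable_of_no_qd (by omega) fun h => no_sl2_section_of_pSolvable h5 hG (isSec_sl2_of_qd h)

theorem actionPStable_of_abelian_two (hp2 : p ≠ 2) (hab : ∀ T : Sylow 2 G, IsMulCommutative T) :
    Cfsg.IsActionPStable p G :=
  actionPStable_of_no_qd hp2 fun h => no_sl2_section_of_abelian_two hp2 hab (isSec_sl2_of_qd h)

theorem sl2_section_of_not_pStable (hp2 : p ≠ 2)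
    (hO : Cfsg.pPrimeCore p G < Cfsg.pPrimePCore p G)
    (hns : ¬ Cfsg.IsPStable p (G ⧸ Cfsg.pPrimeCore p G)) :
    IsSec G (SpecialLinearGroup (Fin 2) (ZMod p)) := by
  by_contra hcon
  set Q := Cfsg.pPrimeCore p G
  have hst : Cfsg.IsNormalizerPStable p (G ⧸ Q) :=
    normalizerStable_of_no_qd hp2 ⟨⊤, (QuotientGroup.mk' Q).comp (Subgroup.subtype _),
      (QuotientGroup.mk'_surjective Q).comp fun y => ⟨⟨y, trivial⟩, rfl⟩⟩
      fun h => hcon (isSec_sl2_of_qd h)
  refine hns ⟨hp.out.odd_of_ne_two hp2, fun h => hO.ne ?_, ?_⟩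
  · rw [Cfsg.pPrimePCore, h, MonoidHom.comap_bot, QuotientGroup.ker_mk']
  · intro A P _ hP hAP _ _ hquad
    rintro _ ⟨⟨a, haN⟩, ha, rfl⟩
    refine hst P hP a haN (le_bot_iff.1 ?_)
    rw [← hquad]
    exact Subgroup.commutator_mono (Subgroup.commutator_mono le_rfl (Subgroup.zpowers_le.2 ha))
      (Subgroup.zpowers_le.2 ha)

end CfsgLib.Solv
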