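import Cfsg.Agent.S0622
import Cfsg.Agent.Solv.ActionPStable
import Cfsg.Agent.Solv.ThompsonSubgroup
import Cfsg.Agent.Solv.CoprimeAction
import Cfsg.Agent.Inv.CharP2
import Cfsg.Agent.Inv.ZJApp
import Cfsg.Agent.Perm.HallHigman
import Cfsg.Agent.Fus.ComplementInduction
import Cfsg.Agent.Fus.QdComplement
import Cfsg.Prelude.Def_PLocal

/-!
The stable normal closure `W(S)` of `Ω₁(Z(S))`: no quadratic action, normality in `p`-stable
groups, and the normal `p`-complement criterion.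
-/

set_option autoImplicit false
set_option linter.style.haveILetI false
set_option linter.deprecated false

open scoped commutatorElement Pointwise

namespace CfsgLib.Solv

universe u

variable {G : Type u} [Group G] {p : ℕ}

/-- The stable normal closure of a subgroup `S`, inside the ambient group. -/
abbrev wOf (p : ℕ) (S : Subgroup G) : Subgroup G :=
  (Cfsg.stableNormalClosure p ↥S).map S.subtype

theorem quad_transfer {H : Type*} [Group H] {f : G →* H} {V : Subgroup G} {a : G}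
    (h : ⁅⁅V, Subgroup.zpowers a⁆, Subgroup.zpowers a⁆ = ⊥) :
    ⁅⁅V.map f, Subgroup.zpowers (f a)⁆, Subgroup.zpowers (f a)⁆ = ⊥ := by
  rw [← MonoidHom.map_zpowers, ← Subgroup.map_commutator, ← Subgroup.map_commutator, h,
    Subgroup.map_bot]

theorem quad_of_injective {H : Type*} [Group H] {f : G →* H} (hf : Function.Injective f)
    {V : Subgroup G} {a : G}
    (h : ⁅⁅V.map f, Subgroup.zpowers (f a)⁆, Subgroup.zpowers (f a)⁆ = ⊥) :
    ⁅⁅V, Subgroup.zpowers a⁆, Subgroup.zpowers a⁆ = ⊥ := by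
  rw [← MonoidHom.map_zpowers, ← Subgroup.map_commutator, ← Subgroup.map_commutator,
    Subgroup.map_eq_bot_iff_of_injective _ hf] at h
  exact h

theorem quad_mono {U V : Subgroup G} {a : G} (hUV : U ≤ V)
    (h : ⁅⁅V, Subgroup.zpowers a⁆, Subgroup.zpowers a⁆ = ⊥) :
    ⁅⁅U, Subgroup.zpowers a⁆, Subgroup.zpowers a⁆ = ⊥ :=
  le_bot_iff.1 (h ▸ Subgroup.commutator_mono (Subgroup.commutator_mono hUV le_rfl) le_rfl)

theorem quad_conj {V : Subgroup G} [V.Normal] {a : G} (n : G)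
    (h : ⁅⁅V, Subgroup.zpowers a⁆, Subgroup.zpowers a⁆ = ⊥) :
    ⁅⁅V, Subgroup.zpowers (n * a * n⁻¹)⁆, Subgroup.zpowers (n * a * n⁻¹)⁆ = ⊥ := by
  have hV : V.map (MulAut.conj n).toMonoidHom = V := by
    rw [← conj_smul_eq_map]
    exact conj_smul_eq_self_of_mem_normalizer
      (by rw [Subgroup.normalizer_eq_top_iff.2 inferInstance]; exact Subgroup.mem_top n)
  have := quad_transfer (f := (MulAut.conj n).toMonoidHom) h
  rwa [hV] at this

variable [Finite G] [hp : Fact p.Prime]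

/-- Frattini argument for a `p`-stable action: the quadratic elements of a Sylow subgroup lie in
a subgroup `P` whose normalizer, with the centralizer, is everything. -/
theorem frattini_of_pStable (V : Subgroup G) [V.Normal] (hst : Cfsg.IsPStableOn p V) (P₀ : Sylow p G) :
    ∃ P : Subgroup G, P ≤ (P₀ : Subgroup G) ∧
      Subgroup.normalizer (P : Set G) ⊔ Subgroup.centralizer (V : Set G) = ⊤ ∧
      ∀ a ∈ (P₀ : Subgroup G),
        ⁅⁅V, Subgroup.zpowers a⁆, Subgroup.zpowers a⁆ = ⊥ → a ∈ P := by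
  set C := Subgroup.centralizer (V : Set G)
  set D := (Cfsg.pCore p (G ⧸ C)).comap (QuotientGroup.mk' C) with hD
  haveI : D.Normal := (pCore_normal _ p).comap _
  have hCD : C ≤ D := by
    have := Subgroup.ker_le_comap (QuotientGroup.mk' C) (Cfsg.pCore p (G ⧸ C))
    rwa [QuotientGroup.ker_mk'] at this
  obtain ⟨R, hR⟩ := CfsgLib.Inv.sylow_inf_normal P₀ D
  refine ⟨(P₀ : Subgroup G) ⊓ D, inf_le_left, ?_, fun a ha hq => ⟨ha, hst a hq⟩⟩
  have hfr : Subgroup.normalizer (((P₀ : Subgroup G) ⊓ D : Subgroup G) : Set G) ⊔ D = ⊤ := by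
    rw [← hR]; exact Sylow.normalizer_sup_eq_top R
  have hDP : ((P₀ : Subgroup G) ⊓ D) ⊔ C = D := by
    refine le_antisymm (sup_le inf_le_right hCD) (Subgroup.relIndex_eq_one.1 ?_)
    set X := ((P₀ : Subgroup G) ⊓ D) ⊔ C
    have h1 : X.relIndex D ∣ C.relIndex D := Subgroup.relIndex_dvd_of_le_left _ le_sup_right
    have h2 : X.relIndex D ∣ ((P₀ : Subgroup G) ⊓ D).relIndex D :=
      Subgroup.relIndex_dvd_of_le_left _ le_sup_left
    obtain ⟨j, hj⟩ := IsPGroup.iff_card.1 (pCore_isPGroup (G ⧸ C) p)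
    have h3 : C.relIndex D = p ^ j := by
      rw [← hj]
      conv_lhs => rw [← QuotientGroup.ker_mk' C]
      rw [Subgroup.relIndex_ker, hD,
        Subgroup.map_comap_eq_self_of_surjective (QuotientGroup.mk'_surjective C)]
    have h4 : ¬ p ∣ ((P₀ : Subgroup G) ⊓ D).relIndex D := by
      rw [← hR, Subgroup.relIndex, show ((R : Subgroup D).map D.subtype).subgroupOf D = R from
        Subgroup.comap_map_eq_self_of_injective D.subtype_injective _]
      exact R.not_dvd_index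
    exact Nat.eq_one_of_dvd_coprimes ((hp.out.coprime_iff_not_dvd.2 h4).pow_left j) (h3 ▸ h1) h2
  refine top_le_iff.1 (hfr ▸ sup_le le_sup_left ?_)
  conv_lhs => rw [← hDP]
  exact sup_le (Subgroup.le_normalizer.trans le_sup_left) le_sup_right

theorem thompsonSubgroup_normal_of_equiv {S : Type u} [Group S] [Finite S] :
    (Cfsg.thompsonSubgroup p S).Normal :=
  haveI := thompsonSubgroup_characteristic (G := S) (p := p)
  inferInstance

theorem isElementaryAbelian_omegaCenterThompson {S : Type u} [Group S] [Finite S] :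
    Cfsg.IsElementaryAbelian p (Cfsg.omegaCenterThompson p S) :=
  isElementaryAbelian_omegaOne fun a ha b hb =>
    (Subgroup.mem_centralizer_iff.1 (Subgroup.mem_inf.1 hb).2 a (Subgroup.mem_inf.1 ha).1)

theorem isStableEmbedding_id {S : Type u} [Group S] [Finite S] (hS : IsPGroup p S) :
    Cfsg.IsStableEmbedding p (MonoidHom.id S) := by
  have hO : Cfsg.pCore p S = ⊤ := top_le_iff.1 (le_pCore (hS.to_subgroup ⊤))
  refine ⟨Function.injective_id, inferInstance,
    ⟨(hS.to_subgroup ⊤).toSylow (by rw [Subgroup.index_top]; exact hp.out.not_dvd_one), ?_⟩,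
    hO ▸ le_top, ?_, fun V _ _ a _ => ?_⟩
  · show (⊤ : Subgroup S) = _
    exact (MonoidHom.range_eq_top.2 Function.surjective_id).symm
  · rw [Subgroup.map_id]; exact thompsonSubgroup_normal_of_equiv
  · have : Cfsg.pCore p (S ⧸ Subgroup.centralizer (V : Set S)) = ⊤ :=
      top_le_iff.1 (le_pCore ((hS.to_quotient _).to_subgroup ⊤))
    rw [this]; exact Subgroup.mem_top _

theorem stableClosure_map_normal {S H : Type u} [Group S] [Group H] {τ : S →* H}
    (hτ : Cfsg.IsStableEmbedding p τ) (hne : ∃ W : Subgroup S,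
      Cfsg.omegaOne p (Subgroup.center S) ≤ W ∧
        ∀ (K : Type u) [Group K] (σ : S →* K), Cfsg.IsStableEmbedding p σ → (W.map σ).Normal) :
    ((Cfsg.stableNormalClosure p S).map τ).Normal := by
  refine ⟨fun y hy h => ?_⟩
  obtain ⟨w, hw, rfl⟩ := hy
  obtain ⟨W₀, hW₀⟩ := hne
  have hmem : ∀ W : Subgroup S, (Cfsg.omegaOne p (Subgroup.center S) ≤ W ∧
      ∀ (K : Type u) [Group K] (σ : S →* K), Cfsg.IsStableEmbedding p σ → (W.map σ).Normal) →
      h * τ w * h⁻¹ ∈ W.map τ := fun W hW =>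
    (hW.2 H τ hτ).conj_mem _ ⟨w, (sInf_le hW : Cfsg.stableNormalClosure p S ≤ W) hw, rfl⟩ h
  obtain ⟨w', -, hw'⟩ := hmem W₀ hW₀
  refine ⟨w', Subgroup.mem_sInf.2 fun W hW => ?_, hw'⟩
  obtain ⟨v, hv, hve⟩ := hmem W hW
  rwa [← hτ.1 (hve.trans hw'.symm)]

theorem omegaCenterThompson_map_normal {S H : Type u} [Group S] [Finite S] [Group H]
    {τ : S →* H} (hτ : Cfsg.IsStableEmbedding p τ) :
    ((Cfsg.omegaCenterThompson p S).map τ).Normal := by
  obtain ⟨hinj, -, -, -, hJ, -⟩ := hτ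
  haveI := hJ
  set J := Cfsg.thompsonSubgroup p S with hJdef
  have heq : (Cfsg.omegaCenterThompson p S).map τ =
      Cfsg.omegaOne p (J.map τ ⊓ Subgroup.centralizer ((J.map τ : Subgroup H) : Set H)) := by
    rw [Cfsg.omegaCenterThompson, omegaOne_map_of_injOn _ _ hinj.injOn]
    congr 1
    ext y
    constructor
    · rintro ⟨x, ⟨hxJ, hxC⟩, rfl⟩
      refine ⟨⟨x, hxJ, rfl⟩, Subgroup.mem_centralizer_iff.2 ?_⟩
      rintro _ ⟨j, hj, rfl⟩
      rw [← map_mul, ← map_mul, Subgroup.mem_centralizer_iff.1 hxC j hj]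
    · rintro ⟨⟨x, hx, rfl⟩, hC⟩
      refine ⟨x, ⟨hx, Subgroup.mem_centralizer_iff.2 fun j hj => hinj ?_⟩, rfl⟩
      rw [map_mul, map_mul]
      exact Subgroup.mem_centralizer_iff.1 hC _ ⟨j, hj, rfl⟩
  rw [heq]
  exact CfsgLib.Inv.ZJ.omegaOne_normal inferInstance

theorem omegaOne_center_le {S : Type u} [Group S] [Finite S] :
    Cfsg.omegaOne p (Subgroup.center S) ≤ Cfsg.omegaCenterThompson p S := by
  refine (Subgroup.closure_le _).2 fun x hx => Subgroup.subset_closure ⟨?_, hx.2⟩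
  have hc : x ∈ Subgroup.centralizer (Cfsg.thompsonSubgroup p S : Set S) :=
    Subgroup.center_le_centralizer _ hx.1
  exact ⟨mem_thompsonSubgroup_of_centralizing hc hx.2, hc⟩

theorem stableClosure_map_normal' {S H : Type u} [Group S] [Finite S] [Group H] {τ : S →* H}
    (hτ : Cfsg.IsStableEmbedding p τ) : ((Cfsg.stableNormalClosure p S).map τ).Normal :=
  stableClosure_map_normal hτ
    ⟨_, omegaOne_center_le, fun _ _ _ hσ => omegaCenterThompson_map_normal hσ⟩

theorem stableClosure_le {S : Type u} [Group S] [Finite S] :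
    Cfsg.stableNormalClosure p S ≤ Cfsg.omegaCenterThompson p S :=
  sInf_le ⟨omegaOne_center_le, fun _ _ _ hσ => omegaCenterThompson_map_normal hσ⟩

/-- No element acts quadratically and nontrivially on `W(S)`. -/
theorem stableClosure_quadratic {S : Type u} [Group S] [Finite S] (x : S)
    (hq : ⁅⁅Cfsg.stableNormalClosure p S, Subgroup.zpowers x⁆, Subgroup.zpowers x⁆ = ⊥) :
    ∀ w ∈ Cfsg.stableNormalClosure p S, x * w = w * x := by
  set W := Cfsg.stableNormalClosure p S with hW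
  set Q := {y : S | ⁅⁅W, Subgroup.zpowers y⁆, Subgroup.zpowers y⁆ = ⊥}
  suffices h : W ≤ W ⊓ Subgroup.centralizer Q from fun w hw =>
    Subgroup.mem_centralizer_iff.1 (Subgroup.mem_inf.1 (h hw)).2 x hq
  refine sInf_le ⟨le_inf (le_sInf fun U hU => hU.1) ?_, fun H _ τ hτ => ⟨fun z hz h => ?_⟩⟩
  · refine le_trans ?_ (Subgroup.center_le_centralizer Q)
    exact omegaOne_le _
  obtain ⟨u, hu, rfl⟩ := hz
  obtain ⟨huW, huQ⟩ := Subgroup.mem_inf.1 hu
  haveI := hτ.2.1
  haveI hVn : (W.map τ).Normal := stableClosure_map_normal' hτ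
  obtain ⟨P₀, hP₀⟩ := hτ.2.2.1
  have hst : Cfsg.IsPStableOn p (W.map τ) :=
    hτ.2.2.2.2.2 (W.map τ) (Subgroup.map_mono stableClosure_le)
  obtain ⟨P, hP0, hfr, hquad⟩ := frattini_of_pStable (W.map τ) hst P₀
  obtain ⟨n, hn, c, hc, rfl⟩ := Subgroup.mem_sup_of_normal_right.1
    (show h ∈ Subgroup.normalizer (P : Set H) ⊔ Subgroup.centralizer ((W.map τ : Subgroup H) : Set H) by
      rw [hfr]; exact Subgroup.mem_top h)
  have e : n * c * τ u * (n * c)⁻¹ = n * τ u * n⁻¹ := by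
    have h1 : τ u * c = c * τ u := Subgroup.mem_centralizer_iff.1 hc _ ⟨u, huW, rfl⟩
    rw [mul_assoc n c, ← h1]; group
  rw [e]
  obtain ⟨u', hu', hue⟩ : n * τ u * n⁻¹ ∈ W.map τ := hVn.conj_mem _ ⟨u, huW, rfl⟩ n
  refine ⟨u', Subgroup.mem_inf.2 ⟨hu', Subgroup.mem_centralizer_iff.2 fun y hy => hτ.1 ?_⟩, hue⟩
  have hyq := quad_transfer (f := τ) (show ⁅⁅W, Subgroup.zpowers y⁆, Subgroup.zpowers y⁆ = ⊥ from hy)
  have hyP : τ y ∈ P := hquad (τ y) (by rw [hP₀]; exact ⟨y, rfl⟩) hyq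
  have h2 : n⁻¹ * τ y * n ∈ P := (Subgroup.mem_normalizer_iff''.1 hn (τ y)).1 hyP
  obtain ⟨y', hy'⟩ : n⁻¹ * τ y * n ∈ τ.range := hP₀ ▸ hP0 h2
  have h3 : ⁅⁅W, Subgroup.zpowers y'⁆, Subgroup.zpowers y'⁆ = ⊥ := by
    refine quad_of_injective hτ.1 ?_
    have := quad_conj n⁻¹ hyq
    rwa [inv_inv, ← hy'] at this
  have h4 : τ y' * τ u = τ u * τ y' := by
    rw [← map_mul, ← map_mul, Subgroup.mem_centralizer_iff.1 huQ y' h3]
  rw [map_mul, map_mul, hue]
  calc τ y * (n * τ u * n⁻¹) = n * (τ y' * τ u) * n⁻¹ := by rw [hy']; group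
    _ = n * (τ u * τ y') * n⁻¹ := by rw [h4]
    _ = n * τ u * n⁻¹ * τ y := by rw [hy']; group

theorem stableClosure_quadratic_eq_bot {S : Type u} [Group S] [Finite S] (x : S)
    (hq : ⁅⁅Cfsg.stableNormalClosure p S, Subgroup.zpowers x⁆, Subgroup.zpowers x⁆ = ⊥) :
    ⁅Cfsg.stableNormalClosure p S, Subgroup.zpowers x⁆ = ⊥ := by
  rw [Subgroup.commutator_eq_bot_iff_le_centralizer, Subgroup.le_centralizer_iff,
    Subgroup.zpowers_le, Subgroup.mem_centralizer_iff]
  exact fun w hw => (stableClosure_quadratic x hq w hw).symm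

/-! ### Normality -/

theorem wOf_le (S : Subgroup G) : wOf p S ≤ S := Subgroup.map_subtype_le _

theorem wOf_quadratic {S : Subgroup G} {x : G} (hx : x ∈ S)
    (hq : ⁅⁅wOf p S, Subgroup.zpowers x⁆, Subgroup.zpowers x⁆ = ⊥) :
    ∀ w ∈ wOf p S, x * w = w * x := by
  rintro _ ⟨w, hw, rfl⟩
  exact congrArg Subtype.val (stableClosure_quadratic (⟨x, hx⟩ : S)
    (quad_of_injective (f := S.subtype) S.subtype_injective hq) w hw)

theorem wOf_elementary (S : Subgroup G) : Cfsg.IsElementaryAbelian p (wOf p S) :=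
  isElementaryAbelian_map (isElementaryAbelian_of_le isElementaryAbelian_omegaCenterThompson
    stableClosure_le)

theorem le_normalizer_wOf (S : Sylow p G) :
    (S : Subgroup G) ≤ Subgroup.normalizer (wOf p (S : Subgroup G) : Set G) := by
  haveI := (Cfsg.Agent.S0622.result (p := p) (S := ↥(S : Subgroup G)) S.2).1
  refine le_normalizer_iff_forall_conj_mem.2 ?_
  rintro g hg _ ⟨w, hw, rfl⟩
  exact ⟨(⟨g, hg⟩ : ↥(S : Subgroup G)) * w * (⟨g, hg⟩ : ↥(S : Subgroup G))⁻¹,
    Subgroup.Normal.conj_mem inferInstance w hw _, rfl⟩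

theorem sectionKernel_le_pCore (hc : Subgroup.centralizer (Cfsg.pCore p G : Set G) ≤ Cfsg.pCore p G)
    (N : Subgroup G) [N.Normal] (hN : N = (frattini ↥(Cfsg.pCore p G)).map (Cfsg.pCore p G).subtype) :
    Cfsg.sectionKernel (Cfsg.pCore p G) N ≤ Cfsg.pCore p G := by
  haveI := pCore_normal G p
  set Q := Cfsg.pCore p G with hQ
  set C := Cfsg.sectionKernel Q N with hC
  haveI : (Q.map (QuotientGroup.mk' N)).Normal :=
    (inferInstance : Q.Normal).map _ (QuotientGroup.mk'_surjective N)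
  haveI : C.Normal := by
    rw [hC, Cfsg.sectionKernel]
    exact (inferInstance : (Subgroup.centralizer _).Normal).comap _
  have htriv : ∀ u ∈ C, ∀ k ∈ Q, ⁅u, k⁆ ∈ N := by
    intro u hu k hk
    rw [← QuotientGroup.eq_one_iff]
    show QuotientGroup.mk' N ⁅u, k⁆ = 1
    rw [map_commutatorElement, commutatorElement_eq_one_iff_mul_comm]
    exact (Subgroup.mem_centralizer_iff.1 hu _ ⟨k, hk, rfl⟩).symm
  refine le_pCore (N := C) (IsPGroup.iff_orderOf.2 fun u => ?_)
  refine ⟨_, Nat.eq_prime_pow_of_unique_prime_dvd (orderOf_pos u).ne' fun {q} hq hd => ?_⟩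
  by_contra hne
  rw [← Subgroup.orderOf_coe] at hd
  set v := (u : G) ^ (orderOf (u : G) / q)
  have hv : orderOf v = q := by
    rw [orderOf_pow_orderOf_div (orderOf_pos _).ne' hd]
  obtain ⟨a, ha⟩ := IsPGroup.iff_card.1 ((pCore_isPGroup G p).to_subgroup (frattini ↥Q))
  have h1 : Subgroup.zpowers v ≤ Subgroup.centralizer (Q : Set G) := by
    refine le_centralizer_of_trivial_on_frattini_quotient ?_ fun b hb k hk => hN ▸
      htriv b ((Subgroup.zpowers_le.2 (pow_mem u.2 _)) hb) k hk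
    rw [Nat.card_zpowers, hv, ha]
    exact ((Nat.coprime_primes hq hp.out).2 hne).pow_right a
  obtain ⟨j, hj⟩ := IsPGroup.iff_orderOf.1 (pCore_isPGroup G p)
    ⟨v, hc (h1 (Subgroup.mem_zpowers v))⟩
  rw [Subgroup.orderOf_mk, hv] at hj
  exact hne ((Nat.prime_dvd_prime_iff_eq hq hp.out).1 (hq.dvd_of_dvd_pow (dvd_of_eq hj)))

/-- `W(S) ≤ O_p(G)`. -/
theorem wOf_le_pCore (hst : Cfsg.IsActionPStable p G)
    (hc : Subgroup.centralizer (Cfsg.pCore p G : Set G) ≤ Cfsg.pCore p G) (S : Sylow p G) :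
    wOf p (S : Subgroup G) ≤ Cfsg.pCore p G := by
  haveI := pCore_normal G p
  set Q := Cfsg.pCore p G with hQ
  set W := wOf p (S : Subgroup G) with hW
  set N := (frattini ↥Q).map Q.subtype
  haveI : N.Normal := ConjAct.normal_of_characteristic_of_normal
  intro w hw
  have hquad : ⁅⁅Q, Subgroup.zpowers w⁆, Subgroup.zpowers w⁆ ≤ N := by
    refine le_trans ?_ bot_le
    rw [le_bot_iff, Subgroup.commutator_eq_bot_iff_le_centralizer]
    refine le_trans (?_ : _ ≤ W) ?_
    · refine Subgroup.commutator_le.2 fun k hk z hz => ?_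
      have hz' : z ∈ W := Subgroup.zpowers_le.2 hw hz
      rw [commutatorElement_def]
      exact mul_mem ((Subgroup.mem_normalizer_iff.1
        (le_normalizer_wOf S (pCore_le_sylow S hk)) z).1 hz') (inv_mem hz')
    · intro z hz
      rw [Subgroup.mem_centralizer_iff]
      intro y hy
      exact commute_of_isElementaryAbelian (wOf_elementary _) (Subgroup.zpowers_le.2 hw hy) hz
  obtain ⟨D, hDn, hCD, ⟨k, hk⟩, hwD⟩ := hst.2.1 w hquad
  haveI := hDn
  refine le_pCore (N := D) ?_ hwD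
  obtain ⟨j, hj⟩ := IsPGroup.iff_card.1
    ((pCore_isPGroup G p).to_le (sectionKernel_le_pCore hc N rfl))
  exact IsPGroup.of_card (n := k + j) (by
    rw [← relIndex_mul_card hCD, hk, hj, pow_add, mul_comm])

theorem normal_wOf_of_pStable (hst : Cfsg.IsActionPStable p G)
    (hc : Subgroup.centralizer (Cfsg.pCore p G : Set G) ≤ Cfsg.pCore p G) (S : Sylow p G) :
    (wOf p (S : Subgroup G)).Normal := by
  haveI := pCore_normal G p
  set W := wOf p (S : Subgroup G) with hWdef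
  set V := Subgroup.normalClosure (W : Set G) with hV
  have hWQ : W ≤ Cfsg.pCore p G := wOf_le_pCore hst hc S
  have hVQ : V ≤ Cfsg.pCore p G := Subgroup.normalClosure_le_normal hWQ
  have hWV : W ≤ V := Subgroup.subset_normalClosure
  have hQN : ∀ g : G, ∀ a ∈ Cfsg.pCore p G, ∀ b ∈ W, g * b * g⁻¹ * a * (g * b * g⁻¹)⁻¹ * a⁻¹ ∈
      W.map (MulAut.conj g).toMonoidHom := by
    intro g a ha b hb
    have h1 : g⁻¹ * a * g ∈ Cfsg.pCore p G := by
      simpa using (inferInstance : (Cfsg.pCore p G).Normal).conj_mem a ha g⁻¹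
    have h2 := (Subgroup.mem_normalizer_iff.1 (le_normalizer_wOf S (pCore_le_sylow S h1)) b⁻¹).1
      (inv_mem hb)
    refine ⟨b * (g⁻¹ * a * g * b⁻¹ * (g⁻¹ * a * g)⁻¹), mul_mem hb h2, ?_⟩
    show g * _ * g⁻¹ = _
    group
  have hconjC : ∀ g : G, ∀ w ∈ W, g * w * g⁻¹ ∈ Subgroup.centralizer (W : Set G) := by
    intro g w hw
    set x := g * w * g⁻¹ with hx
    have hxQ : x ∈ Cfsg.pCore p G :=
      (inferInstance : (Cfsg.pCore p G).Normal).conj_mem w (hWQ hw) g
    have hxX : x ∈ W.map (MulAut.conj g).toMonoidHom := ⟨w, hw, rfl⟩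
    have hab := isElementaryAbelian_map (f := (MulAut.conj g).toMonoidHom) (wOf_elementary (p := p) (S : Subgroup G))
    refine Subgroup.mem_centralizer_iff.2 fun v hv => ?_
    refine (wOf_quadratic (pCore_le_sylow S hxQ) ?_ v hv).symm
    rw [Subgroup.commutator_eq_bot_iff_le_centralizer]
    refine le_trans (?_ : _ ≤ W.map (MulAut.conj g).toMonoidHom) fun z hz =>
      Subgroup.mem_centralizer_iff.2 fun y hy =>
        commute_of_isElementaryAbelian hab (Subgroup.zpowers_le.2 hxX hy) hz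
    refine Subgroup.commutator_le.2 fun a ha b hb => ?_
    obtain ⟨b', hb', rfl⟩ := Subgroup.zpowers_le.2 hxX hb
    rw [← inv_inv ⁅a, _⁆, commutatorElement_inv]
    exact inv_mem (hQN g a (hWQ ha) b' hb')
  have hVC : V ≤ Subgroup.centralizer (W : Set G) :=
    Subgroup.closure_le _ |>.2 fun y hy => by
      obtain ⟨w, hw, hconj⟩ := Group.mem_conjugatesOfSet_iff.1 hy
      obtain ⟨g, rfl⟩ := isConj_iff.1 hconj
      exact hconjC g w hw
  have hVab : V ≤ Subgroup.centralizer (V : Set G) :=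
    Subgroup.normalClosure_le_normal (N := Subgroup.centralizer (V : Set G))
      (Subgroup.le_centralizer_iff.1 hVC)
  have hVea : Cfsg.IsElementaryAbelian p V := by
    refine ⟨⟨⟨fun a b => Subtype.ext (Subgroup.mem_centralizer_iff.1 (hVab b.2) a a.2)⟩⟩, ?_⟩
    let U : Subgroup G :=
      { carrier := {x | x ∈ V ∧ x ^ p = 1}
        one_mem' := ⟨one_mem _, one_pow p⟩
        mul_mem' := fun {a b} ha hb => ⟨mul_mem ha.1 hb.1, by
          rw [(show Commute a b from Subgroup.mem_centralizer_iff.1 (hVab hb.1) a ha.1).mul_pow,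
            ha.2, hb.2, one_mul]⟩
        inv_mem' := fun {a} ha => ⟨inv_mem ha.1, by rw [inv_pow, ha.2, inv_one]⟩ }
    have : V ≤ U := Subgroup.closure_le _ |>.2 fun y hy => by
      obtain ⟨w, hw, hconj⟩ := Group.mem_conjugatesOfSet_iff.1 hy
      obtain ⟨g, rfl⟩ := isConj_iff.1 hconj
      exact ⟨(inferInstance : V.Normal).conj_mem w (hWV hw) g,
        by rw [conj_pow, (wOf_elementary (p := p) (S : Subgroup G)).2 w hw, mul_one, mul_inv_cancel]⟩
    exact fun a ha => (this ha).2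
  -- quadratic elements of `S` centralize `V`
  obtain ⟨P, hPS, hfr, hquad⟩ := frattini_of_pStable V (hst.1 V hVea) S
  set C := Subgroup.centralizer (V : Set G) with hCdef
  have hqC : ∀ a ∈ (S : Subgroup G), ⁅⁅V, Subgroup.zpowers a⁆, Subgroup.zpowers a⁆ = ⊥ → a ∈ C := by
    intro a ha hq
    suffices hle : V ≤ Subgroup.centralizer {a} from Subgroup.mem_centralizer_iff.2 fun v hv =>
      Subgroup.mem_centralizer_singleton_iff.1 (hle hv)
    refine Subgroup.closure_le _ |>.2 fun y hy => ?_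
    obtain ⟨w, hw, hconj⟩ := Group.mem_conjugatesOfSet_iff.1 hy
    obtain ⟨g, rfl⟩ := isConj_iff.1 hconj
    obtain ⟨n, hn, c, hc, rfl⟩ := Subgroup.mem_sup_of_normal_right.1
      (show g ∈ Subgroup.normalizer (P : Set G) ⊔ C by rw [hfr]; exact Subgroup.mem_top g)
    have h1 : w * c = c * w := Subgroup.mem_centralizer_iff.1 hc w (hWV hw)
    have h2 : n⁻¹ * a * n ∈ P := (Subgroup.mem_normalizer_iff''.1 hn a).1 (hquad a ha hq)
    have h3 := quad_conj n⁻¹ hq
    rw [inv_inv] at h3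
    have h4 := wOf_quadratic (hPS h2) (quad_mono hWV h3) w hw
    rw [SetLike.mem_coe, Subgroup.mem_centralizer_singleton_iff]
    calc n * c * w * (n * c)⁻¹ * a = n * (c * w * c⁻¹) * (n⁻¹ * a * n) * n⁻¹ := by group
      _ = n * (n⁻¹ * a * n * w) * n⁻¹ := by rw [← h1, h4]; group
      _ = a * (n * (w * c) * (n * c)⁻¹) := by group
      _ = a * (n * c * w * (n * c)⁻¹) := by rw [h1]; group
  -- hence `J(S)` centralizes `V`
  have hVS : V ≤ (S : Subgroup G) := hVQ.trans (pCore_le_sylow S)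
  have hAC : ∀ A, MaxEA p (S : Subgroup G) A → A ≤ C := by
    by_contra hcon
    push Not at hcon
    obtain ⟨A, ⟨hA, hAn⟩, hmax⟩ := Set.exists_max_image
      {A | MaxEA p (S : Subgroup G) A ∧ ¬ A ≤ C}
      (fun A => Nat.card (A ⊓ V : Subgroup G)) (Set.toFinite _) hcon
    by_cases hN : V ≤ Subgroup.normalizer (A : Set G)
    · refine hAn fun a ha => hqC a (hA.1 ha) ?_
      rw [Subgroup.commutator_eq_bot_iff_le_centralizer]
      refine le_trans (?_ : _ ≤ A) fun z hz => Subgroup.mem_centralizer_iff.2 fun y hy =>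
        commute_of_isElementaryAbelian hA.2.1 (Subgroup.zpowers_le.2 ha hy) hz
      refine Subgroup.commutator_le.2 fun v hv b hb => ?_
      rw [commutatorElement_def]
      exact mul_mem ((Subgroup.mem_normalizer_iff.1 (hN hv) b).1 (Subgroup.zpowers_le.2 ha hb))
        (inv_mem (Subgroup.zpowers_le.2 ha hb))
    · obtain ⟨B, hB, hlt, hBA⟩ := thompson_replacement S.2 hVS hVea hA hN
      have hBC : B ≤ C := by
        by_contra hBn
        have h1 := hmax B ⟨hB, hBn⟩
        exact absurd (h1.trans_lt (lt_of_le_of_ne (Subgroup.card_le_of_le hlt.le)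
          fun e => hlt.ne (Subgroup.eq_of_le_of_card_ge hlt.le e.ge))) (lt_irrefl _)
      have hVB : V ≤ Subgroup.centralizer (B : Set G) := Subgroup.le_centralizer_iff.1 hBC
      have h2 := hB.2.2 (B ⊔ V) (sup_le hB.1 hVS) (isElementaryAbelian_sup hB.2.1 hVea hVB)
      exact hN ((le_sup_right.trans
        (Subgroup.eq_of_le_of_card_ge (le_sup_left : B ≤ B ⊔ V) h2).ge).trans hBA)
  -- `G = N(J(S)) C`
  obtain ⟨R, hR⟩ := CfsgLib.Inv.sylow_inf_normal S C
  set U := (S : Subgroup G) ⊓ C with hU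
  have hJU : Cfsg.thompsonSubgroupOf p (S : Subgroup G) = Cfsg.thompsonSubgroupOf p U := by
    obtain ⟨A0, hA0⟩ := exists_maxEA (p := p) (S : Subgroup G)
    rw [thompsonSubgroupOf_eq, thompsonSubgroupOf_eq]
    refine le_antisymm (iSup₂_le fun A hA => le_iSup₂_of_le A
      ⟨le_inf hA.1 (hAC A hA), hA.2.1, fun B hB => hA.2.2 B (hB.trans inf_le_left)⟩ le_rfl)
      (iSup₂_le fun A hA => ?_)
    exact le_iSup₂_of_le A ⟨hA.1.trans inf_le_left, hA.2.1, fun B hB hBe =>
      (hA0.2.2 B hB hBe).trans (hA.2.2 A0 (le_inf hA0.1 (hAC A0 hA0)) hA0.2.1)⟩ le_rfl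
  have hfr2 : Subgroup.normalizer (Cfsg.thompsonSubgroupOf p (S : Subgroup G) : Set G) ⊔ C = ⊤ := by
    rw [hJU]
    refine top_le_iff.1 (le_trans ?_ (sup_le_sup (normalizer_le_normalizer_thompsonSubgroupOf U) le_rfl))
    rw [← hR]
    exact (Sylow.normalizer_sup_eq_top R).ge
  -- the embedding of `S` into `N(J(S))` is stable
  set H := Subgroup.normalizer (Cfsg.thompsonSubgroupOf p (S : Subgroup G) : Set G) with hH
  have hSH : (S : Subgroup G) ≤ H :=
    Subgroup.le_normalizer.trans (normalizer_le_normalizer_thompsonSubgroupOf _)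
  set τ : ↥(S : Subgroup G) →* ↥H := Subgroup.inclusion hSH
  have hτ : Cfsg.IsStableEmbedding p τ := by
    refine ⟨Subgroup.inclusion_injective hSH, inferInstance, ⟨S.subtype hSH, ?_⟩, ?_, ?_,
      fun V' hV'n hV' => ?_⟩
    · rw [Sylow.coe_subtype]
      ext ⟨x, hx⟩
      exact ⟨fun h => ⟨⟨x, h⟩, rfl⟩, fun ⟨y, hy⟩ => by
        rw [Subgroup.mem_subgroupOf, ← congrArg Subtype.val hy]; exact y.2⟩
    · have hQH : Cfsg.pCore p G ≤ H := (pCore_le_sylow S).trans hSH
      have h1 : (Cfsg.pCore p G).subgroupOf H ≤ Cfsg.pCore p ↥H :=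
        le_pCore ((pCore_isPGroup G p).comap_of_injective _ H.subtype_injective)
      intro x hx
      refine h1 (hc (Subgroup.mem_centralizer_iff.2 fun q hq => ?_))
      exact congrArg Subtype.val (Subgroup.mem_centralizer_iff.1 hx ⟨q, hQH hq⟩ (h1 hq))
    · have hJS := thompsonSubgroupOf_le (p := p) (S : Subgroup G)
      have e : (Cfsg.thompsonSubgroup p ↥(S : Subgroup G)).map τ =
          (Cfsg.thompsonSubgroupOf p (S : Subgroup G)).subgroupOf H := by
        refine Subgroup.map_injective H.subtype_injective ?_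
        rw [Subgroup.map_map, Subgroup.map_subgroupOf_eq_of_le (hJS.trans hSH)]
        rfl
      rw [e]
      exact Subgroup.normal_in_normalizer
    · haveI := hV'n
      refine hst.2.2 S V' ?_
      have := Subgroup.map_mono (f := H.subtype) hV'
      rwa [Subgroup.map_map] at this
  have hWH : H ≤ Subgroup.normalizer (W : Set G) := by
    refine le_normalizer_iff_forall_conj_mem.2 ?_
    rintro h hh _ ⟨w, hw, rfl⟩
    obtain ⟨w', hw', he⟩ :=
      (stableClosure_map_normal' hτ).conj_mem (τ w) ⟨w, hw, rfl⟩ ⟨h, hh⟩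
    exact ⟨w', hw', congrArg Subtype.val he⟩
  rw [← Subgroup.normalizer_eq_top_iff, eq_top_iff, ← hfr2]
  exact sup_le hWH ((Subgroup.centralizer_le hWV).trans (Subgroup.centralizer_le_normalizer _))

theorem map_wOf {G' : Type u} [Group G'] (f : G →* G') {S : Subgroup G} (hS : IsPGroup p S)
    (hf : Set.InjOn f S) : (wOf p S).map f = wOf p (S.map f) := by
  let η : S ≃* S.map f := MulEquiv.ofBijective (f.subgroupMap S)
    ⟨fun x y h => Subtype.ext (hf x.2 y.2 (congrArg Subtype.val h)), f.subgroupMap_surjective S⟩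
  rw [wOf, wOf, ← (Cfsg.Agent.S0622.result (p := p) hS).2.2.2.2 _ η, Subgroup.map_map,
    Subgroup.map_map]
  rfl

theorem sup_normalizer_wOf_eq_top (h5 : 5 ≤ p) (hsep : Cfsg.IsPSolvable p G) (S : Sylow p G) :
    Cfsg.pPrimeCore p G ⊔ Subgroup.normalizer (wOf p (S : Subgroup G) : Set G) = ⊤ := by
  set K := Cfsg.pPrimeCore p G
  haveI := pPrimeCore_normal (p := p) (G := G)
  have hKp : ¬ p ∣ Nat.card K := not_dvd_card_pPrimeCore
  have hQ := CfsgLib.Perm.isPSolvable_quotient hsep K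
  refine CfsgLib.Inv.ZJ.sup_normalizer_eq_top (S.2.to_le (wOf_le _)) hKp ?_
  have hf : Set.InjOn (QuotientGroup.mk' K) (S : Subgroup G) := by
    intro x hx y hy h
    have h1 : x⁻¹ * y ∈ (S : Subgroup G) ⊓ K :=
      Subgroup.mem_inf.2 ⟨mul_mem (inv_mem hx) hy, QuotientGroup.eq.1 h⟩
    rw [eq_bot_of_isPGroup_inf S.2 hKp, Subgroup.mem_bot, inv_mul_eq_one] at h1
    exact h1
  rw [map_wOf _ S.2 hf, ← Sylow.coe_mapSurjective (QuotientGroup.mk'_surjective K) S]
  exact normal_wOf_of_pStable (actionPStable_of_pSolvable h5 hQ)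
    (CfsgLib.Perm.centralizer_pCore_le_of_pSolvable hQ pPrimeCore_quotient_self) _

theorem hnpc_of_wOf (hp2 : p ≠ 2) (S : Sylow p G)
    (hN : Cfsg.HasNormalPComplement p
      ↥(Subgroup.normalizer (wOf p (S : Subgroup G) : Set G))) :
    Cfsg.HasNormalPComplement p G := by
  have hW : Cfsg.IsCharPFunctor.{u} p (fun Q _ => Cfsg.stableNormalClosure p Q) :=
    ⟨fun Q _ _ hQ hnt => (Cfsg.Agent.S0622.result hQ).2.2.2.1 hnt,
      fun Q R _ _ _ hQ φ => (Cfsg.Agent.S0622.result hQ).2.2.2.2 R φ⟩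
  refine CfsgLib.Glau.hnpc_induction (fun Q _ => Cfsg.stableNormalClosure p Q) hW
    (fun Γ _ _ _ hsec T hNT hcen _ _ hab _ => ?_) G
    ⟨⊤, Subgroup.subtype _, fun y => ⟨⟨y, trivial⟩, rfl⟩⟩ S hN
  have hqd : ¬ CfsgLib.Glau.IsSec Γ ↥(Cfsg.qd p) :=
    CfsgLib.Dickson.not_isSec_qd hp2 (pCore_isPGroup Γ p) (fun x hx => CfsgLib.Inv.mem_pResidual hx) hab
  haveI hn : (Cfsg.inducedFunctor (G := Γ) (fun Q _ => Cfsg.stableNormalClosure p Q)
      (T : Subgroup Γ)).Normal :=
    normal_wOf_of_pStable (actionPStable_of_no_qd hp2 hqd) hcen T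
  refine hnpc_of_map_le (f := MonoidHom.id Γ) Function.injective_id ?_ hNT |> fun h => hnpc_top
    (K := (⊤ : Subgroup Γ)) rfl h
  rw [Subgroup.map_id]
  exact (Subgroup.normalizer_eq_top_iff.2 inferInstance).ge

end CfsgLib.Solv
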