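import Cfsg.Agent.Inv.Replacement

/-!
Glauberman replacement at a given element, without assuming that `[B, B]` is central in `B`.
-/

set_option autoImplicit false
set_option linter.style.haveILetI false
set_option linter.unusedSectionVars false

open scoped commutatorElement Pointwise

namespace CfsgLib.Solv.GlaubermanReplaceAt

open CfsgLib.Inv.ZJ

variable {G : Type*} [Group G] [Finite G] {p : ℕ} [hp : Fact p.Prime]

/-- The replacement of `A` by `M ⊔ K`, `M` generated by the displacements of `x`. -/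
theorem replacement_at {e : ℕ} (he : e = 0 ∨ Odd e) {A B L : Subgroup G} (hL : IsPGroup p L)
    (hAL : A ≤ L) (hBL : B ≤ L) (hA : Abel e A) (hBA : ⁅B, B⁆ ≤ A)
    (hAB : A ≤ Subgroup.normalizer (B : Set G))
    (hodd : p ≠ 2 ∨ ∀ a ∈ B, ∀ b ∈ B, a * b = b * a) {x : G} (hxB : x ∈ B)
    (hxM : x ∈ Subgroup.normalizer ((Subgroup.normalizer (A : Set G)) : Set G))
    (hxA : x ∉ Subgroup.normalizer (A : Set G)) :
    ∃ M K : Subgroup G, M = Subgroup.closure ((fun a => x * a * x⁻¹ * a⁻¹) '' (A : Set G)) ∧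
      (∀ a, a ∈ K ↔ a ∈ A ∧ x * a * x⁻¹ ∈ A) ∧ Abel e (M ⊔ K) ∧
      Nat.card (M ⊔ K : Subgroup G) = Nat.card A ∧ A ⊓ B < (M ⊔ K) ⊓ B ∧
      M ⊔ K ≤ Subgroup.normalizer (A : Set G) := by
  have hxN : x ∉ B ⊓ Subgroup.normalizer (A : Set G) := fun h => hxA h.2
  have hN : ∀ g : G, (∀ a ∈ A, g * a * g⁻¹ ∈ A) → g ∈ Subgroup.normalizer (A : Set G) :=
    fun g hg => Subgroup.mem_normalizer_fintype hg
  set N := B ⊓ Subgroup.normalizer (A : Set G) with hNdef
  have hIN : A ⊓ B ≤ N := le_inf inf_le_right (inf_le_left.trans Subgroup.le_normalizer)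
  have hAN : ∀ a ∈ A, ∀ n ∈ N, a * n * a⁻¹ ∈ N := fun a ha n hn =>
    ⟨(Subgroup.mem_normalizer_iff.1 (hAB ha) n).1 hn.1,
      (Subgroup.normalizer (A : Set G)).mul_mem ((Subgroup.normalizer (A : Set G)).mul_mem (Subgroup.le_normalizer ha) hn.2) ((Subgroup.normalizer (A : Set G)).inv_mem (Subgroup.le_normalizer ha))⟩
  have hAnormN : A ≤ Subgroup.normalizer (N : Set G) := fun a ha =>
    Subgroup.mem_normalizer_fintype (hAN a ha)
  -- displacements
  obtain ⟨u, hu⟩ : ∃ u : G → G, ∀ a, u a = x * a * x⁻¹ * a⁻¹ := ⟨_, fun a => rfl⟩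
  have huN : ∀ a ∈ A, u a ∈ N := fun a ha => by
    rw [hu]
    refine ⟨?_, (Subgroup.normalizer (A : Set G)).mul_mem ((Subgroup.mem_normalizer_iff.1 hxM a).1
      (Subgroup.le_normalizer ha)) (inv_mem (Subgroup.le_normalizer ha))⟩
    rw [show x * a * x⁻¹ * a⁻¹ = x * (a * x⁻¹ * a⁻¹) by group]
    exact mul_mem hxB ((Subgroup.mem_normalizer_iff.1 (hAB ha) _).1 (inv_mem hxB))
  have hconjBB : ∀ z ∈ ⁅B, B⁆, x⁻¹ * z * x ∈ ⁅B, B⁆ := fun z hz => by
    have h1 : z ∈ B := Subgroup.commutator_le_self B hz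
    have := mul_mem (Subgroup.commutator_mem_commutator (inv_mem hxB) h1) hz
    simpa [commutatorElement_def, mul_assoc] using this
  -- `[B,B]` is centralised by `A` and by all displacements
  have hBc : ∀ z ∈ ⁅B, B⁆, ∀ b ∈ A ⊔ Subgroup.closure (u '' (A : Set G)), z * b = b * z := by
    intro z hz b hb
    have hle : A ⊔ Subgroup.closure (u '' (A : Set G)) ≤ Subgroup.centralizer ({z} : Set G) := by
      refine sup_le (fun a ha => Subgroup.mem_centralizer_singleton_iff.2 (hA.comm ha (hBA hz))) ?_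
      rw [Subgroup.closure_le]
      rintro _ ⟨a, ha, rfl⟩
      refine Subgroup.mem_centralizer_singleton_iff.2 ?_
      have h1 : a * (x⁻¹ * z * x) = (x⁻¹ * z * x) * a := hA.comm ha (hBA (hconjBB z hz))
      have h2 : a⁻¹ * z = z * a⁻¹ := hA.comm (inv_mem ha) (hBA hz)
      rw [hu]
      calc x * a * x⁻¹ * a⁻¹ * z = x * a * x⁻¹ * (a⁻¹ * z) := by group
        _ = x * (a * (x⁻¹ * z * x)) * x⁻¹ * a⁻¹ := by rw [h2]; group
        _ = x * ((x⁻¹ * z * x) * a) * x⁻¹ * a⁻¹ := by rw [h1]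
        _ = z * (x * a * x⁻¹ * a⁻¹) := by group
    exact (Subgroup.mem_centralizer_singleton_iff.1 (hle hb)).symm
  have huS : ∀ a ∈ A, u a ∈ A ⊔ Subgroup.closure (u '' (A : Set G)) := fun a ha =>
    Subgroup.mem_sup_right (Subgroup.subset_closure ⟨a, ha, rfl⟩)
  obtain ⟨t, ht⟩ : ∃ t : G → G → G, ∀ a b, t a b = a * u b * a⁻¹ * (u b)⁻¹ := ⟨_, fun a b => rfl⟩
  have htI : ∀ a ∈ A, ∀ b ∈ A, t a b ∈ A ⊓ B := by
    intro a ha b hb
    refine ⟨?_, ?_⟩
    · rw [ht, show a * u b * a⁻¹ * (u b)⁻¹ = a * (u b * a⁻¹ * (u b)⁻¹) by group]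
      exact mul_mem ha ((Subgroup.mem_normalizer_iff.1 (huN b hb).2 _).1 (inv_mem ha))
    · rw [ht]
      exact mul_mem ((Subgroup.mem_normalizer_iff.1 (hAB ha) _).1 (huN b hb).1) (B.inv_mem (huN b hb).1)
  -- `A ⊓ B` commutes with all displacements
  have hIu : ∀ z ∈ A ⊓ B, ∀ a ∈ A, z * u a = u a * z := by
    intro z hz a ha
    have hz' : x * z * x⁻¹ * z⁻¹ ∈ ⁅B, B⁆ := Subgroup.commutator_mem_commutator hxB hz.2
    set z' := x * z * x⁻¹ * z⁻¹ with hz'd
    have h1 : (x * a * x⁻¹) * (x * z * x⁻¹) = (x * z * x⁻¹) * (x * a * x⁻¹) := by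
      rw [show (x * a * x⁻¹) * (x * z * x⁻¹) = x * (a * z) * x⁻¹ by group, hA.comm ha hz.1]; group
    rw [show x * z * x⁻¹ = z' * z by rw [hz'd]; group, show x * a * x⁻¹ = u a * a by rw [hu]; group] at h1
    have h2 : z' * (u a * a) = (u a * a) * z' := by
      rw [← mul_assoc, hBc z' hz' _ (huS a ha), mul_assoc, hA.comm (hBA hz') ha, mul_assoc]
    have h3 : z * (u a * a) = (u a * a) * z :=
      mul_left_cancel (a := z') (by rw [← mul_assoc, ← h1, ← mul_assoc, ← h2, mul_assoc])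
    rw [← mul_assoc, mul_assoc (u a), hA.comm ha hz.1, ← mul_assoc, mul_left_inj] at h3
    exact h3
  -- the key identity
  have hkey : ∀ a ∈ A, ∀ b ∈ A, x * t a b * x⁻¹ * (t a b)⁻¹ = ⁅u a, u b⁆ := by
    intro a ha b hb
    set β := x * u b * x⁻¹ * (u b)⁻¹ with hβd
    have hβ : β ∈ ⁅B, B⁆ := Subgroup.commutator_mem_commutator hxB (huN b hb).1
    have hβu : β * (u a * a) = (u a * a) * β := by
      rw [← mul_assoc, hBc β hβ _ (huS a ha), mul_assoc, hA.comm (hBA hβ) ha, mul_assoc]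
    have h1 : x * t a b * x⁻¹ = (u a * a) * (β * u b) * (u a * a)⁻¹ * (β * u b)⁻¹ := by
      rw [ht, hβd, hu a]; group
    have h2 : (u a * a) * (β * u b) * (u a * a)⁻¹ * (β * u b)⁻¹ =
        (u a * a) * u b * (u a * a)⁻¹ * (u b)⁻¹ := by
      have hconj : β * ((u a * a) * u b * (u a * a)⁻¹) = ((u a * a) * u b * (u a * a)⁻¹) * β := by
        refine hBc β hβ _ ?_
        exact mul_mem (mul_mem (mul_mem (huS a ha) (Subgroup.mem_sup_left ha)) (huS b hb))
          (inv_mem (mul_mem (huS a ha) (Subgroup.mem_sup_left ha)))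
      calc (u a * a) * (β * u b) * (u a * a)⁻¹ * (β * u b)⁻¹
          = ((u a * a) * β) * u b * (u a * a)⁻¹ * (u b)⁻¹ * β⁻¹ := by group
        _ = (β * ((u a * a) * u b * (u a * a)⁻¹)) * (u b)⁻¹ * β⁻¹ := by rw [← hβu]; group
        _ = ((u a * a) * u b * (u a * a)⁻¹) * (β * (u b)⁻¹) * β⁻¹ := by rw [hconj]; group
        _ = ((u a * a) * u b * (u a * a)⁻¹) * ((u b)⁻¹ * β) * β⁻¹ := by rw [hBc β hβ _ (inv_mem (huS b hb))]
        _ = _ := by group
    have h3 : (u a * a) * u b * (u a * a)⁻¹ * (u b)⁻¹ = u a * t a b * (u a)⁻¹ * ⁅u a, u b⁆ := by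
      rw [commutatorElement_def, ht]; group
    have hI := htI a ha b hb
    rw [h1, h2, h3, ← hIu _ hI a ha, mul_inv_cancel_right]
    have hcc : ⁅u a, u b⁆ * (t a b)⁻¹ = (t a b)⁻¹ * ⁅u a, u b⁆ :=
      hBc _ (Subgroup.commutator_mem_commutator (huN a ha).1 (huN b hb).1) _ (inv_mem (Subgroup.mem_sup_left hI.1))
    rw [mul_assoc, hcc, mul_inv_cancel_left]
  have hsym : ∀ a ∈ A, ∀ b ∈ A, t a b = t b a * ⁅u b, u a⁆ := by
    intro a ha b hb
    have h1 : (x * a * x⁻¹) * (x * b * x⁻¹) = (x * b * x⁻¹) * (x * a * x⁻¹) := by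
      rw [show (x * a * x⁻¹) * (x * b * x⁻¹) = x * (a * b) * x⁻¹ by group, hA.comm ha hb]; group
    have h2 : u a * t a b * u b * (a * b) = u b * t b a * u a * (b * a) := by
      calc u a * t a b * u b * (a * b) = (x * a * x⁻¹) * (x * b * x⁻¹) := by rw [ht, hu b, hu a]; group
        _ = (x * b * x⁻¹) * (x * a * x⁻¹) := h1
        _ = _ := by rw [ht, hu b, hu a]; group
    rw [hA.comm hb ha, mul_left_inj, ← hIu _ (htI a ha b hb) a ha, ← hIu _ (htI b hb a ha) b hb, mul_assoc,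
      mul_assoc] at h2
    calc t a b = t a b * (u a * u b) * (u a * u b)⁻¹ := by group
      _ = t b a * (u b * u a) * (u a * u b)⁻¹ := by rw [h2]
      _ = t b a * ⁅u b, u a⁆ := by rw [commutatorElement_def]; group
  -- displacements commute
  have hcomm : ∀ a ∈ A, ∀ b ∈ A, u a * u b = u b * u a := by
    intro a ha b hb
    rcases hodd with hp2 | habel
    swap
    · exact habel _ (huN a ha).1 _ (huN b hb).1
    rw [← commutatorElement_eq_one_iff_mul_comm]
    -- the endomorphism `z ↦ [x, z]` of `[B, B]`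
    set γ := ⁅u a, u b⁆ with hγd
    set γ' := ⁅u b, u a⁆ with hγ'd
    have hγ : γ ∈ ⁅B, B⁆ := Subgroup.commutator_mem_commutator (huN a ha).1 (huN b hb).1
    have hγ' : γ' ∈ ⁅B, B⁆ := Subgroup.commutator_mem_commutator (huN b hb).1 (huN a ha).1
    have hinv : γ' = γ⁻¹ := (commutatorElement_inv (u a) (u b)).symm
    have hBBc : ∀ z ∈ ⁅B, B⁆, ∀ w ∈ ⁅B, B⁆, z * w = w * z := fun z hz w hw =>
      hA.comm (hBA hz) (hBA hw)
    have hxBB : ∀ z ∈ ⁅B, B⁆, x * z * x⁻¹ * z⁻¹ ∈ ⁅B, B⁆ := fun z hz =>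
      Subgroup.commutator_mem_commutator hxB (Subgroup.commutator_le_self B hz)
    have h1 : x * γ * x⁻¹ * γ⁻¹ = (γ ^ 2)⁻¹ := by
      have e1 : γ = γ' * (x * γ' * x⁻¹ * γ'⁻¹) := by
        have hc1 : t b a * (x * γ' * x⁻¹ * γ'⁻¹) = (x * γ' * x⁻¹ * γ'⁻¹) * t b a :=
          (hBc _ (hxBB γ' hγ') _ (Subgroup.mem_sup_left (htI b hb a ha).1)).symm
        calc γ = x * t a b * x⁻¹ * (t a b)⁻¹ := (hkey a ha b hb).symm
          _ = x * (t b a * γ') * x⁻¹ * (t b a * γ')⁻¹ := by rw [hsym a ha b hb]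
          _ = (x * t b a * x⁻¹ * (t b a)⁻¹) * (t b a * (x * γ' * x⁻¹ * γ'⁻¹)) * (t b a)⁻¹ := by group
          _ = (x * t b a * x⁻¹ * (t b a)⁻¹) * ((x * γ' * x⁻¹ * γ'⁻¹) * t b a) * (t b a)⁻¹ := by rw [hc1]
          _ = γ' * (x * γ' * x⁻¹ * γ'⁻¹) := by rw [hkey b hb a ha, mul_assoc, mul_inv_cancel_right]
      rw [hinv, inv_inv] at e1
      have e2 : x * γ⁻¹ * x⁻¹ = γ := by
        have h7 : x * γ⁻¹ * x⁻¹ * γ = γ * γ := by
          calc x * γ⁻¹ * x⁻¹ * γ = γ * (γ⁻¹ * (x * γ⁻¹ * x⁻¹ * γ)) := by group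
            _ = γ * γ := by rw [← e1]
        exact mul_right_cancel h7
      calc x * γ * x⁻¹ * γ⁻¹ = (x * γ⁻¹ * x⁻¹)⁻¹ * γ⁻¹ := by group
        _ = (γ ^ 2)⁻¹ := by rw [e2]; group
    -- conjugation by `x` inverts `γ`; an element of `p`-power order cannot do this
    have h2 : x * γ * x⁻¹ = γ⁻¹ := by
      calc x * γ * x⁻¹ = (x * γ * x⁻¹ * γ⁻¹) * γ := by group
        _ = γ⁻¹ := by rw [h1]; group
    have hn : ∀ n : ℕ, x ^ n * γ * (x ^ n)⁻¹ = γ ^ ((-1 : ℤ) ^ n) := by
      intro n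
      induction n with
      | zero => simp
      | succ n ih =>
        rw [pow_succ' x, show x * x ^ n * γ * (x * x ^ n)⁻¹ = x * (x ^ n * γ * (x ^ n)⁻¹) * x⁻¹ by group,
          ih, ← conj_zpow, h2, inv_zpow', pow_succ, mul_neg_one]
    obtain ⟨k, hk⟩ := hL ⟨x, hBL hxB⟩
    have hk' : x ^ p ^ k = 1 := congrArg Subtype.val hk
    have h3 := hn (p ^ k)
    rw [hk', ((hp.out.odd_of_ne_two hp2).pow).neg_one_pow, zpow_neg_one] at h3
    simp only [one_mul, inv_one, mul_one] at h3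
    have h4 : γ ^ 2 = 1 := by
      rw [pow_two]
      nth_rw 2 [h3]
      exact mul_inv_cancel γ
    obtain ⟨j, hj⟩ := hL ⟨γ, hAL (hBA hγ)⟩
    have hj' : γ ^ p ^ j = 1 := congrArg Subtype.val hj
    refine orderOf_eq_one_iff.1 (Nat.eq_one_of_dvd_coprimes ?_ (orderOf_dvd_of_pow_eq_one h4)
      (orderOf_dvd_of_pow_eq_one hj'))
    exact ((Nat.coprime_primes Nat.prime_two hp.out).2 (Ne.symm hp2)).pow_right j
  -- the kernel of `a ↦ u a` modulo `A ⊓ B`
  set I := A ⊓ B with hI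
  set M := Subgroup.closure (u '' (A : Set G)) with hM
  have huM : ∀ a ∈ A, u a ∈ M := fun a ha => Subgroup.subset_closure ⟨a, ha, rfl⟩
  have hMN : M ≤ N := by
    rw [hM, Subgroup.closure_le]; rintro _ ⟨a, ha, rfl⟩; exact huN a ha
  have hMI : ∀ m ∈ M, ∀ z ∈ I, m * z = z * m := by
    intro m hm z hz
    have hle : M ≤ Subgroup.centralizer ({z} : Set G) := by
      rw [hM, Subgroup.closure_le]; rintro _ ⟨a, ha, rfl⟩
      exact Subgroup.mem_centralizer_singleton_iff.2 (hIu z hz a ha).symm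
    exact Subgroup.mem_centralizer_singleton_iff.1 (hle hm)
  have hMM : ∀ m ∈ M, ∀ m' ∈ M, m * m' = m' * m := by
    intro m hm m' hm'
    have hle : M ≤ Subgroup.centralizer (M : Set G) := by
      rw [hM, Subgroup.centralizer_closure, Subgroup.closure_le]
      rintro _ ⟨a, ha, rfl⟩
      exact Subgroup.mem_centralizer_iff.2 (by rintro _ ⟨b, hb, rfl⟩; exact hcomm b hb a ha)
    exact (Subgroup.mem_centralizer_iff.1 (hle hm') m hm)
  set W := M ⊔ I with hW
  haveI hIW : (I.subgroupOf W).Normal := by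
    refine ⟨fun z hz w => ?_⟩
    have hle : W ≤ Subgroup.centralizer (I : Set G) := sup_le
      (fun m hm => Subgroup.mem_centralizer_iff.2 fun z hz => (hMI m hm z hz).symm)
      (fun z hz => Subgroup.mem_centralizer_iff.2 fun z' hz' => hA.comm hz'.1 hz.1)
    have h1 : (z : G) * w = w * z := Subgroup.mem_centralizer_iff.1 (hle w.2) _ hz
    show (((w * z * w⁻¹ : W)) : G) ∈ I
    push_cast
    rw [← h1, mul_inv_cancel_right]
    exact hz
  have hu_mul : ∀ a ∈ A, ∀ b ∈ A, u (a * b) = t a b * (u a * u b) := by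
    intro a ha b hb
    rw [← mul_assoc, hIu _ (htI a ha b hb) a ha, ht, hu, hu, hu]; group
  let f : A →* W ⧸ I.subgroupOf W := MonoidHom.mk'
    (fun a => QuotientGroup.mk (⟨u a, Subgroup.mem_sup_left (huM a a.2)⟩ : W)) (fun a b => by
      rw [← QuotientGroup.mk_mul, QuotientGroup.eq]
      show (u ((a : G) * b))⁻¹ * (u a * u b) ∈ I
      rw [hu_mul a a.2 b b.2, mul_inv_rev, mul_assoc]
      have h1 : (u a * u b)⁻¹ * ((t a b)⁻¹ * (u a * u b)) = (t a b)⁻¹ := by
        rw [inv_mul_eq_iff_eq_mul]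
        exact (hMI _ (mul_mem (huM a a.2) (huM b b.2)) _ (inv_mem (htI a a.2 b b.2))).symm
      first
        | exact h1 ▸ inv_mem (htI a a.2 b b.2)
        | (rw [h1]; exact inv_mem (htI a a.2 b b.2)))
  have hf : Function.Surjective f := by
    have hle : M ≤ (f.range.comap (QuotientGroup.mk' (I.subgroupOf W))).map W.subtype := by
      rw [hM, Subgroup.closure_le]
      rintro _ ⟨a, ha, rfl⟩
      exact ⟨⟨u a, Subgroup.mem_sup_left (huM a ha)⟩, ⟨⟨a, ha⟩, rfl⟩, rfl⟩
    have hle' : I ≤ (f.range.comap (QuotientGroup.mk' (I.subgroupOf W))).map W.subtype := fun z hz =>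
      ⟨⟨z, Subgroup.mem_sup_right hz⟩, ⟨1, (map_one f).trans
        ((QuotientGroup.eq_one_iff (N := I.subgroupOf W) ⟨z, Subgroup.mem_sup_right hz⟩).2 hz).symm⟩, rfl⟩
    intro q
    obtain ⟨w, rfl⟩ := QuotientGroup.mk_surjective q
    obtain ⟨w', hw', e'⟩ := (sup_le hle hle') w.2
    rw [← (Subtype.ext e' : w' = w)]
    exact hw'
  set K := f.ker.map A.subtype with hK
  have hKA : K ≤ A := Subgroup.map_subtype_le _
  have hKmem : ∀ a ∈ A, (a ∈ K ↔ u a ∈ I) := by
    intro a ha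
    constructor
    · rintro ⟨b, hb, rfl⟩
      exact (QuotientGroup.eq_one_iff (N := I.subgroupOf W) _).1 (MonoidHom.mem_ker.1 hb)
    · intro h
      exact ⟨⟨a, ha⟩, MonoidHom.mem_ker.2 ((QuotientGroup.eq_one_iff (N := I.subgroupOf W) _).2 h), rfl⟩
  have hIK : I ≤ K := fun z hz => (hKmem z hz.1).2 (by
    rw [hu]
    exact ⟨hBA (Subgroup.commutator_mem_commutator hxB hz.2),
      B.mul_mem (B.mul_mem (B.mul_mem hxB hz.2) (B.inv_mem hxB)) (B.inv_mem hz.2)⟩)
  have hKM : ∀ m ∈ M, ∀ k ∈ K, m * k = k * m := by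
    intro m hm k hk
    have hka := hKA hk
    have huk := (hKmem k hka).1 hk
    have hle : M ≤ Subgroup.centralizer ({k} : Set G) := by
      rw [hM, Subgroup.closure_le]
      rintro _ ⟨b, hb, rfl⟩
      refine Subgroup.mem_centralizer_singleton_iff.2 ?_
      have h1 : t b k = 1 := by rw [ht, hA.comm hb huk.1]; group
      have h2 : ⁅u b, u k⁆ = 1 := commutatorElement_eq_one_iff_mul_comm.2 (hcomm b hb k hka)
      have h3 := hsym k hka b hb
      rw [h1, h2, one_mul, ht, mul_inv_eq_one, mul_inv_eq_iff_eq_mul] at h3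
      exact h3.symm
    exact Subgroup.mem_centralizer_singleton_iff.1 (hle hm)
  -- exponents
  have hexp' : ∀ e : ℕ, (e = 0 ∨ Odd e) → ∀ a ∈ A, a ^ e = 1 → u a ^ e = 1 := by
    intro e he a ha hae
    rcases he with rfl | he
    · exact pow_zero _
    have hI' := htI a ha a ha
    set τ := t a a with hτ
    have hτu : τ * u a = u a * τ := hIu τ hI' a ha
    have hτa : τ * a = a * τ := hA.comm hI'.1 ha
    have hτn : ∀ n : ℕ, a ^ n * u a * (a ^ n)⁻¹ = τ ^ n * u a := by
      intro n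
      induction n with
      | zero => simp
      | succ n ih =>
        rw [pow_succ', show a * a ^ n * u a * (a * a ^ n)⁻¹ = a * (a ^ n * u a * (a ^ n)⁻¹) * a⁻¹ by group, ih,
          show a * (τ ^ n * u a) * a⁻¹ = (a * τ ^ n * a⁻¹) * (a * u a * a⁻¹) by group, ← conj_pow,
          show a * τ * a⁻¹ = τ by rw [← hτa, mul_inv_cancel_right],
          show a * u a * a⁻¹ = τ * u a by rw [hτ, ht]; group, pow_succ, mul_assoc]
    have hτe : τ ^ e = 1 := by
      have h1 := hτn e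
      rw [hae, one_mul, inv_one, mul_one] at h1
      exact mul_eq_right.1 h1.symm
    have hmul : ∀ n : ℕ, (u a * a) ^ n = u a ^ n * a ^ n * τ ^ (n * (n - 1) / 2) := by
      intro n
      induction n with
      | zero => simp
      | succ n ih =>
        have hcu : Commute (τ ^ (n * (n - 1) / 2)) (u a) := (show Commute τ (u a) from hτu).pow_left _
        have hca : Commute (τ ^ (n * (n - 1) / 2)) a := (show Commute τ a from hτa).pow_left _
        have harith : (n + 1) * (n + 1 - 1) / 2 = n + n * (n - 1) / 2 := by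
          rcases n with _ | n
          · rfl
          rw [Nat.add_sub_cancel, Nat.add_sub_cancel,
            show (n + 1 + 1) * (n + 1) = 2 * (n + 1) + (n + 1) * n by ring, Nat.mul_add_div two_pos]
        have h1 : a ^ n * u a = τ ^ n * u a * a ^ n := by rw [← hτn n]; group
        have hcn : Commute (τ ^ n) (u a) := (show Commute τ (u a) from hτu).pow_left n
        have hcna : Commute (τ ^ n) (a ^ (n + 1)) := ((show Commute τ a from hτa).pow_left n).pow_right (n + 1)
        calc (u a * a) ^ (n + 1) = u a ^ n * a ^ n * (τ ^ (n * (n - 1) / 2) * (u a * a)) := by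
              rw [pow_succ, ih, mul_assoc]
          _ = u a ^ n * (a ^ n * u a) * a * τ ^ (n * (n - 1) / 2) := by
              rw [(hcu.mul_right hca).eq]; group
          _ = u a ^ n * (u a * τ ^ n) * a ^ n * a * τ ^ (n * (n - 1) / 2) := by
              rw [h1, hcn.eq]; group
          _ = u a ^ (n + 1) * (τ ^ n * a ^ (n + 1)) * τ ^ (n * (n - 1) / 2) := by
              rw [pow_succ (u a), pow_succ a]; group
          _ = u a ^ (n + 1) * a ^ (n + 1) * τ ^ ((n + 1) * (n + 1 - 1) / 2) := by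
              rw [hcna.eq, harith, pow_add]; group
    have h2 : (u a * a) ^ e = 1 := by
      rw [show u a * a = x * a * x⁻¹ by rw [hu]; group, conj_pow, hae]; simp
    obtain ⟨m, hm⟩ := he
    rw [hmul e, hae, mul_one,
      show e * (e - 1) / 2 = e * m by rw [Nat.mul_div_assoc _ ⟨m, by omega⟩]; congr 1; omega,
      pow_mul, hτe, one_pow, mul_one] at h2
    exact h2
  have hexp : ∀ a ∈ A, u a ^ e = 1 := fun a ha => hexp' e he a ha (hA.2 a ha)
  have hcomMK : ∀ a ∈ M ⊔ K, ∀ b ∈ M ⊔ K, a * b = b * a := by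
    have hle : M ⊔ K ≤ Subgroup.centralizer ((M ⊔ K : Subgroup G) : Set G) := by
      rw [Subgroup.le_centralizer_iff]
      refine sup_le ?_ ?_
      · intro m hm
        rw [Subgroup.mem_centralizer_iff]
        intro y hy
        have hle' : M ⊔ K ≤ Subgroup.centralizer ({m} : Set G) := sup_le
          (fun m' hm' => Subgroup.mem_centralizer_singleton_iff.2 (hMM m' hm' m hm))
          (fun k hk => Subgroup.mem_centralizer_singleton_iff.2 (hKM m hm k hk).symm)
        exact Subgroup.mem_centralizer_singleton_iff.1 (hle' hy)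
      · intro k hk
        rw [Subgroup.mem_centralizer_iff]
        intro y hy
        have hle' : M ⊔ K ≤ Subgroup.centralizer ({k} : Set G) := sup_le
          (fun m' hm' => Subgroup.mem_centralizer_singleton_iff.2 (hKM m' hm' k hk))
          (fun k' hk' => Subgroup.mem_centralizer_singleton_iff.2 (hA.comm (hKA hk') (hKA hk)))
        exact Subgroup.mem_centralizer_singleton_iff.1 (hle' hy)
    exact fun a ha b hb => (Subgroup.mem_centralizer_iff.1 (hle hb) a ha)
  refine ⟨M, K, by rw [hM]; exact congrArg Subgroup.closure (Set.image_congr fun a _ => hu a), ?_,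
    abel_of_commute hcomMK ?_, ?_, lt_of_le_of_ne ?_ ?_, ?_⟩
  · intro a
    refine ⟨fun h => ⟨hKA h, ?_⟩, fun h => (hKmem a h.1).2 ⟨?_, (huN a h.1).1⟩⟩
    · have := mul_mem ((hKmem a (hKA h)).1 h).1 (hKA h)
      rw [hu] at this
      simpa using this
    · rw [hu]
      exact mul_mem h.2 (A.inv_mem h.1)
  · intro y hy
    rw [Subgroup.sup_eq_closure] at hy
    induction hy using Subgroup.closure_induction with
    | mem z hz =>
      rcases hz with hz | hz
      · induction (hz : z ∈ M) using Subgroup.closure_induction with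
        | mem w hw => obtain ⟨a, ha, rfl⟩ := hw; exact hexp a ha
        | one => exact one_pow e
        | mul c d hc hd ihc ihd => rw [(show Commute c d from hMM c hc d hd).mul_pow, ihc, ihd, one_mul]
        | inv c _ ih => rw [inv_pow, ih, inv_one]
      · exact hA.2 z (hKA hz)
    | one => exact one_pow e
    | mul c d hc hd ihc ihd =>
      rw [← Subgroup.sup_eq_closure] at hc hd
      rw [(show Commute c d from hcomMK c hc d hd).mul_pow, ihc, ihd, one_mul]
    | inv c _ ih => rw [inv_pow, ih, inv_one]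
  · -- the order
    have hMK : M ⊓ K = M ⊓ I := le_antisymm
      (le_inf inf_le_left (le_inf (inf_le_right.trans hKA) (inf_le_left.trans (hMN.trans inf_le_left))))
      (inf_le_inf_left _ hIK)
    have h1 := card_sup_of_commute (fun m hm k hk => hKM m hm k hk)
    have h2 := card_sup_of_commute (fun m hm z hz => hMI m hm z hz)
    rw [hMK] at h1
    rw [← hW] at h2
    have h3 : Nat.card A = Nat.card K * (I.subgroupOf W).index := by
      rw [hK, Subgroup.card_map_of_injective A.subtype_injective, ← Subgroup.card_mul_index f.ker,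
        Subgroup.index_ker, MonoidHom.range_eq_top.2 hf, Subgroup.card_top, Subgroup.index]
    have h4 := Subgroup.card_mul_index (I.subgroupOf W)
    rw [Nat.card_congr (Subgroup.subgroupOfEquivOfLe (le_sup_right : I ≤ W)).toEquiv] at h4
    refine Nat.eq_of_mul_eq_mul_right (Nat.card_pos (α := (M ⊓ I : Subgroup G))) ?_
    refine Nat.eq_of_mul_eq_mul_right (Nat.card_pos (α := I)) ?_
    rw [h1, h3, show Nat.card K * (I.subgroupOf W).index * Nat.card (M ⊓ I : Subgroup G) * Nat.card I =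
      Nat.card K * ((Nat.card I * (I.subgroupOf W).index) * Nat.card (M ⊓ I : Subgroup G)) by ring, h4, h2]
    ring
  · exact le_inf (hIK.trans le_sup_right) inf_le_right
  · intro heq
    refine hxN ⟨hxB, hN x fun a ha => ?_⟩
    have h1 : u a ∈ A ⊓ B := heq.ge ⟨Subgroup.mem_sup_left (huM a ha), (huN a ha).1⟩
    have := mul_mem h1.1 ha
    rw [hu] at this
    simpa using this
  · exact sup_le (hMN.trans inf_le_right) (hKA.trans Subgroup.le_normalizer)

end CfsgLib.Solv.GlaubermanReplaceAt
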