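import Cfsg.Agent.Inv.Replacement

/-!
The replacement property of abelian subgroups of largest order, `p` odd.
-/

set_option autoImplicit false
set_option linter.style.haveILetI false

open scoped commutatorElement

namespace CfsgLib.Solv.GlaubermanReplace

open CfsgLib.Inv.ZJ

variable {S : Type*} [Group S]

theorem replacement_property [Finite S] {p : ℕ} [Fact p.Prime] (hS : IsPGroup p S) (hp : p ≠ 2)
    {e : ℕ} (he : e = 0 ∨ Odd e) {D : Subgroup S} [D.Normal] {B : Subgroup S} [B.Normal]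
    (hB : ⁅⁅B, B⁆, B⁆ = ⊥)
    (hU : ∃ U : Subgroup S, (U ≤ D ∧ Abel e U ∧
      ∀ V : Subgroup S, V ≤ D → Abel e V → Nat.card V ≤ Nat.card U) ∧ ⁅B, B⁆ ≤ U ∧ ¬ B ≤ U) :
    ∃ A : Subgroup S, (A ≤ D ∧ Abel e A ∧
      ∀ V : Subgroup S, V ≤ D → Abel e V → Nat.card V ≤ Nat.card A) ∧ ⁅B, B⁆ ≤ A ∧ ¬ B ≤ A ∧
      B ≤ Subgroup.normalizer (A : Set S) := by
  obtain ⟨A, ⟨⟨hAD, hA, hmax⟩, hBA, hnB⟩, hbest⟩ :=
    (Set.toFinite {U : Subgroup S | (U ≤ D ∧ Abel e U ∧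
      ∀ V : Subgroup S, V ≤ D → Abel e V → Nat.card V ≤ Nat.card U) ∧ ⁅B, B⁆ ≤ U ∧ ¬ B ≤ U}).exists_maximalFor
      (fun U => Nat.card (U ⊓ B : Subgroup S)) _ hU
  refine ⟨A, ⟨hAD, hA, hmax⟩, hBA, hnB, ?_⟩
  by_contra hnot
  obtain ⟨A', hA', hcard, -, hncl, hlt, hnorm, -⟩ := replacement (p := p) hp he
    (L := (⊤ : Subgroup S)) (hS.to_subgroup _) le_top le_top hA hB hBA
    (by rw [Subgroup.normalizer_eq_top]; exact le_top) hnot
  have hBB : ⁅B, B⁆ ≤ B := Subgroup.commutator_le_right B B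
  have hA'D : A' ≤ D := hncl.trans (Subgroup.normalClosure_le_normal hAD)
  have h1 : ⁅B, B⁆ ≤ A' := (le_inf hBA hBB).trans (hlt.le.trans inf_le_left)
  have h2 : ¬ B ≤ A' := fun h => hnot (h.trans hnorm)
  have h3 := hbest ⟨⟨hA'D, hA', fun V hV hVa => hcard ▸ hmax V hV hVa⟩, h1, h2⟩
    (Subgroup.card_le_of_le hlt.le)
  exact hlt.ne (Subgroup.eq_of_le_of_card_ge hlt.le h3)

end CfsgLib.Solv.GlaubermanReplace
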