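import Cfsg.Agent.Solv.CoprimeAction
import Cfsg.Agent.Solv.CompBasic

/-!
The preimage of the layer of `N_G(P) / O_{p'}(N_G(P))` and normal `p`-subgroups of `G`.
-/

set_option autoImplicit false
set_option linter.style.haveILetI false
set_option linter.unusedSectionVars false

open scoped commutatorElement Pointwise

namespace CfsgLib.Solv

variable {G : Type*} [Group G] [Finite G] {p : ℕ} [hp : Fact p.Prime]

theorem eq_one_of_pPrime_of_mem_pGroup {P : Subgroup G} (hP : IsPGroup p P) {x : G} (hx : x ∈ P)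
    (hco : (orderOf x).Coprime p) : x = 1 := by
  obtain ⟨k, hk⟩ := IsPGroup.iff_orderOf.1 hP ⟨x, hx⟩
  rw [Subgroup.orderOf_mk] at hk
  rw [← orderOf_eq_one_iff]
  exact Nat.Coprime.eq_one_of_dvd (hco.pow_right k) (hk ▸ dvd_rfl)

/-- Elements fixed by a `p`-group modulo a normal `p'`-subgroup come from the centralizer. -/
theorem exists_centralizer_lift_pPrime {N T : Subgroup G} [hNn : N.Normal] (hN : (Nat.card N).Coprime p)
    (hT : IsPGroup p T) {x : G} (hx : ∀ t ∈ T, ⁅x, t⁆ ∈ N) :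
    ∃ o ∈ N, o⁻¹ * x ∈ Subgroup.centralizer (T : Set G) := by
  set Y := MulAut.conj x • T with hY
  have hNN : ∀ K : Subgroup G, K ≤ Subgroup.normalizer (N : Set G) := fun K => by
    rw [Subgroup.normalizer_eq_top]; exact le_top
  have hYle : Y ≤ T ⊔ N := fun y hy => by
    rw [hY, mem_conj_smul_iff] at hy
    rw [show y = ⁅x, x⁻¹ * y * x⁆ * (x⁻¹ * y * x) by rw [commutatorElement_def]; group]
    exact mul_mem (Subgroup.mem_sup_right (hx _ hy)) (Subgroup.mem_sup_left hy)
  have hc1 : (Nat.card T).Coprime (Nat.card N) := by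
    obtain ⟨n, hn⟩ := IsPGroup.iff_card.1 hT
    rw [hn]; exact hN.symm.pow_left n
  have hc2 : (Nat.card Y).Coprime (Nat.card N) := by rwa [hY, card_conj_smul]
  have hsup : T ⊔ N = Y ⊔ N := (Subgroup.eq_of_le_of_card_ge (sup_le hYle le_sup_right) (by
    rw [card_sup_of_le_normalizer (hNN T) hc1, card_sup_of_le_normalizer (hNN Y) hc2, hY, card_conj_smul])).symm
  haveI := hT.isNilpotent
  obtain ⟨g, hg, hgY⟩ := conj_complement_in_sup' (hNN T) (hNN Y) hsup hc1 hc2 (Or.inr inferInstance)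
  obtain ⟨o, ho, r, hrT, rfl⟩ := exists_mul_of_mem_sup (hNN T) hg
  rw [map_mul, mul_smul, conj_smul_eq_self_of_mem_normalizer (Subgroup.le_normalizer hrT)] at hgY
  refine ⟨o, ho, Subgroup.mem_centralizer_iff.2 fun t ht => ?_⟩
  have h1 : x * t * x⁻¹ ∈ MulAut.conj o • T := by
    rw [hgY, hY, mem_conj_smul_iff]; simpa [mul_assoc] using ht
  rw [mem_conj_smul_iff] at h1
  have h2 : ⁅o⁻¹ * x, t⁆ ∈ T := by
    rw [show ⁅o⁻¹ * x, t⁆ = o⁻¹ * (x * t * x⁻¹) * o * t⁻¹ by rw [commutatorElement_def]; group]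
    exact mul_mem h1 (inv_mem ht)
  have h3 : ⁅o⁻¹ * x, t⁆ ∈ N := by
    rw [show ⁅o⁻¹ * x, t⁆ = o⁻¹ * ⁅x, t⁆ * (t * o * t⁻¹) by simp only [commutatorElement_def]; group]
    exact mul_mem (mul_mem (inv_mem ho) (hx t ht)) (hNn.conj_mem o ho t)
  have h4 := eq_one_of_pPrime_of_mem_pGroup hT h2
    (hN.coprime_dvd_left (Subgroup.orderOf_dvd_natCard _ h3))
  exact (commutatorElement_eq_one_iff_mul_comm.1 h4).symm

/-- Over a normal subgroup of order prime to `p` of `G`, the preimage `W` of the layer of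
`N_G(P) / O_{p'}(N_G(P))` centralizes every normal `p`-subgroup of the image. -/
theorem layerPre_centralizes {G' : Type*} [Group G'] [Finite G'] (f : G →* G') (hf : Function.Surjective f)
    (hker : (Nat.card f.ker).Coprime p) (U : Subgroup G') [hUn : U.Normal] (hU : IsPGroup p U)
    (P : Subgroup G) (hP : IsPGroup p P)
    [(Cfsg.pPrimeCore p ↥(Subgroup.normalizer (P : Set G))).Normal] :
    ∀ w : Subgroup.normalizer (P : Set G),
      QuotientGroup.mk' (Cfsg.pPrimeCore p ↥(Subgroup.normalizer (P : Set G))) w ∈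
        Cfsg.layer (↥(Subgroup.normalizer (P : Set G)) ⧸ Cfsg.pPrimeCore p ↥(Subgroup.normalizer (P : Set G))) →
      f (w : G) ∈ Subgroup.centralizer (U : Set G') := by
  classical
  set N := Subgroup.normalizer (P : Set G) with hN
  set O := Cfsg.pPrimeCore p N with hO
  set π := QuotientGroup.mk' O with hπ
  set W := (Cfsg.layer (N ⧸ O)).comap π with hW
  -- the layer centralizes images of normal subgroups with `p`-group image
  have hcomm : ∀ (D : Subgroup N), D.Normal → IsPGroup p (D.map π) → ∀ v : N, π v ∈ Cfsg.layer (N ⧸ O) →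
      ∀ d ∈ D, ⁅v, d⁆ ∈ O := by
    intro D hD hDp v hv d hd
    haveI := hDp.isNilpotent
    have h1 := CfsgLib.Inv.layer_le_centralizer_of_solvable
      ((hD.map π (QuotientGroup.mk'_surjective O)).isSubnormal) inferInstance hv
    refine (QuotientGroup.eq_one_iff _).1 ?_
    show π ⁅v, d⁆ = 1
    rw [map_commutatorElement, commutatorElement_eq_one_iff_mul_comm]
    exact (Subgroup.mem_centralizer_iff.1 h1 _ ⟨d, hd, rfl⟩).symm
  have hOp : ∀ o ∈ O, (orderOf ((o : N) : G)).Coprime p := fun o ho => by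
    rw [Subgroup.orderOf_coe]
    exact (pPrimeCore_coprime N p).coprime_dvd_left (Subgroup.orderOf_dvd_natCard _ ho)
  have hPN : P ≤ N := Subgroup.le_normalizer
  have hcP : ∀ v : N, π v ∈ Cfsg.layer (N ⧸ O) → ∀ t ∈ P, (v : G) * t = t * v := by
    intro v hv t ht
    haveI : (P.subgroupOf N).Normal := Subgroup.normal_in_normalizer
    have h1 : ⁅v, ⟨t, hPN ht⟩⁆ ∈ O :=
      hcomm (P.subgroupOf N) inferInstance ((hP.comap_of_injective N.subtype N.subtype_injective).map π) v hv _ ht
    rw [← commutatorElement_eq_one_iff_mul_comm]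
    refine eq_one_of_pPrime_of_mem_pGroup hP ?_ (hOp _ h1)
    rw [commutatorElement_def]
    exact mul_mem ((Subgroup.mem_normalizer_iff.1 v.2 t).1 ht) (inv_mem ht)
  -- the lift of `C_U(f P)`
  set CP := Subgroup.centralizer (P : Set G) with hCP
  have hCPN : CP ≤ N := fun x hx => Subgroup.mem_normalizer_fintype fun t ht => by
    rwa [← Subgroup.mem_centralizer_iff.1 hx t ht, mul_inv_cancel_right]
  set D : Subgroup N := ((CP ⊓ U.comap f).subgroupOf N) with hD
  have hDn : D.Normal := by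
    refine ⟨fun d hd a => ⟨?_, (hUn.comap f).conj_mem _ hd.2 (a : G)⟩⟩
    show (a : G) * (d : G) * (a : G)⁻¹ ∈ CP
    rw [hCP, Subgroup.mem_centralizer_iff]
    intro t ht
    have h1 := Subgroup.mem_centralizer_iff.1 hd.1 _ ((Subgroup.mem_normalizer_iff.1 (inv_mem a.2) t).1 ht)
    calc t * ((a : G) * d * (a : G)⁻¹) = a * (((a : G)⁻¹ * t * (a : G)⁻¹⁻¹) * d) * (a : G)⁻¹ := by group
      _ = a * d * (a : G)⁻¹ * t := by
        show (a : G) * (((a : G)⁻¹ * t * (a : G)⁻¹⁻¹) * (N.subtype d)) * (a : G)⁻¹ = _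
        rw [h1]; simp only [Subgroup.coe_subtype]; group
  have hDker : D ⊓ f.ker.subgroupOf N ≤ O := by
    haveI := hDn
    refine le_pPrimeCore (N := D ⊓ f.ker.subgroupOf N) (hker.coprime_dvd_left ?_)
    rw [← Subgroup.card_map_of_injective N.subtype_injective]
    exact Subgroup.card_dvd_of_le (by rintro _ ⟨x, hx, rfl⟩; exact hx.2)
  have hDp : IsPGroup p (D.map π) := by
    rintro ⟨_, d, hd, rfl⟩
    obtain ⟨k, hk⟩ := hU ⟨f (d : G), hd.2⟩
    refine ⟨k, Subtype.ext ?_⟩
    show (π d) ^ p ^ k = 1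
    rw [← map_pow]
    refine (QuotientGroup.eq_one_iff _).2 (hDker ⟨pow_mem hd _, ?_⟩)
    show f ((d ^ p ^ k : N) : G) = 1
    rw [SubmonoidClass.coe_pow, map_pow]
    exact congrArg Subtype.val hk
  set C := Subgroup.centralizer (U : Set G') with hC
  set K₀ := C.comap ((f.comp N.subtype).comp W.subtype) with hK₀
  haveI hCn : C.Normal := Subgroup.normal_centralizer
  haveI hK₀n : K₀.Normal := hCn.comap _
  -- elements of order prime to `p` lie in `K₀`
  have hpp : ∀ v : W, (orderOf v).Coprime p → v ∈ K₀ := by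
    intro v hv
    show f ((v : N) : G) ∈ C
    set u := f ((v : N) : G) with hu
    have hQcard : (Nat.card (Subgroup.zpowers u)).Coprime p := by
      rw [Nat.card_zpowers]
      refine hv.coprime_dvd_left ?_
      rw [← Subgroup.orderOf_coe v, ← Subgroup.orderOf_coe (v : N), hu]
      exact orderOf_map_dvd f _
    have hPQ : P.map f ≤ Subgroup.centralizer (Subgroup.zpowers u : Set G') := by
      rintro _ ⟨t, ht, rfl⟩
      rw [Subgroup.mem_centralizer_iff]
      intro y hy
      obtain ⟨i, rfl⟩ := Subgroup.mem_zpowers_iff.1 hy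
      exact ((show Commute u (f t) from (Commute.map (show Commute ((v : N) : G) t from hcP v v.2 t ht) f)).zpow_left i).eq
    have hnorm : ∀ K : Subgroup G', K ≤ Subgroup.normalizer (U : Set G') := fun K => by
      rw [Subgroup.normalizer_eq_top]; exact le_top
    have h := thompson_pq (hP.map f) hQcard hPQ U hU (hnorm _) (hnorm _) (fun y hy => ?_)
    · exact h (Subgroup.mem_zpowers u)
    obtain ⟨x, rfl⟩ := hf y
    obtain ⟨hxU, hxP⟩ := Subgroup.mem_inf.1 hy
    haveI : f.ker.Normal := inferInstance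
    obtain ⟨o, ho, hox⟩ := exists_centralizer_lift_pPrime (N := f.ker) hker hP (x := x) fun t ht => by
      rw [MonoidHom.mem_ker, map_commutatorElement, commutatorElement_eq_one_iff_mul_comm]
      exact (Subgroup.mem_centralizer_iff.1 hxP _ ⟨t, ht, rfl⟩).symm
    have hfx : f (o⁻¹ * x) = f x := by rw [map_mul, map_inv, MonoidHom.mem_ker.1 ho, inv_one, one_mul]
    have hd : (⟨o⁻¹ * x, hCPN hox⟩ : N) ∈ D := ⟨hox, show f (o⁻¹ * x) ∈ U by rw [hfx]; exact hxU⟩
    have h1 := hcomm D hDn hDp (v : N) v.2 _ hd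
    have h2 : f (((⁅(v : N), (⟨o⁻¹ * x, hCPN hox⟩ : N)⁆ : N)) : G) = 1 := by
      refine eq_one_of_pPrime_of_mem_pGroup hU ?_ ((hOp _ h1).coprime_dvd_left (orderOf_map_dvd f _))
      show f ⁅((v : N) : G), o⁻¹ * x⁆ ∈ U
      rw [map_commutatorElement, hfx, commutatorElement_def]
      exact mul_mem (hUn.conj_mem _ hxU _) (inv_mem hxU)
    have h3 : f ⁅((v : N) : G), o⁻¹ * x⁆ = 1 := h2
    rw [map_commutatorElement, hfx, commutatorElement_eq_one_iff_mul_comm] at h3
    rw [Subgroup.mem_centralizer_iff]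
    intro y hy
    obtain ⟨i, rfl⟩ := Subgroup.mem_zpowers_iff.1 hy
    exact ((show Commute u (f x) from h3).zpow_left i).eq
  have hperf : commutator W ⊔ K₀ = ⊤ := by
    rw [eq_top_iff]
    intro v _
    have h1 : π (v : N) ∈ ⁅W.map π, W.map π⁆ := by
      have e : W.map π = Cfsg.layer (N ⧸ O) :=
        Subgroup.map_comap_eq_self_of_surjective (QuotientGroup.mk'_surjective O) _
      rw [e, CfsgLib.Inv.layer_perfect]
      exact v.2
    rw [← Subgroup.map_commutator] at h1
    obtain ⟨c, hc, hce⟩ := h1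
    have hc' : c ∈ (commutator W).map W.subtype := by rwa [map_commutator_eq, Subgroup.range_subtype]
    obtain ⟨c', hc', rfl⟩ := hc'
    rw [show v = c' * (c'⁻¹ * v) by group]
    refine mul_mem (Subgroup.mem_sup_left hc') (Subgroup.mem_sup_right (hpp _ ?_))
    have ho : ((c'⁻¹ * v : W) : N) ∈ O := by
      refine (QuotientGroup.eq_one_iff _).1 ?_
      show π ((c' : N)⁻¹ * (v : N)) = 1
      rw [map_mul, map_inv, show π (c' : N) = π (v : N) from hce, inv_mul_cancel]
    rw [← Subgroup.orderOf_coe]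
    exact (pPrimeCore_coprime N p).coprime_dvd_left (Subgroup.orderOf_dvd_natCard _ ho)
  have hpq : IsPGroup p (W ⧸ K₀) := by
    intro z
    obtain ⟨v, rfl⟩ := QuotientGroup.mk'_surjective K₀ z
    obtain ⟨a, m, hm, ham⟩ := Nat.exists_eq_pow_mul_and_not_dvd (orderOf_pos v).ne' p hp.out.ne_one
    refine ⟨a, ?_⟩
    rw [← map_pow]
    refine (QuotientGroup.eq_one_iff _).2 (hpp _ ?_)
    rw [orderOf_pow' _ (pow_ne_zero _ hp.out.ne_zero), ham, Nat.gcd_eq_right (dvd_mul_right _ _),
      Nat.mul_div_cancel_left _ (pow_pos hp.out.pos _)]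
    exact ((hp.out.coprime_iff_not_dvd).2 hm).symm
  have hsub : Subsingleton (W ⧸ K₀) := by
    haveI := hpq.isNilpotent
    have hc : commutator (W ⧸ K₀) = ⊤ := by
      have e := congrArg (Subgroup.map (QuotientGroup.mk' K₀)) hperf
      rw [Subgroup.map_sup, QuotientGroup.map_mk'_self, sup_bot_eq, commutator_def, Subgroup.map_commutator,
        Subgroup.map_top_of_surjective _ (QuotientGroup.mk'_surjective K₀)] at e
      rw [commutator_def]; exact e
    by_contra hns
    rw [not_subsingleton_iff_nontrivial] at hns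
    exact (Group.IsSolvable.commutator_lt_top_of_nontrivial (W ⧸ K₀)).ne hc
  intro w hw
  exact (QuotientGroup.eq_one_iff (⟨w, hw⟩ : W)).1 (hsub.elim _ _)

end CfsgLib.Solv
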