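import Cfsg.Agent.Solv.CompBasic

/-!
More on components: centre of the layer, coprime decomposition of the layer, solvable subgroups
centralising the Fitting subgroup.
-/

set_option autoImplicit false
set_option linter.style.haveILetI false
set_option linter.deprecated false
set_option linter.unusedSectionVars false

open scoped commutatorElement Pointwise
open CfsgLib.Inv

namespace CfsgLib.Solv

variable {G : Type*} [Group G]

theorem center_layer_eq_iSup [Finite G] :
    (Subgroup.center (Cfsg.layer G)).map (Cfsg.layer G).subtype =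
      ⨆ L : {K : Subgroup G // Cfsg.IsComponent K},
        (Subgroup.center (L : Subgroup G)).map (L : Subgroup G).subtype := by
  set S : Set (Subgroup G) := {K | Cfsg.IsComponent K}
  set Zs := ⨆ L : {K : Subgroup G // Cfsg.IsComponent K},
    (Subgroup.center (L : Subgroup G)).map (L : Subgroup G).subtype with hZs
  have key : ∀ T : Set (Subgroup G), T ⊆ S → ∀ z ∈ sSup T,
      (∀ K ∈ T, z ∈ Subgroup.centralizer (K : Set G)) → z ∈ Zs := by
    intro T hT
    induction T, T.toFinite using Set.Finite.induction_on with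
    | empty =>
      intro z hz _
      rw [sSup_empty, Subgroup.mem_bot] at hz
      rw [hz]; exact one_mem _
    | @insert K T hKT _ IH =>
      intro z hz hc
      rw [sSup_insert] at hz
      obtain ⟨hK, hT'⟩ := Set.insert_subset_iff.1 hT
      have hKT' : sSup T ≤ Subgroup.centralizer (K : Set G) := sSup_le fun L hL =>
        Subgroup.commutator_eq_bot_iff_le_centralizer.1
          (components_commute (hT' hL) hK fun e => hKT (e ▸ hL))
      have hcomm : ∀ a ∈ K, ∀ b ∈ sSup T, a * b = b * a := fun a ha b hb =>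
        Subgroup.mem_centralizer_iff.1 (hKT' hb) a ha
      have hperm : (K : Set G) * ((sSup T : Subgroup G) : Set G) =
          ((sSup T : Subgroup G) : Set G) * (K : Set G) := by
        ext w
        constructor
        · rintro ⟨a, ha, b, hb, rfl⟩; exact ⟨b, hb, a, ha, (hcomm a ha b hb).symm⟩
        · rintro ⟨b, hb, a, ha, rfl⟩; exact ⟨a, ha, b, hb, hcomm a ha b hb⟩
      rw [← SetLike.mem_coe, coe_sup_of_permute hperm] at hz
      obtain ⟨k, hk, e, he, rfl⟩ := hz
      refine mul_mem ?_ (IH hT' e he fun L hL => ?_)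
      · have hkc : ∀ y ∈ K, y * k = k * y := fun y hy => mul_right_cancel (b := e) (by
          calc y * k * e = y * (k * e) := mul_assoc _ _ _
            _ = k * e * y := Subgroup.mem_centralizer_iff.1 (hc K (Set.mem_insert _ _)) y hy
            _ = k * y * e := by rw [mul_assoc, ← hcomm y hy e he, ← mul_assoc])
        exact le_iSup (fun L : {K : Subgroup G // Cfsg.IsComponent K} =>
          (Subgroup.center (L : Subgroup G)).map (L : Subgroup G).subtype) ⟨K, hK⟩
          ⟨⟨k, hk⟩, Subgroup.mem_center_iff.2 fun y => Subtype.ext (hkc y y.2), rfl⟩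
      · rw [Subgroup.mem_centralizer_iff]
        intro y hy
        have h1 : y * (k * e) = k * e * y :=
          Subgroup.mem_centralizer_iff.1 (hc L (Set.mem_insert_of_mem _ hL)) y hy
        have h2 : k * y = y * k := hcomm k hk y (le_sSup hL hy)
        refine mul_left_cancel (a := k) ?_
        calc k * (y * e) = y * (k * e) := by rw [← mul_assoc, h2, mul_assoc]
          _ = k * (e * y) := by rw [h1, mul_assoc]
  refine le_antisymm ?_ (iSup_le fun L => ?_)
  · rintro _ ⟨⟨z, hz⟩, hzc, rfl⟩
    refine key S le_rfl z hz fun K hK => Subgroup.mem_centralizer_iff.2 fun y hy => ?_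
    exact congrArg Subtype.val (Subgroup.mem_center_iff.1 hzc ⟨y, component_le_layer hK hy⟩)
  · rintro _ ⟨⟨z, hz⟩, hzc, rfl⟩
    refine ⟨⟨z, component_le_layer L.2 hz⟩, Subgroup.mem_center_iff.2 fun y => Subtype.ext ?_, rfl⟩
    have h : Cfsg.layer G ≤ Subgroup.centralizer ({z} : Set G) := sSup_le fun K hK x hx => by
      rw [Subgroup.mem_centralizer_iff]
      rintro w rfl
      by_cases e : K = L
      · subst e
        exact (congrArg Subtype.val (Subgroup.mem_center_iff.1 hzc ⟨x, hx⟩)).symm
      · exact Subgroup.mem_centralizer_iff.1 (Subgroup.commutator_eq_bot_iff_le_centralizer.1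
          (components_commute hK L.2 e) hx) w hz
    exact (Subgroup.mem_centralizer_iff.1 (h y.2) z rfl).symm

theorem layer_le_of_selfcentralizing [Finite G] (Y : Subgroup G) [Y.Normal]
    (hF : Cfsg.fittingSubgroup G ≤ Y) (hC : Subgroup.centralizer (Y : Set G) ≤ Y) :
    Cfsg.generalizedFittingSubgroup G ≤ Y := by
  refine sup_le (sSup_le fun K hK => ?_) hF
  rcases component_le_or_commute hK Y with h | h
  · exact h
  · exact (Subgroup.commutator_eq_bot_iff_le_centralizer.1 h).trans hC

theorem layer_eq_centralizer_sup_commutator [Finite G] (U : Subgroup G) :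
    Cfsg.layer G = (Cfsg.layer G ⊓ Subgroup.centralizer (U : Set G)) ⊔ ⁅Cfsg.layer G, U⁆ ∧
      ⁅Cfsg.layer G, U⁆ ≤ Cfsg.layer G := by
  set E := Cfsg.layer G with hE
  haveI hEn : E.Normal := layer_normal
  have hle : ⁅E, U⁆ ≤ E := (Subgroup.commutator_mono le_rfl le_top).trans
    (Subgroup.commutator_le_left E ⊤)
  refine ⟨le_antisymm (sSup_le fun K hK => ?_) (sup_le inf_le_left hle), hle⟩
  set W := ⁅E, U⁆
  haveI : (W.subgroupOf E).Normal :=
    (Subgroup.normal_subgroupOf_iff_le_normalizer hle).2 (left_le_normalizer_commutator E U)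
  have hKE : K ≤ E := component_le_layer hK
  rcases component_le_or_commute (isComponent_subgroupOf hK hKE) (W.subgroupOf E) with h | h
  · refine le_sup_of_le_right fun x hx => ?_
    exact h (show (⟨x, hKE hx⟩ : E) ∈ K.subgroupOf E from hx)
  refine le_sup_of_le_left (le_inf hKE ?_)
  have hKW : K ≤ Subgroup.centralizer (W : Set G) := by
    have h1 := map_commutator_eq_bot.2 h
    rw [Subgroup.subgroupOf_map_subtype, Subgroup.subgroupOf_map_subtype, inf_eq_left.2 hKE,
      inf_eq_left.2 hle] at h1
    exact Subgroup.commutator_eq_bot_iff_le_centralizer.1 h1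
  intro k hk
  rw [Subgroup.mem_centralizer_iff]
  intro u hu
  have hcw : ∀ a ∈ K, ∀ b ∈ K, b * ⁅a, u⁆ = ⁅a, u⁆ * b := fun a ha b hb =>
    (Subgroup.mem_centralizer_iff.1 (hKW hb) _
      (Subgroup.commutator_mem_commutator (hKE ha) hu)).symm
  set L := K.map (MulAut.conj u).toMonoidHom
  have hLK : L = K := by
    by_contra hne
    have hc := Subgroup.commutator_eq_bot_iff_le_centralizer.1
      (components_commute (isComponent_conj hK u) hK hne)
    refine quasisimple_not_solvable hK.2 (Group.isSolvable_of_comm fun a b => Subtype.ext ?_)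
    have e : (a : G) = ⁅(a : G), u⁆ * (u * a * u⁻¹) := by simp [commutatorElement_def, mul_assoc]
    have h1 : (u * a * u⁻¹) * b = b * (u * a * u⁻¹) :=
      (Subgroup.mem_centralizer_iff.1 (hc (show u * a * u⁻¹ ∈ L from ⟨a, a.2, rfl⟩)) b b.2).symm
    show (a : G) * b = b * a
    calc (a : G) * b = ⁅(a : G), u⁆ * ((u * a * u⁻¹) * b) := by rw [← mul_assoc, ← e]
      _ = ⁅(a : G), u⁆ * b * (u * a * u⁻¹) := by rw [h1]; simp [mul_assoc]
      _ = b * (⁅(a : G), u⁆ * (u * a * u⁻¹)) := by rw [← hcw a a.2 b b.2, mul_assoc]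
      _ = b * a := by rw [← e]
  have hmem : ∀ a ∈ K, ⁅a, u⁆ ∈ K := fun a ha => by
    rw [show ⁅a, u⁆ = a * (u * a⁻¹ * u⁻¹) by simp [commutatorElement_def, mul_assoc]]
    exact mul_mem ha (hLK.le ⟨a⁻¹, inv_mem ha, rfl⟩)
  let f : K →* Subgroup.center K :=
    { toFun := fun a => ⟨⟨⁅(a : G), u⁆, hmem a a.2⟩,
        Subgroup.mem_center_iff.2 fun b => Subtype.ext (hcw a a.2 b b.2)⟩
      map_one' := Subtype.ext (Subtype.ext (commutatorElement_one_left u))
      map_mul' := fun a b => Subtype.ext (Subtype.ext (by
        show ⁅(a : G) * b, u⁆ = ⁅(a : G), u⁆ * ⁅(b : G), u⁆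
        rw [show ⁅(a : G) * b, u⁆ = (a : G) * ⁅(b : G), u⁆ * (a : G)⁻¹ * ⁅(a : G), u⁆ by
          simp [commutatorElement_def, mul_assoc]]
        rw [hcw b b.2 a a.2, mul_inv_cancel_right]
        have h3 := Subgroup.mem_centralizer_iff.1 (hKW (hmem a a.2)) ⁅(b : G), u⁆
          (Subgroup.commutator_mem_commutator (hKE b.2) hu)
        exact h3)) }
  have hf := hom_eq_one_of_perfect hK.2.1.commutator_eq_top f
    (fun a b => Subtype.ext (Subgroup.mem_center_iff.1 (f b).2 _)) ⟨k, hk⟩
  have h2 : ⁅k, u⁆ = 1 := congrArg (fun z : Subgroup.center K => ((z : K) : G)) hf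
  exact (commutatorElement_eq_one_iff_mul_comm.1 h2).symm

theorem solvable_le_center_fitting [Finite G] {N : Subgroup G}
    (hN : N ≤ Subgroup.centralizer (Cfsg.fittingSubgroup G : Set G))
    (hnorm : Subgroup.centralizer (Cfsg.fittingSubgroup G : Set G) ≤ Subgroup.normalizer (N : Set G))
    (hsolv : Group.IsSolvable N) :
    N ≤ (Subgroup.center (Cfsg.fittingSubgroup G)).map (Cfsg.fittingSubgroup G).subtype := by
  haveI := fittingSubgroup_normal G
  set F := Cfsg.fittingSubgroup G
  set C := Subgroup.centralizer (F : Set G)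
  suffices hle : N ≤ F by
    intro x hx
    exact ⟨⟨x, hle hx⟩, Subgroup.mem_center_iff.2 fun y =>
      Subtype.ext (Subgroup.mem_centralizer_iff.1 (hN hx) y y.2), rfl⟩
  haveI hNn : (N.subgroupOf C).Normal := (Subgroup.normal_subgroupOf_iff_le_normalizer hN).2 hnorm
  haveI := hsolv
  haveI : Group.IsSolvable (N.subgroupOf C) := Group.isSolvable_of_surjective
    (f := (Subgroup.subgroupOfEquivOfLe hN).symm.toMonoidHom) (Subgroup.subgroupOfEquivOfLe hN).symm.surjective
  obtain ⟨n, hn⟩ := (Group.isSolvable_def (N.subgroupOf C)).1 inferInstance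
  suffices key : ∀ i, i ≤ n → ((derivedSeries (N.subgroupOf C) (n - i)).map (N.subgroupOf C).subtype) ≤
      F.subgroupOf C by
    intro x hx
    have h := key n le_rfl
    rw [Nat.sub_self, derivedSeries_zero] at h
    exact h ⟨⟨⟨x, hN hx⟩, hx⟩, Subgroup.mem_top _, rfl⟩
  intro i
  induction i with
  | zero => intro _; rw [Nat.sub_zero, hn, Subgroup.map_bot]; exact bot_le
  | succ i ih =>
    intro hi
    set D := (derivedSeries (N.subgroupOf C) (n - (i + 1))).map (N.subgroupOf C).subtype
    haveI : (derivedSeries (N.subgroupOf C) (n - (i + 1))).Characteristic := inferInstance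
    haveI : D.Normal := normal_map_subtype_of_characteristic _
    have h1 : ⁅D, D⁆ ≤ F.subgroupOf C := by
      have h2 := ih (by omega)
      rwa [show n - i = (n - (i + 1)) + 1 by omega, derivedSeries_succ, Subgroup.map_commutator] at h2
    have hnil : Group.IsNilpotent D := by
      set f := (QuotientGroup.mk' (F.subgroupOf C)).comp D.subtype
      have hker : f.ker ≤ Subgroup.center D := by
        intro x hx
        rw [MonoidHom.mem_ker] at hx
        have hxF : ((x : C) : G) ∈ F := (QuotientGroup.eq_one_iff (x : C)).1 hx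
        exact Subgroup.mem_center_iff.2 fun y => Subtype.ext (Subtype.ext
          (Subgroup.mem_centralizer_iff.1 (y : C).2 _ hxF).symm)
      have hcomm : ∀ a b : f.range, a * b = b * a := by
        rintro ⟨_, a, rfl⟩ ⟨_, b, rfl⟩
        refine Subtype.ext ?_
        show f a * f b = f b * f a
        rw [← commutatorElement_eq_one_iff_mul_comm, ← map_commutatorElement]
        exact (QuotientGroup.eq_one_iff _).2 (h1 (by
          rw [map_commutatorElement]
          exact Subgroup.commutator_mem_commutator a.2 b.2))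
      haveI : IsMulCommutative f.range := ⟨⟨hcomm⟩⟩
      haveI : Group.IsNilpotent f.range := by open scoped IsMulCommutative in infer_instance
      exact Subgroup.isNilpotent_of_ker_le_center f.rangeRestrict (by
        rw [MonoidHom.ker_rangeRestrict]; exact hker)
    have hle : D ≤ Cfsg.fittingSubgroup C := le_fittingSubgroup hnil
    intro x hx
    have h3 := Subgroup.mem_map_of_mem C.subtype (hle hx)
    rw [map_fittingSubgroup_subtype_eq_inf C] at h3
    exact (Subgroup.mem_inf.1 h3).1

end CfsgLib.Solv
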