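import Cfsg.Agent.Solv.CompBalance
import Cfsg.Agent.Solv.PLocalLayer

/-!
The preimage of the layer of `N(P) / O_{p'}(N(P))` fixes every component of a core-free group.
-/

set_option autoImplicit false
set_option linter.style.haveILetI false
set_option linter.unusedSectionVars false

open scoped Pointwise commutatorElement

namespace CfsgLib.Solv.LayerOrbit

open CfsgLib.Solv

variable {G : Type*} [Group G] [Finite G] {p : ℕ} [hp : Fact p.Prime]

set_option maxHeartbeats 1000000 in
/-- Elements commuting, up to elements of order prime to `p`, with the members of the layer fixed by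
`P` modulo `O_p(G)` permute each `P`-orbit of components. -/
theorem orbit_preserved (hG : Cfsg.pPrimeCore p G = ⊥) {P : Subgroup G} (hP : IsPGroup p P) {y : G}
    {L : Subgroup G} (hyP : ∀ t ∈ P, MulAut.conj y • MulAut.conj t • L = MulAut.conj t • MulAut.conj y • L)
    (hy : ∀ s ∈ Cfsg.layer G, (∀ t ∈ P, ⁅s, t⁆ ∈ Cfsg.pCore p G) → (orderOf ⁅y, s⁆).Coprime p)
    (hL : Cfsg.IsComponent L) :
    ∃ t ∈ P, MulAut.conj y • L = MulAut.conj t • L := by
  classical
  by_contra hcon
  push Not at hcon
  haveI hUn := pCore_normal G p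
  set U := Cfsg.pCore p G with hU
  have hcompt : ∀ g : G, Cfsg.IsComponent (MulAut.conj g • L) := fun g => by
    rw [conj_smul_eq_map]; exact CfsgLib.Inv.isComponent_conj hL g
  have hcompU : ∀ {E : Subgroup G}, Cfsg.IsComponent E → E ≤ Subgroup.centralizer (U : Set G) := by
    intro E hE
    haveI := (pCore_isPGroup G p).isNilpotent
    exact Subgroup.commutator_eq_bot_iff_le_centralizer.1
      (CfsgLib.Inv.component_commute_solvable hE hUn.isSubnormal inferInstance)
  set E := ⨆ t : P, MulAut.conj (t : G) • L with hE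
  have hLE : L ≤ E := le_trans (by simp) (le_iSup (fun t : P => MulAut.conj (t : G) • L) 1)
  have hPE : P ≤ Subgroup.normalizer (E : Set G) := fun a ha => by
    refine Subgroup.mem_normalizer_fintype fun z hz => ?_
    have h1 : E ≤ E.comap (MulAut.conj a).toMonoidHom := by
      refine iSup_le fun t => ?_
      rw [← Subgroup.map_le_iff_le_comap, ← conj_smul_eq_map, smul_smul, ← map_mul]
      exact le_iSup (fun t : P => MulAut.conj (t : G) • L) (⟨a, ha⟩ * t)
    have h2 := h1 hz
    rw [Subgroup.mem_comap, MulEquiv.coe_toMonoidHom, MulAut.conj_apply] at h2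
    exact h2
  have hEl : E ≤ Cfsg.layer G := iSup_le fun t => CfsgLib.Inv.component_le_layer (hcompt t)
  have hEU : E ≤ Subgroup.centralizer (U : Set G) := iSup_le fun t => hcompU (hcompt t)
  have hEcent : E ⊓ Subgroup.centralizer (E : Set G) ≤ U := by
    intro z hz
    obtain ⟨hzE, hzC⟩ := Subgroup.mem_inf.1 hz
    haveI := CfsgLib.Inv.layer_normal (G := G)
    haveI : (Subgroup.centralizer (Cfsg.layer G : Set G)).Normal := Subgroup.normal_centralizer
    set Z := Cfsg.layer G ⊓ Subgroup.centralizer (Cfsg.layer G : Set G)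
    haveI : IsMulCommutative Z :=
      ⟨⟨fun a b => Subtype.ext (Subgroup.mem_centralizer_iff.1 b.2.2 a a.2.1)⟩⟩
    have hZU : Z ≤ U := by
      rw [hU, ← fittingSubgroup_eq_pCore hG]
      exact CfsgLib.Inv.subnormal_le_fitting (inferInstance : Z.Normal).isSubnormal
        (open scoped IsMulCommutative in CommGroup.isNilpotent)
    refine hZU (Subgroup.mem_inf.2 ⟨hEl hzE, ?_⟩)
    have h1 : Cfsg.layer G ≤ Subgroup.centralizer {z} := by
      refine sSup_le fun M hM => ?_
      intro e he
      rw [Subgroup.mem_centralizer_singleton_iff]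
      by_cases hMO : ∃ t : P, MulAut.conj (t : G) • L = M
      · obtain ⟨t, rfl⟩ := hMO
        exact Subgroup.mem_centralizer_iff.1 hzC e (le_iSup (fun t : P => MulAut.conj (t : G) • L) t he)
      · push Not at hMO
        have h2 : E ≤ Subgroup.centralizer (M : Set G) := iSup_le fun t =>
          Subgroup.commutator_eq_bot_iff_le_centralizer.1
            (CfsgLib.Inv.components_commute (hcompt t) hM (hMO t))
        exact Subgroup.mem_centralizer_iff.1 (h2 hzE) e he
    rw [Subgroup.mem_centralizer_iff]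
    exact fun e he => Subgroup.mem_centralizer_singleton_iff.1 (h1 he)
  -- a `p`-element of `E` outside `U` fixed by `P` modulo `U`
  obtain ⟨s, hsE, ⟨k, hk⟩, hsU, hsP⟩ :
      ∃ s ∈ E, (∃ k, orderOf s = p ^ k) ∧ s ∉ U ∧ ∀ t ∈ P, ⁅s, t⁆ ∈ U := by
    set M := E ⊔ P with hM
    have hMN : M ≤ Subgroup.normalizer (E : Set G) := sup_le Subgroup.le_normalizer hPE
    obtain ⟨S, hS⟩ := (hP.comap_of_injective M.subtype M.subtype_injective).exists_le_sylow
    set Q := (S : Subgroup M).map M.subtype with hQ
    have hQM : Q ≤ M := Subgroup.map_subtype_le _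
    have hPQ : P ≤ Q := fun a ha => ⟨⟨a, Subgroup.mem_sup_right ha⟩, hS ha, rfl⟩
    have hQp : IsPGroup p Q := S.isPGroup'.map _
    have hbig : ¬ Q ⊓ E ≤ U := by
      intro hle
      obtain ⟨S₁⟩ : Nonempty (Sylow p L) := inferInstance
      obtain ⟨S₂, hS₂⟩ :=
        ((S₁.isPGroup'.map L.subtype).comap_of_injective M.subtype M.subtype_injective).exists_le_sylow
      obtain ⟨m, hm⟩ := MulAction.exists_smul_eq (↥M) S₂ S
      have hS1L : (S₁ : Subgroup L).map L.subtype ≤ L := Subgroup.map_subtype_le _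
      have h1 : MulAut.conj (m : G) • ((S₁ : Subgroup L).map L.subtype) ≤ U := by
        intro z hz
        rw [mem_conj_smul_iff] at hz
        have hzE : (m : G)⁻¹ * z * m ∈ E := hLE (hS1L hz)
        have hzE' : z ∈ E := by
          have h2 := (Subgroup.mem_normalizer_iff.1 (hMN m.2) _).1 hzE
          rwa [show (m : G) * ((m : G)⁻¹ * z * m) * (m : G)⁻¹ = z by group] at h2
        refine hle (Subgroup.mem_inf.2 ⟨⟨⟨z, Subgroup.mem_sup_left hzE'⟩, ?_, rfl⟩, hzE'⟩)
        rw [← hm, Sylow.coe_subgroup_smul]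
        refine ⟨⟨_, Subgroup.mem_sup_left hzE⟩, hS₂ hz, ?_⟩
        refine Subtype.ext ?_
        show (m : G) * ((m : G)⁻¹ * z * m) * (m : G)⁻¹ = z
        group
      have h3 : (S₁ : Subgroup L) ≤ Subgroup.center L := by
        intro z hz
        rw [Subgroup.mem_center_iff]
        intro e
        refine Subtype.ext ?_
        have h4 : (m : G) * (z : G) * (m : G)⁻¹ ∈ U :=
          h1 (mem_conj_smul_iff.2 ⟨z, hz, by simp [mul_assoc]⟩)
        have h5 : (z : G) ∈ U := by
          have := hUn.conj_mem _ h4 (m : G)⁻¹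
          simpa [mul_assoc] using this
        exact (Subgroup.mem_centralizer_iff.1 (hcompU hL e.2) z h5).symm
      exact S₁.not_dvd_index ((dvd_index_of_le_center hL.2 (CompBal.dvd_card_component hG hL)
        (Subgroup.center L) le_rfl).trans (Subgroup.index_dvd_of_le h3))
    haveI : (U.subgroupOf Q).Normal := Subgroup.normal_subgroupOf
    haveI hEQ : (E.subgroupOf Q).Normal := Subgroup.normal_subgroupOf_of_le_normalizer (hQM.trans hMN)
    set π := QuotientGroup.mk' (U.subgroupOf Q)
    haveI : ((E.subgroupOf Q).map π).Normal := hEQ.map π (QuotientGroup.mk'_surjective _)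
    have hne : (E.subgroupOf Q).map π ≠ ⊥ := by
      rw [Ne, Subgroup.map_eq_bot_iff, QuotientGroup.ker_mk']
      exact fun hle => hbig fun z hz => hle (show (⟨z, hz.1⟩ : Q) ∈ E.subgroupOf Q from hz.2)
    obtain ⟨w, ⟨⟨s, hs, rfl⟩, hwc⟩, hw1⟩ := (Subgroup.bot_or_exists_ne_one _).resolve_left
      (CfsgLib.Perm.inf_center_ne_bot (p := p) (hQp.to_quotient (U.subgroupOf Q)) _ hne)
    refine ⟨s, hs, ?_, fun h => hw1 ((QuotientGroup.eq_one_iff s).2 h), fun t ht => ?_⟩
    · obtain ⟨k, hk⟩ := IsPGroup.iff_orderOf.1 hQp s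
      exact ⟨k, by rw [Subgroup.orderOf_coe]; exact hk⟩
    · have h1 : π ⁅s, ⟨t, hPQ ht⟩⁆ = 1 := by
        rw [map_commutatorElement, commutatorElement_eq_one_iff_mul_comm]
        exact ((Subgroup.mem_center_iff.1 hwc) _).symm
      exact (QuotientGroup.eq_one_iff (N := U.subgroupOf Q) ⁅s, (⟨t, hPQ ht⟩ : Q)⁆).1 h1
  have hco := hy s (hEl hsE) hsP
  -- `s` centralizes every member of the orbit
  refine hsU (hEcent (Subgroup.mem_inf.2 ⟨hsE, ?_⟩))
  have hcent : E ≤ Subgroup.centralizer {s} := iSup_le fun t₀ => by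
    set L₀ := MulAut.conj (t₀ : G) • L with hL₀
    have hL₀E : L₀ ≤ E := le_iSup (fun t : P => MulAut.conj (t : G) • L) t₀
    set r := y * s * y⁻¹ with hr
    -- `r` centralizes `L₀`
    have hrC : r ∈ Subgroup.centralizer (L₀ : Set G) := by
      have h1 : E ≤ (Subgroup.centralizer (L₀ : Set G)).comap (MulAut.conj y).toMonoidHom := by
        refine iSup_le fun t => ?_
        rw [← Subgroup.map_le_iff_le_comap, ← conj_smul_eq_map, smul_smul, ← map_mul]
        refine Subgroup.commutator_eq_bot_iff_le_centralizer.1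
          (CfsgLib.Inv.components_commute (hcompt _) (hcompt _) fun e => ?_)
        refine hcon ((t : G)⁻¹ * (t₀ : G)) (mul_mem (inv_mem t.2) t₀.2) ?_
        rw [map_mul, mul_smul, ← hL₀, ← e, map_mul, mul_smul, hyP t t.2, smul_smul, ← map_mul, inv_mul_cancel,
          map_one, one_smul]
      have h2 := h1 hsE
      rw [Subgroup.mem_comap, MulEquiv.coe_toMonoidHom, MulAut.conj_apply] at h2
      exact h2
    -- `s` normalizes `L₀`
    have hsN : s ∈ Subgroup.normalizer (L₀ : Set G) :=
      CfsgLib.Inv.component_normal_in_layer (hcompt t₀) (hEl hsE)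
    have hrN : r ∈ Subgroup.normalizer (L₀ : Set G) := Subgroup.mem_normalizer_fintype fun e he => by
      rw [← Subgroup.mem_centralizer_iff.1 hrC e he, mul_inv_cancel_right]; exact he
    set χ := Subgroup.normalizerMonoidHom L₀ with hχ
    have hu : (⟨r, hrN⟩ * ⟨s, hsN⟩⁻¹ : Subgroup.normalizer (L₀ : Set G)).1 = ⁅y, s⁆ := by
      rw [commutatorElement_def]; rfl
    have hχr : χ ⟨r, hrN⟩ = 1 := by
      rw [← MonoidHom.mem_ker, hχ, Subgroup.normalizerMonoidHom_ker]
      exact hrC
    have h2 : (χ ⟨s, hsN⟩)⁻¹ ^ orderOf ⁅y, s⁆ = 1 := by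
      have e : χ (⟨r, hrN⟩ * ⟨s, hsN⟩⁻¹) = (χ ⟨s, hsN⟩)⁻¹ := by rw [map_mul, map_inv, hχr, one_mul]
      rw [← e, ← map_pow, ← hu, Subgroup.orderOf_coe, pow_orderOf_eq_one, map_one]
    have h3 : (χ ⟨s, hsN⟩) ^ p ^ k = 1 := by
      have : (⟨s, hsN⟩ : Subgroup.normalizer (L₀ : Set G)) ^ p ^ k = 1 :=
        Subtype.ext (by rw [← hk]; exact pow_orderOf_eq_one s)
      rw [← map_pow, this, map_one]
    have h4 : χ ⟨s, hsN⟩ = 1 := by
      rw [← orderOf_eq_one_iff]
      rw [inv_pow, inv_eq_one] at h2
      exact Nat.eq_one_of_dvd_coprimes (hco.pow_right k) (orderOf_dvd_of_pow_eq_one h2)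
        (orderOf_dvd_of_pow_eq_one h3)
    rw [← MonoidHom.mem_ker, hχ, Subgroup.normalizerMonoidHom_ker] at h4
    intro e he
    rw [Subgroup.mem_centralizer_singleton_iff]
    exact Subgroup.mem_centralizer_iff.1 (show s ∈ Subgroup.centralizer (L₀ : Set G) from h4) e he
  rw [Subgroup.mem_centralizer_iff]
  exact fun e he => Subgroup.mem_centralizer_singleton_iff.1 (hcent he)

/-- The preimage of the layer of `N(P) / O_{p'}(N(P))` centralizes `P`. -/
theorem layerPre_commute {P : Subgroup G} (hP : IsPGroup p P) [(Cfsg.pPrimeCore p ↥(Subgroup.normalizer (P : Set G))).Normal]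
    : ∀ {v : Subgroup.normalizer (P : Set G)}
    (_hv : QuotientGroup.mk' (Cfsg.pPrimeCore p ↥(Subgroup.normalizer (P : Set G))) v ∈
      Cfsg.layer (↥(Subgroup.normalizer (P : Set G)) ⧸ Cfsg.pPrimeCore p ↥(Subgroup.normalizer (P : Set G))))
    {t : G} (_ht : t ∈ P), Commute (v : G) t := by
  set N := Subgroup.normalizer (P : Set G) with hN
  set O := Cfsg.pPrimeCore p N with hO
  set π := QuotientGroup.mk' O with hπ
  intro v hv t ht
  haveI hPn : (P.subgroupOf N).Normal := Subgroup.normal_in_normalizer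
  have htN : t ∈ N := Subgroup.le_normalizer ht
  haveI : Group.IsNilpotent ((P.subgroupOf N).map π) :=
    ((hP.comap_of_injective N.subtype N.subtype_injective).map π).isNilpotent
  have h1 := CfsgLib.Inv.layer_le_centralizer_of_solvable
    ((hPn.map π (QuotientGroup.mk'_surjective O)).isSubnormal) inferInstance hv
  have h2 : ⁅v, (⟨t, htN⟩ : N)⁆ ∈ O := by
    refine (QuotientGroup.eq_one_iff _).1 ?_
    show π ⁅v, (⟨t, htN⟩ : N)⁆ = 1
    rw [map_commutatorElement, commutatorElement_eq_one_iff_mul_comm]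
    exact (Subgroup.mem_centralizer_iff.1 h1 _ (Subgroup.mem_map_of_mem π (show (⟨t, htN⟩ : N) ∈ P.subgroupOf N from ht))).symm
  have h3 : ⁅(v : G), t⁆ = 1 := by
    refine eq_one_of_pPrime_of_mem_pGroup hP ?_ ?_
    · rw [commutatorElement_def]
      exact mul_mem ((Subgroup.mem_normalizer_iff.1 v.2 t).1 ht) (inv_mem ht)
    · have := (pPrimeCore_coprime N p).coprime_dvd_left (Subgroup.orderOf_dvd_natCard _ h2)
      rwa [← Subgroup.orderOf_coe] at this
  exact commutatorElement_eq_one_iff_mul_comm.1 h3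

set_option maxHeartbeats 1000000 in
/-- The preimage of the layer of `N(P) / O_{p'}(N(P))` fixes every component. -/
theorem layerPre_fixes (hG : Cfsg.pPrimeCore p G = ⊥) {P : Subgroup G} (hP : IsPGroup p P)
    [(Cfsg.pPrimeCore p ↥(Subgroup.normalizer (P : Set G))).Normal]
    {L : Subgroup G} (hL : Cfsg.IsComponent L) : ∀ {w : Subgroup.normalizer (P : Set G)}
    (_hw : QuotientGroup.mk' (Cfsg.pPrimeCore p ↥(Subgroup.normalizer (P : Set G))) w ∈
      Cfsg.layer (↥(Subgroup.normalizer (P : Set G)) ⧸ Cfsg.pPrimeCore p ↥(Subgroup.normalizer (P : Set G)))),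
    MulAut.conj (w : G) • L = L := by
  classical
  haveI hUn := pCore_normal G p
  set N := Subgroup.normalizer (P : Set G) with hN
  set O := Cfsg.pPrimeCore p N with hO
  set π := QuotientGroup.mk' O with hπ
  set U := Cfsg.pCore p G with hU
  set D := Subgroup.centralizer (P : Set G) ⊓ Subgroup.centralizer (U : Set G) with hD
  set H := Subgroup.normalizer (D : Set G) with hH
  haveI := pPrimeCore_normal H p
  set π' := QuotientGroup.mk' (Cfsg.pPrimeCore p H) with hπ'
  have hWD : ∀ v : N, π v ∈ Cfsg.layer (N ⧸ O) → (v : G) ∈ D := fun v hv =>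
    Subgroup.mem_inf.2 ⟨Subgroup.mem_centralizer_iff.2 fun t ht => (layerPre_commute hP hv ht).eq.symm,
      layerPre_centralizes (MonoidHom.id G) Function.surjective_id
        (by rw [MonoidHom.ker_id, Subgroup.card_bot]; exact Nat.coprime_one_left p)
        U (pCore_isPGroup G p) P hP v hv⟩
  have hDN : D ≤ N := inf_le_left.trans (fun x hx => Subgroup.mem_normalizer_fintype fun t ht => by
    rwa [← Subgroup.mem_centralizer_iff.1 hx t ht, mul_inv_cancel_right])
  haveI : (D.subgroupOf H).Normal := Subgroup.normal_in_normalizer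
  haveI := CfsgLib.Inv.layer_normal (G := G)
  -- the members of the layer fixed by `P` modulo `U` lie in `H`
  have hsH : ∀ s ∈ Cfsg.layer G, (∀ t ∈ P, ⁅s, t⁆ ∈ U) → s ∈ H := by
    intro s hsl hs
    have hsU : s ∈ Subgroup.centralizer (U : Set G) := by
      haveI := (pCore_isPGroup G p).isNilpotent
      exact CfsgLib.Inv.layer_le_centralizer_of_solvable hUn.isSubnormal inferInstance hsl
    refine Subgroup.mem_normalizer_fintype fun d hd => ?_
    obtain ⟨hdP, hdU⟩ := Subgroup.mem_inf.1 hd
    have hdsU : s * d * s⁻¹ ∈ Subgroup.centralizer (U : Set G) := mul_mem (mul_mem hsU hdU) (inv_mem hsU)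
    refine Subgroup.mem_inf.2 ⟨Subgroup.mem_centralizer_iff.2 fun t ht => ?_, hdsU⟩
    have h1 : Commute ⁅s, t⁆ (s * d * s⁻¹) := Subgroup.mem_centralizer_iff.1 hdsU _ (hs t ht)
    have h2 : Commute (s * t * s⁻¹) (s * d * s⁻¹) := by
      show _ = _
      calc s * t * s⁻¹ * (s * d * s⁻¹) = s * (t * d) * s⁻¹ := by group
        _ = s * d * s⁻¹ * (s * t * s⁻¹) := by rw [Subgroup.mem_centralizer_iff.1 hdP t ht]; group
    have h3 := h1.inv_left.mul_left h2
    rw [show ⁅s, t⁆⁻¹ * (s * t * s⁻¹) = t by rw [commutatorElement_def]; group] at h3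
    exact h3.eq
  -- elements commuting with `P` whose image commutes with the layer part of `H` preserve orbits
  have hpres : ∀ {y : G} (hyH : y ∈ H), (∀ t ∈ P, Commute y t) →
      (∀ (s : G) (hs : s ∈ H), s ∈ Cfsg.layer G → Commute (π' ⟨y, hyH⟩) (π' ⟨s, hs⟩)) →
      ∀ {M : Subgroup G}, Cfsg.IsComponent M → ∃ t ∈ P, MulAut.conj y • M = MulAut.conj t • M := by
    intro y hyH hyP hcomm M hM
    refine orbit_preserved hG hP (fun t ht => by rw [smul_smul, smul_smul, ← map_mul, ← map_mul, (hyP t ht).eq])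
      (fun s hsl hs => ?_) hM
    have h1 : ⁅(⟨y, hyH⟩ : H), ⟨s, hsH s hsl hs⟩⁆ ∈ Cfsg.pPrimeCore p H := by
      refine (QuotientGroup.eq_one_iff _).1 ?_
      show π' _ = 1
      rw [map_commutatorElement, commutatorElement_eq_one_iff_mul_comm]
      exact (hcomm s _ hsl).eq
    have := (pPrimeCore_coprime H p).coprime_dvd_left (Subgroup.orderOf_dvd_natCard _ h1)
    rwa [← Subgroup.orderOf_coe] at this
  -- powers inside an orbit
  have hpow : ∀ (y t : G), Commute y t → MulAut.conj y • L = MulAut.conj t • L →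
      ∀ n : ℕ, MulAut.conj (y ^ n) • L = MulAut.conj (t ^ n) • L := by
    intro y t hc he n
    induction n with
    | zero => simp
    | succ n ih =>
      rw [pow_succ, map_mul, mul_smul, he, smul_smul, ← map_mul, (hc.pow_left n).eq, map_mul, mul_smul, ih,
        smul_smul, ← map_mul, ← pow_succ']
  -- the stabilizer of `L`
  set S : Subgroup N := (Subgroup.normalizer (L : Set G)).subgroupOf N with hS
  have hOmem : ∀ o ∈ O, π o ∈ Cfsg.layer (N ⧸ O) := fun o ho => by
    rw [show π o = 1 from (QuotientGroup.eq_one_iff o).2 ho]; exact one_mem _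
  set O₁ := O.map N.subtype with hO₁
  have hO₁D : O₁ ≤ D := by
    rintro _ ⟨o, ho, rfl⟩
    exact hWD o (hOmem o ho)
  have hO₁core : ∀ o ∈ O₁, ∀ h : o ∈ H, (⟨o, h⟩ : H) ∈ Cfsg.pPrimeCore p H := by
    haveI hn1 : (O₁.subgroupOf D).Normal := Subgroup.normal_subgroupOf_of_le_normalizer fun d hd =>
      Subgroup.mem_normalizer_fintype fun o ho => by
        obtain ⟨o', ho', rfl⟩ := ho
        exact ⟨⟨d, hDN hd⟩ * o' * ⟨d, hDN hd⟩⁻¹, (pPrimeCore_normal N p).conj_mem _ ho' _, rfl⟩
    have hDH : D ≤ H := Subgroup.le_normalizer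
    haveI hn2 : ((O₁.subgroupOf H).subgroupOf (D.subgroupOf H)).Normal := ⟨fun n hn g =>
      hn1.conj_mem ⟨((n : H) : G), n.2⟩ hn ⟨((g : H) : G), g.2⟩⟩
    have hsn : (O₁.subgroupOf H).IsSubnormal := by
      have := hn2.isSubnormal.trans' (inferInstance : (D.subgroupOf H).Normal).isSubnormal
      rwa [Subgroup.map_subgroupOf_eq_of_le (show O₁.subgroupOf H ≤ D.subgroupOf H from fun z hz => hO₁D hz)] at this
    have hle := CfsgLib.Fus.subnormal_le_pPrimeCore (p := p) hsn (by
      rw [card_subgroupOf (hO₁D.trans hDH), hO₁, card_map_subtype]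
      exact pPrimeCore_coprime N p)
    exact fun o ho h => hle (show (⟨o, h⟩ : H) ∈ O₁.subgroupOf H from ho)
  have hOS : O ≤ S := by
    intro o ho
    show (o : G) ∈ Subgroup.normalizer (L : Set G)
    have hoD := hWD o (hOmem o ho)
    obtain ⟨t, ht, he⟩ := hpres (Subgroup.le_normalizer hoD)
      (fun t ht => (Subgroup.mem_centralizer_iff.1 hoD.1 t ht).symm)
      (fun s hs _ => by
        rw [show π' ⟨(o : G), Subgroup.le_normalizer hoD⟩ = 1 from
          (QuotientGroup.eq_one_iff _).2 (hO₁core _ ⟨o, ho, rfl⟩ _)]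
        exact Commute.one_left _) hL
    obtain ⟨k, hk⟩ := IsPGroup.iff_orderOf.1 hP ⟨t, ht⟩
    rw [Subgroup.orderOf_mk] at hk
    have hco : (orderOf (o : G)).Coprime (orderOf t) := by
      rw [hk, Subgroup.orderOf_coe]
      exact ((pPrimeCore_coprime N p).coprime_dvd_left (Subgroup.orderOf_dvd_natCard _ ho)).pow_right k
    have h1 := hpow _ _ (Subgroup.mem_centralizer_iff.1 hoD.1 t ht).symm he (orderOf (o : G))
    rw [pow_orderOf_eq_one, map_one, one_smul] at h1
    obtain ⟨m, hm⟩ := exists_pow_eq_self_of_coprime hco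
    have h2 : t ∈ Subgroup.normalizer (L : Set G) := by
      rw [← hm]; exact pow_mem (mem_normalizer_of_conj_smul_eq h1.symm) m
    exact mem_normalizer_of_conj_smul_eq (he.trans (conj_smul_eq_self_of_mem_normalizer h2))
  -- every component of `N / O` is covered by the stabilizer
  have hK : Cfsg.layer (N ⧸ O) ≤ S.map π := by
    refine sSup_le fun K hK => ?_
    set K₁ := K.comap π with hK₁
    have hK₁D : ∀ y ∈ K₁, (y : G) ∈ D := fun y hy => hWD y (CfsgLib.Inv.component_le_layer hK hy)
    have hDH : D ≤ H := Subgroup.le_normalizer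
    let ι : K₁ →* H := MonoidHom.mk' (fun y => ⟨((y : N) : G), hDH (hK₁D y y.2)⟩) (fun _ _ => rfl)
    let g : K₁ →* (H ⧸ Cfsg.pPrimeCore p H) := π'.comp ι
    let h : K₁ →* K := (π.comp K₁.subtype).codRestrict K (fun y => y.2)
    have hs : Function.Surjective h := by
      rintro ⟨z, hz⟩
      obtain ⟨y, rfl⟩ := QuotientGroup.mk'_surjective O z
      exact ⟨⟨y, hz⟩, rfl⟩
    have hker : h.ker ≤ g.ker := by
      intro y hy
      have h1 : π (y : N) = 1 := congrArg Subtype.val (MonoidHom.mem_ker.1 hy)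
      exact MonoidHom.mem_ker.2 ((QuotientGroup.eq_one_iff _).2
        (hO₁core _ ⟨y, (QuotientGroup.eq_one_iff _).1 h1, rfl⟩ _))
    let f : K →* (H ⧸ Cfsg.pPrimeCore p H) := h.liftOfSurjective hs ⟨g, hker⟩
    have hfg : f.comp h = g := MonoidHom.liftOfRightInverse_comp h (Function.surjInv hs)
      (Function.rightInverse_surjInv hs) ⟨g, hker⟩
    -- orbit preservation on `K₁`
    have hy : ∀ y : K₁, ∃ t ∈ P, MulAut.conj ((y : N) : G) • L = MulAut.conj t • L := by
      intro y
      have hyP : ∀ t ∈ P, Commute ((y : N) : G) t := fun t ht =>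
        (Subgroup.mem_centralizer_iff.1 (hK₁D y y.2).1 t ht).symm
      set A := ((Cfsg.layer G).subgroupOf H).map π' with hA
      haveI hAn : A.Normal := (inferInstance : ((Cfsg.layer G).subgroupOf H).Normal).map π'
        (QuotientGroup.mk'_surjective _)
      have hgy : π' ⟨((y : N) : G), hDH (hK₁D y y.2)⟩ = f (h y) := by
        rw [← MonoidHom.comp_apply, hfg]; rfl
      by_cases hbot : f.range = ⊥
      · refine hpres (hDH (hK₁D y y.2)) hyP (fun s hs _ => ?_) hL
        have : f (h y) = 1 := by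
          rw [← Subgroup.mem_bot, ← hbot]; exact ⟨h y, rfl⟩
        rw [hgy, this]
        exact Commute.one_left _
      have hsn : f.range.IsSubnormal := by
        have e : f.range = g.range := by
          rw [← hfg, MonoidHom.range_comp, MonoidHom.range_eq_top.2 hs, ← MonoidHom.range_eq_map]
        have h1 : (K₁.map N.subtype |>.subgroupOf D).IsSubnormal := by
          have := (hK.1.comap π).comap (Subgroup.inclusion hDN)
          convert this using 1
          ext z
          constructor
          · rintro ⟨z', hz', e'⟩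
            show Subgroup.inclusion hDN z ∈ K₁
            rwa [show Subgroup.inclusion hDN z = z' from Subtype.ext e'.symm]
          · intro hz; exact ⟨_, hz, rfl⟩
        have h2 : ((K₁.map N.subtype).subgroupOf H).IsSubnormal := by
          have h3 := h1.comap ((Subgroup.subgroupOfEquivOfLe hDH).toMonoidHom)
          have h4 := h3.trans' (inferInstance : (D.subgroupOf H).Normal).isSubnormal
          convert h4 using 1
          ext z
          constructor
          · intro hz
            obtain ⟨y', hy', e'⟩ := hz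
            have hzD : (z : G) ∈ D := by
              rw [show (z : G) = H.subtype z from rfl, ← e']; exact hK₁D y' hy'
            exact ⟨⟨z, hzD⟩, ⟨y', hy', e'⟩, rfl⟩
          · rintro ⟨z', hz', rfl⟩
            exact hz'
        have h3 := h2.map (f := π') (QuotientGroup.mk'_surjective _)
        rw [e]
        convert h3 using 1
        ext z
        constructor
        · rintro ⟨y', rfl⟩
          exact ⟨ι y', ⟨(y' : N), y'.2, rfl⟩, rfl⟩
        · rintro ⟨z', ⟨y', hy', e'⟩, rfl⟩
          exact ⟨⟨y', hy'⟩, congrArg π' (Subtype.ext e')⟩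
      rcases CfsgLib.Inv.component_le_or_commute ⟨hsn, CompBal.quasisimple_range hK.2 f hbot⟩ A with hle | hcm
      · obtain ⟨a, ha, hae⟩ := hle ⟨h y, rfl⟩
        -- split off an element of the layer
        set o := (⟨((y : N) : G), hDH (hK₁D y y.2)⟩ : H) * a⁻¹ with ho
        have hoO : o ∈ Cfsg.pPrimeCore p H := by
          refine (QuotientGroup.eq_one_iff _).1 ?_
          show π' o = 1
          rw [ho, map_mul, map_inv, hgy, ← hae, mul_inv_cancel]
        have haL : ∀ {M : Subgroup G}, Cfsg.IsComponent M → MulAut.conj (a : G) • M = M := fun hM =>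
          conj_smul_eq_self_of_mem_normalizer (CfsgLib.Inv.component_normal_in_layer hM ha)
        -- `o` may be replaced by an element commuting with the image of the layer
        have hoM : ∀ {M : Subgroup G}, Cfsg.IsComponent M →
            MulAut.conj (o : G) • M = MulAut.conj ((y : N) : G) • M := by
          intro M hM
          show MulAut.conj (((y : N) : G) * (a : G)⁻¹) • M = _
          have h0 : (a : G)⁻¹ ∈ Subgroup.normalizer (M : Set G) :=
            inv_mem (CfsgLib.Inv.component_normal_in_layer hM ha)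
          rw [map_mul, mul_smul, conj_smul_eq_self_of_mem_normalizer h0]
        have hct : ∀ g : G, Cfsg.IsComponent (MulAut.conj g • L) := fun g => by
          rw [conj_smul_eq_map]; exact CfsgLib.Inv.isComponent_conj hL g
        obtain ⟨t, ht, he⟩ := orbit_preserved hG hP (y := (o : G)) (L := L)
          (fun t ht => by
            rw [hoM (hct t), hoM hL, smul_smul, smul_smul, ← map_mul, ← map_mul, (hyP t ht).eq])
          (fun s hsl hs => by
            have h1 : ⁅o, (⟨s, hsH s hsl hs⟩ : H)⁆ ∈ Cfsg.pPrimeCore p H := by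
              refine (QuotientGroup.eq_one_iff _).1 ?_
              show π' _ = 1
              rw [map_commutatorElement, commutatorElement_eq_one_iff_mul_comm,
                show π' o = 1 from (QuotientGroup.eq_one_iff o).2 hoO, one_mul, mul_one]
            have := (pPrimeCore_coprime H p).coprime_dvd_left (Subgroup.orderOf_dvd_natCard _ h1)
            rwa [← Subgroup.orderOf_coe] at this) hL
        exact ⟨t, ht, (hoM hL).symm.trans he⟩
      · refine hpres (hDH (hK₁D y y.2)) hyP (fun s hs hsl => ?_) hL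
        rw [hgy]
        exact (Subgroup.mem_centralizer_iff.1 (Subgroup.commutator_eq_bot_iff_le_centralizer.1 hcm ⟨h y, rfl⟩)
          _ (Subgroup.mem_map_of_mem π' (show (⟨s, hs⟩ : H) ∈ (Cfsg.layer G).subgroupOf H from hsl))).symm
    -- the stabilizer has `p`-power index in the perfect group `K`
    set T := (S.subgroupOf K₁).map h with hT
    haveI hTn : T.Normal := by
      refine Subgroup.Normal.map ⟨fun v hv w => ?_⟩ h hs
      obtain ⟨t, ht, he⟩ := hy w⁻¹
      have hv' : MulAut.conj ((v : N) : G) • L = L := conj_smul_eq_self_of_mem_normalizer hv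
      have hc : Commute ((v : N) : G) t := (Subgroup.mem_centralizer_iff.1 (hK₁D v v.2).1 t ht).symm
      refine mem_normalizer_of_conj_smul_eq ?_
      show MulAut.conj (((w : N) : G) * ((v : N) : G) * ((w : N) : G)⁻¹) • L = L
      simp only [InvMemClass.coe_inv] at he
      rw [map_mul, mul_smul, he, smul_smul, ← map_mul, mul_assoc, hc.eq, map_mul, mul_smul, map_mul, mul_smul,
        hv', ← he, smul_smul, ← map_mul, mul_inv_cancel, map_one, one_smul]
    have hpgrp : IsPGroup p (K ⧸ T) := by
      intro z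
      obtain ⟨z, rfl⟩ := QuotientGroup.mk_surjective z
      obtain ⟨y, rfl⟩ := hs z
      obtain ⟨t, ht, he⟩ := hy y
      obtain ⟨k, hk⟩ := IsPGroup.iff_orderOf.1 hP ⟨t, ht⟩
      rw [Subgroup.orderOf_mk] at hk
      refine ⟨k, ?_⟩
      rw [← QuotientGroup.mk_pow, QuotientGroup.eq_one_iff, ← map_pow]
      refine Subgroup.mem_map_of_mem h (mem_normalizer_of_conj_smul_eq ?_)
      show MulAut.conj (((y : N) : G) ^ p ^ k) • L = L
      rw [hpow _ _ (Subgroup.mem_centralizer_iff.1 (hK₁D y y.2).1 t ht).symm he, ← hk, pow_orderOf_eq_one,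
        map_one, one_smul]
    haveI := hpgrp.isNilpotent
    haveI hperf := hK.2.1
    have hsub : Subsingleton (K ⧸ T) := by
      by_contra hns
      haveI := not_subsingleton_iff_nontrivial.1 hns
      refine (Group.IsSolvable.commutator_lt_top_of_nontrivial (K ⧸ T)).ne ?_
      rw [eq_top_iff, ← Subgroup.map_top_of_surjective (QuotientGroup.mk' T) (QuotientGroup.mk'_surjective T),
        ← hperf.commutator_eq_top, commutator_def, commutator_def, Subgroup.map_commutator]
      exact Subgroup.commutator_mono le_top le_top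
    intro z hz
    have h2 : (⟨z, hz⟩ : K) ∈ T := by
      rw [← QuotientGroup.eq_one_iff]
      exact hsub.elim _ _
    obtain ⟨y, hy', e⟩ := h2
    exact ⟨(y : N), hy', congrArg Subtype.val e⟩
  intro w hw
  obtain ⟨w', hw', e⟩ := hK hw
  have h5 : w'⁻¹ * w ∈ O := (QuotientGroup.eq_one_iff _).1 (by
    show π (w'⁻¹ * w) = 1
    rw [map_mul, map_inv, e, inv_mul_cancel])
  have h6 := mul_mem hw' (hOS h5)
  rw [mul_inv_cancel_left] at h6
  exact conj_smul_eq_self_of_mem_normalizer h6

end CfsgLib.Solv.LayerOrbit
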