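import Cfsg.Agent.S1887

/-!
Basic properties of `p`-components: perfection, minimality, the quotient by the `p'`-core.
-/

set_option autoImplicit false
set_option linter.style.haveILetI false

open scoped commutatorElement

namespace CfsgLib.Solv

variable {X : Type*} [Group X] [Finite X] {p : ℕ} [hp : Fact p.Prime]

/-- The centre of a quasisimple group of order divisible by `p` has index divisible by `p`. -/
theorem dvd_index_of_le_center {Y : Type*} [Group Y] [Finite Y] (hY : Cfsg.IsQuasisimple Y)
    (hdvd : p ∣ Nat.card Y) (N : Subgroup Y) [hN : N.Normal] (hNc : N ≤ Subgroup.center Y) :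
    p ∣ N.index := by
  by_contra h
  have h1 : Subgroup.closure {g : Y | ∃ k, orderOf g = p ^ k} ≤ N :=
    (Subgroup.closure_le _).2 fun g hg => Cfsg.Agent.S1887.pelem_mem_of_subnormal hN.isSubnormal h g hg
  rw [Cfsg.Agent.S1887.component_pelem hY hdvd] at h1
  exact CfsgLib.Inv.quasisimple_center_ne_top hY (eq_top_iff.2 (h1.trans hNc))

variable {K : Subgroup X}

theorem pComp_dvd_card_map [(Cfsg.pPrimeCore p X).Normal] (hK : Cfsg.IsPComponent p K) :
    p ∣ Nat.card (K.map (QuotientGroup.mk' (Cfsg.pPrimeCore p X))) := by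
  by_contra hnd
  have h1 := CfsgLib.Fus.subnormal_le_pPrimeCore (p := p) hK.2.1.1
    (Nat.coprime_comm.mp (hp.out.coprime_iff_not_dvd.mpr hnd))
  rw [CfsgLib.Fus.pPrimeCore_quotient_eq_bot p, le_bot_iff] at h1
  exact CfsgLib.Inv.component_ne_bot hK.2.1 h1

theorem pComp_dvd_card (hK : Cfsg.IsPComponent p K) : p ∣ Nat.card K :=
  haveI := pPrimeCore_normal X p
  (pComp_dvd_card_map hK).trans (Subgroup.card_map_dvd _ _)

/-- A subnormal subgroup of a `p`-component is the whole of it or maps into the centre. -/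
theorem pComp_dichotomy [(Cfsg.pPrimeCore p X).Normal] (hK : Cfsg.IsPComponent p K) {H : Subgroup X} (hH : H.IsSubnormal) (hle : H ≤ K) :
    H = K ∨ (H.map (QuotientGroup.mk' (Cfsg.pPrimeCore p X))).subgroupOf (K.map (QuotientGroup.mk' (Cfsg.pPrimeCore p X))) ≤
      Subgroup.center _ := by
  rcases CfsgLib.Inv.quasisimple_subnormal hK.2.1.2
      ((hH.map (QuotientGroup.mk'_surjective _)).subgroupOf) with h | h
  · exact .inr h
  · rw [Subgroup.subgroupOf_eq_top] at h
    exact .inl (hK.2.2 H hH hle (le_antisymm (Subgroup.map_mono hle) h))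

/-- A `p`-component has no proper normal subgroup of index prime to `p`. -/
theorem pComp_eq_top_of_index (hK : Cfsg.IsPComponent p K) (N : Subgroup K) [hN : N.Normal]
    (hidx : ¬ p ∣ N.index) : N = ⊤ := by
  haveI := pPrimeCore_normal X p
  set π := QuotientGroup.mk' (Cfsg.pPrimeCore p X) with hπ
  have hNs : (N.map K.subtype).IsSubnormal := hN.isSubnormal.trans' hK.1
  rcases pComp_dichotomy hK hNs (Subgroup.map_subtype_le N) with h | h
  · rw [← Subgroup.comap_map_eq_self_of_injective K.subtype_injective N, h]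
    exact Subgroup.subgroupOf_self K
  · exfalso
    set N' := ((N.map K.subtype).map π).subgroupOf (K.map π) with hN'
    have heq : N' = N.map (π.subgroupMap K) := by
      rw [hN', Subgroup.map_map]
      ext ⟨y, hy⟩
      constructor
      · rintro ⟨n, hn, hny⟩
        exact ⟨n, hn, Subtype.ext hny⟩
      · rintro ⟨n, hn, hny⟩
        exact ⟨n, hn, congrArg Subtype.val hny⟩
    haveI : N'.Normal := heq ▸ hN.map _ (MonoidHom.subgroupMap_surjective π K)
    refine hidx ((dvd_index_of_le_center hK.2.1.2 (pComp_dvd_card_map hK) N' h).trans ?_)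
    rw [heq]
    exact Subgroup.index_map_dvd N (MonoidHom.subgroupMap_surjective π K)

/-- A `p`-component is perfect. -/
theorem pComp_perfect (hK : Cfsg.IsPComponent p K) : ⁅K, K⁆ = K := by
  haveI := pPrimeCore_normal X p
  have h1 : ⁅K, K⁆ = (commutator ↥K).map K.subtype := by
    rw [map_commutator_eq, Subgroup.range_subtype]
  have h2 : (⁅K, K⁆ : Subgroup X).IsSubnormal := by
    rw [h1]; exact (inferInstance : (commutator ↥K).Normal).isSubnormal.trans' hK.1
  refine hK.2.2 _ h2 (h1 ▸ Subgroup.map_subtype_le _) ?_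
  rw [Subgroup.map_commutator]
  exact CfsgLib.Inv.component_commutator hK.2.1

/-- A perfect subnormal subgroup of a `p`-component of order divisible by `p` is the whole of it. -/
theorem pComp_minimal (hK : Cfsg.IsPComponent p K) {H : Subgroup X} (hle : H ≤ K) (hH : H.IsSubnormal)
    (hperf : ⁅H, H⁆ = H) (hdvd : p ∣ Nat.card H) : H = K := by
  haveI := pPrimeCore_normal X p
  set π := QuotientGroup.mk' (Cfsg.pPrimeCore p X) with hπ
  refine (pComp_dichotomy hK hH hle).resolve_right fun h => ?_
  have hcomm : ∀ a ∈ H.map π, ∀ b ∈ H.map π, a * b = b * a := fun a ha b hb =>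
    congrArg Subtype.val (Subgroup.mem_center_iff.1 (h (show (⟨b, Subgroup.map_mono hle hb⟩ : K.map π) ∈
      (H.map π).subgroupOf (K.map π) from hb)) ⟨a, Subgroup.map_mono hle ha⟩)
  have hbot : ⁅H.map π, H.map π⁆ = ⊥ := by
    rw [Subgroup.commutator_eq_bot_iff_le_centralizer]
    exact fun a ha => Subgroup.mem_centralizer_iff.2 fun b hb => hcomm b hb a ha
  rw [← Subgroup.map_commutator, hperf, Subgroup.map_eq_bot_iff, QuotientGroup.ker_mk'] at hbot
  exact not_dvd_card_pPrimeCore (hdvd.trans (Subgroup.card_dvd_of_le hbot))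

/-- The `p'`-core of a `p`-component is its intersection with the `p'`-core of the group. -/
theorem pComp_pPrimeCore (hK : Cfsg.IsPComponent p K) :
    Cfsg.pPrimeCore p K = (Cfsg.pPrimeCore p X).subgroupOf K := by
  haveI := pPrimeCore_normal X p
  haveI := pPrimeCore_normal K p
  refine le_antisymm ?_ ?_
  · rw [Subgroup.subgroupOf, ← Subgroup.map_le_iff_le_comap]
    refine CfsgLib.Fus.subnormal_le_pPrimeCore ((pPrimeCore_normal K p).isSubnormal.trans' hK.1) ?_
    rw [Subgroup.card_map_of_injective K.subtype_injective]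
    exact pPrimeCore_coprime K p
  · refine le_pPrimeCore (N := (Cfsg.pPrimeCore p X).subgroupOf K) ?_
    rw [← Subgroup.card_map_of_injective K.subtype_injective, Subgroup.subgroupOf_map_subtype]
    exact (pPrimeCore_coprime X p).coprime_dvd_left (Subgroup.card_dvd_of_le inf_le_left)

/-- The quotient of a `p`-component by its `p'`-core is quasisimple. -/
theorem pComp_quotient_quasisimple (hK : Cfsg.IsPComponent p K) [(Cfsg.pPrimeCore p K).Normal] :
    Cfsg.IsQuasisimple (↥K ⧸ Cfsg.pPrimeCore p ↥K) := by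
  haveI := pPrimeCore_normal X p
  set π := QuotientGroup.mk' (Cfsg.pPrimeCore p X) with hπ
  have hker : (π.subgroupMap K).ker = Cfsg.pPrimeCore p K := by
    rw [pComp_pPrimeCore hK]
    ext x
    rw [MonoidHom.mem_ker, Subgroup.mem_subgroupOf, ← QuotientGroup.eq_one_iff, ← Subtype.coe_inj]
    rfl
  exact CfsgLib.Inv.quasisimple_congr ((QuotientGroup.quotientMulEquivOfEq hker).symm.trans
    (QuotientGroup.quotientKerEquivOfSurjective _ (MonoidHom.subgroupMap_surjective π K))).symm hK.2.1.2

end CfsgLib.Solv
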