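import Cfsg.Agent.Solv.CoprimeSylow
import Cfsg.Agent.Solv.Generation

/-!
The Brauer–Wielandt order formula for two commuting operators of prime order `q` acting on a
group of order prime to `q`, and the order of a product of two subgroups.
-/

set_option autoImplicit false
set_option linter.style.haveILetI false

open scoped Pointwise commutatorElement

namespace CfsgLib.Solv.BW

variable {G : Type*} [Group G]

/-- The order of the centralizer of the set `S` in `K`. -/
noncomputable abbrev cd (K : Subgroup G) (S : Set G) : ℕ :=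
  Nat.card (K ⊓ Subgroup.centralizer S : Subgroup G)

theorem card_set_mul_card_inf [Finite G] (X Y : Subgroup G) :
    Nat.card ((X : Set G) * (Y : Set G) : Set G) * Nat.card (X ⊓ Y : Subgroup G) =
      Nat.card X * Nat.card Y := by
  have e : Nat.card ((X : Set G).image ((↑) : G → G ⧸ Y) : Set (G ⧸ Y)) = Y.relIndex X := by
    refine (Nat.card_congr (Equiv.ofBijective
      (Quotient.lift (fun x : X => (⟨((x : G) : G ⧸ Y), ⟨x, x.2, rfl⟩⟩ :
        ((X : Set G).image ((↑) : G → G ⧸ Y) : Set (G ⧸ Y))))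
        (fun a b h => Subtype.ext (QuotientGroup.eq.2 ?_))) ⟨?_, ?_⟩)).symm
    · exact Subgroup.mem_subgroupOf.1 (QuotientGroup.leftRel_apply.1 h)
    · rintro ⟨a⟩ ⟨b⟩ h
      exact Quotient.sound (QuotientGroup.leftRel_apply.2
        (Subgroup.mem_subgroupOf.2 (QuotientGroup.eq.1 (congrArg Subtype.val h))))
    · rintro ⟨_, x, hx, rfl⟩
      exact ⟨Quotient.mk'' ⟨x, hx⟩, rfl⟩
  rw [Subgroup.card_mul_eq_card_subgroup_mul_card_quotient, e, ← Subgroup.inf_relIndex_left,
    ← Subgroup.relIndex_bot_left (H := X ⊓ Y), ← Subgroup.relIndex_bot_left (H := X),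
    ← Subgroup.relIndex_bot_left (H := Y),
    ← Subgroup.relIndex_mul_relIndex ⊥ (X ⊓ Y) X bot_le inf_le_left]
  ring

theorem map_commutator_self (K : Subgroup G) : (commutator K).map K.subtype = ⁅K, K⁆ := by
  rw [commutator_def, Subgroup.map_commutator, ← MonoidHom.range_eq_map, Subgroup.range_subtype]

variable {q : ℕ} [hq : Fact q.Prime] {u v : G}

/-- The `q + 1` lines. -/
def line (u v : G) : Option (Fin q) → G := fun i => i.elim v fun i => u * v ^ (i : ℕ)

theorem mem_of_two_lines (hv : v ^ q = 1) {S : Subgroup G} {i j : Option (Fin q)} (hij : i ≠ j)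
    (hi : line u v i ∈ S) (hj : line u v j ∈ S) : u ∈ S ∧ v ∈ S := by
  suffices h : v ∈ S by
    refine ⟨?_, h⟩
    rcases i with _ | i
    · rcases j with _ | j
      · exact absurd rfl hij
      · exact (Subgroup.mul_mem_cancel_right S (pow_mem h _)).1 hj
    · exact (Subgroup.mul_mem_cancel_right S (pow_mem h _)).1 hi
  rcases i with _ | i
  · exact hi
  rcases j with _ | j
  · exact hj
  change u * v ^ (i : ℕ) ∈ S at hi
  change u * v ^ (j : ℕ) ∈ S at hj
  wlog hlt : (i : ℕ) < j generalizing i j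
  · refine this (i := j) (j := i) (hij := fun h => hij h.symm) (hi := hj) (hj := hi) ?_
    have : (i : ℕ) ≠ j := fun h => hij (congrArg some (Fin.ext h))
    omega
  have hd : v ^ ((j : ℕ) - i) ∈ S := by
    have h1 := mul_mem (inv_mem hi) hj
    rw [show u * v ^ (j : ℕ) = u * v ^ (i : ℕ) * v ^ ((j : ℕ) - i) by
      rw [mul_assoc, ← pow_add, Nat.add_sub_cancel' hlt.le], inv_mul_cancel_left] at h1
    exact h1
  have hco : Nat.Coprime ((j : ℕ) - i) q :=
    (hq.out.coprime_iff_not_dvd.2 (Nat.not_dvd_of_pos_of_lt (by omega) (by omega))).symm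
  obtain ⟨m, hm⟩ := exists_pow_eq_self_of_coprime
    (hco.coprime_dvd_right (orderOf_dvd_of_pow_eq_one hv))
  rw [← hm]
  exact pow_mem hd m

section Formula

variable [Finite G] (hu : u ^ q = 1) (hv : v ^ q = 1) (huv : Commute u v)

include hu hv huv

theorem pow_eq_one_of_mem {x : G} (hx : x ∈ Subgroup.closure ({u, v} : Set G)) :
    x ^ q = 1 ∧ Commute x u ∧ Commute x v := by
  induction hx using Subgroup.closure_induction with
  | mem x hx =>
    rcases hx with rfl | rfl
    · exact ⟨hu, Commute.refl _, huv⟩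
    · exact ⟨hv, huv.symm, Commute.refl _⟩
  | one => exact ⟨one_pow q, Commute.one_left u, Commute.one_left v⟩
  | mul x y hx hy ihx ihy =>
    refine ⟨?_, ihx.2.1.mul_left ihy.2.1, ihx.2.2.mul_left ihy.2.2⟩
    have : Commute x y := by
      refine Subgroup.closure_induction (p := fun z _ => Commute x z) ?_ (Commute.one_right x)
        (fun _ _ _ _ a b => a.mul_right b) (fun _ _ a => a.inv_right) hy
      rintro z (rfl | rfl)
      · exact ihx.2.1
      · exact ihx.2.2
    rw [this.mul_pow, ihx.1, ihy.1, one_mul]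
  | inv x _ ih => exact ⟨by rw [inv_pow, ih.1, inv_one], ih.2.1.inv_left, ih.2.2.inv_left⟩

theorem commute_of_mem {x y : G} (hx : x ∈ Subgroup.closure ({u, v} : Set G))
    (hy : y ∈ Subgroup.closure ({u, v} : Set G)) : Commute x y := by
  obtain ⟨-, h1, h2⟩ := pow_eq_one_of_mem hu hv huv hx
  refine Subgroup.closure_induction (p := fun z _ => Commute x z) ?_ (Commute.one_right x)
    (fun _ _ _ _ a b => a.mul_right b) (fun _ _ a => a.inv_right) hy
  rintro z (rfl | rfl)
  · exact h1
  · exact h2

theorem coprime_of_not_dvd {K : Subgroup G} (hK : ¬ q ∣ Nat.card K) :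
    (Nat.card (Subgroup.closure ({u, v} : Set G))).Coprime (Nat.card K) := by
  have : IsPGroup q (Subgroup.closure ({u, v} : Set G)) := fun x =>
    ⟨1, Subtype.ext (by simpa using (pow_eq_one_of_mem hu hv huv x.2).1)⟩
  obtain ⟨n, hn⟩ := IsPGroup.iff_card.1 this
  rw [hn]
  exact (hq.out.coprime_iff_not_dvd.2 hK).pow_left n

theorem isSolvable_closure : Group.IsSolvable (Subgroup.closure ({u, v} : Set G)) :=
  Group.isSolvable_of_comm fun a b => Subtype.ext (commute_of_mem hu hv huv a.2 b.2)

theorem normalizes_centralizer {K : Subgroup G}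
    (hK : Subgroup.closure ({u, v} : Set G) ≤ Subgroup.normalizer (K : Set G)) {S : Set G}
    (hS : S ⊆ Subgroup.closure ({u, v} : Set G)) :
    Subgroup.closure ({u, v} : Set G) ≤
      Subgroup.normalizer ((K ⊓ Subgroup.centralizer S : Subgroup G) : Set G) := by
  rw [le_normalizer_iff_forall_conj_mem]
  intro a ha x hx
  obtain ⟨h1, h2⟩ := Subgroup.mem_inf.1 hx
  refine Subgroup.mem_inf.2 ⟨le_normalizer_iff_forall_conj_mem.1 hK a ha x h1, ?_⟩
  rw [Subgroup.mem_centralizer_iff]
  intro s hs
  have e : Commute s a := commute_of_mem hu hv huv (hS hs) ha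
  exact ((e.mul_right (Subgroup.mem_centralizer_iff.1 h2 s hs)).mul_right e.inv_right).eq

theorem line_mem (i : Option (Fin q)) : line u v i ∈ Subgroup.closure ({u, v} : Set G) := by
  have h1 : u ∈ Subgroup.closure ({u, v} : Set G) := Subgroup.subset_closure (Or.inl rfl)
  have h2 : v ∈ Subgroup.closure ({u, v} : Set G) := Subgroup.subset_closure (Or.inr rfl)
  rcases i with _ | i
  · exact h2
  · exact mul_mem h1 (pow_mem h2 _)

/-- The formula for solvable groups. -/
theorem formula_solvable : ∀ (n : ℕ) (K : Subgroup G), Nat.card K = n →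
    Subgroup.closure ({u, v} : Set G) ≤ Subgroup.normalizer (K : Set G) → ¬ q ∣ Nat.card K →
    Group.IsSolvable K →
    Nat.card K * cd K ({u, v} : Set G) ^ q = ∏ i : Option (Fin q), cd K {line u v i} := by
  intro n
  induction n using Nat.strong_induction_on with
  | _ n ih => ?_
  intro K hn hAK hK hs
  classical
  set A := Subgroup.closure ({u, v} : Set G) with hA
  haveI : IsMulCommutative A :=
    ⟨⟨fun a b => Subtype.ext (commute_of_mem hu hv huv a.2 b.2)⟩⟩
  have hAs : Group.IsSolvable A := isSolvable_closure hu hv huv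
  have hcop := coprime_of_not_dvd hu hv huv hK
  by_cases hbot : K = ⊥
  · subst hbot
    simp [cd, bot_inf_eq]
  have hder : ⁅K, K⁆ < K := by
    haveI := hs
    haveI : Nontrivial K := (Subgroup.nontrivial_iff_ne_bot K).2 hbot
    have h1 : commutator K < ⊤ :=
      IsSolvable.commutator_lt_top_of_nontrivial K
    refine lt_of_le_of_ne (Subgroup.commutator_le_self K) fun h => h1.ne ?_
    apply Subgroup.map_injective K.subtype_injective
    rw [CfsgLib.Solv.BW.map_commutator_self, h, ← MonoidHom.range_eq_map, Subgroup.range_subtype]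
  have hAd : A ≤ Subgroup.normalizer ((⁅K, K⁆ : Subgroup G) : Set G) := by
    intro a ha
    refine mem_normalizer_of_conj_smul_eq ?_
    rw [conj_smul_eq_map, Subgroup.map_commutator, ← conj_smul_eq_map,
      conj_smul_eq_self_of_mem_normalizer (hAK ha)]
  obtain ⟨Q, hQmax⟩ := (Set.toFinite {Q : Subgroup G | ⁅K, K⁆ ≤ Q ∧ Q < K ∧
    A ≤ Subgroup.normalizer (Q : Set G)}).exists_maximal ⟨_, le_rfl, hder, hAd⟩
  obtain ⟨hdQ, hQK, hAQ⟩ := hQmax.1
  have hKQ : K ≤ Subgroup.normalizer (Q : Set G) := by
    rw [le_normalizer_iff_forall_conj_mem]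
    intro k hk x hx
    have h1 := mul_mem (hdQ (Subgroup.commutator_mem_commutator hk (hQK.le hx))) hx
    rwa [commutatorElement_def, inv_mul_cancel_right] at h1
  have hIH := ih (Nat.card Q) (hn ▸ lt_of_le_of_ne (Subgroup.card_le_of_le hQK.le) fun h => hQK.ne (Subgroup.eq_of_le_of_card_ge hQK.le h.ge)) Q rfl hAQ
    (fun h => hK (h.trans (Subgroup.card_dvd_of_le hQK.le)))
    (haveI := hs; isSolvable_of_le hQK.le)
  -- a centralizer outside `Q` covers `K / Q`
  have hcov : ∀ S : Set G, S ⊆ A → ¬ K ⊓ Subgroup.centralizer S ≤ Q →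
      cd K S * Nat.card Q = Nat.card K * cd Q S ∧
        ∀ k ∈ K, ∃ c ∈ K ⊓ Subgroup.centralizer S, ∃ x ∈ Q, k = c * x := by
    intro S hS hnle
    have hCK : K ⊓ Subgroup.centralizer S ≤ K := inf_le_left
    have hsup : (K ⊓ Subgroup.centralizer S) ⊔ Q = K := by
      by_contra hne
      refine hnle (le_trans le_sup_left (hQmax.2 ⟨hdQ.trans le_sup_right,
        lt_of_le_of_ne (sup_le hCK hQK.le) hne, ?_⟩ le_sup_right))
      intro a ha
      refine mem_normalizer_of_conj_smul_eq ?_
      rw [conj_smul_eq_map, Subgroup.map_sup, ← conj_smul_eq_map, ← conj_smul_eq_map,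
        conj_smul_eq_self_of_mem_normalizer (normalizes_centralizer hu hv huv hAK hS ha),
        conj_smul_eq_self_of_mem_normalizer (hAQ ha)]
    have hset := Subgroup.coe_mul_of_left_le_normalizer_right (K ⊓ Subgroup.centralizer S) Q
      (hCK.trans hKQ)
    rw [hsup] at hset
    refine ⟨?_, fun k hk => ?_⟩
    · have h1 := card_set_mul_card_inf (K ⊓ Subgroup.centralizer S) Q
      rw [show ((K ⊓ Subgroup.centralizer S : Subgroup G) : Set G) * (Q : Set G) = (K : Set G)
        from hset.symm] at h1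
      rw [show (K ⊓ Subgroup.centralizer S) ⊓ Q = Q ⊓ Subgroup.centralizer S by
        rw [inf_right_comm, inf_eq_right.2 hQK.le]] at h1
      exact h1.symm
    · have h2 : k ∈ (K : Set G) := hk
      rw [hset] at h2
      obtain ⟨c, hc, x, hx, rfl⟩ := h2
      exact ⟨c, hc, x, hx, rfl⟩
  have hsmall : ∀ S : Set G, K ⊓ Subgroup.centralizer S ≤ Q → cd K S = cd Q S := fun S h => by
    rw [cd, cd, show K ⊓ Subgroup.centralizer S = Q ⊓ Subgroup.centralizer S from
      le_antisymm (le_inf h inf_le_right) (inf_le_inf_right _ hQK.le)]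
  have hline : ∀ i : Option (Fin q), ({line u v i} : Set G) ⊆ A := fun i =>
    Set.singleton_subset_iff.2 (line_mem hu hv huv i)
  have huvA : ({u, v} : Set G) ⊆ A := Subgroup.subset_closure
  have hQpos : 0 < Nat.card Q := Nat.card_pos
  by_cases hall : K ⊓ Subgroup.centralizer ({u, v} : Set G) ≤ Q
  · rw [hsmall _ hall]
    have hex : ∃ i : Option (Fin q), ¬ K ⊓ Subgroup.centralizer {line u v i} ≤ Q := by
      by_contra hcon
      push Not at hcon
      refine (not_le_of_gt hQK) (le_of_centralizers_pair' (q := q) (A := A) (u := u) (v := v)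
        (huvA (Or.inl rfl)) (huvA (Or.inr rfl)) hAK hcop (hq.out.coprime_iff_not_dvd.2 hK)
        (fun x _ => by rw [hu, one_mul, mul_one]) (fun x _ => by rw [hv, one_mul, mul_one])
        (fun i => ?_) (hcon none))
      have h1 := hcon (some ⟨i % q, Nat.mod_lt i hq.out.pos⟩)
      simp only [line, Option.elim_some] at h1
      rwa [← Nat.mod_add_div i q, pow_add, pow_mul, hv, one_pow, mul_one]
    obtain ⟨i₀, hi₀⟩ := hex
    have huniq : ∀ j : Option (Fin q), j ≠ i₀ → K ⊓ Subgroup.centralizer {line u v j} ≤ Q := by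
      intro j hj
      by_contra hjQ
      let T : Subgroup G :=
        { carrier := {a | a ∈ A ∧ ∀ k ∈ K, k⁻¹ * a * k * a⁻¹ ∈ Q}
          one_mem' := ⟨one_mem _, fun k _ => by simp⟩
          mul_mem' := fun {a b} ha hb => ⟨mul_mem ha.1 hb.1, fun k hk => by
            have h1 := mul_mem (ha.2 k hk)
              (le_normalizer_iff_forall_conj_mem.1 hAQ a ha.1 _ (hb.2 k hk))
            rwa [show k⁻¹ * (a * b) * k * (a * b)⁻¹ =
              k⁻¹ * a * k * a⁻¹ * (a * (k⁻¹ * b * k * b⁻¹) * a⁻¹) by group]⟩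
          inv_mem' := fun {a} ha => ⟨inv_mem ha.1, fun k hk => by
            have h1 := le_normalizer_iff_forall_conj_mem.1 hAQ a⁻¹ (inv_mem ha.1) _
              (inv_mem (ha.2 k hk))
            rwa [show a⁻¹ * (k⁻¹ * a * k * a⁻¹)⁻¹ * a⁻¹⁻¹ = k⁻¹ * a⁻¹ * k * a⁻¹⁻¹ by group] at h1⟩ }
      have hT : ∀ w, w ∈ A → ¬ K ⊓ Subgroup.centralizer {w} ≤ Q → w ∈ T := by
        intro w hw hnle
        refine ⟨hw, fun k hk => ?_⟩
        obtain ⟨c, hc, x, hx, rfl⟩ := (hcov {w} (Set.singleton_subset_iff.2 hw) hnle).2 k hk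
        have e := Subgroup.mem_centralizer_iff.1 (Subgroup.mem_inf.1 hc).2 w rfl
        rw [show (c * x)⁻¹ * w * (c * x) * w⁻¹ = x⁻¹ * c⁻¹ * (w * c) * x * w⁻¹ by group, e,
          show x⁻¹ * c⁻¹ * (c * w) * x * w⁻¹ = x⁻¹ * (w * x * w⁻¹) by group]
        exact mul_mem (inv_mem hx) (le_normalizer_iff_forall_conj_mem.1 hAQ w hw x hx)
      obtain ⟨huT, hvT⟩ := mem_of_two_lines (S := T) hv hj
        (hT _ (line_mem hu hv huv j) hjQ) (hT _ (line_mem hu hv huv i₀) hi₀)
      have hAT : A ≤ T := (Subgroup.closure_le T).2 (by rintro z (rfl | rfl) <;> assumption)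
      refine (not_le_of_gt hQK) fun k hk => ?_
      obtain ⟨d, hd, hkd⟩ := exists_centralizing_in_coset hAK (inf_eq_bot_of_coprime_card hcop)
        hQK.le hAQ (hcop.coprime_dvd_right (Subgroup.card_dvd_of_le hQK.le)) (Or.inl hAs) hk
        (fun a ha => (hAT ha).2 k hk)
      have h1 : k * d ∈ Q := hall (Subgroup.mem_inf.2 ⟨mul_mem hk (hQK.le hd),
        Subgroup.centralizer_le huvA hkd⟩)
      exact (Subgroup.mul_mem_cancel_right Q hd).1 h1
    apply Nat.eq_of_mul_eq_mul_left hQpos
    calc Nat.card Q * (Nat.card K * cd Q ({u, v} : Set G) ^ q)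
        = Nat.card K * ∏ i : Option (Fin q), cd Q {line u v i} := by rw [← hIH]; ring
      _ = Nat.card K * (cd Q {line u v i₀} *
            ∏ i ∈ Finset.univ.erase i₀, cd Q {line u v i}) := by
          rw [Finset.mul_prod_erase _ (fun i => cd Q {line u v i}) (Finset.mem_univ i₀)]
      _ = Nat.card Q * (cd K {line u v i₀} *
            ∏ i ∈ Finset.univ.erase i₀, cd K {line u v i}) := by
          rw [Finset.prod_congr rfl fun i hi => (hsmall _ (huniq i (Finset.ne_of_mem_erase hi))).symm,
            ← mul_assoc, ← (hcov _ (hline i₀) hi₀).1]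
          ring
      _ = _ := by rw [Finset.mul_prod_erase _ (fun i => cd K {line u v i}) (Finset.mem_univ i₀)]
  · have hl : ∀ i : Option (Fin q), ¬ K ⊓ Subgroup.centralizer {line u v i} ≤ Q := by
      intro i h
      refine hall fun x hx => h (Subgroup.mem_inf.2 ⟨(Subgroup.mem_inf.1 hx).1, ?_⟩)
      rw [Subgroup.mem_centralizer_singleton_iff]
      have hx2 := (Subgroup.mem_inf.1 hx).2
      have hcl : A ≤ Subgroup.centralizer {x} := (Subgroup.closure_le _).2 fun z hz =>
        Subgroup.mem_centralizer_singleton_iff.2 (Subgroup.mem_centralizer_iff.1 hx2 z hz)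
      exact (Subgroup.mem_centralizer_singleton_iff.1 (hcl (line_mem hu hv huv i))).symm
    have e0 := (hcov _ huvA hall).1
    apply Nat.eq_of_mul_eq_mul_left (pow_pos hQpos (q + 1))
    calc Nat.card Q ^ (q + 1) * (Nat.card K * cd K ({u, v} : Set G) ^ q)
        = Nat.card Q * Nat.card K * (cd K ({u, v} : Set G) * Nat.card Q) ^ q := by
          rw [mul_pow, pow_succ]; ring
      _ = Nat.card K ^ (q + 1) * ∏ i : Option (Fin q), cd Q {line u v i} := by
          rw [e0, ← hIH, mul_pow, pow_succ]; ring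
      _ = ∏ i : Option (Fin q), Nat.card K * cd Q {line u v i} := by
          rw [Finset.prod_mul_distrib, Finset.prod_const, Finset.card_univ, Fintype.card_option,
            Fintype.card_fin]
      _ = ∏ i : Option (Fin q), cd K {line u v i} * Nat.card Q :=
          Finset.prod_congr rfl fun i _ => ((hcov _ (hline i) (hl i)).1).symm
      _ = _ := by
          rw [Finset.prod_mul_distrib, Finset.prod_const, Finset.card_univ, Fintype.card_option,
            Fintype.card_fin, mul_comm]

/-- The `r`-part of a centralizer is the centralizer in an invariant Sylow `r`-subgroup. -/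
theorem cd_sylow {K : Subgroup G}
    (hAK : Subgroup.closure ({u, v} : Set G) ≤ Subgroup.normalizer (K : Set G))
    (hK : ¬ q ∣ Nat.card K) {r : ℕ} [Fact r.Prime] (P : Sylow r K)
    (hP : Subgroup.closure ({u, v} : Set G) ≤
      Subgroup.normalizer ((P : Subgroup K).map K.subtype : Set G))
    {S : Set G} (hS : S ⊆ Subgroup.closure ({u, v} : Set G)) :
    cd ((P : Subgroup K).map K.subtype) S = r ^ (cd K S).factorization r := by
  set A := Subgroup.closure ({u, v} : Set G) with hA
  have hs := isSolvable_closure hu hv huv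
  have hcop := coprime_of_not_dvd hu hv huv hK
  set C := K ⊓ Subgroup.centralizer S with hC
  have hAC : A ≤ Subgroup.normalizer (C : Set G) := normalizes_centralizer hu hv huv hAK hS
  obtain ⟨U, hU⟩ := exists_invariant_sylow (p := r) hAC
    (hcop.coprime_dvd_right (Subgroup.card_dvd_of_le inf_le_left)) (Or.inl hs)
  set U' := (U : Subgroup C).map C.subtype with hU'
  have hU'C : U' ≤ C := Subgroup.map_subtype_le _
  obtain ⟨P', hUP', hP'⟩ := exists_invariant_sylow_ge (p := r) hAK hcop (Or.inl hs)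
    (hU'C.trans inf_le_left) (U.isPGroup'.map _) hU
  obtain ⟨c, hcA, hc⟩ := invariant_sylow_conj hAK hcop (Or.inl hs) P' P hP' hP
  have hle : MulAut.conj (c : G) • U' ≤ (P : Subgroup K).map K.subtype ⊓ Subgroup.centralizer S := by
    intro x hx
    rw [mem_conj_smul_iff] at hx
    refine Subgroup.mem_inf.2 ⟨?_, ?_⟩
    · rw [← hc, Sylow.coe_subgroup_smul]
      obtain ⟨y, hy, hye⟩ := hUP' hx
      refine ⟨MulAut.conj c y, Subgroup.smul_mem_pointwise_smul _ _ _ hy, ?_⟩
      change (c : G) * y * (c : G)⁻¹ = x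
      rw [show (y : G) = (c : G)⁻¹ * x * (c : G) from hye]
      group
    · rw [Subgroup.mem_centralizer_iff]
      intro s hs'
      have h1 : Commute s ((c : G)⁻¹ * x * c) :=
        Subgroup.mem_centralizer_iff.1 (Subgroup.mem_inf.1 (hU'C hx)).2 s hs'
      have h2 : Commute s (c : G) := Subgroup.mem_centralizer_iff.1 hcA s (hS hs')
      have h3 := (h2.mul_right h1).mul_right h2.inv_right
      rwa [show (c : G) * ((c : G)⁻¹ * x * c) * (c : G)⁻¹ = x by group] at h3
  refine le_antisymm ?_ ?_
  · obtain ⟨m, hm⟩ := IsPGroup.iff_card.1 ((P.isPGroup'.map K.subtype).to_le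
      (inf_le_left : (P : Subgroup K).map K.subtype ⊓ Subgroup.centralizer S ≤ _))
    rw [cd, hm]
    refine Nat.pow_le_pow_right (Fact.out : r.Prime).pos
      (((Fact.out : r.Prime).pow_dvd_iff_le_factorization Nat.card_pos.ne').1 ?_)
    rw [← hm]
    exact Subgroup.card_dvd_of_le (inf_le_inf_right _ (Subgroup.map_subtype_le _))
  · refine le_trans (le_of_eq ?_) (Subgroup.card_le_of_le hle)
    rw [card_conj_smul, hU', card_map_subtype, U.card_eq_multiplicity]

/-- The Brauer–Wielandt order formula. -/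
theorem formula {K : Subgroup G}
    (hAK : Subgroup.closure ({u, v} : Set G) ≤ Subgroup.normalizer (K : Set G))
    (hK : ¬ q ∣ Nat.card K) :
    Nat.card K * cd K ({u, v} : Set G) ^ q = ∏ i : Option (Fin q), cd K {line u v i} := by
  have hne : ∀ S : Set G, cd K S ≠ 0 := fun S => Nat.card_pos.ne'
  refine Nat.eq_of_factorization_eq (mul_ne_zero Nat.card_pos.ne' (pow_ne_zero _ (hne _)))
    (Finset.prod_ne_zero_iff.2 fun i _ => hne _) fun r => ?_
  rw [Nat.factorization_mul Nat.card_pos.ne' (pow_ne_zero _ (hne _)), Nat.factorization_pow,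
    Nat.factorization_prod fun i _ => hne _]
  by_cases hr : r.Prime
  swap
  · simp [Nat.factorization_eq_zero_of_not_prime _ hr]
  haveI := Fact.mk hr
  obtain ⟨P, hP⟩ := exists_invariant_sylow (p := r) hAK (coprime_of_not_dvd hu hv huv hK)
    (Or.inl (isSolvable_closure hu hv huv))
  set P' := (P : Subgroup K).map K.subtype with hP'
  haveI := (P.isPGroup'.map K.subtype).isNilpotent
  have h := formula_solvable hu hv huv _ P' rfl hP
    (fun h => hK (h.trans (Subgroup.card_dvd_of_le (Subgroup.map_subtype_le _)))) inferInstance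
  rw [cd_sylow hu hv huv hAK hK P hP Subgroup.subset_closure,
    Finset.prod_congr rfl fun i _ => cd_sylow hu hv huv hAK hK P hP
      (S := {line u v i}) (Set.singleton_subset_iff.2 (line_mem hu hv huv i)),
    hP', card_map_subtype, P.card_eq_multiplicity, ← pow_mul, ← pow_add,
    Finset.prod_pow_eq_pow_sum] at h
  have h' := Nat.pow_right_injective hr.two_le h
  simp only [Finsupp.add_apply, Finsupp.smul_apply, Finsupp.finsetSum_apply, smul_eq_mul]
  rw [← h', mul_comm]

end Formula

end CfsgLib.Solv.BW
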