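import Cfsg.Agent.Solv.Signalizer
import Cfsg.Agent.Solv.Generation

/-!
The signalizer functor of a `k`-balanced group.
-/

set_option autoImplicit false
set_option linter.style.haveILetI false
set_option linter.deprecated false
set_option linter.unusedSectionVars false

open scoped commutatorElement Pointwise

namespace CfsgLib.Solv.KBal

open CfsgLib.Solv

variable {G : Type*} [Group G] [Finite G] {p k : ℕ} [hp : Fact p.Prime] {A : Subgroup G}

/-- A hyperplane of `A` or `A` itself. -/
def Cocyc (A E : Subgroup G) : Prop := E ≤ A ∧ ∃ a ∈ A, E ⊔ Subgroup.zpowers a = A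

/-- The part of `W` in `Δ(E)` centralized by `E`. -/
def piece (p : ℕ) (W E : Subgroup G) : Subgroup G :=
  W ⊓ Cfsg.signalizerDelta p E ⊓ Subgroup.centralizer (E : Set G)

theorem mem_delta {D : Subgroup G} {z : G}
    (h : ∀ d ∈ D, d ≠ 1 → z ∈ Cfsg.centralizerPPrimeCore p d) : z ∈ Cfsg.signalizerDelta p D :=
  Subgroup.mem_iInf.2 fun d => h d.1 d.2.1 d.2.2

theorem delta_le_core {D : Subgroup G} {d : G} (hd : d ∈ D) (hd1 : d ≠ 1) :
    Cfsg.signalizerDelta p D ≤ Cfsg.centralizerPPrimeCore p d :=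
  iInf_le (fun a : {a : G // a ∈ D ∧ a ≠ 1} => Cfsg.centralizerPPrimeCore p (a : G)) ⟨d, hd, hd1⟩

theorem delta_mono {D E : Subgroup G} (h : D ≤ E) : Cfsg.signalizerDelta p E ≤ Cfsg.signalizerDelta p D :=
  le_iInf fun d => delta_le_core (h d.2.1) d.2.2

theorem core_normalized {d : G} :
    Subgroup.centralizer ({d} : Set G) ≤ Subgroup.normalizer (Cfsg.centralizerPPrimeCore p d : Set G) := by
  set C := Subgroup.centralizer ({d} : Set G)
  haveI := pPrimeCore_normal C p
  intro c hc
  refine Subgroup.mem_normalizer_fintype ?_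
  rintro _ ⟨u, hu, rfl⟩
  exact ⟨⟨c, hc⟩ * u * ⟨c, hc⟩⁻¹, (pPrimeCore_normal C p).conj_mem u hu _, rfl⟩

theorem comm_mem_core {d x y : G} (hx : x ∈ Cfsg.centralizerPPrimeCore p d)
    (hy : y ∈ Subgroup.centralizer ({d} : Set G)) : ⁅x, y⁆ ∈ Cfsg.centralizerPPrimeCore p d := by
  rw [show ⁅x, y⁆ = x * (y * x⁻¹ * y⁻¹) by rw [commutatorElement_def]; group]
  exact mul_mem hx ((Subgroup.mem_normalizer_iff.1 (core_normalized hy) _).1 (inv_mem hx))

variable (hA : Cfsg.IsElementaryAbelian p A)
include hA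

theorem delta_normalized {D : Subgroup G} (hD : D ≤ A) :
    A ≤ Subgroup.normalizer (Cfsg.signalizerDelta p D : Set G) := by
  intro a ha
  refine Subgroup.mem_normalizer_fintype fun z hz => mem_delta fun d hd hd1 => ?_
  exact (Subgroup.mem_normalizer_iff.1 (core_normalized
    (Subgroup.mem_centralizer_singleton_iff.2 (Sig.comm hA ha (hD hd)))) z).1 (delta_le_core hd hd1 hz)

theorem centralizer_normalized {E : Subgroup G} (hE : E ≤ A) :
    A ≤ Subgroup.normalizer (Subgroup.centralizer (E : Set G) : Set G) := by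
  intro a ha
  refine Subgroup.mem_normalizer_fintype fun z hz => ?_
  rw [SetLike.mem_coe, Subgroup.mem_centralizer_iff] at hz ⊢
  intro e he
  have h1 : Commute e a := Sig.comm hA (hE he) ha
  exact (h1.mul_right (hz e he)).mul_right h1.inv_right

theorem piece_normalized {W E : Subgroup G} (hW : A ≤ Subgroup.normalizer (W : Set G)) (hE : E ≤ A) :
    A ≤ Subgroup.normalizer (piece p W E : Set G) :=
  le_normalizer_inf_of_le (le_normalizer_inf_of_le hW (delta_normalized hA hE)) (centralizer_normalized hA hE)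

omit [Finite G] in
theorem cocyc_self : Cocyc A A := ⟨le_rfl, 1, one_mem _, by rw [Subgroup.zpowers_one_eq_bot, sup_bot_eq]⟩

theorem cocyc_dichotomy {E E' : Subgroup G} (hE : Cocyc A E) (hE' : Cocyc A E') :
    E ⊔ E' = A ∨ E = E' := by
  by_contra hno
  push Not at hno
  obtain ⟨h1, h2⟩ := hno
  have hle : E ⊔ E' ≤ A := sup_le hE.1 hE'.1
  have hbound : ∀ {F : Subgroup G}, Cocyc A F → F ≤ E ⊔ E' → F = E ⊔ E' := by
    intro F hF hFle
    obtain ⟨n, hn⟩ := Sig.card_eq_pow hA
    obtain ⟨i, hi, hic⟩ := (Nat.dvd_prime_pow hp.out).1 (hn ▸ Subgroup.card_dvd_of_le hle)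
    have hne : i ≠ n := fun e => h1 (Subgroup.eq_of_le_of_card_ge hle (by rw [hic, hn, e]))
    have hb := Sig.card_le_of_cocyclic hA hF.1 hF.2
    refine Subgroup.eq_of_le_of_card_ge hFle ?_
    rw [hic]
    rw [hn] at hb
    have h3 : p ^ i * p ≤ Nat.card F * p := by
      refine le_trans ?_ hb
      rw [← pow_succ]
      exact Nat.pow_le_pow_right hp.out.pos (by omega)
    exact Nat.le_of_mul_le_mul_right h3 hp.out.pos
  exact h2 ((hbound hE le_sup_left).trans (hbound hE' le_sup_right).symm)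

theorem card_cocyc (hk : p ^ (k + 2) ≤ Nat.card A) {E : Subgroup G} (hE : Cocyc A E) :
    p ^ (k + 1) ≤ Nat.card E := by
  have h := Sig.card_le_of_cocyclic hA hE.1 hE.2
  have h2 : p ^ (k + 1) * p ≤ Nat.card E * p := by rw [← pow_succ]; exact hk.trans h
  exact Nat.le_of_mul_le_mul_right h2 hp.out.pos

theorem exists_sub {E : Subgroup G} (hE : E ≤ A) (h : p ^ k ≤ Nat.card E) :
    ∃ D ≤ E, Nat.card D = p ^ k ∧ Cfsg.IsElementaryAbelian p D := by
  have hEp : IsPGroup p E := fun e => ⟨1, Subtype.ext (by simpa using hA.2 e (hE e.2))⟩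
  obtain ⟨n, hn⟩ := IsPGroup.iff_card.1 hEp
  have hkn : k ≤ n := (Nat.pow_le_pow_iff_right hp.out.one_lt).1 (hn ▸ h)
  obtain ⟨D, hD⟩ := Sylow.exists_subgroup_card_pow_prime p (n := k) (G := E) (hn ▸ pow_dvd_pow p hkn)
  refine ⟨D.map E.subtype, Subgroup.map_subtype_le _,
    by rw [Subgroup.card_map_of_injective E.subtype_injective, hD],
    ⟨⟨fun a b => Subtype.ext (Sig.comm hA (hE (Subgroup.map_subtype_le _ a.2)) (hE (Subgroup.map_subtype_le _ b.2)))⟩⟩,
    fun a ha => hA.2 a (hE (Subgroup.map_subtype_le _ ha))⟩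

theorem card_inf_cocyc (hk : p ^ (k + 2) ≤ Nat.card A) {E E' : Subgroup G} (hE : Cocyc A E)
    (hE' : Cocyc A E') : p ^ k ≤ Nat.card (E ⊓ E' : Subgroup G) := by
  rcases cocyc_dichotomy hA hE hE' with h | h
  swap
  · rw [h, inf_idem]
    exact le_trans (Nat.pow_le_pow_right hp.out.pos k.le_succ) (card_cocyc hA hk hE')
  have hN : E ≤ Subgroup.normalizer (E' : Set G) := fun x hx => Subgroup.mem_normalizer_fintype fun y hy => by
    rwa [Sig.comm hA (hE.1 hx) (hE'.1 hy), mul_inv_cancel_right]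
  haveI : (E'.subgroupOf (Subgroup.normalizer (E' : Set G))).Normal := Subgroup.normal_in_normalizer
  have h1 := card_sup_mul_card_inf (E.subgroupOf (Subgroup.normalizer (E' : Set G)))
    (E'.subgroupOf (Subgroup.normalizer (E' : Set G)))
  rw [← Subgroup.subgroupOf_sup hN Subgroup.le_normalizer,
    show E.subgroupOf (Subgroup.normalizer (E' : Set G)) ⊓ E'.subgroupOf (Subgroup.normalizer (E' : Set G)) =
      (E ⊓ E').subgroupOf (Subgroup.normalizer (E' : Set G)) from rfl,
    card_subgroupOf (sup_le hN Subgroup.le_normalizer), card_subgroupOf (inf_le_right.trans Subgroup.le_normalizer),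
    card_subgroupOf hN, card_subgroupOf Subgroup.le_normalizer, h] at h1
  have h2 := card_cocyc hA hk hE
  have h3 := Sig.card_le_of_cocyclic hA hE'.1 hE'.2
  have hApos := Nat.card_pos (α := A)
  have h4 : Nat.card A * p ^ k * p ≤ Nat.card A * Nat.card (E ⊓ E' : Subgroup G) * p := by
    rw [h1]
    calc Nat.card A * p ^ k * p = p ^ (k + 1) * Nat.card A := by rw [pow_succ]; ring
      _ ≤ Nat.card E * (Nat.card E' * p) := Nat.mul_le_mul h2 h3
      _ = _ := by ring
  exact Nat.le_of_mul_le_mul_left (Nat.le_of_mul_le_mul_right h4 hp.out.pos) hApos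

variable (hk : p ^ (k + 2) ≤ Nat.card A) (hbal : Cfsg.IsKBalanced p k G)
include hk hbal

/-- An element of some `Δ(D)` centralized by `E` lies in `Δ(E)`. -/
theorem mem_delta_of_balance {D E : Subgroup G} (hD : D ≤ A) (hDc : p ^ k ≤ Nat.card D) (hE : E ≤ A) {z : G}
    (hz : z ∈ Cfsg.signalizerDelta p D) (hzE : z ∈ Subgroup.centralizer (E : Set G)) :
    z ∈ Cfsg.signalizerDelta p E := by
  obtain ⟨D', hD'D, hD'c, hD'e⟩ := exists_sub hA hD hDc
  refine mem_delta fun e he he1 => ?_
  exact hbal D' hD'e hD'c e (orderOf_eq_prime (hA.2 e (hE he)) he1)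
    (fun d hd => Sig.comm hA (hD (hD'D hd)) (hE he))
    (Subgroup.mem_inf.2 ⟨delta_mono hD'D hz, Subgroup.mem_centralizer_singleton_iff.2
      (Subgroup.mem_centralizer_iff.1 hzE e he).symm⟩)

/-- In a solvable `p'`-group generated by pieces every fixed point of a hyperplane lies in its `Δ`. -/
theorem fixed_le_delta : ∀ W : Subgroup G, A ≤ Subgroup.normalizer (W : Set G) → Group.IsSolvable W →
    (Nat.card W).Coprime p →
    W ≤ (⨆ E : {E : Subgroup G // Cocyc A E}, piece p W (E : Subgroup G)) →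
    ∀ E, Cocyc A E → W ⊓ Subgroup.centralizer (E : Set G) ≤ Cfsg.signalizerDelta p E := by
  intro W
  induction W using WellFoundedLT.induction with
  | _ W ih => ?_
  intro hAW hs hco hgen E hE
  classical
  rcases eq_or_ne W ⊥ with hbot | hne
  · rw [hbot, bot_inf_eq]; exact bot_le
  haveI := hA.1
  haveI := hs
  have hApg : IsPGroup p A := fun a => ⟨1, Subtype.ext (by simpa using hA.2 a a.2)⟩
  set W' := ⁅W, W⁆ with hW'
  have hW'le : W' ≤ W := Subgroup.commutator_le_self W
  have hAW' : A ≤ Subgroup.normalizer (W' : Set G) := fun a ha => mem_normalizer_of_conj_smul_eq (by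
    rw [conj_smul_eq_map, hW', Subgroup.map_commutator, ← conj_smul_eq_map,
      conj_smul_eq_self_of_mem_normalizer (hAW ha)])
  have hW'lt : W' < W := by
    refine lt_of_le_of_ne hW'le fun e => ?_
    haveI : Nontrivial W := (Subgroup.nontrivial_iff_ne_bot W).2 hne
    refine (Group.IsSolvable.commutator_lt_top_of_nontrivial W).ne ?_
    refine Subgroup.map_injective W.subtype_injective ?_
    rw [map_commutator_eq, Subgroup.range_subtype, ← hW', e, ← MonoidHom.range_eq_map, Subgroup.range_subtype]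
  -- commutators of pieces lie in the part generated by pieces of the derived group
  set P := ⨆ E : {E : Subgroup G // Cocyc A E}, piece p W' (E : Subgroup G) with hP
  have hcomm : ∀ E₁ E₂ : Subgroup G, Cocyc A E₁ → Cocyc A E₂ → ∀ x ∈ piece p W E₁, ∀ y ∈ piece p W E₂,
      ⁅x, y⁆ ∈ P := by
    intro E₁ E₂ h₁ h₂ x hx y hy
    set F := E₁ ⊓ E₂ with hF
    obtain ⟨D, hDF, hDc, -⟩ := exists_sub hA (inf_le_left.trans h₁.1 : F ≤ A) (card_inf_cocyc hA hk h₁ h₂)
    set V := W' ⊓ Cfsg.signalizerDelta p D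
    have hDA : D ≤ A := hDF.trans (inf_le_left.trans h₁.1)
    have hmem : ⁅x, y⁆ ∈ V := Subgroup.mem_inf.2 ⟨Subgroup.commutator_mem_commutator hx.1.1 hy.1.1,
      mem_delta fun d hd hd1 => comm_mem_core (delta_le_core (hDF hd).1 hd1 hx.1.2)
        (Subgroup.mem_centralizer_singleton_iff.2 (Subgroup.mem_centralizer_iff.1 hy.2 d (hDF hd).2).symm)⟩
    refine le_of_cocyclic_centralizers (le_normalizer_inf_of_le hAW' (delta_normalized hA hDA))
      ((Sig.coprime_card hA ((hp.out.coprime_iff_not_dvd).1 hco.symm)).coprime_dvd_right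
        (Subgroup.card_dvd_of_le (inf_le_left.trans hW'le)))
      (fun B hB hBc z hz => ?_) hmem
    refine Subgroup.mem_iSup_of_mem (⟨B, hB, hBc⟩ : {E : Subgroup G // Cocyc A E})
      (Subgroup.mem_inf.2 ⟨Subgroup.mem_inf.2 ⟨hz.1.1, ?_⟩, hz.2⟩)
    exact mem_delta_of_balance hA hk hbal hDA hDc.ge hB hz.1.2 hz.2
  have hPW' : P ≤ W' := iSup_le fun F => inf_le_left.trans inf_le_left
  have hPn : ∀ F, Cocyc A F → piece p W F ≤ Subgroup.normalizer (P : Set G) := by
    intro F hF x hx
    refine Subgroup.mem_normalizer_fintype fun z hz => ?_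
    rw [SetLike.mem_coe] at hz ⊢
    induction hz using Subgroup.iSup_induction' with
    | hp F' z hz =>
      rw [show x * z * x⁻¹ = ⁅x, z⁆ * z by rw [commutatorElement_def]; group]
      exact mul_mem (hcomm F F' hF F'.2 x hx z
        (Subgroup.mem_inf.2 ⟨Subgroup.mem_inf.2 ⟨hW'le hz.1.1, hz.1.2⟩, hz.2⟩))
        (Subgroup.mem_iSup_of_mem F' hz)
    | h1 => simp
    | hmul u v _ _ hu hv => simpa [mul_assoc] using mul_mem hu hv
  have hW'P : W' ≤ P := by
    haveI hPnW : (P.subgroupOf W).Normal := Subgroup.normal_subgroupOf_of_le_normalizer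
      (hgen.trans (iSup_le fun F => hPn F F.2))
    set π := QuotientGroup.mk' (P.subgroupOf W) with hπ
    have hc : ∀ u v : W, Commute (π u) (π v) := by
      have hone : ∀ (F : {E : Subgroup G // Cocyc A E}) (x : W), (x : G) ∈ piece p W F → ∀ v : W,
          Commute (π x) (π v) := by
        intro F x hx v
        have hv := hgen v.2
        have key : ∀ g : G, g ∈ (⨆ E : {E : Subgroup G // Cocyc A E}, piece p W (E : Subgroup G)) →
            ∀ hg : g ∈ W, Commute (π x) (π ⟨g, hg⟩) := by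
          intro g hg
          induction hg using Subgroup.iSup_induction' with
          | hp F' z hz =>
            intro hzW
            rw [← commutatorElement_eq_one_iff_commute, ← map_commutatorElement]
            exact (QuotientGroup.eq_one_iff _).2 (hcomm F F' F.2 F'.2 x hx z hz)
          | h1 => intro h; exact (map_one π).symm ▸ Commute.one_right _
          | hmul a b ha hb iha ihb =>
            intro hab
            have haW : a ∈ W := (iSup_le fun F => inf_le_left.trans inf_le_left :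
              (⨆ E : {E : Subgroup G // Cocyc A E}, piece p W (E : Subgroup G)) ≤ W) ha
            have hbW : b ∈ W := (iSup_le fun F => inf_le_left.trans inf_le_left :
              (⨆ E : {E : Subgroup G // Cocyc A E}, piece p W (E : Subgroup G)) ≤ W) hb
            rw [show (⟨a * b, hab⟩ : W) = ⟨a, haW⟩ * ⟨b, hbW⟩ from rfl, map_mul]
            exact (iha haW).mul_right (ihb hbW)
        exact key v hv v.2
      intro u v
      have key : ∀ g : G, g ∈ (⨆ E : {E : Subgroup G // Cocyc A E}, piece p W (E : Subgroup G)) →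
          ∀ hg : g ∈ W, Commute (π ⟨g, hg⟩) (π v) := by
        intro g hg
        induction hg using Subgroup.iSup_induction' with
        | hp F' z hz => intro hzW; exact hone F' ⟨z, hzW⟩ hz v
        | h1 => intro h; exact (map_one π).symm ▸ Commute.one_left _
        | hmul a b ha hb iha ihb =>
          intro hab
          have haW : a ∈ W := (iSup_le fun F => inf_le_left.trans inf_le_left :
            (⨆ E : {E : Subgroup G // Cocyc A E}, piece p W (E : Subgroup G)) ≤ W) ha
          have hbW : b ∈ W := (iSup_le fun F => inf_le_left.trans inf_le_left :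
            (⨆ E : {E : Subgroup G // Cocyc A E}, piece p W (E : Subgroup G)) ≤ W) hb
          rw [show (⟨a * b, hab⟩ : W) = ⟨a, haW⟩ * ⟨b, hbW⟩ from rfl, map_mul]
          exact (iha haW).mul_left (ihb hbW)
      exact key u (hgen u.2) u.2
    rw [hW', Subgroup.commutator_le]
    intro u hu v hv
    exact (QuotientGroup.eq_one_iff (N := P.subgroupOf W) ⁅(⟨u, hu⟩ : W), (⟨v, hv⟩ : W)⁆).1
      (by
        show π ⁅(⟨u, hu⟩ : W), (⟨v, hv⟩ : W)⁆ = 1
        rw [map_commutatorElement, commutatorElement_eq_one_iff_commute]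
        exact hc _ _)
  haveI hsW' : Group.IsSolvable W' := isSolvable_of_le hW'le
  have hW'good := ih W' hW'lt hAW' hsW' (hco.coprime_dvd_left (Subgroup.card_dvd_of_le hW'le)) hW'P
  -- averaging over `E` in the abelianization
  intro z hz
  obtain ⟨hzW, hzE⟩ := Subgroup.mem_inf.1 hz
  have hEp : IsPGroup p E := hApg.to_le hE.1
  have : Fintype E := Fintype.ofFinite E
  let π : W →* Abelianization W := Abelianization.of
  let cj : E → W → W := fun e w => ⟨(e : G) * w * (e : G)⁻¹, (Subgroup.mem_normalizer_iff.1 (hAW (hE.1 e.2)) _).1 w.2⟩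
  have hcj : ∀ e u v, cj e (u * v) = cj e u * cj e v := fun e u v => Subtype.ext (by
    show (e : G) * ((u : G) * v) * (e : G)⁻¹ = _; simp [cj, mul_assoc])
  let Φ : W →* Abelianization W := MonoidHom.mk' (fun w => ∏ e : E, π (cj e w)) fun u v => by
    simp only [hcj, map_mul, Finset.prod_mul_distrib]
  set V := (piece p W E).subgroupOf W with hV
  have hπW' : ∀ w : W, π w = 1 ↔ (w : G) ∈ W' := by
    intro w
    rw [show π w = 1 ↔ w ∈ commutator W from QuotientGroup.eq_one_iff w]
    constructor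
    · intro h
      have h2 : (w : G) ∈ (commutator W).map W.subtype := ⟨w, h, rfl⟩
      rwa [map_commutator_eq, Subgroup.range_subtype] at h2
    · intro h
      have h2 : (w : G) ∈ (commutator W).map W.subtype := by
        rw [map_commutator_eq, Subgroup.range_subtype]; exact h
      obtain ⟨w', hw', he⟩ := h2
      rwa [show w' = w from Subtype.ext he] at hw'
  have hΦ : ∀ w : W, Φ w ∈ V.map π := by
    have hsupW : (⨆ E : {E : Subgroup G // Cocyc A E}, piece p W (E : Subgroup G)) ≤ W :=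
      iSup_le fun F => inf_le_left.trans inf_le_left
    suffices key : ∀ g : G, g ∈ (⨆ E : {E : Subgroup G // Cocyc A E}, piece p W (E : Subgroup G)) →
        ∀ hg : g ∈ W, Φ ⟨g, hg⟩ ∈ V.map π from fun w => key w (hgen w.2) w.2
    intro g hg
    induction hg using Subgroup.iSup_induction' with
    | hp F x hx =>
      intro hxW
      obtain ⟨F, hF⟩ := F
      rcases cocyc_dichotomy hA hE hF with hsup | heq
      swap
      · subst heq
        refine Subgroup.prod_mem _ fun e _ => ⟨cj e ⟨x, hxW⟩, ?_, rfl⟩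
        show (e : G) * x * (e : G)⁻¹ ∈ piece p W E
        rw [Subgroup.mem_centralizer_iff.1 hx.2 e e.2, mul_inv_cancel_right]
        exact hx
      -- a product lifting the average
      have hmemF : ∀ e : E, cj e ⟨x, hxW⟩ ∈ (piece p W F).subgroupOf W := fun e =>
        (Subgroup.mem_normalizer_iff.1 (piece_normalized hA hAW hF.1 (hE.1 e.2)) x).1 hx
      obtain ⟨u, hu, huΦ⟩ : ∃ u ∈ (piece p W F).subgroupOf W, π u = Φ ⟨x, hxW⟩ := by
        have : Φ ⟨x, hxW⟩ ∈ ((piece p W F).subgroupOf W).map π :=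
          Subgroup.prod_mem _ fun e _ => ⟨_, hmemF e, rfl⟩
        obtain ⟨u, hu, he⟩ := this
        exact ⟨u, hu, he⟩
      have hfixE : ∀ e : E, π (cj e u) = π u := by
        intro e
        let χ : W →* Abelianization W := MonoidHom.mk' (fun w => π (cj e w)) fun a b => by rw [hcj, map_mul]
        have hχ : (Abelianization.lift χ).comp π = χ := MonoidHom.ext fun w => Abelianization.lift_apply_of χ w
        calc π (cj e u) = Abelianization.lift χ (π u) := (DFunLike.congr_fun hχ u).symm
          _ = Abelianization.lift χ (∏ e' : E, π (cj e' ⟨x, hxW⟩)) := by rw [huΦ]; rfl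
          _ = ∏ e' : E, π (cj (e * e') ⟨x, hxW⟩) := by
            rw [map_prod]
            refine Finset.prod_congr rfl fun e' _ => ?_
            rw [← MonoidHom.comp_apply, hχ]
            show π (cj e (cj e' ⟨x, hxW⟩)) = _
            congr 1
            exact Subtype.ext (by simp [cj, mul_assoc])
          _ = π u := by
            rw [huΦ]
            exact Fintype.prod_equiv (Equiv.mulLeft e) _ _ fun e' => rfl
      set K := piece p W F
      obtain ⟨d, hd, hdc⟩ := exists_centralizing_in_coset (A := A) (K := K) (D := K ⊓ W')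
        (piece_normalized hA hAW hF.1)
        (inf_eq_bot_of_coprime_card ((Sig.coprime_card hA ((hp.out.coprime_iff_not_dvd).1 hco.symm)).coprime_dvd_right
          (Subgroup.card_dvd_of_le (inf_le_left.trans inf_le_left))))
        inf_le_left (le_normalizer_inf_of_le (piece_normalized hA hAW hF.1) hAW')
        ((Sig.coprime_card hA ((hp.out.coprime_iff_not_dvd).1 hco.symm)).coprime_dvd_right
          (Subgroup.card_dvd_of_le (inf_le_right.trans hW'le)))
        (Or.inl (Sig.isSolvable_of_elementary hA)) (x := (u : G)) hu (fun a ha => by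
          have haC : a ∈ E ⊔ F := hsup.symm ▸ ha
          have haN : ∀ {a : G}, a ∈ A → (a * (u : G) * a⁻¹ : G) ∈ W := fun {a} ha =>
            (Subgroup.mem_normalizer_iff.1 (hAW ha) _).1 u.2
          have hM : ∀ b ∈ E ⊔ F, ∀ hb : b * (u : G) * b⁻¹ ∈ W, π ⟨_, hb⟩ = π u := by
            intro b hbEF hb
            have hEN : E ≤ Subgroup.normalizer (F : Set G) := fun x hx => Subgroup.mem_normalizer_fintype
              fun y hy => by rwa [Sig.comm hA (hE.1 hx) (hF.1 hy), mul_inv_cancel_right]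
            obtain ⟨f, hf, e, he, rfl⟩ := exists_mul_of_mem_sup hEN hbEF
            have hfu : Commute f (u : G) := Subgroup.mem_centralizer_iff.1 (Subgroup.mem_inf.1 hu).2 f hf
            have hfe : Commute f e := Sig.comm hA (hF.1 hf) (hE.1 he)
            have e2 : f * e * (u : G) * (f * e)⁻¹ = e * u * e⁻¹ := by
              rw [hfe.eq]
              calc e * f * (u : G) * (e * f)⁻¹ = e * (f * u) * f⁻¹ * e⁻¹ := by group
                _ = _ := by rw [hfu.eq]; group
            rw [show (⟨_, hb⟩ : W) = cj ⟨e, he⟩ u from Subtype.ext e2]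
            exact hfixE _
          have h1 := hM a haC (haN ha)
          have h2 : π (u⁻¹ * ⟨_, haN ha⟩) = 1 := by rw [map_mul, map_inv, h1, inv_mul_cancel]
          have h3 := (hπW' _).1 h2
          simp only [Subgroup.coe_mul, InvMemClass.coe_inv] at h3
          have h4 : (a * (u : G) * a⁻¹) ∈ K := (Subgroup.mem_normalizer_iff.1 (piece_normalized hA hAW hF.1 ha) _).1 hu
          have h5 : (u : G)⁻¹ * (a * u * a⁻¹) ∈ K ⊓ W' := Subgroup.mem_inf.2 ⟨mul_mem (inv_mem hu) h4, h3⟩
          simpa [mul_assoc] using h5)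
      have hcK : (u : G) * d ∈ K := mul_mem hu hd.1
      have hcW : (u : G) * d ∈ W := hcK.1.1
      refine ⟨⟨_, hcW⟩, ?_, ?_⟩
      · have hcE : (u : G) * d ∈ Subgroup.centralizer (E : Set G) := Subgroup.centralizer_le hE.1 hdc
        exact Subgroup.mem_inf.2 ⟨Subgroup.mem_inf.2 ⟨hcW, mem_delta_of_balance hA hk hbal hF.1
          (le_trans (Nat.pow_le_pow_right hp.out.pos k.le_succ) (card_cocyc hA hk hF)) hE.1 hcK.1.2 hcE⟩, hcE⟩
      · rw [← huΦ, show (⟨_, hcW⟩ : W) = u * ⟨d, hW'le hd.2⟩ from rfl, map_mul,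
          (hπW' ⟨d, hW'le hd.2⟩).2 hd.2, mul_one]
    | h1 =>
      intro h
      rw [show (⟨1, h⟩ : W) = 1 from rfl, map_one]
      exact one_mem _
    | hmul a b ha hb iha ihb =>
      intro hab
      rw [show (⟨a * b, hab⟩ : W) = ⟨a, hsupW ha⟩ * ⟨b, hsupW hb⟩ from rfl, map_mul]
      exact mul_mem (iha (hsupW ha)) (ihb (hsupW hb))
  have hΦz : Φ ⟨z, hzW⟩ = π ⟨z, hzW⟩ ^ Fintype.card E := by
    show ∏ e : E, π (cj e ⟨z, hzW⟩) = _
    rw [Finset.prod_eq_pow_card (b := π ⟨z, hzW⟩) (fun e _ => ?_), Finset.card_univ]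
    congr 1
    exact Subtype.ext (by
      show (e : G) * z * (e : G)⁻¹ = z
      rw [Subgroup.mem_centralizer_iff.1 hzE e e.2, mul_inv_cancel_right])
  have hpow : π ⟨z, hzW⟩ ∈ V.map π := by
    obtain ⟨n, hn⟩ := IsPGroup.iff_card.1 hEp
    have hc : (Fintype.card E).Coprime (orderOf (π ⟨z, hzW⟩)) := by
      rw [← Nat.card_eq_fintype_card, hn]
      refine (Nat.Coprime.symm ?_).pow_left n
      exact (hco.coprime_dvd_left (Subgroup.orderOf_dvd_natCard _ hzW)).coprime_dvd_left
        ((orderOf_map_dvd π _).trans (by rw [← Subgroup.orderOf_coe]))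
    obtain ⟨m, hm⟩ := exists_pow_eq_self_of_coprime hc
    rw [← hm]
    exact pow_mem (hΦz ▸ hΦ _) m
  obtain ⟨v, hv, hve⟩ := hpow
  have hvP : (v : G) ∈ piece p W E := hv
  have hzv : z * (v : G)⁻¹ ∈ W' ⊓ Subgroup.centralizer (E : Set G) := by
    refine Subgroup.mem_inf.2 ⟨?_, mul_mem hzE (inv_mem hvP.2)⟩
    have := (hπW' (⟨z, hzW⟩ * v⁻¹)).1 (by rw [map_mul, map_inv, hve, mul_inv_cancel])
    exact this
  simpa using mul_mem (hW'good E hE hzv) hvP.1.2

/-- The functor of a `k`-balanced group. -/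
theorem functor (hsolv : ∀ a ∈ A, a ≠ 1 → Group.IsSolvable ↥(Cfsg.centralizerPPrimeCore p a)) :
    Cfsg.IsSignalizerFunctor p A (fun a => ⨆ D : {D : Subgroup G // D ≤ A ∧ Nat.card ↥D = p ^ k},
      Cfsg.signalizerDelta p (D : Subgroup G) ⊓ Subgroup.centralizer {a}) := by
  haveI := hA.1
  set θ := fun a => ⨆ D : {D : Subgroup G // D ≤ A ∧ Nat.card ↥D = p ^ k},
      Cfsg.signalizerDelta p (D : Subgroup G) ⊓ Subgroup.centralizer {a} with hθ
  have hDelem : ∀ D : Subgroup G, D ≤ A → Cfsg.IsElementaryAbelian p D := fun D hD =>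
    ⟨⟨⟨fun a b => Subtype.ext (Sig.comm hA (hD a.2) (hD b.2))⟩⟩, fun a ha => hA.2 a (hD ha)⟩
  have hle : ∀ a ∈ A, a ≠ 1 → θ a ≤ Cfsg.centralizerPPrimeCore p a := fun a ha ha1 => iSup_le fun D =>
    hbal D (hDelem D D.2.1) D.2.2 a (orderOf_eq_prime (hA.2 a ha) ha1) (fun d hd => Sig.comm hA (D.2.1 hd) ha)
  have hco : ∀ a ∈ A, a ≠ 1 → (Nat.card (θ a)).Coprime p := fun a ha ha1 => by
    refine Nat.Coprime.coprime_dvd_left (Subgroup.card_dvd_of_le (hle a ha ha1)) ?_
    rw [Cfsg.centralizerPPrimeCore, Subgroup.card_map_of_injective (Subgroup.subtype_injective _)]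
    exact pPrimeCore_coprime _ p
  have hinv : ∀ a ∈ A, A ≤ Subgroup.normalizer (θ a : Set G) := fun a ha b hb => by
    refine mem_normalizer_of_conj_smul_eq (Subgroup.eq_of_le_of_card_ge ?_ (by rw [card_conj_smul]))
    rw [conj_smul_eq_map, hθ, Subgroup.map_iSup]
    refine iSup_le fun D => le_trans (le_of_eq ?_) (le_iSup (fun D : {D : Subgroup G // D ≤ A ∧ Nat.card ↥D = p ^ k} =>
      Cfsg.signalizerDelta p (D : Subgroup G) ⊓ Subgroup.centralizer {a}) D)
    rw [← conj_smul_eq_map]
    refine conj_smul_eq_self_of_mem_normalizer (le_normalizer_inf_of_le (delta_normalized hA D.2.1) ?_ hb)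
    intro c hc
    refine Subgroup.mem_normalizer_fintype fun u hu => ?_
    rw [SetLike.mem_coe, Subgroup.mem_centralizer_singleton_iff] at hu ⊢
    have h1 : Commute c a := Sig.comm hA hc ha
    exact (((h1.mul_left hu).mul_left h1.inv_left)).eq
  refine ⟨fun a ha ha1 => iSup_le fun D => inf_le_right,
    fun a ha ha1 => hp.out.coprime_iff_not_dvd.1 (hco a ha ha1).symm,
    fun a ha ha1 b hb x hx => (Subgroup.mem_normalizer_iff.1 (hinv a ha hb) x).1 hx,
    fun a ha ha1 b hb hb1 => ?_⟩
  set W := θ a with hW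
  haveI := hsolv a ha ha1
  haveI hWs : Group.IsSolvable W := isSolvable_of_le (hle a ha ha1)
  have hcopA : (Nat.card A).Coprime (Nat.card W) :=
    Sig.coprime_card hA (hp.out.coprime_iff_not_dvd.1 (hco a ha ha1).symm)
  have hgen : W ≤ ⨆ E : {E : Subgroup G // Cocyc A E}, piece p W (E : Subgroup G) := by
    refine iSup_le fun D => ?_
    have hDle : Cfsg.signalizerDelta p (D : Subgroup G) ⊓ Subgroup.centralizer {a} ≤ W :=
      le_iSup (fun D : {D : Subgroup G // D ≤ A ∧ Nat.card ↥D = p ^ k} =>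
      Cfsg.signalizerDelta p (D : Subgroup G) ⊓ Subgroup.centralizer {a}) D
    refine le_of_cocyclic_centralizers (A := A) ?_ (hcopA.coprime_dvd_right (Subgroup.card_dvd_of_le hDle))
      fun B hB hBc z hz => ?_
    · refine le_normalizer_inf_of_le (delta_normalized hA D.2.1) fun c hc => ?_
      refine Subgroup.mem_normalizer_fintype fun u hu => ?_
      rw [SetLike.mem_coe, Subgroup.mem_centralizer_singleton_iff] at hu ⊢
      have h1 : Commute c a := Sig.comm hA hc ha
      exact (((h1.mul_left hu).mul_left h1.inv_left)).eq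
    · exact Subgroup.mem_iSup_of_mem (⟨B, hB, hBc⟩ : {E : Subgroup G // Cocyc A E})
        (Subgroup.mem_inf.2 ⟨Subgroup.mem_inf.2 ⟨hDle hz.1,
          mem_delta_of_balance hA hk hbal D.2.1 D.2.2.ge hB hz.1.1 hz.2⟩, hz.2⟩)
  have hfix := fixed_le_delta hA hk hbal W (hinv a ha) hWs (hco a ha ha1) hgen
  refine le_of_cocyclic_centralizers (A := A) ?_ (hcopA.coprime_dvd_right (Subgroup.card_dvd_of_le inf_le_left))
    fun B hB hBc z hz => ?_
  · refine le_normalizer_inf_of_le (hinv a ha) fun c hc => ?_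
    refine Subgroup.mem_normalizer_fintype fun u hu => ?_
    rw [SetLike.mem_coe, Subgroup.mem_centralizer_singleton_iff] at hu ⊢
    have h1 : Commute c b := Sig.comm hA hc hb
    exact (((h1.mul_left hu).mul_left h1.inv_left)).eq
  · obtain ⟨D, hDB, hDc, -⟩ := exists_sub hA hB
      (le_trans (Nat.pow_le_pow_right hp.out.pos k.le_succ) (card_cocyc hA hk ⟨hB, hBc⟩))
    exact Subgroup.mem_iSup_of_mem (⟨D, hDB.trans hB, hDc⟩ : {D : Subgroup G // D ≤ A ∧ Nat.card ↥D = p ^ k})
      (Subgroup.mem_inf.2 ⟨delta_mono hDB (hfix B ⟨hB, hBc⟩ ⟨hz.1.1, hz.2⟩), hz.1.2⟩)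

end CfsgLib.Solv.KBal
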