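import Cfsg.Agent.Solv.LBalanceCore
import Cfsg.Agent.Solv.PCompLayer
import Cfsg.Agent.Solv.CompBasic

/-!
`L`-balance at the prime 2.
-/

set_option autoImplicit false
set_option linter.style.haveILetI false
set_option linter.unusedSectionVars false

open scoped commutatorElement Pointwise

namespace CfsgLib.Solv.LBal

open CfsgLib.Solv

universe u

variable {X : Type u} [Group X] [Finite X]

/-- The 2-elements over the layer of `X / O(X)` lie in the 2-layer. -/
theorem two_mem_pLayer [(Cfsg.pPrimeCore 2 X).Normal] {g : X} {k : ℕ} (hg : orderOf g = 2 ^ k)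
    (h : QuotientGroup.mk' (Cfsg.pPrimeCore 2 X) g ∈ Cfsg.layer (X ⧸ Cfsg.pPrimeCore 2 X)) :
    g ∈ Cfsg.pLayer 2 X := by
  set π := QuotientGroup.mk' (Cfsg.pPrimeCore 2 X) with hπ
  set L := Cfsg.pLayer 2 X with hL
  have hone : ∀ (K : Subgroup X), K.IsSubnormal → ∀ x : X, π x ∈ K.map π → (∃ j, orderOf x = 2 ^ j) → x ∈ K := by
    rintro K hK x hx ⟨j, hj⟩
    set M := (K.map π).comap π
    have hKM : K ≤ M := Subgroup.le_comap_map _ _
    refine Cfsg.Agent.S1887.pelem_mem_of_subnormal (p := 2) (G := ↥M) hK.subgroupOf (fun hd => ?_) ⟨x, show x ∈ M from hx⟩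
      ⟨j, (Subgroup.orderOf_coe (⟨x, hx⟩ : M)).symm.trans hj⟩
    have h1 : M ≤ K ⊔ Cfsg.pPrimeCore 2 X := by
      show (K.map π).comap π ≤ _
      rw [Subgroup.comap_map_eq, QuotientGroup.ker_mk']
    have h2 : Nat.card K * K.relIndex M ∣ Nat.card K * Nat.card (Cfsg.pPrimeCore 2 X) := by
      rw [relIndex_mul_card hKM]
      exact (Subgroup.card_dvd_of_le h1).trans (card_sup_dvd_mul K _)
    exact not_dvd_card_pPrimeCore (hd.trans ((Nat.mul_dvd_mul_iff_left Nat.card_pos).mp h2))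
  have hmap : L.map π = Cfsg.layer (X ⧸ Cfsg.pPrimeCore 2 X) := by
    refine le_antisymm (Subgroup.map_le_iff_le_comap.2 (sSup_le fun K hK => Subgroup.map_le_iff_le_comap.1
      (CfsgLib.Inv.component_le_layer hK.2.1))) (sSup_le fun Kbar hKbar => ?_)
    obtain ⟨K, hK, he⟩ := exists_pComp_over hKbar
    rw [← he]
    exact Subgroup.map_mono (le_sSup hK)
  have hON : Cfsg.pPrimeCore 2 X ≤ Subgroup.normalizer (L : Set X) := by
    intro o ho
    refine Subgroup.mem_normalizer_fintype fun x hx => ?_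
    have hle : L ≤ L.comap (MulAut.conj o).toMonoidHom := by
      refine sSup_le fun K hK => ?_
      rw [← pComp_closure_pElements hK, Subgroup.closure_le]
      rintro u ⟨hu, j, hj⟩
      refine (le_sSup hK : K ≤ L) (hone K hK.1 _ ⟨u, hu, ?_⟩ ⟨j, ?_⟩)
      · show π u = π (o * u * o⁻¹)
        rw [map_mul, map_mul, map_inv, show π o = 1 from (QuotientGroup.eq_one_iff o).2 ho]
        group
      · show orderOf (MulAut.conj o u) = _
        rw [MulEquiv.orderOf_eq, hj]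
    exact hle hx
  have hgM : g ∈ L ⊔ Cfsg.pPrimeCore 2 X := by
    have : g ∈ (L.map π).comap π := by rw [hmap]; exact h
    rwa [Subgroup.comap_map_eq, QuotientGroup.ker_mk'] at this
  haveI : (L.subgroupOf (L ⊔ Cfsg.pPrimeCore 2 X)).Normal :=
    Subgroup.normal_subgroupOf_of_le_normalizer (sup_le Subgroup.le_normalizer hON)
  refine Cfsg.Agent.S1887.pelem_mem_of_subnormal (p := 2) (G := ↥(L ⊔ Cfsg.pPrimeCore 2 X))
    (U := L.subgroupOf (L ⊔ Cfsg.pPrimeCore 2 X)) (Subgroup.Normal.isSubnormal inferInstance) (fun hd => ?_)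
    ⟨g, hgM⟩ ⟨k, by rw [Subgroup.orderOf_mk, hg]⟩
  have h2 : Nat.card L * L.relIndex (L ⊔ Cfsg.pPrimeCore 2 X) ∣ Nat.card L * Nat.card (Cfsg.pPrimeCore 2 X) := by
    rw [relIndex_mul_card le_sup_left]
    exact card_sup_dvd_mul L _
  exact not_dvd_card_pPrimeCore (hd.trans ((Nat.mul_dvd_mul_iff_left Nat.card_pos).mp h2))

/-- Elements fixed modulo an odd normal subgroup come from the centralizer. -/
theorem exists_centralizer_lift {N T : Subgroup X} [hNn : N.Normal] (hN : Odd (Nat.card N))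
    (hT : IsPGroup 2 T) {x : X} (hx : ∀ t ∈ T, ⁅x, t⁆ ∈ N) :
    ∃ o ∈ N, o⁻¹ * x ∈ Subgroup.centralizer (T : Set X) := by
  set Y := MulAut.conj x • T with hY
  have hNN : ∀ K : Subgroup X, K ≤ Subgroup.normalizer (N : Set X) := fun K => by
    rw [Subgroup.normalizer_eq_top]; exact le_top
  have hYle : Y ≤ T ⊔ N := fun y hy => by
    rw [hY, mem_conj_smul_iff] at hy
    rw [show y = ⁅x, x⁻¹ * y * x⁆ * (x⁻¹ * y * x) by rw [commutatorElement_def]; group]
    exact mul_mem (Subgroup.mem_sup_right (hx _ hy)) (Subgroup.mem_sup_left hy)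
  have hc1 : (Nat.card T).Coprime (Nat.card N) := by
    obtain ⟨n, hn⟩ := IsPGroup.iff_card.1 hT
    rw [hn]; exact (Nat.coprime_two_left.2 hN).pow_left n
  have hc2 : (Nat.card Y).Coprime (Nat.card N) := by rwa [hY, card_conj_smul]
  have hsup : T ⊔ N = Y ⊔ N := (Subgroup.eq_of_le_of_card_ge (sup_le hYle le_sup_right) (by
    rw [card_sup_of_le_normalizer (hNN T) hc1, card_sup_of_le_normalizer (hNN Y) hc2, hY, card_conj_smul])).symm
  haveI := hT.isNilpotent
  obtain ⟨g, hg, hgY⟩ := conj_complement_in_sup' (hNN T) (hNN Y) hsup hc1 hc2 (Or.inr inferInstance)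
  obtain ⟨o, ho, r, hrT, rfl⟩ := exists_mul_of_mem_sup (hNN T) hg
  rw [map_mul, mul_smul, conj_smul_eq_self_of_mem_normalizer (Subgroup.le_normalizer hrT)] at hgY
  refine ⟨o, ho, Subgroup.mem_centralizer_iff.2 fun t ht => ?_⟩
  have h1 : x * t * x⁻¹ ∈ MulAut.conj o • T := by
    rw [hgY, hY, mem_conj_smul_iff]; simpa [mul_assoc] using ht
  rw [mem_conj_smul_iff] at h1
  have h2 : ⁅o⁻¹ * x, t⁆ ∈ T := by
    rw [show ⁅o⁻¹ * x, t⁆ = o⁻¹ * (x * t * x⁻¹) * o * t⁻¹ by rw [commutatorElement_def]; group]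
    exact mul_mem h1 (inv_mem ht)
  have h3 : ⁅o⁻¹ * x, t⁆ ∈ N := by
    rw [show ⁅o⁻¹ * x, t⁆ = o⁻¹ * ⁅x, t⁆ * (t * o * t⁻¹) by simp only [commutatorElement_def]; group]
    exact mul_mem (mul_mem (inv_mem ho) (hx t ht)) (hNn.conj_mem o ho t)
  have h4 := CfsgLib.Inv.eq_one_of_odd_of_mem_pGroup hT h2 (CfsgLib.Inv.odd_orderOf_of_mem hN h3)
  exact (commutatorElement_eq_one_iff_mul_comm.1 h4).symm

/-- A perfect subgroup of `F*` lies in the layer. -/
theorem le_layer_of_perfect {K : Subgroup X} (hK : ⁅K, K⁆ = K)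
    (hle : K ≤ Cfsg.generalizedFittingSubgroup X) : K ≤ Cfsg.layer X := by
  rw [← derivedSeries_genFitting_eq_layer]
  refine le_iInf fun n => ?_
  induction n with
  | zero => rw [derivedSeries_zero, ← MonoidHom.range_eq_map, Subgroup.range_subtype]; exact hle
  | succ n ih =>
    rw [derivedSeries_succ, Subgroup.map_commutator]
    exact hK.ge.trans (Subgroup.commutator_mono ih ih)

/-- `L`-balance at the prime 2. -/
theorem lBalance (T : Subgroup X) (hT : IsPGroup 2 ↥T) :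
    (Cfsg.pLayer 2 ↥(Subgroup.centralizer (T : Set X))).map (Subgroup.centralizer (T : Set X)).subtype ≤
      Cfsg.pLayer 2 X := by
  classical
  set C := Subgroup.centralizer (T : Set X) with hC
  rw [Subgroup.map_le_iff_le_comap]
  refine sSup_le fun K hK => ?_
  haveI := pPrimeCore_normal X 2
  haveI := pPrimeCore_normal C 2
  set O := Cfsg.pPrimeCore 2 X with hO
  have hOodd : Odd (Nat.card O) := CfsgLib.Base.ZStar.odd_card_oddCore
  set π := QuotientGroup.mk' O with hπ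
  set Tb := T.map π with hTb
  set Cb := Subgroup.centralizer (Tb : Set (X ⧸ O)) with hCb
  have hfmem : ∀ c : C, π c ∈ Cb := fun c => by
    rw [hCb, Subgroup.mem_centralizer_iff]
    rintro _ ⟨t, ht, rfl⟩
    rw [← map_mul, ← map_mul, Subgroup.mem_centralizer_iff.1 c.2 t ht]
  let f : C →* Cb := (π.comp C.subtype).codRestrict Cb hfmem
  have hf : Function.Surjective f := by
    rintro ⟨y, hy⟩
    obtain ⟨x, rfl⟩ := QuotientGroup.mk'_surjective O y
    obtain ⟨o, ho, hox⟩ := exists_centralizer_lift (N := O) hOodd hT (x := x) fun t ht => by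
      refine (QuotientGroup.eq_one_iff _).1 ?_
      show π ⁅x, t⁆ = 1
      rw [map_commutatorElement, commutatorElement_eq_one_iff_mul_comm]
      exact (Subgroup.mem_centralizer_iff.1 hy _ ⟨t, ht, rfl⟩).symm
    refine ⟨⟨_, hox⟩, Subtype.ext ?_⟩
    show π (o⁻¹ * x) = π x
    rw [map_mul, map_inv, show π o = 1 from (QuotientGroup.eq_one_iff o).2 ho, inv_one, one_mul]
  set ρ := QuotientGroup.mk' (Cfsg.pPrimeCore 2 C) with hρ
  have hker : f.ker ≤ ρ.ker := by
    rw [hρ, QuotientGroup.ker_mk']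
    refine le_pPrimeCore (N := f.ker) (Nat.coprime_two_right.2 ?_)
    refine Odd.of_dvd_nat hOodd ?_
    rw [← Subgroup.card_map_of_injective C.subtype_injective]
    refine Subgroup.card_dvd_of_le ?_
    rintro _ ⟨c, hc, rfl⟩
    exact (QuotientGroup.eq_one_iff _).1 (congrArg Subtype.val (show f c = 1 from hc))
  let φ : Cb →* C ⧸ Cfsg.pPrimeCore 2 C := MonoidHom.liftOfSurjective f hf ⟨ρ, hker⟩
  have hφ : ∀ c, φ (f c) = ρ c := fun c =>
    MonoidHom.liftOfRightInverse_comp_apply f _ _ ⟨ρ, hker⟩ c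
  have hφs : Function.Surjective φ := fun q => by
    obtain ⟨c, rfl⟩ := QuotientGroup.mk'_surjective _ q
    exact ⟨f c, hφ c⟩
  have hφk : φ.ker = (Cfsg.pPrimeCore 2 C).map f := by
    ext y
    obtain ⟨c, rfl⟩ := hf y
    rw [MonoidHom.mem_ker, hφ]
    constructor
    · exact fun h => ⟨c, (QuotientGroup.eq_one_iff c).1 h, rfl⟩
    · rintro ⟨d, hd, he⟩
      rw [← hφ, ← he, hφ]
      exact (QuotientGroup.eq_one_iff d).2 hd
  have hφodd : Odd (Nat.card φ.ker) := by
    rw [hφk]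
    exact Odd.of_dvd_nat CfsgLib.Base.ZStar.odd_card_oddCore (Subgroup.card_map_dvd _ _)
  have hcore : Cfsg.oddCore (X ⧸ O) = ⊥ := CfsgLib.Fus.pPrimeCore_quotient_eq_bot 2
  have hgenK := pComp_closure_pElements hK
  have hgenKb : Subgroup.closure {q | q ∈ K.map ρ ∧ ∃ k, orderOf q = 2 ^ k} = K.map ρ := by
    refine le_antisymm ((Subgroup.closure_le _).2 fun q hq => hq.1) ?_
    conv_lhs => rw [← hgenK]
    rw [MonoidHom.map_closure]
    refine Subgroup.closure_mono ?_
    rintro _ ⟨c, ⟨hc, j, hj⟩, rfl⟩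
    refine ⟨⟨c, hc, rfl⟩, ?_⟩
    obtain ⟨i, -, hi⟩ := (Nat.dvd_prime_pow Nat.prime_two).1 (hj ▸ orderOf_map_dvd ρ c)
    exact ⟨i, hi⟩
  set F := Cfsg.generalizedFittingSubgroup (X ⧸ O) with hF
  haveI hFn : F.Normal := CfsgLib.Inv.genFitting_normal
  have hFC : Subgroup.centralizer (F : Set (X ⧸ O)) ≤ F := CfsgLib.Inv.centralizer_genFitting_le
  rcases core (X := X ⧸ O) (C := Cb) φ hcore (hT.map π) hCb hφs hφodd hK.2.1 hgenKb F with h | ⟨H, hH, hne, hHF⟩
  swap
  · exfalso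
    refine hne (le_bot_iff.1 ?_)
    rw [← hH, Subgroup.commutator_le]
    intro a ha b hb
    rw [Subgroup.mem_bot, commutatorElement_eq_one_iff_mul_comm]
    exact (Subgroup.mem_centralizer_iff.1 (hHF ha) b (hFC (hHF hb))).symm
  have htwo : ∀ g ∈ K, ∀ j, orderOf g = 2 ^ j → π g ∈ F := by
    intro g hg j hj
    obtain ⟨y, hyF, hy⟩ := h ⟨g, hg, rfl⟩
    have hyF' : (y : X ⧸ O) ∈ F := hyF
    have hd : y⁻¹ * f g ∈ φ.ker := by
      rw [MonoidHom.mem_ker, map_mul, map_inv, hy, hφ]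
      exact inv_mul_cancel _
    set ν := QuotientGroup.mk' F
    have h1 : ν (π g) = ν ((y⁻¹ * f g : Cb) : X ⧸ O) := by
      rw [Subgroup.coe_mul, InvMemClass.coe_inv, map_mul, map_inv,
        show ν (y : X ⧸ O) = 1 from (QuotientGroup.eq_one_iff _).2 hyF', inv_one, one_mul]
      rfl
    refine (QuotientGroup.eq_one_iff _).1 (CfsgLib.Inv.eq_one_of_odd_of_mem_pGroup
      ((isPGroup_zpowers (x := (g : X)) (k := j) (by rw [Subgroup.orderOf_coe, hj])).map (ν.comp π))
      ⟨g, Subgroup.mem_zpowers _, rfl⟩ ?_)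
    show Odd (orderOf (ν (π g)))
    rw [h1]
    refine Odd.of_dvd_nat ?_ (orderOf_map_dvd ν _)
    rw [Subgroup.orderOf_coe]
    exact CfsgLib.Inv.odd_orderOf_of_mem hφodd hd
  set K' := K.map (π.comp C.subtype) with hK'
  have hKF : K' ≤ F := by
    rw [hK', Subgroup.map_le_iff_le_comap, ← hgenK, Subgroup.closure_le]
    rintro g ⟨hg, j, hj⟩
    exact htwo g hg j hj
  have hK'p : ⁅K', K'⁆ = K' := by rw [hK', ← Subgroup.map_commutator, pComp_perfect hK]
  have hlay := le_layer_of_perfect hK'p hKF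
  rw [← hgenK, Subgroup.closure_le]
  rintro g ⟨hg, j, hj⟩
  exact two_mem_pLayer (k := j) (show orderOf (g : X) = 2 ^ j by rw [Subgroup.orderOf_coe, hj])
    (hlay ⟨g, hg, rfl⟩)

end CfsgLib.Solv.LBal
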