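import Cfsg.Agent.Solv.CompBalance

/-!
A component of the centralizer of an involution inside the layer.
-/

set_option autoImplicit false
set_option linter.style.haveILetI false
set_option linter.unusedSectionVars false

open scoped commutatorElement

namespace CfsgLib.Solv.Tricho

variable {X : Type*} [Group X] [Finite X]

theorem mem_map_conj {t : X} {D : Subgroup X} {d : X} (hd : d ∈ D) :
    t * d * t⁻¹ ∈ D.map (MulAut.conj t).toMonoidHom := ⟨d, hd, rfl⟩

theorem trichotomy {t : X} (ht : t * t = 1) {L : Subgroup X}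
    (hLt : L ≤ Subgroup.centralizer ({t} : Set X))
    (hL : Cfsg.IsComponent (L.subgroupOf (Subgroup.centralizer ({t} : Set X))))
    (hLE : L ≤ Cfsg.layer X) :
    ∃ D : Subgroup X, Cfsg.IsComponent D ∧ (L ≤ D ∨ (D.map (MulAut.conj t).toMonoidHom ≠ D ∧
      (∀ d ∈ D, d * (t * d * t⁻¹) ∈ L) ∧ ∀ l ∈ L, ∃ d ∈ D, l = d * (t * d * t⁻¹))) := by
  classical
  set C := Subgroup.centralizer ({t} : Set X) with hC
  set Hh := C ⊓ Cfsg.layer X with hHh
  have hLH : L ≤ Hh := le_inf hLt hLE
  have hLc : Cfsg.IsComponent (L.subgroupOf Hh) := by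
    haveI := CfsgLib.Inv.quasisimple_nontrivial hL.2
    have h := CfsgLib.Inv.isComponent_subgroupOf (H := Hh.subgroupOf C) hL
      (Subgroup.comap_mono hLH : L.subgroupOf C ≤ Hh.subgroupOf C)
    have h2 := CfsgLib.Inv.isComponent_map (Subgroup.subgroupOfEquivOfLe (inf_le_left : Hh ≤ C)) h
    convert h2 using 1
    ext x
    constructor
    · intro hx
      exact ⟨⟨⟨x, x.2.1⟩, x.2⟩, hx, rfl⟩
    · rintro ⟨y, hy, rfl⟩
      exact hy
  have hLperf : ⁅L, L⁆ = L := by
    have h := CfsgLib.Inv.component_commutator hLc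
    have := congrArg (Subgroup.map Hh.subtype) h
    rwa [Subgroup.map_commutator, Subgroup.subgroupOf_map_subtype, inf_eq_left.2 hLH] at this
  have hLne : L ≠ ⊥ := fun h => CfsgLib.Inv.component_ne_bot hLc (by rw [h, Subgroup.bot_subgroupOf])
  have hdich : ∀ N : Subgroup X, N ≤ Hh → Hh ≤ Subgroup.normalizer (N : Set X) →
      L ≤ N ∨ ⁅L, N⁆ = ⊥ := by
    intro N hN hn
    haveI : (N.subgroupOf Hh).Normal := (Subgroup.normal_subgroupOf_iff_le_normalizer hN).2 hn
    rcases CfsgLib.Inv.component_le_or_commute hLc (N.subgroupOf Hh) with h | h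
    · left
      intro x hx
      exact h (show (⟨x, hLH hx⟩ : Hh) ∈ L.subgroupOf Hh from hx)
    · right
      have h' := CfsgLib.Inv.map_commutator_eq_bot.2 h
      rwa [Subgroup.subgroupOf_map_subtype, Subgroup.subgroupOf_map_subtype, inf_eq_left.2 hLH,
        inf_eq_left.2 hN] at h'
  -- a component moved by `L`
  obtain ⟨D, hD, hDL⟩ : ∃ D : Subgroup X, Cfsg.IsComponent D ∧ ¬ L ≤ Subgroup.centralizer (D : Set X) := by
    by_contra h
    push Not at h
    have h1 : L ≤ Subgroup.centralizer (Cfsg.layer X : Set X) := by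
      rw [Subgroup.le_centralizer_iff]
      exact sSup_le fun D hD => Subgroup.le_centralizer_iff.1 (h D hD)
    refine hLne ?_
    rw [← hLperf, Subgroup.commutator_eq_bot_iff_le_centralizer]
    exact h1.trans (Subgroup.centralizer_le hLE)
  refine ⟨D, hD, ?_⟩
  have hlayN := CfsgLib.Inv.component_normal_in_layer hD
  set D' := D.map (MulAut.conj t).toMonoidHom with hD'
  have hD'c : Cfsg.IsComponent D' := CfsgLib.Inv.isComponent_conj hD t
  have hlayN' := CfsgLib.Inv.component_normal_in_layer hD'c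
  have htinv : t⁻¹ = t := inv_eq_of_mul_eq_one_right ht
  have hfix : ∀ h ∈ Hh, ∀ d, h * (t * d * t⁻¹) * h⁻¹ = t * (h * d * h⁻¹) * t⁻¹ := by
    intro h hh d
    have hht : h * t = t * h := Subgroup.mem_centralizer_singleton_iff.1 hh.1
    calc h * (t * d * t⁻¹) * h⁻¹ = (h * t) * d * (h * t)⁻¹ := by group
      _ = (t * h) * d * (t * h)⁻¹ := by rw [hht]
      _ = _ := by group
  by_cases hmv : D' = D
  · left
    set N := D ⊓ C with hN
    have hNH : N ≤ Hh := le_inf inf_le_right (inf_le_left.trans (CfsgLib.Inv.component_le_layer hD))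
    have hHN : Hh ≤ Subgroup.normalizer (N : Set X) :=
      le_normalizer_inf_of_le (inf_le_right.trans hlayN) (inf_le_left.trans Subgroup.le_normalizer)
    rcases hdich N hNH hHN with h | h
    · exact h.trans inf_le_left
    exfalso
    refine hDL ?_
    set CD := Subgroup.centralizer (D : Set X) with hCD
    have hDn : D ≤ Subgroup.normalizer (CD : Set X) :=
      Subgroup.le_normalizer.trans (normalizer_le_normalizer_centralizer' D)
    have hlay : Cfsg.layer X ≤ D ⊔ CD := sSup_le fun E hE => by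
      by_cases hED : E = D
      · exact hED ▸ le_sup_left
      · exact le_sup_of_le_right (Subgroup.commutator_eq_bot_iff_le_centralizer.1
          (CfsgLib.Inv.components_commute hE hD hED))
    -- components modulo `C(D)`
    have hdec : ∀ l ∈ L, ∃ d ∈ D, ∃ e ∈ CD, l = d * e ∧ ∀ y ∈ D, Commute (d⁻¹ * (t * d * t⁻¹)) y := by
      intro l hl
      obtain ⟨e, he, d, hd, hlde⟩ := exists_mul_of_mem_sup hDn (hlay (hLE hl))
      have hcomm : e * d = d * e := (Subgroup.mem_centralizer_iff.1 he d hd).symm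
      refine ⟨d, hd, e, he, hlde.trans hcomm, fun y hy => ?_⟩
      have hlt : t * l * t⁻¹ = l := by
        rw [← Subgroup.mem_centralizer_singleton_iff.1 (hLt hl), mul_inv_cancel_right]
      rw [hlde.trans hcomm] at hlt
      have hte : t * e * t⁻¹ ∈ CD := Subgroup.mem_centralizer_iff.2 fun z hz => by
        obtain ⟨z', hz', rfl⟩ : ∃ z' ∈ D, t * z' * t⁻¹ = z := hmv.ge hz
        calc t * z' * t⁻¹ * (t * e * t⁻¹) = t * (z' * e) * t⁻¹ := by group
          _ = t * (e * z') * t⁻¹ := by rw [Subgroup.mem_centralizer_iff.1 he z' hz']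
          _ = t * e * t⁻¹ * (t * z' * t⁻¹) := by group
      have e1 : d⁻¹ * (t * d * t⁻¹) = e * (t * e * t⁻¹)⁻¹ := by
        calc d⁻¹ * (t * d * t⁻¹) = d⁻¹ * (t * (d * e) * t⁻¹) * (t * e * t⁻¹)⁻¹ := by group
          _ = d⁻¹ * (d * e) * (t * e * t⁻¹)⁻¹ := by rw [hlt]
          _ = e * (t * e * t⁻¹)⁻¹ := by group
      rw [e1]
      exact (Subgroup.mem_centralizer_iff.1 (mul_mem he (inv_mem hte)) y hy).symm
    have hcde : ∀ {c e c' e' : X}, c ∈ D → e ∈ CD → c' ∈ D → e' ∈ CD →
        ⁅c * e, c' * e'⁆ = ⁅c, c'⁆ * ⁅e, e'⁆ := by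
      intro c e c' e' hc he hc' he'
      have h1 : ∀ {u v : X}, u ∈ D → v ∈ CD → Commute u v := fun hu hv =>
        Subgroup.mem_centralizer_iff.1 hv _ hu
      rw [commutatorElement_def, commutatorElement_def, commutatorElement_def]
      calc c * e * (c' * e') * (c * e)⁻¹ * (c' * e')⁻¹
          = c * (e * c') * (e' * e⁻¹) * c⁻¹ * e'⁻¹ * c'⁻¹ := by group
        _ = c * (c' * e) * (e' * e⁻¹) * c⁻¹ * e'⁻¹ * c'⁻¹ := by rw [(h1 hc' he).eq]
        _ = c * c' * ((e * e' * e⁻¹) * c⁻¹) * (e'⁻¹ * c'⁻¹) := by group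
        _ = c * c' * (c⁻¹ * (e * e' * e⁻¹)) * (c'⁻¹ * e'⁻¹) := by
          rw [(h1 (inv_mem hc) (mul_mem (mul_mem he he') (inv_mem he))).eq,
            (h1 (inv_mem hc') (inv_mem he')).eq]
        _ = c * c' * c⁻¹ * ((e * e' * e⁻¹) * c'⁻¹) * e'⁻¹ := by group
        _ = c * c' * c⁻¹ * (c'⁻¹ * (e * e' * e⁻¹)) * e'⁻¹ := by
          rw [(h1 (inv_mem hc') (mul_mem (mul_mem he he') (inv_mem he))).eq]
        _ = _ := by group
    have hNn : N ≤ Subgroup.normalizer (CD : Set X) := inf_le_left.trans hDn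
    have hstep : L ≤ N ⊔ CD := by
      rw [← hLperf, Subgroup.commutator_le]
      intro l hl l' hl'
      obtain ⟨d, hd, e, he, rfl, hdz⟩ := hdec l hl
      obtain ⟨d', hd', e', he', rfl, hdz'⟩ := hdec l' hl'
      rw [hcde hd he hd' he']
      refine mul_mem (Subgroup.mem_sup_left (Subgroup.mem_inf.2 ⟨?_, ?_⟩)) (Subgroup.mem_sup_right ?_)
      · rw [commutatorElement_def]
        exact mul_mem (mul_mem (mul_mem hd hd') (inv_mem hd)) (inv_mem hd')
      · rw [hC, Subgroup.mem_centralizer_singleton_iff]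
        set z := d⁻¹ * (t * d * t⁻¹) with hz
        set z' := d'⁻¹ * (t * d' * t⁻¹) with hz'
        have ha : t * d * t⁻¹ = d * z := by rw [hz]; group
        have hb : t * d' * t⁻¹ = d' * z' := by rw [hz']; group
        have htc : t * ⁅d, d'⁆ * t⁻¹ = ⁅d, d'⁆ := by
          have hzd' : z * d' = d' * z := hdz d' hd'
          have hz'd : z' * d⁻¹ = d⁻¹ * z' := hdz' _ (inv_mem hd)
          have hzz' : z * z' = z' * z := hdz z' (by
            rw [hz']; exact mul_mem (inv_mem hd') (hmv.le (mem_map_conj hd')))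
          calc t * ⁅d, d'⁆ * t⁻¹
              = (t * d * t⁻¹) * (t * d' * t⁻¹) * (t * d * t⁻¹)⁻¹ * (t * d' * t⁻¹)⁻¹ := by
                rw [commutatorElement_def]; group
            _ = d * (z * d') * z' * z⁻¹ * d⁻¹ * z'⁻¹ * d'⁻¹ := by rw [ha, hb]; group
            _ = d * d' * (z * z') * z⁻¹ * d⁻¹ * z'⁻¹ * d'⁻¹ := by rw [hzd']; group
            _ = d * d' * (z' * d⁻¹) * z'⁻¹ * d'⁻¹ := by rw [hzz']; group
            _ = ⁅d, d'⁆ := by rw [hz'd, commutatorElement_def]; group
        calc ⁅d, d'⁆ * t = t * ⁅d, d'⁆ * t⁻¹ * t := by rw [htc]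
          _ = t * ⁅d, d'⁆ := by group
      · rw [commutatorElement_def]
        exact mul_mem (mul_mem (mul_mem he he') (inv_mem he)) (inv_mem he')
    have hLN : ∀ l ∈ L, ∀ n ∈ N, n * l = l * n := fun l hl n hn =>
      Subgroup.mem_centralizer_iff.1 (Subgroup.commutator_eq_bot_iff_le_centralizer.1 h hl) n hn
    rw [← hLperf, Subgroup.commutator_le]
    intro l hl l' hl'
    obtain ⟨e, he, c, hc, rfl⟩ := exists_mul_of_mem_sup hNn (hstep hl)
    obtain ⟨e', he', c', hc', rfl⟩ := exists_mul_of_mem_sup hNn (hstep hl')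
    have hcc : c * c' = c' * c := by
      have h1 := hLN _ hl c' hc'
      have hec : c' * e = e * c' := Subgroup.mem_centralizer_iff.1 he c' hc'.1
      refine mul_left_cancel (a := e) ?_
      calc e * (c * c') = e * c * c' := by group
        _ = c' * (e * c) := h1.symm
        _ = (c' * e) * c := by group
        _ = e * (c' * c) := by rw [hec]; group
    rw [show e * c = c * e from (Subgroup.mem_centralizer_iff.1 he c hc.1).symm,
      show e' * c' = c' * e' from (Subgroup.mem_centralizer_iff.1 he' c' hc'.1).symm,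
      hcde hc.1 he hc'.1 he', commutatorElement_eq_one_iff_mul_comm.2 hcc, one_mul, commutatorElement_def]
    exact mul_mem (mul_mem (mul_mem he he') (inv_mem he)) (inv_mem he')
  · right
    refine ⟨hmv, ?_⟩
    have hDD : ∀ a ∈ D, ∀ b ∈ D', a * b = b * a := fun a ha b hb =>
      (Subgroup.mem_centralizer_iff.1 (Subgroup.commutator_eq_bot_iff_le_centralizer.1
        (CfsgLib.Inv.components_commute hD hD'c fun e => hmv e.symm) ha) b hb).symm
    let δ : D →* X := MonoidHom.mk' (fun d => (d : X) * (t * d * t⁻¹)) fun a b => by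
      show (a : X) * b * (t * ((a : X) * b) * t⁻¹) = (a : X) * (t * a * t⁻¹) * ((b : X) * (t * b * t⁻¹))
      calc (a : X) * b * (t * ((a : X) * b) * t⁻¹)
          = (a : X) * ((b : X) * (t * a * t⁻¹)) * (t * b * t⁻¹) := by group
        _ = (a : X) * ((t * a * t⁻¹) * b) * (t * b * t⁻¹) := by rw [hDD b b.2 _ (mem_map_conj a.2)]
        _ = _ := by group
    have hδC : δ.range ≤ Hh := by
      rintro _ ⟨d, rfl⟩
      refine Subgroup.mem_inf.2 ⟨?_, mul_mem (CfsgLib.Inv.component_le_layer hD d.2)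
        (CfsgLib.Inv.component_le_layer hD'c (mem_map_conj d.2))⟩
      rw [hC, Subgroup.mem_centralizer_singleton_iff]
      show (d : X) * (t * d * t⁻¹) * t = t * ((d : X) * (t * d * t⁻¹))
      have := hDD d d.2 _ (mem_map_conj d.2)
      calc (d : X) * (t * d * t⁻¹) * t = (t * d * t⁻¹) * d * t := by rw [this]
        _ = t * ((d : X) * (t⁻¹ * d * t)) := by group
        _ = t * ((d : X) * (t * d * t⁻¹)) := by rw [htinv]
    have hδn : Hh ≤ Subgroup.normalizer (δ.range : Set X) := by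
      refine le_normalizer_iff_forall_conj_mem.2 ?_
      rintro h hh _ ⟨d, rfl⟩
      refine ⟨⟨h * d * h⁻¹, le_normalizer_iff_forall_conj_mem.1 hlayN h hh.2 _ d.2⟩, ?_⟩
      show h * d * h⁻¹ * (t * (h * d * h⁻¹) * t⁻¹) = h * ((d : X) * (t * d * t⁻¹)) * h⁻¹
      rw [← hfix h hh]; group
    have hLle : L ≤ δ.range := by
      refine (hdich _ hδC hδn).resolve_right fun h => hDL ?_
      intro l hl
      refine CfsgLib.Solv.CompBal.centralizes_of_mod_center hD (hlayN (hLE hl)) fun e he => ?_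
      have h1 : l * (e * (t * e * t⁻¹)) * l⁻¹ = e * (t * e * t⁻¹) := by
        have h0 : e * (t * e * t⁻¹) * l = l * (e * (t * e * t⁻¹)) :=
          Subgroup.mem_centralizer_iff.1 (Subgroup.commutator_eq_bot_iff_le_centralizer.1 h hl)
            _ ⟨⟨e, he⟩, rfl⟩
        rw [← h0]
        exact mul_inv_cancel_right _ _
      have h2 : ⁅l, e⁆ = e * ((t * e * t⁻¹) * (l * (t * e * t⁻¹) * l⁻¹)⁻¹) * e⁻¹ := by
        calc ⁅l, e⁆ = l * (e * (t * e * t⁻¹)) * l⁻¹ * (l * (t * e * t⁻¹) * l⁻¹)⁻¹ * e⁻¹ := by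
              rw [commutatorElement_def]; group
          _ = e * (t * e * t⁻¹) * (l * (t * e * t⁻¹) * l⁻¹)⁻¹ * e⁻¹ := by rw [h1]
          _ = _ := by group
      rw [h2]
      have hu : (t * e * t⁻¹) * (l * (t * e * t⁻¹) * l⁻¹)⁻¹ ∈ D' := mul_mem (mem_map_conj he)
        (inv_mem (le_normalizer_iff_forall_conj_mem.1 hlayN' l (hLE hl) _ (mem_map_conj he)))
      rw [hDD e he _ hu, mul_inv_cancel_right]
      exact Subgroup.mem_centralizer_iff.2 fun a ha => hDD a ha _ hu
    have hqs : Cfsg.IsQuasisimple δ.range := CfsgLib.Solv.CompBal.quasisimple_range hD.2 δ fun h =>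
      hLne (le_bot_iff.1 (h ▸ hLle))
    have hsub : (L.subgroupOf δ.range).IsSubnormal := by
      have h1 := hLc.1.subgroupOf (K := δ.range.subgroupOf Hh)
      have h2 := h1.map (Subgroup.subgroupOfEquivOfLe hδC).surjective (f := (Subgroup.subgroupOfEquivOfLe hδC).toMonoidHom)
      convert h2 using 1
      ext x
      constructor
      · intro hx; exact ⟨⟨⟨x, hδC x.2⟩, x.2⟩, hx, rfl⟩
      · rintro ⟨y, hy, rfl⟩; exact hy
    have heq : L.subgroupOf δ.range = ⊤ := by
      refine (CfsgLib.Inv.quasisimple_subnormal hqs hsub).resolve_left fun h => hLne ?_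
      rw [← hLperf, Subgroup.commutator_eq_bot_iff_le_centralizer]
      intro x hx
      refine Subgroup.mem_centralizer_iff.2 fun y hy => ?_
      exact congrArg Subtype.val (Subgroup.mem_center_iff.1
        (h (show (⟨x, hLle hx⟩ : δ.range) ∈ L.subgroupOf δ.range from hx)) ⟨y, hLle hy⟩)
    refine ⟨fun d hd => (Subgroup.subgroupOf_eq_top.1 heq) ⟨⟨d, hd⟩, rfl⟩, fun l hl => ?_⟩
    obtain ⟨⟨d, hd⟩, rfl⟩ := hLle hl
    exact ⟨d, hd, rfl⟩
where
  normalizer_le_normalizer_centralizer' (D : Subgroup X) :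
      Subgroup.normalizer (D : Set X) ≤ Subgroup.normalizer (Subgroup.centralizer (D : Set X) : Set X) := by
    refine le_normalizer_iff_forall_conj_mem.2 fun n hn c hc => Subgroup.mem_centralizer_iff.2 fun k hk => ?_
    have hk' : n⁻¹ * k * n ∈ D := by
      simpa using (Subgroup.mem_normalizer_iff.1 (inv_mem hn) k).1 hk
    calc k * (n * c * n⁻¹) = n * ((n⁻¹ * k * n) * c) * n⁻¹ := by group
      _ = n * (c * (n⁻¹ * k * n)) * n⁻¹ := by rw [Subgroup.mem_centralizer_iff.1 hc _ hk']
      _ = n * c * n⁻¹ * k := by group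

end CfsgLib.Solv.Tricho
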