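import Cfsg.Agent.Solv.CoprimeAction
import Cfsg.Agent.Inv.CharPLocal

/-!
Bender's theorem on primitive pairs: two subgroups, each containing the generalized Fitting
subgroup of the other and meeting in the normalizer of each of their common normal subgroups, have
generalized Fitting subgroups that are `p`-groups for one prime `p`.
-/

set_option autoImplicit false
set_option linter.style.haveILetI false

open scoped Pointwise commutatorElement

namespace CfsgLib.Solv.PrimPair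

open CfsgLib.Solv

universe u

variable {G : Type u} [Group G] [Finite G]

/-- `O_p(M)` as a subgroup of the ambient group. -/
abbrev core (p : ℕ) (M : Subgroup G) : Subgroup G := (Cfsg.pCore p ↥M).map M.subtype

/-- `F*(M)` as a subgroup of the ambient group. -/
abbrev star (M : Subgroup G) : Subgroup G := (Cfsg.generalizedFittingSubgroup ↥M).map M.subtype

/-- A `p`-element of the Fitting subgroup lies in the `p`-core. -/
theorem pElem_mem_pCore {H : Type*} [Group H] [Finite H] {p : ℕ} [hp : Fact p.Prime] {x : H}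
    (hx : x ∈ Cfsg.fittingSubgroup H) (hord : ∃ k, orderOf x = p ^ k) : x ∈ Cfsg.pCore p H := by
  set F := Cfsg.fittingSubgroup H
  haveI := fittingSubgroup_isNilpotent (G := H)
  haveI : F.Normal := fittingSubgroup_normal H
  obtain ⟨k, hk⟩ := hord
  obtain ⟨P, hP⟩ := (IsPGroup.of_card (n := k) (by
    rw [Nat.card_zpowers, ← Subgroup.orderOf_coe, hk]) : IsPGroup p (Subgroup.zpowers (⟨x, hx⟩ : F))).exists_le_sylow
  haveI : (P : Subgroup F).Normal :=
    Sylow.normal_of_normalizerCondition Group.normalizerCondition_of_isNilpotent P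
  have h1 : (⟨x, hx⟩ : F) ∈ Cfsg.pCore p F := le_pCore P.isPGroup' (hP (Subgroup.mem_zpowers _))
  have h2 : x ∈ Cfsg.pCore p H ⊓ F := by
    rw [← map_pCore_subtype_eq_inf]
    exact ⟨_, h1, rfl⟩
  exact h2.1

/-- Normal in a subgroup. -/
theorem le_normalizer_map {M : Subgroup G} (N : Subgroup ↥M) [hN : N.Normal] :
    M ≤ Subgroup.normalizer ((N.map M.subtype : Subgroup G) : Set G) := by
  intro m hm
  refine Subgroup.mem_normalizer_fintype ?_
  rintro _ ⟨x, hx, rfl⟩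
  exact ⟨⟨m, hm⟩ * x * ⟨m, hm⟩⁻¹, hN.conj_mem x hx _, rfl⟩

theorem core_isPGroup (p : ℕ) (M : Subgroup G) : IsPGroup p (core p M) := (pCore_isPGroup ↥M p).map _

theorem le_normalizer_core (p : ℕ) (M : Subgroup G) : M ≤ Subgroup.normalizer (core p M : Set G) :=
  haveI := pCore_normal ↥M p
  le_normalizer_map _

theorem core_le_star (p : ℕ) [Fact p.Prime] (M : Subgroup G) : core p M ≤ star M :=
  Subgroup.map_mono (pCore_le_fittingSubgroup.trans CfsgLib.Inv.fitting_le_genFitting)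

theorem commute_of_pGroups {p q : ℕ} [Fact p.Prime] [Fact q.Prime] (hne : p ≠ q) {A B : Subgroup G}
    (hA : IsPGroup p A) (hB : IsPGroup q B) (hAB : A ≤ Subgroup.normalizer (B : Set G))
    (hBA : B ≤ Subgroup.normalizer (A : Set G)) : ∀ a ∈ A, ∀ b ∈ B, Commute a b := by
  intro a ha b hb
  have hd := IsPGroup.disjoint_of_ne p q hne _ _ hA hB
  refine commutatorElement_eq_one_iff_mul_comm.1 (Subgroup.mem_bot.1 (hd.le_bot ⟨?_, ?_⟩))
  · rw [show ⁅a, b⁆ = a * (b * a⁻¹ * b⁻¹) by rw [commutatorElement_def]; group]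
    exact A.mul_mem ha ((Subgroup.mem_normalizer_iff.1 (hBA hb) _).1 (A.inv_mem ha))
  · rw [commutatorElement_def]
    exact B.mul_mem ((Subgroup.mem_normalizer_iff.1 (hAB ha) b).1 hb) (B.inv_mem hb)

variable {M₁ M₂ : Subgroup G}

/-- The layer of one member lies in the layer of the other. -/
theorem layer_le (h₁ : star M₁ ≤ M₂) (h₂ : star M₂ ≤ M₁) :
    (Cfsg.layer ↥M₁).map M₁.subtype ≤ (Cfsg.layer ↥M₂).map M₂.subtype := by
  rw [Subgroup.map_le_iff_le_comap]
  refine sSup_le fun K hK => ?_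
  rw [← Subgroup.map_le_iff_le_comap]
  haveI := CfsgLib.Inv.genFitting_normal (G := ↥M₂)
  have hKS : K ≤ Cfsg.generalizedFittingSubgroup ↥M₁ :=
    (CfsgLib.Inv.component_le_layer hK).trans CfsgLib.Inv.layer_le_genFitting
  set Hd := M₂.subgroupOf M₁ with hHd
  have hKH : K ≤ Hd := fun x hx => h₁ ⟨x, hKS hx, rfl⟩
  set U := ((star M₂).subgroupOf M₁).subgroupOf Hd with hU
  haveI : U.Normal := ⟨fun x hx g => (Subgroup.mem_normalizer_iff.1
    (le_normalizer_map (Cfsg.generalizedFittingSubgroup ↥M₂) g.2) _).1 hx⟩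
  have hLS : K.map M₁.subtype ≤ star M₂ := by
    rcases CfsgLib.Inv.component_le_or_commute (CfsgLib.Inv.isComponent_subgroupOf hK hKH) U with h | h
    · rintro _ ⟨x, hx, rfl⟩
      exact h (show (⟨x, hKH hx⟩ : Hd) ∈ K.subgroupOf Hd from hx)
    · rintro _ ⟨x, hx, rfl⟩
      refine ⟨⟨x, hKH hx⟩, CfsgLib.Inv.centralizer_genFitting_le ?_, rfl⟩
      refine Subgroup.mem_centralizer_iff.2 fun s hs => Subtype.ext ?_
      have h1 := Subgroup.mem_centralizer_iff.1 (Subgroup.commutator_eq_bot_iff_le_centralizer.1 h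
        (show (⟨x, hKH hx⟩ : Hd) ∈ K.subgroupOf Hd from hx)) ⟨⟨s, h₂ ⟨s, hs, rfl⟩⟩, s.2⟩ ⟨s, hs, rfl⟩
      exact congrArg (fun z : Hd => (((z : M₁) : G))) h1
  set S2 := Cfsg.generalizedFittingSubgroup ↥M₂ with hS2
  let j : S2 →* M₁ := MonoidHom.mk' (fun s => ⟨((s : M₂) : G), h₂ ⟨s, s.2, rfl⟩⟩) fun _ _ => rfl
  have hsn : ((K.comap j).map S2.subtype).IsSubnormal :=
    (hK.1.comap j).trans' (CfsgLib.Inv.genFitting_normal (G := ↥M₂)).isSubnormal
  have e : (K.comap j).map S2.subtype = (K.map M₁.subtype).subgroupOf M₂ := by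
    ext z
    constructor
    · rintro ⟨s, hs, rfl⟩
      exact ⟨j s, hs, rfl⟩
    · rintro ⟨x, hx, hxz⟩
      have hz : (z : G) ∈ star M₂ := hLS ⟨x, hx, hxz⟩
      obtain ⟨s, hs, hse⟩ := hz
      have hsz : s = z := Subtype.ext hse
      refine ⟨⟨z, hsz ▸ hs⟩, ?_, rfl⟩
      show j _ ∈ K
      rw [show j ⟨z, hsz ▸ hs⟩ = x from Subtype.ext (show (z : G) = (x : G) from hxz.symm)]
      exact hx
  have hcomp : Cfsg.IsComponent ((K.map M₁.subtype).subgroupOf M₂) := by
    refine ⟨e ▸ hsn, CfsgLib.Inv.quasisimple_congr ?_ hK.2⟩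
    exact (Subgroup.equivMapOfInjective K _ M₁.subtype_injective).trans
      (Subgroup.subgroupOfEquivOfLe (hLS.trans (Subgroup.map_subtype_le _))).symm
  calc K.map M₁.subtype = ((K.map M₁.subtype).subgroupOf M₂).map M₂.subtype :=
        (Subgroup.map_subgroupOf_eq_of_le (hLS.trans (Subgroup.map_subtype_le _))).symm
    _ ≤ _ := Subgroup.map_mono (CfsgLib.Inv.component_le_layer hcomp)

/-- The key step. -/
theorem core_le (h₁ : star M₁ ≤ M₂) (h₂ : star M₂ ≤ M₁) (hlay : Cfsg.layer ↥M₁ = ⊥)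
    (hP₂ : ∀ A : Subgroup G, A ≠ ⊥ → A ≤ M₁ ⊓ M₂ → M₂ ≤ Subgroup.normalizer (A : Set G) →
      M₁ ⊓ Subgroup.normalizer (A : Set G) = M₁ ⊓ M₂)
    {p q : ℕ} [Fact p.Prime] [Fact q.Prime] (hpq : p ≠ q) (hQ : core q M₂ ≠ ⊥) :
    core p M₂ ≤ core p M₁ := by
  by_cases hP : core p M₂ = ⊥
  · rw [hP]; exact bot_le
  have hle : ∀ r : ℕ, [Fact r.Prime] → core r M₂ ≤ M₁ ⊓ M₂ := fun r _ =>
    le_inf ((core_le_star r M₂).trans h₂) (Subgroup.map_subtype_le _)
  have hle1 : ∀ r : ℕ, [Fact r.Prime] → core r M₁ ≤ M₁ ⊓ M₂ := fun r _ =>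
    le_inf (Subgroup.map_subtype_le _) ((core_le_star r M₁).trans h₁)
  have hcc : ∀ r s : ℕ, [Fact r.Prime] → [Fact s.Prime] → r ≠ s →
      ∀ a ∈ core r M₂, ∀ b ∈ core s M₁, Commute a b := fun r s _ _ hrs =>
    commute_of_pGroups hrs (core_isPGroup r M₂) (core_isPGroup s M₁)
      (((hle r).trans inf_le_left).trans (le_normalizer_core s M₁))
      (((hle1 s).trans inf_le_right).trans (le_normalizer_core r M₂))
  set P₁ := core p M₁ with hP₁
  set P₂ := core p M₂ with hP₂'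
  have hPne := hP₂ P₂ hP (hle p) (le_normalizer_core p M₂)
  have hQne := hP₂ (core q M₂) hQ (hle q) (le_normalizer_core q M₂)
  have hfit : Cfsg.generalizedFittingSubgroup ↥M₁ = Cfsg.fittingSubgroup ↥M₁ := by
    rw [Cfsg.generalizedFittingSubgroup, hlay, bot_sup_eq]
  set Hd := M₂.subgroupOf M₁ with hHd
  -- `p'`-elements centralizing `P₁` centralize `P₂`
  have hkey : ∀ r ∈ M₁, (∀ f ∈ P₁, Commute r f) → ¬ p ∣ orderOf r → ∀ t ∈ P₂, Commute r t := by
    intro r hr hrP hrp t ht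
    have htM : t ∈ M₁ := (hle p ht).1
    set a := r * t * r⁻¹ with ha
    set c := a * t⁻¹ with hc
    have haM : a ∈ M₁ := M₁.mul_mem (M₁.mul_mem hr htM) (M₁.inv_mem hr)
    have hcM : c ∈ M₁ := M₁.mul_mem haM (M₁.inv_mem htM)
    have hcent : ∀ s : ℕ, [Fact s.Prime] → ∀ f ∈ core s M₁, Commute c f := by
      intro s _ f hf
      have haf : a * f * a⁻¹ = t * f * t⁻¹ := by
        by_cases hs : p = s
        · subst hs
          have hf' : t * f * t⁻¹ ∈ P₁ := (Subgroup.mem_normalizer_iff.1 (le_normalizer_core p M₁ htM) f).1 hf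
          have e1 : r⁻¹ * f * r = f := by rw [mul_assoc, ← (hrP f hf).eq, inv_mul_cancel_left]
          have e2 : r * (t * f * t⁻¹) * r⁻¹ = t * f * t⁻¹ := by rw [(hrP _ hf').eq, mul_inv_cancel_right]
          calc a * f * a⁻¹ = r * (t * (r⁻¹ * f * r) * t⁻¹) * r⁻¹ := by rw [ha]; group
            _ = _ := by rw [e1, e2]
        · have hf' : r⁻¹ * f * r ∈ core s M₁ := by
            have := (Subgroup.mem_normalizer_iff.1 (le_normalizer_core s M₁ (M₁.inv_mem hr)) f).1 hf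
            rwa [inv_inv] at this
          calc a * f * a⁻¹ = r * (t * (r⁻¹ * f * r) * t⁻¹) * r⁻¹ := by rw [ha]; group
            _ = f := by rw [(hcc p s hs t ht _ hf').eq]; group
            _ = _ := by rw [(hcc p s hs t ht f hf).eq]; group
      show c * f = f * c
      calc c * f = a * ((t⁻¹ * f * t) ) * a⁻¹ * c := by rw [hc]; group
        _ = f * c := by
          have hft : t⁻¹ * f * t ∈ core s M₁ := by
            have := (Subgroup.mem_normalizer_iff.1 (le_normalizer_core s M₁ (M₁.inv_mem htM)) f).1 hf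
            rwa [inv_inv] at this
          have haf' : a * (t⁻¹ * f * t) * a⁻¹ = t * (t⁻¹ * f * t) * t⁻¹ := by
            by_cases hs : p = s
            · subst hs
              have e1 : r⁻¹ * (t⁻¹ * f * t) * r = t⁻¹ * f * t := by
                rw [mul_assoc, ← (hrP _ hft).eq, inv_mul_cancel_left]
              calc a * (t⁻¹ * f * t) * a⁻¹ = r * (t * (r⁻¹ * (t⁻¹ * f * t) * r) * t⁻¹) * r⁻¹ := by rw [ha]; group
                _ = r * f * r⁻¹ := by rw [e1]; group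
                _ = _ := by rw [(hrP f hf).eq]; group
            · have hf' : r⁻¹ * (t⁻¹ * f * t) * r ∈ core s M₁ := by
                have := (Subgroup.mem_normalizer_iff.1 (le_normalizer_core s M₁ (M₁.inv_mem hr)) _).1 hft
                rwa [inv_inv] at this
              calc a * (t⁻¹ * f * t) * a⁻¹ = r * (t * (r⁻¹ * (t⁻¹ * f * t) * r) * t⁻¹) * r⁻¹ := by rw [ha]; group
                _ = t⁻¹ * f * t := by rw [(hcc p s hs t ht _ hf').eq]; group
                _ = _ := by rw [(hcc p s hs t ht _ hft).eq]; group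
          rw [haf']; group
    have hcF : (⟨c, hcM⟩ : M₁) ∈ Cfsg.fittingSubgroup ↥M₁ := by
      rw [← hfit]
      refine CfsgLib.Inv.centralizer_genFitting_le ?_
      rw [hfit, fittingSubgroup_eq_iSup_pCore, Subgroup.mem_centralizer_iff]
      intro z hz
      have hle' : (⨆ s : Nat.Primes, Cfsg.pCore (s : ℕ) ↥M₁) ≤ Subgroup.centralizer {(⟨c, hcM⟩ : M₁)} := by
        refine iSup_le fun s f hf => ?_
        haveI : Fact (Nat.Prime (s : ℕ)) := ⟨s.2⟩
        rw [Subgroup.mem_centralizer_singleton_iff]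
        exact Subtype.ext (hcent (s : ℕ) (f : G) ⟨f, hf, rfl⟩).eq.symm
      exact Subgroup.mem_centralizer_singleton_iff.1 (hle' hz)
    -- `c` is a `p`-element
    have hcD : c ∈ M₂ := h₁ ⟨⟨c, hcM⟩, CfsgLib.Inv.fitting_le_genFitting hcF, rfl⟩
    have htD : t ∈ M₂ := (hle p ht).2
    haveI hFn : ((Cfsg.fittingSubgroup ↥M₁).subgroupOf Hd).Normal :=
      haveI := fittingSubgroup_normal ↥M₁
      Subgroup.normal_subgroupOf
    haveI hP2n : ((P₂.subgroupOf M₁).subgroupOf Hd).Normal := ⟨fun x hx g =>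
      (Subgroup.mem_normalizer_iff.1 (le_normalizer_core p M₂ g.2) _).1 hx⟩
    have hP2p : IsPGroup p ((P₂.subgroupOf M₁).subgroupOf Hd) :=
      ((core_isPGroup p M₂).comap_of_injective _ M₁.subtype_injective).comap_of_injective _ Hd.subtype_injective
    have hcf : (⟨⟨c, hcM⟩, hcD⟩ : Hd) ∈ Cfsg.fittingSubgroup Hd := by
      haveI : Group.IsNilpotent ((Cfsg.fittingSubgroup ↥M₁).subgroupOf Hd) :=
        haveI := fittingSubgroup_isNilpotent (G := ↥M₁)
        Group.nilpotent_of_mulEquiv (Subgroup.subgroupOfEquivOfLe (fun (x : M₁) hx =>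
          (h₁ ⟨x, CfsgLib.Inv.fitting_le_genFitting hx, rfl⟩ : (x : G) ∈ M₂))).symm
      exact le_fittingSubgroup (N := (Cfsg.fittingSubgroup ↥M₁).subgroupOf Hd) inferInstance hcF
    have htc : (⟨⟨t, htM⟩, htD⟩ : Hd) ∈ Cfsg.pCore p Hd := le_pCore hP2p ht
    obtain ⟨k, hk⟩ := IsPGroup.iff_orderOf.1 (core_isPGroup p M₂) ⟨t, ht⟩
    rw [Subgroup.orderOf_mk] at hk
    have hac : (⟨⟨a, haM⟩, by
        show a ∈ M₂
        rw [show a = c * t by rw [hc, inv_mul_cancel_right]]; exact M₂.mul_mem hcD htD⟩ : Hd) ∈ Cfsg.pCore p Hd := by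
      refine pElem_mem_pCore ?_ ⟨k, ?_⟩
      · rw [show (⟨⟨a, haM⟩, _⟩ : Hd) = (⟨⟨c, hcM⟩, hcD⟩ : Hd) * ⟨⟨t, htM⟩, htD⟩ from
          Subtype.ext (Subtype.ext (by show a = c * t; rw [hc, inv_mul_cancel_right]))]
        exact mul_mem hcf (pCore_le_fittingSubgroup htc)
      · rw [← Subgroup.orderOf_coe, ← Subgroup.orderOf_coe]
        show orderOf a = p ^ k
        rw [← hk, ha]
        exact orderOf_injective (MulAut.conj r).toMonoidHom (MulAut.conj r).injective t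
    have hcp : ∃ j, orderOf c = p ^ j := by
      have h3 := mul_mem hac (inv_mem htc)
      obtain ⟨j, hj⟩ := IsPGroup.iff_orderOf.1 (pCore_isPGroup Hd p) ⟨_, h3⟩
      rw [Subgroup.orderOf_mk, ← Subgroup.orderOf_coe, ← Subgroup.orderOf_coe] at hj
      exact ⟨j, hj⟩
    have hcP : c ∈ P₁ := ⟨⟨c, hcM⟩, pElem_mem_pCore hcF (by
      obtain ⟨j, hj⟩ := hcp
      exact ⟨j, by rw [← Subgroup.orderOf_coe]; exact hj⟩), rfl⟩
    have hrc : Commute r c := hrP c hcP
    have hpow : ∀ n : ℕ, r ^ n * t * (r ^ n)⁻¹ = c ^ n * t := by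
      intro n
      induction n with
      | zero => simp
      | succ n ih =>
        calc r ^ (n + 1) * t * (r ^ (n + 1))⁻¹ = r * (r ^ n * t * (r ^ n)⁻¹) * r⁻¹ := by rw [pow_succ']; group
          _ = (r * c ^ n) * t * r⁻¹ := by rw [ih]; group
          _ = c ^ n * (r * t * r⁻¹) := by rw [(hrc.pow_right n).eq]; group
          _ = c ^ n * (c * t) := by rw [show c * t = r * t * r⁻¹ by rw [hc, inv_mul_cancel_right, ha]]
          _ = _ := (mul_assoc _ _ _).symm.trans (by rw [pow_succ])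
    have h4 := hpow (orderOf r)
    rw [pow_orderOf_eq_one, one_mul, inv_one, mul_one, eq_comm, mul_eq_right] at h4
    obtain ⟨j, hj⟩ := hcp
    have hc1 : c = 1 := by
      rw [← orderOf_eq_one_iff]
      exact Nat.eq_one_of_dvd_coprimes (((Fact.out : p.Prime).coprime_iff_not_dvd.2 hrp).pow_left j)
        (hj ▸ dvd_rfl) (orderOf_dvd_of_pow_eq_one h4)
    rw [hc, mul_inv_eq_one, ha, mul_inv_eq_iff_eq_mul] at hc1
    exact hc1
  set X := Subgroup.closure {x | x ∈ M₁ ∧ (∀ f ∈ P₁, Commute x f) ∧ ¬ p ∣ orderOf x} with hX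
  have hXt : ∀ t ∈ P₂, ∀ x ∈ X, Commute x t := by
    intro t ht x hx
    refine Subgroup.mem_centralizer_singleton_iff.1 ((Subgroup.closure_le (Subgroup.centralizer {t})).2 ?_ hx)
    rintro y ⟨hy, hy1, hy2⟩
    exact Subgroup.mem_centralizer_singleton_iff.2 (hkey y hy hy1 hy2 t ht).eq
  have hQX : core q M₂ ≤ X := by
    intro y hy
    refine Subgroup.subset_closure ⟨(hle q hy).1, fun f hf => hcc q p (Ne.symm hpq) y hy f hf, fun hd => ?_⟩
    obtain ⟨j, hj⟩ := IsPGroup.iff_orderOf.1 (core_isPGroup q M₂) ⟨y, hy⟩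
    rw [Subgroup.orderOf_mk] at hj
    rw [hj] at hd
    exact hpq ((Nat.prime_dvd_prime_iff_eq Fact.out Fact.out).1 ((Fact.out : p.Prime).dvd_of_dvd_pow hd))
  set Y := M₁ ⊓ Subgroup.centralizer (X : Set G) with hY
  have hYD : Y ≤ M₁ ⊓ M₂ := by
    rw [← hQne]
    rintro y ⟨hy1, hy2⟩
    refine ⟨hy1, Subgroup.mem_normalizer_fintype fun z hz => ?_⟩
    rwa [← Subgroup.mem_centralizer_iff.1 hy2 z (hQX hz), mul_inv_cancel_right]
  have hP2Y : P₂ ≤ Y := fun t ht => ⟨(hle p ht).1, Subgroup.mem_centralizer_iff.2 fun x hx => (hXt t ht x hx).eq⟩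
  have hXn : ∀ m ∈ M₁, ∀ x ∈ X, m * x * m⁻¹ ∈ X := by
    intro m hm x hx
    have h1 : X ≤ X.comap (MulAut.conj m).toMonoidHom := by
      rw [hX, Subgroup.closure_le]
      rintro y ⟨hy, hy1, hy2⟩
      refine Subgroup.subset_closure ⟨M₁.mul_mem (M₁.mul_mem hm hy) (M₁.inv_mem hm), fun f hf => ?_, ?_⟩
      · have hf' : m⁻¹ * f * m ∈ P₁ := by
          have := (Subgroup.mem_normalizer_iff.1 (le_normalizer_core p M₁ (M₁.inv_mem hm)) f).1 hf
          rwa [inv_inv] at this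
        show m * y * m⁻¹ * f = f * (m * y * m⁻¹)
        calc m * y * m⁻¹ * f = m * (y * (m⁻¹ * f * m)) * m⁻¹ := by group
          _ = _ := by rw [(hy1 _ hf').eq]; group
      · rwa [show orderOf ((MulAut.conj m).toMonoidHom y) = orderOf y from
          orderOf_injective _ (MulAut.conj m).injective y]
    exact h1 hx
  haveI hYn : (Y.subgroupOf M₁).Normal := ⟨fun y hy g => ⟨M₁.mul_mem (M₁.mul_mem g.2 hy.1) (M₁.inv_mem g.2),
    Subgroup.mem_centralizer_iff.2 fun x hx => by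
      have h1 := hXn _ (M₁.inv_mem g.2) x hx
      rw [inv_inv] at h1
      have h2 := Subgroup.mem_centralizer_iff.1 hy.2 _ h1
      show x * ((g : G) * y * (g : G)⁻¹) = (g : G) * y * (g : G)⁻¹ * x
      calc x * ((g : G) * y * (g : G)⁻¹) = g * (((g : G)⁻¹ * x * g) * y) * (g : G)⁻¹ := by group
        _ = g * (M₁.subtype y * ((g : G)⁻¹ * x * g)) * (g : G)⁻¹ := congrArg (fun z => (g : G) * z * (g : G)⁻¹) h2
        _ = _ := by simp only [Subgroup.coe_subtype]; group⟩⟩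
  haveI hn2 : ((P₂.subgroupOf M₁).subgroupOf (Y.subgroupOf M₁)).Normal := ⟨fun x hx g =>
    (Subgroup.mem_normalizer_iff.1 (le_normalizer_core p M₂ (hYD g.2).2) _).1 hx⟩
  have hsn : (P₂.subgroupOf M₁).IsSubnormal := by
    have := hn2.isSubnormal.trans' hYn.isSubnormal
    rwa [Subgroup.map_subgroupOf_eq_of_le (show P₂.subgroupOf M₁ ≤ Y.subgroupOf M₁ from fun z hz => hP2Y hz)] at this
  have hP2p' : IsPGroup p (P₂.subgroupOf M₁) := (core_isPGroup p M₂).comap_of_injective _ M₁.subtype_injective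
  intro t ht
  obtain ⟨k, hk⟩ := IsPGroup.iff_orderOf.1 hP2p' ⟨⟨t, (hle p ht).1⟩, ht⟩
  rw [← Subgroup.orderOf_coe] at hk
  exact ⟨⟨t, (hle p ht).1⟩, pElem_mem_pCore
    (CfsgLib.Inv.subnormal_le_fitting hsn hP2p'.isNilpotent ht) ⟨k, hk⟩, rfl⟩

/-- Bender's theorem. -/
theorem bender (hne : M₁ ≠ M₂)
    (hP : ∀ A : Subgroup G, A ≠ ⊥ → A ≤ M₁ ⊓ M₂ →
      (M₁ ≤ Subgroup.normalizer (A : Set G) → M₂ ⊓ Subgroup.normalizer (A : Set G) = M₁ ⊓ M₂) ∧
      (M₂ ≤ Subgroup.normalizer (A : Set G) → M₁ ⊓ Subgroup.normalizer (A : Set G) = M₁ ⊓ M₂))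
    (h₁ : star M₁ ≤ M₂) (h₂ : star M₂ ≤ M₁) :
    ∃ p : ℕ, p.Prime ∧ Cfsg.generalizedFittingSubgroup ↥M₁ = Cfsg.pCore p ↥M₁ ∧
      Cfsg.generalizedFittingSubgroup ↥M₂ = Cfsg.pCore p ↥M₂ := by
  classical
  -- a common nontrivial normal subgroup is impossible
  have hcommon : ∀ A : Subgroup G, A ≠ ⊥ → A ≤ M₁ ⊓ M₂ → M₁ ≤ Subgroup.normalizer (A : Set G) →
      M₂ ≤ Subgroup.normalizer (A : Set G) → False := by
    intro A hA hle hn1 hn2
    refine hne (le_antisymm ?_ ?_)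
    · have := (hP A hA hle).2 hn2
      rw [inf_eq_left.2 hn1] at this
      exact this.le.trans inf_le_right
    · have := (hP A hA hle).1 hn1
      rw [inf_eq_left.2 hn2] at this
      exact this.le.trans inf_le_left
  have hLeq : (Cfsg.layer ↥M₁).map M₁.subtype = (Cfsg.layer ↥M₂).map M₂.subtype :=
    le_antisymm (layer_le h₁ h₂) (layer_le h₂ h₁)
  haveI := CfsgLib.Inv.layer_normal (G := ↥M₁)
  haveI := CfsgLib.Inv.layer_normal (G := ↥M₂)
  have hL1 : (Cfsg.layer ↥M₁).map M₁.subtype = ⊥ := by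
    by_contra h
    refine hcommon _ h (le_inf (Subgroup.map_subtype_le _) ((Subgroup.map_mono CfsgLib.Inv.layer_le_genFitting).trans h₁))
      (le_normalizer_map _) ?_
    rw [hLeq]; exact le_normalizer_map _
  have hlay1 : Cfsg.layer ↥M₁ = ⊥ := (Subgroup.map_eq_bot_iff_of_injective _ M₁.subtype_injective).1 hL1
  have hlay2 : Cfsg.layer ↥M₂ = ⊥ := (Subgroup.map_eq_bot_iff_of_injective _ M₂.subtype_injective).1 (hLeq ▸ hL1)
  have hP2' : ∀ A : Subgroup G, A ≠ ⊥ → A ≤ M₂ ⊓ M₁ → M₁ ≤ Subgroup.normalizer (A : Set G) →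
      M₂ ⊓ Subgroup.normalizer (A : Set G) = M₂ ⊓ M₁ := fun A hA hle h => by
    rw [inf_comm M₂ M₁]; exact (hP A hA (inf_comm M₂ M₁ ▸ hle)).1 h
  have key : ∀ p q : ℕ, [Fact p.Prime] → [Fact q.Prime] → p ≠ q → core q M₂ ≠ ⊥ → core p M₂ ≤ core p M₁ :=
    fun p q _ _ hpq hQ => core_le h₁ h₂ hlay1 (fun A hA hle h => (hP A hA hle).2 h) hpq hQ
  have key' : ∀ p q : ℕ, [Fact p.Prime] → [Fact q.Prime] → p ≠ q → core q M₁ ≠ ⊥ → core p M₁ ≤ core p M₂ :=
    fun p q _ _ hpq hQ => core_le h₂ h₁ hlay2 hP2' hpq hQ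
  have hsame : ∀ p q : ℕ, [Fact p.Prime] → [Fact q.Prime] → p ≠ q →
      core p M₁ = core p M₂ → core p M₁ ≠ ⊥ → False := fun p q _ _ _ e hp =>
    hcommon _ hp (le_inf (Subgroup.map_subtype_le _) ((core_le_star p M₁).trans h₁))
      (le_normalizer_core p M₁) (e ▸ le_normalizer_core p M₂)
  have honeA : ∀ p q : ℕ, [Fact p.Prime] → [Fact q.Prime] → p ≠ q → core p M₁ ≠ ⊥ → core q M₁ = ⊥ := by
    intro p q _ _ hpq hp
    by_contra hq
    have e1 := key' p q hpq hq
    have e2 := key' q p (Ne.symm hpq) hp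
    exact hsame p q hpq (le_antisymm e1 (key p q hpq fun e => hq (le_bot_iff.1 (e ▸ e2)))) hp
  have honeB : ∀ p q : ℕ, [Fact p.Prime] → [Fact q.Prime] → p ≠ q → core p M₂ ≠ ⊥ → core q M₂ = ⊥ := by
    intro p q _ _ hpq hp
    by_contra hq
    have e1 := key p q hpq hq
    have e2 := key q p (Ne.symm hpq) hp
    exact hsame p q hpq (le_antisymm (key' p q hpq fun e => hq (le_bot_iff.1 (e ▸ e2))) e1)
      (fun e => hp (le_bot_iff.1 (e ▸ e1)))
  have hprime : ∀ M : Subgroup G, Cfsg.layer ↥M = ⊥ → M ≠ ⊥ →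
      ∃ p : ℕ, ∃ _ : Fact p.Prime, core p M ≠ ⊥ := by
    intro M hlay hM
    by_contra hcon
    push Not at hcon
    have hz : Cfsg.generalizedFittingSubgroup ↥M = ⊥ := by
      rw [Cfsg.generalizedFittingSubgroup, hlay, bot_sup_eq, fittingSubgroup_eq_iSup_pCore, eq_bot_iff]
      refine iSup_le fun s => ?_
      exact ((Subgroup.map_eq_bot_iff_of_injective _ M.subtype_injective).1 (hcon (s : ℕ) ⟨s.2⟩)).le
    refine hM ((Subgroup.eq_bot_iff_forall M).2 fun x hx => ?_)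
    have h1 : (⟨x, hx⟩ : M) ∈ Cfsg.generalizedFittingSubgroup ↥M :=
      CfsgLib.Inv.centralizer_genFitting_le (by
        rw [hz, Subgroup.mem_centralizer_iff]
        intro z hz'
        rw [SetLike.mem_coe, Subgroup.mem_bot] at hz'
        rw [hz', one_mul, mul_one])
    rw [hz, Subgroup.mem_bot] at h1
    exact congrArg Subtype.val h1
  have hstar : ∀ (M : Subgroup G) (p : ℕ), [Fact p.Prime] → Cfsg.layer ↥M = ⊥ →
      (∀ q : ℕ, [Fact q.Prime] → q ≠ p → core q M = ⊥) →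
      Cfsg.generalizedFittingSubgroup ↥M = Cfsg.pCore p ↥M := by
    intro M p _ hlay hq
    rw [Cfsg.generalizedFittingSubgroup, hlay, bot_sup_eq]
    refine le_antisymm ?_ pCore_le_fittingSubgroup
    rw [fittingSubgroup_eq_iSup_pCore]
    refine iSup_le fun s => ?_
    haveI : Fact (Nat.Prime (s : ℕ)) := ⟨s.2⟩
    rcases eq_or_ne (s : ℕ) p with hs | hs
    · rw [hs]
    · exact ((Subgroup.map_eq_bot_iff_of_injective _ M.subtype_injective).1 (hq _ hs)).le.trans bot_le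
  have hnb : ∀ M M' : Subgroup G, star M' ≤ M → M ≠ M' → M ≠ ⊥ := by
    rintro M M' hle hne' rfl
    refine hne' ((Subgroup.eq_bot_iff_forall M').2 fun x hx => ?_).symm
    have hz := (Subgroup.map_eq_bot_iff_of_injective _ M'.subtype_injective).1 (le_bot_iff.1 hle)
    have h1 : (⟨x, hx⟩ : M') ∈ Cfsg.generalizedFittingSubgroup ↥M' :=
      CfsgLib.Inv.centralizer_genFitting_le (by
        rw [hz, Subgroup.mem_centralizer_iff]
        intro z hz'
        rw [SetLike.mem_coe, Subgroup.mem_bot] at hz'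
        rw [hz', one_mul, mul_one])
    rw [hz, Subgroup.mem_bot] at h1
    exact congrArg Subtype.val h1
  obtain ⟨p, hpF, hp⟩ := hprime M₁ hlay1 (hnb M₁ M₂ h₂ hne)
  obtain ⟨q, hqF, hq⟩ := hprime M₂ hlay2 (hnb M₂ M₁ h₁ hne.symm)
  have hs1 := hstar M₁ p hlay1 (fun r _ hr => honeA p r (Ne.symm hr) hp)
  have hs2 := hstar M₂ q hlay2 (fun r _ hr => honeB q r (Ne.symm hr) hq)
  rcases eq_or_ne p q with rfl | hpq
  · exact ⟨p, hpF.out, hs1, hs2⟩
  exfalso
  have hcomm := commute_of_pGroups (Ne.symm hpq) (core_isPGroup q M₂) (core_isPGroup p M₁)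
    ((((core_le_star q M₂).trans h₂)).trans (le_normalizer_core p M₁))
    ((((core_le_star p M₁).trans h₁)).trans (le_normalizer_core q M₂))
  have hle : core q M₂ ≤ core p M₁ := by
    intro y hy
    have hyM := ((core_le_star q M₂).trans h₂) hy
    refine ⟨⟨y, hyM⟩, hs1 ▸ CfsgLib.Inv.centralizer_genFitting_le ?_, rfl⟩
    rw [hs1, Subgroup.mem_centralizer_iff]
    exact fun f hf => Subtype.ext (hcomm y hy (f : G) ⟨f, hf, rfl⟩).eq.symm
  exact hq (le_bot_iff.1 ((le_inf le_rfl hle).trans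
    (IsPGroup.disjoint_of_ne q p (Ne.symm hpq) _ _ (core_isPGroup q M₂) (core_isPGroup p M₁)).le_bot))

end CfsgLib.Solv.PrimPair
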