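import Cfsg.Agent.Solv.LBalanceTwo
import Cfsg.Prelude.Def_Balance

/-!
The extended 2-layer.
-/

set_option autoImplicit false
set_option linter.style.haveILetI false
set_option linter.unusedSectionVars false

open scoped commutatorElement Pointwise

namespace CfsgLib.Solv.LBal

open CfsgLib.Solv

universe u

variable {X : Type u} [Group X] [Finite X]

/-- `O(C_X(T))` as a subgroup of `X`. -/
def coreCent (T : Subgroup X) : Subgroup X :=
  (Cfsg.oddCore ↥(Subgroup.centralizer (T : Set X))).map (Subgroup.centralizer (T : Set X)).subtype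

theorem odd_card_coreCent (T : Subgroup X) : Odd (Nat.card (coreCent T)) := by
  rw [coreCent, Subgroup.card_map_of_injective (Subgroup.subtype_injective _)]
  exact CfsgLib.Base.ZStar.odd_card_oddCore

theorem conj_coreCent_le (g : X) (T : Subgroup X) :
    MulAut.conj g • coreCent T ≤ coreCent (MulAut.conj g • T) := by
  set C := Subgroup.centralizer (T : Set X) with hC
  set C' := Subgroup.centralizer ((MulAut.conj g • T : Subgroup X) : Set X) with hC'
  haveI := pPrimeCore_normal C 2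
  have hmem : ∀ c ∈ C, g * c * g⁻¹ ∈ C' := fun c hc => Subgroup.mem_centralizer_iff.2 fun t ht => by
    rw [SetLike.mem_coe, mem_conj_smul_iff] at ht
    have h1 := Subgroup.mem_centralizer_iff.1 hc _ ht
    calc t * (g * c * g⁻¹) = g * ((g⁻¹ * t * g) * c) * g⁻¹ := by group
      _ = g * c * g⁻¹ * t := by rw [h1]; group
  have hmem' : ∀ c ∈ C', g⁻¹ * c * g ∈ C := fun c hc => Subgroup.mem_centralizer_iff.2 fun t ht => by
    have h1 := Subgroup.mem_centralizer_iff.1 hc (g * t * g⁻¹)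
      (mem_conj_smul_iff.2 (by simpa [mul_assoc] using ht))
    calc t * (g⁻¹ * c * g) = g⁻¹ * ((g * t * g⁻¹) * c) * g := by group
      _ = g⁻¹ * c * g * t := by rw [h1]; group
  let N : Subgroup C' := (MulAut.conj g • coreCent T).subgroupOf C'
  haveI hN : N.Normal := ⟨fun n hn c => by
    change (c : X) * n * (c : X)⁻¹ ∈ MulAut.conj g • coreCent T
    change (n : X) ∈ MulAut.conj g • coreCent T at hn
    rw [mem_conj_smul_iff] at hn ⊢
    obtain ⟨d, hd, hde⟩ := hn
    refine ⟨⟨_, hmem' c c.2⟩ * d * ⟨_, hmem' c c.2⟩⁻¹, (pPrimeCore_normal C 2).conj_mem d hd _, ?_⟩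
    show (g⁻¹ * (c : X) * g) * (C.subtype d) * (g⁻¹ * (c : X) * g)⁻¹ = _
    rw [hde]; group⟩
  intro x hx
  have hxC : x ∈ C' := by
    rw [mem_conj_smul_iff] at hx
    obtain ⟨d, -, hde⟩ := hx
    have := hmem d d.2
    rwa [show (d : X) = g⁻¹ * x * g from hde, show g * (g⁻¹ * x * g) * g⁻¹ = x by group] at this
  refine ⟨⟨x, hxC⟩, le_pPrimeCore (N := N) ?_ (show (⟨x, hxC⟩ : C') ∈ N from hx), rfl⟩
  refine Nat.coprime_two_right.2 (Odd.of_dvd_nat (odd_card_coreCent T) ?_)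
  rw [← card_conj_smul g (coreCent T)]
  exact Subgroup.card_dvd_of_injective (C'.subtype.subgroupComap (MulAut.conj g • coreCent T))
    (fun a b h => Subtype.ext (Subtype.ext (congrArg Subtype.val h :)))

/-- 2-elements over the image of a subnormal subgroup lie in it. -/
theorem two_mem_of_map {K : Subgroup X} (hK : K.IsSubnormal) [(Cfsg.pPrimeCore 2 X).Normal] {x : X}
    (hx : QuotientGroup.mk' (Cfsg.pPrimeCore 2 X) x ∈ K.map (QuotientGroup.mk' (Cfsg.pPrimeCore 2 X)))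
    (hj : ∃ j, orderOf x = 2 ^ j) : x ∈ K := by
  obtain ⟨j, hj⟩ := hj
  set π := QuotientGroup.mk' (Cfsg.pPrimeCore 2 X)
  set M := (K.map π).comap π
  have hKM : K ≤ M := Subgroup.le_comap_map _ _
  refine Cfsg.Agent.S1887.pelem_mem_of_subnormal (p := 2) (G := ↥M) hK.subgroupOf (fun hd => ?_) ⟨x, hx⟩
    ⟨j, (Subgroup.orderOf_coe (⟨x, hx⟩ : M)).symm.trans hj⟩
  have h1 : M ≤ K ⊔ Cfsg.pPrimeCore 2 X := by
    show (K.map π).comap π ≤ _
    rw [Subgroup.comap_map_eq, QuotientGroup.ker_mk']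
  have h2 : Nat.card K * K.relIndex M ∣ Nat.card K * Nat.card (Cfsg.pPrimeCore 2 X) := by
    rw [relIndex_mul_card hKM]
    exact (Subgroup.card_dvd_of_le h1).trans (card_sup_dvd_mul K _)
  exact not_dvd_card_pPrimeCore (hd.trans ((Nat.mul_dvd_mul_iff_left Nat.card_pos).mp h2))

/-- The 2-layer is normal. -/
theorem pLayer_normal : (Cfsg.pLayer 2 X).Normal := by
  haveI := pPrimeCore_normal X 2
  haveI := CfsgLib.Inv.layer_normal (G := X ⧸ Cfsg.pPrimeCore 2 X)
  refine ⟨fun n hn g => ?_⟩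
  have hle : Cfsg.pLayer 2 X ≤ (Cfsg.pLayer 2 X).comap (MulAut.conj g).toMonoidHom := by
    refine sSup_le fun K hK => ?_
    rw [← pComp_closure_pElements hK, Subgroup.closure_le]
    rintro u ⟨hu, j, hj⟩
    refine two_mem_pLayer (k := j) (by
      show orderOf (MulAut.conj g u) = _
      rw [MulEquiv.orderOf_eq, hj]) ?_
    show QuotientGroup.mk' _ (g * u * g⁻¹) ∈ _
    rw [map_mul, map_mul, map_inv]
    exact (inferInstance : (Cfsg.layer (X ⧸ Cfsg.pPrimeCore 2 X)).Normal).conj_mem _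
      (CfsgLib.Inv.component_le_layer hK.2.1 ⟨u, hu, rfl⟩) _
  exact hle hn

theorem pPrimePCore_normal : (Cfsg.pPrimePCore 2 X).Normal := by
  haveI := pPrimeCore_normal X 2
  exact (pCore_normal (X ⧸ Cfsg.pPrimeCore 2 X) 2).comap _

theorem layerCore_normal : (Cfsg.pLayer 2 X ⊔ Cfsg.pPrimePCore 2 X).Normal := by
  haveI := pLayer_normal (X := X)
  haveI := pPrimePCore_normal (X := X)
  exact Subgroup.sup_normal _ _

/-- The image in `X` of a Sylow 2-subgroup of `L_{2'}(X) O_{2',2}(X)`. -/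
abbrev imgT (T : Sylow 2 ↥(Cfsg.pLayer 2 X ⊔ Cfsg.pPrimePCore 2 X)) : Subgroup X :=
  (T : Subgroup ↥(Cfsg.pLayer 2 X ⊔ Cfsg.pPrimePCore 2 X)).map
    (Cfsg.pLayer 2 X ⊔ Cfsg.pPrimePCore 2 X).subtype

set_option maxHeartbeats 800000 in
theorem layerCore_le (T : Sylow 2 ↥(Cfsg.pLayer 2 X ⊔ Cfsg.pPrimePCore 2 X)) :
    Cfsg.pLayer 2 X ⊔ Cfsg.pPrimePCore 2 X ≤ Cfsg.pLayer 2 X ⊔ Cfsg.oddCore X ⊔ imgT T := by
  haveI := pPrimeCore_normal X 2
  rw [show Cfsg.oddCore X = Cfsg.pPrimeCore 2 X from rfl]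
  refine sup_le (le_sup_left.trans le_sup_left) ?_
  have hPn := pPrimePCore_normal (X := X)
  have hPsyl := (isSyl_map _ T).inf_normal (le_sup_right : (Cfsg.pPrimePCore 2 X) ≤ Cfsg.pLayer 2 X ⊔ (Cfsg.pPrimePCore 2 X))
    (by rw [Subgroup.normalizer_eq_top]; exact le_top)
  set A := (imgT T ⊓ (Cfsg.pPrimePCore 2 X)) ⊔ Cfsg.pPrimeCore 2 X with hA
  have hOP : Cfsg.pPrimeCore 2 X ≤ (Cfsg.pPrimePCore 2 X) := fun x hx => by
    show QuotientGroup.mk' (Cfsg.pPrimeCore 2 X) x ∈ Cfsg.pCore 2 (X ⧸ Cfsg.pPrimeCore 2 X)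
    rw [show QuotientGroup.mk' (Cfsg.pPrimeCore 2 X) x = 1 from (QuotientGroup.eq_one_iff x).2 hx]
    exact one_mem _
  have h1 : ¬ 2 ∣ A.relIndex (Cfsg.pPrimePCore 2 X) := fun h => hPsyl.not_dvd
    (h.trans (Subgroup.relIndex_dvd_of_le_left (Cfsg.pPrimePCore 2 X) le_sup_left))
  have h2 : IsPGroup 2 (Cfsg.pCore 2 (X ⧸ Cfsg.pPrimeCore 2 X)) := pCore_isPGroup _ _
  obtain ⟨n, hn⟩ := IsPGroup.iff_card.1 h2
  have h3 : A.relIndex (Cfsg.pPrimePCore 2 X) ∣ 2 ^ n := by
    refine (Subgroup.relIndex_dvd_of_le_left (Cfsg.pPrimePCore 2 X) (le_sup_right : Cfsg.pPrimeCore 2 X ≤ A)).trans ?_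
    have e1 : ((⊥ : Subgroup (X ⧸ Cfsg.pPrimeCore 2 X)).comap (QuotientGroup.mk' (Cfsg.pPrimeCore 2 X))).relIndex (Cfsg.pPrimePCore 2 X) =
        Nat.card ((Cfsg.pPrimePCore 2 X).map (QuotientGroup.mk' (Cfsg.pPrimeCore 2 X))) := by
      rw [Subgroup.relIndex_comap, Subgroup.relIndex_bot_left]
    have e2 : (⊥ : Subgroup (X ⧸ Cfsg.pPrimeCore 2 X)).comap (QuotientGroup.mk' (Cfsg.pPrimeCore 2 X)) =
        Cfsg.pPrimeCore 2 X := QuotientGroup.ker_mk' _
    have e3 : (Cfsg.pPrimePCore 2 X).map (QuotientGroup.mk' (Cfsg.pPrimeCore 2 X)) ≤ Cfsg.pCore 2 (X ⧸ Cfsg.pPrimeCore 2 X) :=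
      Subgroup.map_comap_le _ _
    have e4 := Subgroup.card_dvd_of_le e3
    rw [← e1, hn] at e4
    exact e2 ▸ e4
  obtain ⟨m, -, hm⟩ := (Nat.dvd_prime_pow Nat.prime_two).1 h3
  rcases Nat.eq_zero_or_pos m with rfl | h0
  · have h4 : A.relIndex (Cfsg.pPrimePCore 2 X) = 1 := by rw [hm, pow_zero]
    have h5 : (Cfsg.pPrimePCore 2 X) ≤ A := Subgroup.relIndex_eq_one.mp h4
    have h6 : A ≤ Cfsg.pLayer 2 X ⊔ Cfsg.pPrimeCore 2 X ⊔ imgT T :=
      sup_le (le_trans inf_le_left le_sup_right) (le_trans le_sup_right le_sup_left)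
    exact le_trans h5 h6
  · exact absurd (hm ▸ dvd_pow_self 2 h0.ne') h1

/-- All choices of `T` give the same join. -/
theorem extendedTwoLayer_eq (T : Sylow 2 ↥(Cfsg.pLayer 2 X ⊔ Cfsg.pPrimePCore 2 X)) :
    Cfsg.extendedTwoLayer X = Cfsg.pLayer 2 X ⊔ Cfsg.oddCore X ⊔ coreCent (imgT T) := by
  set J := Cfsg.pLayer 2 X ⊔ Cfsg.oddCore X ⊔ coreCent (imgT T) with hJ
  refine le_antisymm (sup_le le_sup_left (iSup_le fun T' => ?_))
    (sup_le le_sup_left (le_trans (le_iSup (fun T : Sylow 2 ↥(Cfsg.pLayer 2 X ⊔ Cfsg.pPrimePCore 2 X) => coreCent (imgT T)) T) le_sup_right))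
  obtain ⟨m, hm⟩ := MulAction.exists_smul_eq (↥(Cfsg.pLayer 2 X ⊔ Cfsg.pPrimePCore 2 X)) T T'
  have e : imgT T' = MulAut.conj (m : X) • imgT T := by
    refine Eq.trans ?_ (conj_smul_eq_map (m : X) (imgT T)).symm
    rw [imgT, ← hm, Sylow.coe_subgroup_smul, imgT, Subgroup.map_map]
    rw [conj_smul_eq_map, Subgroup.map_map]
    rfl
  show coreCent (imgT T') ≤ J
  intro x hx
  rw [e] at hx
  have hxF : (m : X)⁻¹ * x * m ∈ coreCent (imgT T) := by
    have h1 := conj_coreCent_le (m : X)⁻¹ (MulAut.conj (m : X) • imgT T)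
    rw [smul_smul, ← map_mul, inv_mul_cancel, map_one, one_smul] at h1
    exact h1 (mem_conj_smul_iff.2 (by simpa [mul_assoc] using hx))
  have hTN : imgT T ≤ Subgroup.normalizer (coreCent (imgT T) : Set X) := fun t ht =>
    mem_normalizer_of_conj_smul_eq (Subgroup.eq_of_le_of_card_ge
      ((conj_coreCent_le t (imgT T)).trans (by rw [conj_smul_eq_self_of_mem_normalizer (Subgroup.le_normalizer ht)]))
      (by rw [card_conj_smul]))
  haveI := pLayer_normal (X := X)
  haveI : (Cfsg.oddCore X).Normal := pPrimeCore_normal X 2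
  haveI := Subgroup.sup_normal (Cfsg.pLayer 2 X) (Cfsg.oddCore X)
  obtain ⟨a, ha, t, ht, hat⟩ := Subgroup.mem_sup_of_normal_left.1 (layerCore_le T m.2)
  have h2 : t * ((m : X)⁻¹ * x * m) * t⁻¹ ∈ coreCent (imgT T) :=
    (Subgroup.mem_normalizer_iff.1 (hTN ht) _).1 hxF
  rw [show x = a * (t * ((m : X)⁻¹ * x * m) * t⁻¹) * a⁻¹ by rw [← hat]; group]
  exact mul_mem (mul_mem (Subgroup.mem_sup_left ha) (Subgroup.mem_sup_right h2))
    (inv_mem (Subgroup.mem_sup_left ha))

/-- The extended 2-layer is normal. -/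
theorem extendedTwoLayer_normal : (Cfsg.extendedTwoLayer X).Normal := by
  haveI := pLayer_normal (X := X)
  haveI : (Cfsg.oddCore X).Normal := pPrimeCore_normal X 2
  haveI := Subgroup.sup_normal (Cfsg.pLayer 2 X) (Cfsg.oddCore X)
  haveI := layerCore_normal (X := X)
  set M := Cfsg.pLayer 2 X ⊔ Cfsg.pPrimePCore 2 X with hM
  refine normal_of_forall_conj_smul_eq fun g => Subgroup.eq_of_le_of_card_ge ?_ (by rw [card_conj_smul])
  obtain ⟨T⟩ : Nonempty (Sylow 2 M) := inferInstance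
  rw [extendedTwoLayer_eq T, conj_smul_eq_map, Subgroup.map_sup, ← conj_smul_eq_map, ← conj_smul_eq_map,
    conj_smul_eq_self_of_mem_normalizer (by rw [Subgroup.normalizer_eq_top]; trivial)]
  refine sup_le le_sup_left ((conj_coreCent_le g _).trans ?_)
  set U := MulAut.conj g • imgT T with hU
  have hUM : U ≤ M := fun x hx => by
    rw [hU, mem_conj_smul_iff] at hx
    simpa [mul_assoc] using (layerCore_normal (X := X)).conj_mem _ (Subgroup.map_subtype_le _ hx) g
  have hU2 : IsPGroup 2 U := (T.isPGroup'.map M.subtype).map _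
  obtain ⟨T', hT'⟩ := (isPGroup_subgroupOf (K := M) hU2).exists_le_sylow
  have e : U = imgT T' := by
    refine Subgroup.eq_of_le_of_card_ge (fun x hx => ⟨⟨x, hUM hx⟩, hT' hx, rfl⟩) ?_
    rw [hU, card_conj_smul, imgT, imgT, Subgroup.card_map_of_injective M.subtype_injective,
      Subgroup.card_map_of_injective M.subtype_injective]
    exact (T'.card_eq_multiplicity.trans T.card_eq_multiplicity.symm).le
  rw [e, ← extendedTwoLayer_eq T, extendedTwoLayer_eq T']
  exact le_sup_right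

/-- The extended 2-layer is the 2-layer and a subgroup of odd order normalized by a Sylow 2-subgroup. -/
theorem exists_odd_factor : ∃ F : Subgroup X, Odd (Nat.card ↥F) ∧
    (∃ S : Sylow 2 X, (S : Subgroup X) ≤ Subgroup.normalizer (F : Set X)) ∧
    Cfsg.extendedTwoLayer X = Cfsg.pLayer 2 X ⊔ F := by
  haveI : (Cfsg.oddCore X).Normal := pPrimeCore_normal X 2
  haveI := layerCore_normal (X := X)
  set M := Cfsg.pLayer 2 X ⊔ Cfsg.pPrimePCore 2 X with hM
  obtain ⟨T⟩ : Nonempty (Sylow 2 M) := inferInstance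
  refine ⟨Cfsg.oddCore X ⊔ coreCent (imgT T), ?_, ?_, ?_⟩
  · rw [sup_comm]
    exact Odd.of_dvd_nat ((odd_card_coreCent _).mul CfsgLib.Base.ZStar.odd_card_oddCore) (card_sup_dvd_mul _ _)
  · obtain ⟨S, hS⟩ := (T.isPGroup'.map M.subtype).exists_le_sylow
    refine ⟨S, fun s hs => ?_⟩
    have hsT : MulAut.conj s • imgT T = imgT T := by
      have hle : imgT T ≤ (S : Subgroup X) ⊓ M := le_inf hS (Subgroup.map_subtype_le _)
      obtain ⟨k, hk, hkle⟩ := (isSyl_map _ T).2.2 ((S : Subgroup X) ⊓ M) inf_le_right (S.isPGroup'.to_le inf_le_left)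
      have h1 := Subgroup.card_le_of_le hkle
      rw [card_conj_smul] at h1
      have e : imgT T = (S : Subgroup X) ⊓ M := Subgroup.eq_of_le_of_card_ge hle h1
      refine conj_smul_eq_self_of_mem_normalizer ?_
      rw [e]
      exact le_normalizer_inf_of_le Subgroup.le_normalizer (by rw [Subgroup.normalizer_eq_top]; exact le_top) hs
    refine mem_normalizer_of_conj_smul_eq (Subgroup.eq_of_le_of_card_ge ?_ (by rw [card_conj_smul]))
    rw [conj_smul_eq_map, Subgroup.map_sup, ← conj_smul_eq_map, ← conj_smul_eq_map,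
      conj_smul_eq_self_of_mem_normalizer (by rw [Subgroup.normalizer_eq_top]; trivial)]
    exact sup_le_sup_left ((conj_coreCent_le s _).trans (by rw [hsT])) _
  · rw [extendedTwoLayer_eq T, sup_assoc]

set_option maxHeartbeats 800000 in
/-- A 2-component is normal in the extended 2-layer. -/
theorem pComp_normal_extended {K : Subgroup X} (hK : Cfsg.IsPComponent 2 K) :
    K ≤ Cfsg.extendedTwoLayer X ∧ (K.subgroupOf (Cfsg.extendedTwoLayer X)).Normal := by
  haveI := pPrimeCore_normal X 2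
  haveI := pLayer_normal (X := X)
  set M := Cfsg.pLayer 2 X ⊔ Cfsg.pPrimePCore 2 X with hM
  set π := QuotientGroup.mk' (Cfsg.pPrimeCore 2 X) with hπ
  obtain ⟨T⟩ : Nonempty (Sylow 2 M) := inferInstance
  have hKL : K ≤ Cfsg.pLayer 2 X := le_sSup hK
  refine ⟨hKL.trans (le_sup_left.trans le_sup_left), Subgroup.normal_subgroupOf_of_le_normalizer ?_⟩
  have hfix : ∀ f : X, (K.map π).map (MulAut.conj (π f)).toMonoidHom = K.map π →
      f ∈ Subgroup.normalizer (K : Set X) := by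
    intro f hf
    refine Subgroup.mem_normalizer_fintype fun u hu => ?_
    have hle : K ≤ K.comap (MulAut.conj f).toMonoidHom := by
      conv_lhs => rw [← pComp_closure_pElements hK]
      rw [Subgroup.closure_le]
      rintro v ⟨hv, j, hj⟩
      refine two_mem_of_map hK.1 ?_ ⟨j, by show orderOf (MulAut.conj f v) = _; rw [MulEquiv.orderOf_eq, hj]⟩
      refine hf.le ⟨π v, ⟨v, hv, rfl⟩, ?_⟩
      show π f * π v * (π f)⁻¹ = π (f * v * f⁻¹)
      rw [map_mul, map_mul, map_inv]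
    exact hle hu
  rw [extendedTwoLayer_eq T]
  refine sup_le (sup_le (pLayer_le_normalizer hK) fun o ho => hfix o ?_) fun f hf => hfix f ?_
  · rw [show π o = 1 from (QuotientGroup.eq_one_iff o).2 ho, map_one]
    exact Subgroup.map_id _
  by_contra hne
  have hconj : Cfsg.IsComponent ((K.map π).map (MulAut.conj (π f)).toMonoidHom) :=
    CfsgLib.Inv.isComponent_map (MulAut.conj (π f)) hK.2.1
  have hcomm := Subgroup.commutator_eq_bot_iff_le_centralizer.1
    (CfsgLib.Inv.components_commute hK.2.1 hconj (Ne.symm hne))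
  have hTL := (isSyl_map _ T).inf_normal (le_sup_left : Cfsg.pLayer 2 X ≤ M)
    (by rw [Subgroup.normalizer_eq_top]; exact le_top)
  have hTK := hTL.inf_normal hKL (pLayer_le_normalizer hK)
  set S := imgT T ⊓ Cfsg.pLayer 2 X ⊓ K with hS
  have hScen : (S.map π).subgroupOf (K.map π) ≤ Subgroup.center _ := by
    rintro ⟨y, hyK⟩ hy
    obtain ⟨s, hs, rfl⟩ := hy
    rw [Subgroup.mem_center_iff]
    rintro ⟨z, hz⟩
    refine Subtype.ext (Subgroup.mem_centralizer_iff.1 (hcomm hz) (π s) ⟨π s, ⟨s, hs.2, rfl⟩, ?_⟩).symm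
    show π f * π s * (π f)⁻¹ = π s
    obtain ⟨d, -, hd⟩ := hf
    have := Subgroup.mem_centralizer_iff.1 d.2 s hs.1.1
    rw [← map_mul, ← map_inv, ← map_mul, ← hd]
    show π ((d : X) * s * (d : X)⁻¹) = π s
    rw [← this, mul_inv_cancel_right]
  have h2 := dvd_index_of_le_center hK.2.1.2 (pComp_dvd_card_map hK)
    ((Subgroup.center (K.map π))) le_rfl
  have heq : (S.map π).subgroupOf (K.map π) = (S.subgroupOf K).map (π.subgroupMap K) := by
    ext ⟨y, hy⟩
    constructor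
    · rintro ⟨v, hv, hvy⟩
      exact ⟨⟨v, hv.2⟩, hv, Subtype.ext hvy⟩
    · rintro ⟨v, hv, hvy⟩
      exact ⟨v, hv, congrArg Subtype.val hvy⟩
  refine hTK.not_dvd (h2.trans ((Subgroup.index_dvd_of_le hScen).trans ?_))
  rw [heq]
  exact Subgroup.index_map_dvd _ (MonoidHom.subgroupMap_surjective π K)

end CfsgLib.Solv.LBal
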