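import Cfsg.Agent.Solv.WardCore
import Cfsg.Agent.Solv.FpfNilpotent
import Mathlib.GroupTheory.SemidirectProduct

/-!
Ward's theorem: a solvable group with a fixed-point-free elementary group of operators of order `p ^ 2` has
Fitting height at most two.
-/

set_option autoImplicit false
set_option linter.style.haveILetI false
set_option linter.deprecated false

open scoped commutatorElement Pointwise

namespace CfsgLib.Solv

universe u

theorem isNilpotent_of_sylow_center {M : Type u} [Group M] [Finite M] {r : ℕ} [Fact r.Prime]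
    (h : ∀ t : ℕ, t.Prime → t ≠ r → ∀ T : Sylow t M, (T : Subgroup M) ≤ Subgroup.center M) :
    Group.IsNilpotent M := by
  have hidx : ∀ t : ℕ, t.Prime → t ∣ (Subgroup.center M).index → t = r := by
    intro t ht htd
    by_contra htr
    haveI := Fact.mk ht
    obtain ⟨T⟩ : Nonempty (Sylow t M) := inferInstance
    exact T.not_dvd_index (htd.trans (Subgroup.index_dvd_of_le (h t ht htr T)))
  have hq : IsPGroup r (M ⧸ Subgroup.center M) :=
    IsPGroup.of_card (n := (Subgroup.center M).index.primeFactorsList.length) (by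
      rw [← Subgroup.index_eq_card]
      exact Nat.eq_prime_pow_of_unique_prime_dvd Subgroup.index_ne_zero_of_finite fun {d} hd hdd => hidx d hd hdd)
  exact Group.of_quotient_center_nilpotent hq.isNilpotent

theorem exists_sylow_mem {G : Type u} [Group G] [Finite G] {t : ℕ} [Fact t.Prime] {x : G} {k : ℕ}
    (hx : x ^ t ^ k = 1) : ∃ T : Sylow t G, x ∈ (T : Subgroup G) := by
  have hp : IsPGroup t (Subgroup.zpowers x) := by
    rintro ⟨_, i, rfl⟩
    refine ⟨k, Subtype.ext ?_⟩
    simp only [SubmonoidClass.coe_pow, OneMemClass.coe_one]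
    rw [← zpow_natCast, ← zpow_mul, mul_comm, zpow_mul, zpow_natCast, hx, one_zpow]
  obtain ⟨T, hT⟩ := hp.exists_le_sylow
  exact ⟨T, hT (Subgroup.mem_zpowers x)⟩

theorem mem_pCore_of_mem_fitting {G : Type u} [Group G] [Finite G] {t : ℕ} [Fact t.Prime] {x : G}
    (hx : x ∈ Cfsg.fittingSubgroup G) {k : ℕ} (hxk : x ^ t ^ k = 1) : x ∈ Cfsg.pCore t G := by
  haveI := fittingSubgroup_normal G
  haveI := fittingSubgroup_isNilpotent (G := G)
  obtain ⟨T, hT⟩ := exists_sylow_mem (G := Cfsg.fittingSubgroup G) (x := ⟨x, hx⟩) (t := t) (k := k)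
    (Subtype.ext (by simpa using hxk))
  haveI := sylow_normal_of_isNilpotent T
  haveI := Sylow.characteristic_of_normal T ‹_›
  haveI := normal_map_subtype_of_characteristic (T : Subgroup (Cfsg.fittingSubgroup G))
  exact le_pCore (T.2.map _) (Subgroup.mem_map_of_mem (Cfsg.fittingSubgroup G).subtype hT)

theorem sylow_pow_eq_one {G : Type u} [Group G] [Finite G] {t : ℕ} {T : Sylow t G} {x : G}
    (hx : x ∈ (T : Subgroup G)) : ∃ k : ℕ, x ^ t ^ k = 1 := by
  obtain ⟨k, hk⟩ := T.2 ⟨x, hx⟩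
  exact ⟨k, congrArg Subtype.val hk⟩

theorem isNilpotent_of_sylow_centralizes_pCores {Γ : Type u} [Group Γ] [Finite Γ] [Group.IsSolvable Γ]
    (h : ∀ r s : ℕ, r.Prime → s.Prime → r ≠ s → ∀ S : Sylow s Γ,
      (S : Subgroup Γ) ≤ Subgroup.centralizer (Cfsg.pCore r Γ : Set Γ)) : Group.IsNilpotent Γ := by
  refine Group.isNilpotent_of_finite_tfae.out 3 0 rfl rfl |>.mp fun s hs S => ?_
  set K := ⨅ r : {r : Nat.Primes // (r : ℕ) ≠ s}, Subgroup.centralizer (Cfsg.pCore (r.1 : ℕ) Γ : Set Γ)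
  haveI hKn : K.Normal := Subgroup.normal_iInf_normal fun r => by
    haveI := pCore_normal Γ (r.1 : ℕ)
    infer_instance
  have hSK : (S : Subgroup Γ) ≤ K := le_iInf fun r => h _ _ r.1.2 hs.out r.2 S
  haveI : Group.IsNilpotent K := by
    refine isNilpotent_of_sylow_center (r := s) fun t ht hts T y hy => ?_
    haveI := Fact.mk ht
    obtain ⟨k, hk⟩ := sylow_pow_eq_one hy
    have hk' : (y : Γ) ^ t ^ k = 1 := by simpa using congrArg Subtype.val hk
    obtain ⟨T', hT'⟩ := exists_sylow_mem hk'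
    have hyF : (y : Γ) ∈ Cfsg.fittingSubgroup Γ := by
      refine centralizer_fittingSubgroup_le (Subgroup.mem_centralizer_iff.2 fun z hz => ?_)
      have hle : Cfsg.fittingSubgroup Γ ≤ Subgroup.centralizer {(y : Γ)} := by
        rw [fittingSubgroup_eq_iSup_pCore]
        refine iSup_le fun q z hz => Subgroup.mem_centralizer_singleton_iff.2 ?_
        by_cases hq : (q : ℕ) = s
        · rw [hq] at hz
          exact Subgroup.mem_centralizer_iff.1 (h s t hs.out ht (Ne.symm hts) T' hT') z hz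
        · exact Subgroup.mem_centralizer_iff.1 (Subgroup.mem_iInf.1 y.2 ⟨q, hq⟩) z hz
      exact Subgroup.mem_centralizer_singleton_iff.1 (hle hz)
    rw [Subgroup.mem_center_iff]
    intro z
    exact Subtype.ext (Subgroup.mem_centralizer_iff.1 (Subgroup.mem_iInf.1 z.2 ⟨⟨t, ht⟩, hts⟩)
      _ (mem_pCore_of_mem_fitting hyF hk')).symm
  haveI := sylow_normal_of_isNilpotent (S.subtype hSK)
  haveI := Sylow.characteristic_of_normal (S.subtype hSK) ‹_›
  haveI := normal_map_subtype_of_characteristic ((S.subtype hSK : Sylow s K) : Subgroup K)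
  rw [← Subgroup.map_subgroupOf_eq_of_le hSK]
  assumption

/-- The operators of Ward's theorem. -/
structure WardOps (p : ℕ) {X : Type u} [Group X] (A G : Subgroup X) : Prop where
  hA : IsMulCommutative A
  hexp : ∀ a ∈ A, a ^ p = 1
  hcard : Nat.card A = p ^ 2
  hfix : G ⊓ Subgroup.centralizer (A : Set X) = ⊥
  hcop : p.Coprime (Nat.card G)
  hsol : Group.IsSolvable G

variable {X : Type u} [Group X] [Finite X] {p : ℕ} {A G : Subgroup X} [hGn : G.Normal]

set_option linter.unusedSectionVars false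

theorem WardOps.fixed_bot (h : WardOps p A G) {K : Subgroup X} (hK : K ≤ G) :
    K ⊓ Subgroup.centralizer (A : Set X) = ⊥ := le_bot_iff.1 ((inf_le_inf_right _ hK).trans h.hfix.le)

theorem WardOps.coprime (h : WardOps p A G) {K : Subgroup X} (hK : K ≤ G) : p.Coprime (Nat.card K) :=
  h.hcop.coprime_dvd_right (Subgroup.card_dvd_of_le hK)

theorem WardOps.centralizer_nilpotent [hp : Fact p.Prime] (h : WardOps p A G) {g : X} (hg : g ∈ A) (hg1 : g ≠ 1) :
    Group.IsNilpotent ↥(G ⊓ Subgroup.centralizer {g}) := by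
  obtain ⟨c, hc, hcg⟩ : ∃ c ∈ A, c ∉ Subgroup.zpowers g := by
    by_contra hcon
    push Not at hcon
    have h1 := Subgroup.card_le_of_le (fun c hc => hcon c hc : A ≤ Subgroup.zpowers g)
    rw [h.hcard, Nat.card_zpowers, orderOf_eq_prime (h.hexp g hg) hg1] at h1
    have := hp.out.two_le
    nlinarith
  have hA' : Subgroup.zpowers g ⊔ Subgroup.zpowers c = A := by
    have h' : WardData p p p A ⊥ ⊥ ⊥ :=
      { hr := IsPGroup.of_bot, hs := IsPGroup.of_bot, hA := h.hA, hexp := h.hexp, hcard := h.hcard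
        hVab := ⟨⟨fun a b => Subsingleton.elim _ _⟩⟩
        hAV := le_top.trans (Subgroup.normalizer_eq_top_iff.2 (inferInstance : (⊥ : Subgroup X).Normal)).ge
        hRV := bot_le, hSV := bot_le
        hAR := le_top.trans (Subgroup.normalizer_eq_top_iff.2 (inferInstance : (⊥ : Subgroup X).Normal)).ge
        hSR := bot_le
        hAS := le_top.trans (Subgroup.normalizer_eq_top_iff.2 (inferInstance : (⊥ : Subgroup X).Normal)).ge
        cAV := by simp, cAR := by simp, cAS := by simp, cRS := by simp, cRV := by simp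
        fV := bot_inf_eq _, fR := bot_inf_eq _, fS := bot_inf_eq _
        comV := fun _ _ _ x hx _ v _ _ => by rw [Subgroup.mem_bot.1 hx, one_mul, mul_one]
        comS := fun _ _ _ x hx _ v _ _ => by rw [Subgroup.mem_bot.1 hx, one_mul, mul_one] }
    exact h'.sup_eq hg hg1 hc hcg
  set H := G ⊓ Subgroup.centralizer {g} with hH
  have hcH : c ∈ Subgroup.normalizer (H : Set X) :=
    conj_mul_mem_normalizer h.hA ((Subgroup.normalizer_eq_top_iff.2 hGn).symm ▸ le_top) g hg hc
  obtain ⟨ψ, hψ⟩ := exists_restrict (H := H) (MulAut.conj c) (conj_smul_eq_self_of_mem_normalizer hcH)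
  refine isNilpotent_of_fpf (φ := ψ) (fun x hx => ?_) (p := p) fun x => ?_
  · have h1 : c * (x : X) * c⁻¹ = x := (hψ x).symm.trans (congrArg Subtype.val hx)
    have h2 : (x : X) ∈ G ⊓ Subgroup.centralizer (A : Set X) := by
      refine Subgroup.mem_inf.2 ⟨(Subgroup.mem_inf.1 x.2).1, hA' ▸ mem_centralizer_sup ?_ ?_⟩
      · exact (Subgroup.mem_centralizer_singleton_iff.1 (Subgroup.mem_inf.1 x.2).2).symm
      · exact mul_inv_eq_iff_eq_mul.1 h1
    rw [h.hfix, Subgroup.mem_bot] at h2
    exact Subtype.ext h2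
  · have hi : ∀ i : ℕ, (((⇑ψ)^[i] x : ↥H) : X) = c ^ i * x * (c ^ i)⁻¹ := by
      intro i
      induction i with
      | zero => simp
      | succ i hi => rw [Function.iterate_succ_apply', hψ, hi, MulAut.conj_apply, pow_succ']; group
    refine Subtype.ext ?_
    rw [hi, h.hexp c hc]; simp

theorem WardOps.fixed_commute [Fact p.Prime] (h : WardOps p A G) {g : X} (hg : g ∈ A) (hg1 : g ≠ 1)
    {q r : ℕ} [Fact q.Prime] [Fact r.Prime] (hqr : q ≠ r) {K L : Subgroup X} (hK : K ≤ G) (hL : L ≤ G)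
    (hKq : IsPGroup q K) (hLr : IsPGroup r L) {x y : X} (hx : x ∈ K) (hgx : g * x = x * g) (hy : y ∈ L)
    (hgy : g * y = y * g) : x * y = y * x := by
  haveI := h.centralizer_nilpotent hg hg1
  set H := G ⊓ Subgroup.centralizer {g}
  exact congrArg Subtype.val (commute_of_isPGroup_of_isNilpotent (G := ↥H) hqr
    (hKq.comap_of_injective H.subtype H.subtype_injective) (hLr.comap_of_injective H.subtype H.subtype_injective)
    (a := ⟨x, Subgroup.mem_inf.2 ⟨hK hx, Subgroup.mem_centralizer_singleton_iff.2 hgx.symm⟩⟩)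
    (b := ⟨y, Subgroup.mem_inf.2 ⟨hL hy, Subgroup.mem_centralizer_singleton_iff.2 hgy.symm⟩⟩) hx hy).eq

/-- An element of coprime order acting trivially on the Frattini quotient of a `q`-group acts trivially. -/
theorem centralizes_of_frattini [Fact p.Prime] {q : ℕ} [Fact q.Prime] {U : Subgroup X} (hU : IsPGroup q U)
    {x : X} (hx : (orderOf x).Coprime q) (htriv : ∀ k ∈ U, ⁅x, k⁆ ∈ (frattini U).map U.subtype) :
    x ∈ Subgroup.centralizer (U : Set X) := by
  set F := (frattini U).map U.subtype with hF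
  have hcop : (Nat.card (Subgroup.zpowers x)).Coprime (Nat.card (frattini U)) := by
    obtain ⟨n, hn⟩ := IsPGroup.iff_card.1 (hU.to_subgroup (frattini U))
    rw [hn, Nat.card_zpowers]
    exact hx.pow_right n
  have hle := le_centralizer_of_trivial_on_frattini_quotient (A := Subgroup.zpowers x) (K := U) hcop (by
    rintro _ ⟨i, rfl⟩ k hk
    have hxU : x ∈ Subgroup.normalizer (U : Set X) := Subgroup.mem_normalizer_fintype fun k hk => by
      have := mul_mem (Subgroup.map_subtype_le _ (htriv k hk)) hk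
      simpa [commutatorElement_def, mul_assoc] using this
    have hxF : x ∈ Subgroup.normalizer (F : Set X) := Subgroup.mem_normalizer_fintype fun k hk => by
      have := mul_mem (htriv k (Subgroup.map_subtype_le _ hk)) hk
      simpa [commutatorElement_def, mul_assoc] using this
    let N : Subgroup X :=
      { carrier := {z | z ∈ Subgroup.normalizer (U : Set X) ∧ z ∈ Subgroup.normalizer (F : Set X) ∧
          ∀ k ∈ U, ⁅z, k⁆ ∈ F}
        one_mem' := ⟨one_mem _, one_mem _, fun k _ => by simp⟩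
        mul_mem' := by
          rintro a b ⟨ha1, ha2, ha⟩ ⟨hb1, hb2, hb⟩
          refine ⟨mul_mem ha1 hb1, mul_mem ha2 hb2, fun k hk => ?_⟩
          rw [show ⁅a * b, k⁆ = a * ⁅b, k⁆ * a⁻¹ * ⁅a, k⁆ by simp only [commutatorElement_def]; group]
          exact mul_mem ((Subgroup.mem_normalizer_iff.1 ha2 _).1 (hb k hk)) (ha k hk)
        inv_mem' := by
          rintro a ⟨ha1, ha2, ha⟩
          refine ⟨inv_mem ha1, inv_mem ha2, fun k hk => ?_⟩
          rw [show ⁅a⁻¹, k⁆ = a⁻¹ * ⁅a, k⁆⁻¹ * a⁻¹⁻¹ by simp only [commutatorElement_def]; group]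
          exact (Subgroup.mem_normalizer_iff.1 (inv_mem ha2) _).1 (inv_mem (ha k hk)) }
    exact (zpow_mem (show x ∈ N from ⟨hxU, hxF, htriv⟩) i : _ ∈ N).2.2 k hk)
  exact hle (Subgroup.mem_zpowers x)

theorem ward_pair [hp : Fact p.Prime] (h : WardOps p A G) {r s : ℕ} [hr : Fact r.Prime] [hs : Fact s.Prime]
    (hrs : r ≠ s) {R S : Subgroup X} (hR : R ≤ G) (hS : S ≤ G) (hRr : IsPGroup r R) (hSs : IsPGroup s S)
    (hAR : A ≤ Subgroup.normalizer (R : Set X)) (hAS : A ≤ Subgroup.normalizer (S : Set X))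
    (hSR : S ≤ Subgroup.normalizer (R : Set X))
    (hP : ∀ (x : X) (hx : x ∈ R), (∀ q : ℕ, q.Prime → q ≠ r →
      (⟨x, hR hx⟩ : ↥G) ∈ Subgroup.centralizer (Cfsg.pCore q ↥G : Set ↥G)) →
      (⟨x, hR hx⟩ : ↥G) ∈ Cfsg.fittingSubgroup ↥G) :
    ∀ x ∈ R, ∀ y ∈ S, ⁅x, y⁆ ∈ (Cfsg.fittingSubgroup ↥G).map G.subtype := by
  intro x hx y hy
  have hc : ⁅x, y⁆ ∈ R := by
    have := mul_mem hx ((Subgroup.mem_normalizer_iff.1 (hSR hy) _).1 (inv_mem hx))
    simpa [commutatorElement_def, mul_assoc] using this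
  refine ⟨⟨_, hR hc⟩, hP _ hc fun q hq hqr => ?_, rfl⟩
  haveI := Fact.mk hq
  set U := (Cfsg.pCore q ↥G).map G.subtype with hU
  haveI : (Cfsg.pCore q ↥G).Characteristic := pCore_characteristic
  haveI hUn : U.Normal := normal_map_subtype_of_characteristic (Cfsg.pCore q ↥G)
  have hUq : IsPGroup q U := (pCore_isPGroup (↥G) q).map _
  have hUG : U ≤ G := Subgroup.map_subtype_le _
  set Φ := (frattini U).map U.subtype with hΦ
  haveI hΦn : Φ.Normal := normal_map_subtype_of_characteristic (frattini U)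
  have hΦU : Φ ≤ U := Subgroup.map_subtype_le _
  have hN : ∀ (B : Subgroup X), B ≤ Subgroup.normalizer (U : Set X) := fun B =>
    (Subgroup.normalizer_eq_top_iff.2 hUn).symm ▸ le_top
  have h0 : WardPre p r s A U R S :=
    { hr := hRr, hs := hSs, hA := h.hA, hexp := h.hexp, hcard := h.hcard
      hAV := hN A, hRV := hN R, hSV := hN S, hAR := hAR, hSR := hSR, hAS := hAS
      cAV := h.coprime hUG, cAR := h.coprime hR, cAS := h.coprime hS
      cRS := IsPGroup.coprime_card_of_ne r s hrs _ _ hRr hSs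
      cRV := IsPGroup.coprime_card_of_ne r q (Ne.symm hqr) _ _ hRr hUq
      fV := h.fixed_bot hUG, fR := h.fixed_bot hR, fS := h.fixed_bot hS
      comV := fun g hg hg1 a ha hga b hb hgb =>
        h.fixed_commute hg hg1 (Ne.symm hqr) hR hUG hRr hUq ha hga hb hgb
      comS := fun g hg hg1 a ha hga b hb hgb =>
        h.fixed_commute hg hg1 hrs hR hS hRr hSs ha hga hb hgb }
  let π : X →* X ⧸ Φ := QuotientGroup.mk' Φ
  have hker : A ⊓ π.ker = ⊥ := by
    rw [QuotientGroup.ker_mk']
    exact inf_eq_bot_of_coprime_card (h0.coprime_card_left (h.coprime (hΦU.trans hUG)))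
  have hab : IsMulCommutative (U.map π) := ⟨⟨fun a b => by
    obtain ⟨⟨_, a, ha, rfl⟩, ⟨_, b, hb, rfl⟩⟩ := a, b
    refine Subtype.ext (commutatorElement_eq_one_iff_mul_comm.1 ?_)
    rw [← map_commutatorElement, QuotientGroup.mk'_apply, QuotientGroup.eq_one_iff]
    exact ⟨⁅⟨a, ha⟩, ⟨b, hb⟩⁆, commutator_le_frattini hUq
      (Subgroup.commutator_mem_commutator (Subgroup.mem_top _) (Subgroup.mem_top _)), rfl⟩⟩⟩
  have hw := ward_module (⟨h0.map π hker, hab⟩ : WardData p r s _ _ _ _)
  have h2 := hw (Subgroup.commutator_mem_commutator (Subgroup.mem_map_of_mem π hx) (Subgroup.mem_map_of_mem π hy))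
  have htriv : ∀ k ∈ U, ⁅⁅x, y⁆, k⁆ ∈ Φ := fun k hk => by
    rw [← map_commutatorElement, Subgroup.mem_centralizer_iff] at h2
    have h3 := commutatorElement_eq_one_iff_mul_comm.2 (h2 _ (Subgroup.mem_map_of_mem π hk)).symm
    rw [← map_commutatorElement] at h3
    exact (QuotientGroup.eq_one_iff _).1 h3
  have hco : (orderOf ⁅x, y⁆).Coprime q := by
    obtain ⟨k, hk⟩ := hRr ⟨_, hc⟩
    refine Nat.Coprime.coprime_dvd_left (orderOf_dvd_of_pow_eq_one (congrArg Subtype.val hk : ⁅x, y⁆ ^ r ^ k = 1)) ?_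
    exact Nat.Coprime.pow_left k ((Nat.coprime_primes hr.out hq).2 (Ne.symm hqr))
  have hcent := centralizes_of_frattini (p := p) hUq hco htriv
  rw [Subgroup.mem_centralizer_iff] at hcent ⊢
  exact fun z hz => Subtype.ext (hcent (z : X) ⟨z, hz, rfl⟩)

attribute [local instance] fittingSubgroup_normal in
theorem ward_core [hp : Fact p.Prime] (h : WardOps p A G) :
    Group.IsNilpotent (↥G ⧸ Cfsg.fittingSubgroup ↥G) := by
  classical
  haveI := h.hsol
  haveI := fittingSubgroup_normal ↥G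
  haveI := h.hA
  have hAs : Group.IsSolvable A := isSolvable_of_isMulCommutative A
  set F₀ := Cfsg.fittingSubgroup ↥G with hF₀
  let θ : ↥G →* ↥G ⧸ F₀ := QuotientGroup.mk' F₀
  refine isNilpotent_of_sylow_centralizes_pCores fun r s hr hs hrs S₁ => ?_
  haveI := Fact.mk hr
  haveI := Fact.mk hs
  set P := (Cfsg.pCore r (↥G ⧸ F₀)).comap θ with hP
  have hAG : A ≤ Subgroup.normalizer (G : Set X) := (Subgroup.normalizer_eq_top_iff.2 hGn).symm ▸ le_top
  -- the preimage of the core is invariant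
  have hPc : P.Characteristic := by
    rw [Subgroup.characteristic_iff_map_eq]
    intro e
    haveI : F₀.Characteristic := fittingSubgroup_characteristic
    have hFe : F₀.map e.toMonoidHom = F₀ := map_fittingSubgroup_equiv e
    refine Subgroup.eq_of_le_of_card_ge ?_ ?_
    · rintro _ ⟨z, hz, rfl⟩
      have h1 := map_pCore_equiv (p := r) (QuotientGroup.congr F₀ F₀ e hFe)
      show θ (e z) ∈ Cfsg.pCore r _
      rw [← h1]
      exact ⟨θ z, hz, rfl⟩
    · rw [← Nat.card_congr (P.equivMapOfInjective e.toMonoidHom e.injective).toEquiv]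
  haveI := hPc
  set Pm := P.map G.subtype with hPm
  haveI hPn : Pm.Normal := normal_map_subtype_of_characteristic P
  have hAP : A ≤ Subgroup.normalizer (Pm : Set X) := (Subgroup.normalizer_eq_top_iff.2 hPn).symm ▸ le_top
  have hcopA : ∀ K : Subgroup X, K ≤ G → (Nat.card A).Coprime (Nat.card K) := fun K hK =>
    h.hcard ▸ (h.coprime hK).pow_left 2
  have hPG : Pm ≤ G := Subgroup.map_subtype_le _
  obtain ⟨R₁, hAR⟩ := exists_invariant_sylow (p := r) hAP (hcopA _ hPG) (Or.inl hAs)
  set R := (R₁ : Subgroup ↥Pm).map Pm.subtype with hR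
  have hRP : R ≤ Pm := Subgroup.map_subtype_le _
  have hRr : IsPGroup r R := R₁.2.map _
  set N := G ⊓ Subgroup.normalizer (R : Set X) with hN
  have hAN : A ≤ Subgroup.normalizer (N : Set X) := le_normalizer_inf_of_le hAG (hAR.trans Subgroup.le_normalizer)
  obtain ⟨S₀, hAS⟩ := exists_invariant_sylow (p := s) hAN (hcopA _ inf_le_left) (Or.inl hAs)
  set S := (S₀ : Subgroup ↥N).map N.subtype with hS
  have hSN : S ≤ N := Subgroup.map_subtype_le _
  -- the image of `R` is the whole core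
  have hcover : ∀ w ∈ Cfsg.pCore r (↥G ⧸ F₀), ∃ z : ↥G, (z : X) ∈ R ∧ θ z = w := by
    intro w hw
    let β : ↥Pm →* ↥(Cfsg.pCore r (↥G ⧸ F₀)) :=
      (θ.comp (Subgroup.inclusion hPG)).codRestrict _ fun z => by
        obtain ⟨u, hu, he⟩ := z.2
        show θ (Subgroup.inclusion hPG z) ∈ _
        rw [show Subgroup.inclusion hPG z = u from Subtype.ext he.symm]
        exact hu
    have hβ : Function.Surjective β := by
      rintro ⟨v, hv⟩
      obtain ⟨z, rfl⟩ := QuotientGroup.mk'_surjective F₀ v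
      exact ⟨⟨z, z, hv, rfl⟩, rfl⟩
    have htop : (R₁.mapSurjective hβ : Subgroup ↥(Cfsg.pCore r (↥G ⧸ F₀))) = ⊤ := by
      have hpp : IsPGroup r (⊤ : Subgroup ↥(Cfsg.pCore r (↥G ⧸ F₀))) :=
        (pCore_isPGroup (↥G ⧸ F₀) r).to_subgroup _
      exact ((R₁.mapSurjective hβ).3 hpp le_top).symm
    rw [Sylow.coe_mapSurjective] at htop
    obtain ⟨z, hz, he⟩ := htop.ge (Subgroup.mem_top ⟨w, hw⟩)
    exact ⟨⟨z, hPG z.2⟩, ⟨z, hz, rfl⟩, congrArg Subtype.val he⟩
  -- the normalizer covers the quotient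
  have hNcov : ∀ g : ↥G, ∃ n : ↥G, (n : X) ∈ N ∧ θ n = θ g := by
    intro g
    obtain ⟨k, hk, hkR⟩ := exists_conj_eq_sylow R₁ (R := MulAut.conj (g : X) • R)
      (conj_smul_le_of_le_normalizer ((Subgroup.normalizer_eq_top_iff.2 hPn).symm ▸ le_top : ⊤ ≤ _) hRP
        (Subgroup.mem_top _)) (by rw [card_conj_smul, hR, card_map_subtype])
    obtain ⟨k₀, hk₀, hk₀e⟩ := hk
    obtain ⟨z, hzR, hze⟩ := hcover _ hk₀
    refine ⟨z * (k₀⁻¹ * g), ?_, by rw [map_mul, map_mul, map_inv, hze, mul_inv_cancel_left]⟩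
    refine Subgroup.mem_inf.2 ⟨(z * (k₀⁻¹ * g)).2, ?_⟩
    rw [Subgroup.coe_mul]
    refine mul_mem (Subgroup.le_normalizer hzR) (mem_normalizer_of_conj_smul_eq ?_)
    rw [← hR] at hkR
    rw [Subgroup.coe_mul, Subgroup.coe_inv, map_mul, mul_smul, ← hkR,
      show ((k₀ : ↥G) : X) = k from hk₀e, smul_smul, ← map_mul, inv_mul_cancel, map_one, one_smul]
  let α : ↥N →* ↥G ⧸ F₀ := θ.comp (Subgroup.inclusion (inf_le_left : N ≤ G))
  have hα : Function.Surjective α := by
    intro w
    obtain ⟨g, rfl⟩ := QuotientGroup.mk'_surjective F₀ w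
    obtain ⟨n, hn, he⟩ := hNcov g
    exact ⟨⟨n, hn⟩, he⟩
  have hpair := ward_pair h hrs (hRP.trans hPG) (hSN.trans inf_le_left) hRr (S₀.2.map _) hAR hAS
    (hSN.trans inf_le_right) (by
      intro x hx hall
      -- the part of `P` centralizing the other cores is nilpotent
      set C := ⨅ q : {q : Nat.Primes // (q : ℕ) ≠ r}, Subgroup.centralizer (Cfsg.pCore (q.1 : ℕ) ↥G : Set ↥G)
      haveI : C.Normal := Subgroup.normal_iInf_normal fun q => by
        haveI := pCore_normal (↥G) (q.1 : ℕ)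
        infer_instance
      haveI : (P ⊓ C).Normal := inferInstance
      haveI : Group.IsNilpotent ↥(P ⊓ C) := by
        refine isNilpotent_of_sylow_center (r := r) fun t ht htr T y hy => ?_
        haveI := Fact.mk ht
        obtain ⟨k, hk⟩ := sylow_pow_eq_one hy
        have hk' : (y : ↥G) ^ t ^ k = 1 := by simpa using congrArg Subtype.val hk
        have hyF : (y : ↥G) ∈ F₀ := by
          rw [← QuotientGroup.eq_one_iff]
          obtain ⟨j, hj⟩ := pCore_isPGroup (↥G ⧸ F₀) r ⟨_, (Subgroup.mem_inf.1 y.2).1⟩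
          have hj' : θ (y : ↥G) ^ r ^ j = 1 := congrArg Subtype.val hj
          have h1 : orderOf (θ (y : ↥G)) = 1 := Nat.eq_one_of_dvd_coprimes
            (Nat.Coprime.pow j k ((Nat.coprime_primes hr ht).2 (Ne.symm htr)))
            (orderOf_dvd_of_pow_eq_one hj') (orderOf_dvd_of_pow_eq_one (by rw [← map_pow, hk', map_one]))
          exact orderOf_eq_one_iff.1 h1
        rw [Subgroup.mem_center_iff]
        intro z
        exact Subtype.ext (Subgroup.mem_centralizer_iff.1
          (Subgroup.mem_iInf.1 (Subgroup.mem_inf.1 z.2).2 ⟨⟨t, ht⟩, htr⟩) _ (mem_pCore_of_mem_fitting hyF hk')).symm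
      refine le_fittingSubgroup (N := P ⊓ C) inferInstance (Subgroup.mem_inf.2 ⟨?_, ?_⟩)
      · obtain ⟨u, hu, he⟩ := hRP hx
        rwa [show (⟨x, hPG (hRP hx)⟩ : ↥G) = u from Subtype.ext he.symm]
      · exact Subgroup.mem_iInf.2 fun q => hall _ q.1.2 q.2)
  -- one Sylow subgroup centralizes the core, so all do
  set S' := S₀.mapSurjective hα
  have hS' : (S' : Subgroup (↥G ⧸ F₀)) ≤ Subgroup.centralizer (Cfsg.pCore r (↥G ⧸ F₀) : Set (↥G ⧸ F₀)) := by
    rw [Sylow.coe_mapSurjective]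
    rintro _ ⟨y, hy, rfl⟩
    refine Subgroup.mem_centralizer_iff.2 fun w hw => ?_
    obtain ⟨z, hz, rfl⟩ := hcover w hw
    obtain ⟨u, hu, he⟩ := hpair z hz y ⟨y, hy, rfl⟩
    refine commutatorElement_eq_one_iff_mul_comm.1 ?_
    show ⁅θ z, θ _⁆ = 1
    rw [← map_commutatorElement, QuotientGroup.mk'_apply, QuotientGroup.eq_one_iff]
    have hu' : ⁅z, Subgroup.inclusion (inf_le_left : N ≤ G) y⁆ = u := Subtype.ext he.symm
    rw [hu']; exact hu
  obtain ⟨g, hg⟩ := MulAction.exists_smul_eq (↥G ⧸ F₀) S' S₁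
  haveI := pCore_normal (↥G ⧸ F₀) r
  rw [← hg, Sylow.coe_subgroup_smul]
  intro z hz
  rw [mem_conj_smul_iff] at hz
  have hnc : (Subgroup.centralizer (Cfsg.pCore r (↥G ⧸ F₀) : Set (↥G ⧸ F₀))).Normal := inferInstance
  have := hnc.conj_mem _ (hS' hz) g
  simpa [mul_assoc] using this


attribute [local instance] fittingSubgroup_normal in
/-- Ward's theorem for a group of automorphisms. -/
theorem ward_aut {G : Type u} [Group G] [Finite G] (hG : Group.IsSolvable G) {p : ℕ} [hp : Fact p.Prime]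
    (A : Subgroup (MulAut G)) (hcomm : IsMulCommutative A) (hexp : ∀ a ∈ A, a ^ p = 1) (hcard : Nat.card A = p ^ 2)
    (hfpf : ∀ g : G, (∀ a ∈ A, a g = g) → g = 1) : Group.IsNilpotent (G ⧸ Cfsg.fittingSubgroup G) := by
  classical
  haveI := hG
  have hAp : IsPGroup p A := fun a => ⟨1, Subtype.ext (by simpa using hexp a a.2)⟩
  have hone : MulAction.fixedPoints A G = {1} := by
    ext g
    refine ⟨fun hg => hfpf g fun a ha => hg ⟨a, ha⟩, fun hg a => ?_⟩
    rw [Set.mem_singleton_iff.1 hg]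
    exact map_one (a : MulAut G)
  have hcop : p.Coprime (Nat.card G) := by
    have h1 := hAp.card_modEq_card_fixedPoints G
    rw [hone, Nat.card_eq_fintype_card (α := ({1} : Set G)), Set.card_singleton] at h1
    rw [hp.out.coprime_iff_not_dvd]
    intro hd
    have h2 := (Nat.ModEq.symm h1).trans ((Nat.modEq_zero_iff_dvd).2 hd)
    rw [Nat.ModEq, Nat.one_mod_eq_one.2 hp.out.ne_one, Nat.zero_mod] at h2
    exact one_ne_zero h2
  let X := G ⋊[A.subtype] ↥A
  haveI : Finite X := Finite.of_equiv _ SemidirectProduct.equivProd.symm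
  let ι : G →* X := SemidirectProduct.inl
  let κ : ↥A →* X := SemidirectProduct.inr
  set G' := ι.range
  haveI hGn : G'.Normal := by
    rw [show G' = (SemidirectProduct.rightHom : X →* ↥A).ker from SemidirectProduct.range_inl_eq_ker_rightHom]
    infer_instance
  let e : G ≃* ↥G' := MonoidHom.ofInjective SemidirectProduct.inl_injective
  have hops : WardOps p κ.range G' :=
    { hA := ⟨⟨fun a b => by
        obtain ⟨⟨_, a, rfl⟩, ⟨_, b, rfl⟩⟩ := a, b
        exact Subtype.ext (by
          show κ a * κ b = κ b * κ a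
          rw [← map_mul, ← map_mul]; exact congrArg κ (hcomm.is_comm.comm a b))⟩⟩
      hexp := by
        rintro _ ⟨a, rfl⟩
        rw [← map_pow, show a ^ p = 1 from Subtype.ext (by simpa using hexp a a.2), map_one]
      hcard := by
        rw [← Nat.card_congr (MonoidHom.ofInjective (f := κ) SemidirectProduct.inr_injective).toEquiv, hcard]
      hfix := by
        rw [eq_bot_iff]
        rintro _ ⟨⟨g, rfl⟩, hc⟩
        rw [Subgroup.mem_bot, hfpf g fun a ha => ?_, map_one]
        have hκ : κ ⟨a, ha⟩ ∈ κ.range := MonoidHom.mem_range.2 ⟨(⟨a, ha⟩ : ↥A), rfl⟩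
        have h1 := Subgroup.mem_centralizer_iff.1 hc (κ ⟨a, ha⟩) hκ
        have h2 : ι (a g) = ι g := by
          have h3 : ι (a g) = κ ⟨a, ha⟩ * ι g * κ (⟨a, ha⟩⁻¹ : ↥A) :=
            SemidirectProduct.inl_aut (φ := A.subtype) (⟨a, ha⟩ : ↥A) g
          rw [h3, map_inv, h1]
          group
        exact SemidirectProduct.inl_injective h2
      hcop := by rwa [← Nat.card_congr e.toEquiv]
      hsol := isSolvable_of_mulEquiv e }
  haveI := ward_core hops
  exact Group.nilpotent_of_mulEquiv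
    (QuotientGroup.congr (Cfsg.fittingSubgroup G) (Cfsg.fittingSubgroup ↥G') e (map_fittingSubgroup_equiv e)).symm

theorem exists_fitting_chain {G : Type u} [Group G] [Finite G]
    (h : haveI := fittingSubgroup_normal G; Group.IsNilpotent (G ⧸ Cfsg.fittingSubgroup G)) :
    ∃ F : Fin (2 + 1) → Subgroup G, F 0 = ⊥ ∧ F (Fin.last 2) = ⊤ ∧ Monotone F ∧ (∀ i, (F i).Normal) ∧
      ∀ i : Fin 2, ∃ k : ℕ, (F i.succ).lowerCentralSeries k ≤ F i.castSucc := by
  haveI hn := fittingSubgroup_normal G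
  refine ⟨![⊥, Cfsg.fittingSubgroup G, ⊤], rfl, rfl, ?_, ?_, ?_⟩
  · refine Fin.monotone_iff_le_succ.2 fun i => ?_
    fin_cases i
    · exact bot_le
    · exact le_top
  · intro i
    fin_cases i
    · exact (inferInstance : (⊥ : Subgroup G).Normal)
    · exact hn
    · exact (inferInstance : (⊤ : Subgroup G).Normal)
  · intro i
    fin_cases i
    · obtain ⟨k, hk⟩ := (Subgroup.isNilpotent_iff_lowerCentralSeries (S := Cfsg.fittingSubgroup G)).1
        (fittingSubgroup_isNilpotent (G := G))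
      exact ⟨k, hk.le⟩
    · show ∃ k : ℕ, (⊤ : Subgroup G).lowerCentralSeries k ≤ Cfsg.fittingSubgroup G
      obtain ⟨k, hk⟩ := Subgroup.nilpotent_iff_lowerCentralSeries.1 h
      refine ⟨k, fun x hx => ?_⟩
      have h1 := Subgroup.map_lowerCentralSeries (S := (⊤ : Subgroup G))
        (QuotientGroup.mk' (Cfsg.fittingSubgroup G)) k
      have h2 : QuotientGroup.mk' (Cfsg.fittingSubgroup G) x ∈
          ((⊤ : Subgroup G).lowerCentralSeries k).map (QuotientGroup.mk' (Cfsg.fittingSubgroup G)) :=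
        Subgroup.mem_map_of_mem _ hx
      rw [h1, Subgroup.map_top_of_surjective _ (QuotientGroup.mk'_surjective _), hk, Subgroup.mem_bot] at h2
      exact (QuotientGroup.eq_one_iff x).1 h2

end CfsgLib.Solv
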