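import Cfsg.Agent.Solv.SubnormalJoin
import Cfsg.Agent.Solv.Engel
import Cfsg.Agent.Solv.CoprimeSylow
import Cfsg.Agent.Inv.Component

/-!
Primitive subgroups: proper subgroups that are the normalizer of each of their nontrivial normal
subgroups.
-/

set_option autoImplicit false
set_option linter.style.haveILetI false

open scoped Pointwise commutatorElement

namespace CfsgLib.Solv.Prim

universe u

variable {G : Type u} [Group G] [Finite G]

/-- A primitive subgroup contains no nontrivial subnormal subgroup of the group. -/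
theorem subnormal_le_eq_bot {M : Subgroup G} (hM : M ≠ ⊤)
    (hprim : ∀ N : Subgroup G, N ≤ M → M ≤ Subgroup.normalizer (N : Set G) → N ≠ ⊥ →
      Subgroup.normalizer (N : Set G) = M) {L : Subgroup G} (hL : L.IsSubnormal) (hLM : L ≤ M) : L = ⊥ := by
  by_contra hne
  obtain ⟨R, hR, hmax⟩ := (Set.toFinite {R : Subgroup G | R.IsSubnormal ∧ R ≤ M ∧ R ≠ ⊥}).exists_maximal
    ⟨L, hL, hLM, hne⟩
  obtain ⟨hRs, hRM, hRne⟩ := hR
  have hRn : M ≤ Subgroup.normalizer (R : Set G) := by
    intro m hm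
    have hconj : MulAut.conj m • R ≤ M := fun x hx => by
      rw [mem_conj_smul_iff] at hx
      have := mul_mem (mul_mem hm (hRM hx)) (inv_mem hm)
      simpa [mul_assoc] using this
    have h1 : R ⊔ MulAut.conj m • R ≤ R := hmax ⟨isSubnormal_sup hRs (hRs.smul _), sup_le hRM hconj,
      fun e => hRne (le_bot_iff.1 (e ▸ le_sup_left))⟩ le_sup_left
    exact mem_normalizer_of_conj_smul_eq (Subgroup.eq_of_le_of_card_ge (le_sup_right.trans h1)
      (by rw [card_conj_smul]))
  have hN := hprim R hRM hRn hRne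
  rcases (Subgroup.IsSubnormal.iff_eq_top_or_exists.1 hRs) with e | ⟨K, hRK, hK, hn⟩
  · exact hM (top_le_iff.1 (e ▸ hRM))
  · have hKM : K ≤ M := hN ▸ (Subgroup.le_normalizer_of_normal_subgroupOf hRK.le)
    exact hRK.not_ge (hmax ⟨hK, hKM, fun e => hRne (le_bot_iff.1 (e ▸ hRK.le))⟩ hRK.le)

theorem inf_fitting_eq_bot {M : Subgroup G} (hM : M ≠ ⊤)
    (hprim : ∀ N : Subgroup G, N ≤ M → M ≤ Subgroup.normalizer (N : Set G) → N ≠ ⊥ →
      Subgroup.normalizer (N : Set G) = M) : M ⊓ Cfsg.fittingSubgroup G = ⊥ := by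
  haveI := CfsgLib.Inv.fitting_nilpotent (G := G)
  haveI hn : (Cfsg.fittingSubgroup G).Normal :=
    haveI := CfsgLib.Inv.fitting_characteristic (G := G)
    inferInstance
  refine subnormal_le_eq_bot hM hprim ?_ inf_le_left
  have h := (isSubnormal_of_isNilpotent ((M ⊓ Cfsg.fittingSubgroup G).subgroupOf (Cfsg.fittingSubgroup G))).trans'
    hn.isSubnormal
  rwa [Subgroup.map_subgroupOf_eq_of_le inf_le_right] at h

end CfsgLib.Solv.Prim
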