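import Cfsg.Agent.Solv.PLocalBasic
import Cfsg.Agent.Solv.Generation
import Cfsg.Agent.Solv.CoprimeAction

/-!
Best offenders in groups `H` with `C_H(O_{p'}(H)) ≤ O_{p'}(H)`: they contain transvection subgroups.
-/

set_option autoImplicit false
set_option linter.style.haveILetI false
set_option linter.deprecated false
set_option linter.unusedSectionVars false

open scoped commutatorElement Pointwise

namespace CfsgLib.Solv.FFP

variable {G : Type*} [Group G]

/-- `H` acts faithfully on `V`, and `Q` is a normal `p'`-subgroup of `H` containing its centralizer. -/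
structure Ctx (p : ℕ) (V H Q : Subgroup G) : Prop where
  hV : Cfsg.IsElementaryAbelian p V
  hHV : H ≤ Subgroup.normalizer (V : Set G)
  hf : H ⊓ Subgroup.centralizer (V : Set G) = ⊥
  hQH : Q ≤ H
  hHQ : H ≤ Subgroup.normalizer (Q : Set G)
  hcop : (Nat.card Q).Coprime p
  hC : H ⊓ Subgroup.centralizer (Q : Set G) ≤ Q

/-- A transvection subgroup of `H` on `V`. -/
structure IsTrans (p : ℕ) (V H A : Subgroup G) : Prop where
  le : A ≤ H
  card : Nat.card A = p
  axis : Nat.card (V ⊓ Subgroup.centralizer (A : Set G) : Subgroup G) * p = Nat.card V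

variable [Finite G] {p : ℕ} [hp : Fact p.Prime] {V H Q A : Subgroup G}

theorem ctx_of (hV : Cfsg.IsElementaryAbelian p V) (hHV : H ≤ Subgroup.normalizer (V : Set G))
    (hf : H ⊓ Subgroup.centralizer (V : Set G) = ⊥)
    (hS1 : Subgroup.centralizer (Cfsg.pPrimeCore p ↥H : Set ↥H) ≤ Cfsg.pPrimeCore p ↥H) :
    Ctx p V H ((Cfsg.pPrimeCore p ↥H).map H.subtype) := by
  refine ⟨hV, hHV, hf, Subgroup.map_subtype_le _, ?_, ?_, ?_⟩
  · refine le_normalizer_iff_forall_conj_mem.2 fun h hh q hq => ?_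
    obtain ⟨q', hq', rfl⟩ := Subgroup.mem_map.1 hq
    exact Subgroup.mem_map.2 ⟨⟨h, hh⟩ * q' * ⟨h, hh⟩⁻¹,
      (pPrimeCore_normal (G := ↥H) (p := p)).conj_mem q' hq' ⟨h, hh⟩, rfl⟩
  · rw [Subgroup.card_map_of_injective H.subtype_injective]
    exact pPrimeCore_coprime ↥H p
  · intro x hx
    obtain ⟨hxH, hxC⟩ := Subgroup.mem_inf.1 hx
    refine Subgroup.mem_map.2 ⟨⟨x, hxH⟩, hS1 ?_, rfl⟩
    rw [Subgroup.mem_centralizer_iff]
    intro q hq
    exact Subtype.ext (Subgroup.mem_centralizer_iff.1 hxC _ (Subgroup.mem_map.2 ⟨q, hq, rfl⟩))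

theorem Ctx.comm (C : Ctx p V H Q) {a b : G} (ha : a ∈ V) (hb : b ∈ V) : a * b = b * a :=
  congrArg Subtype.val (C.hV.1.is_comm.comm ⟨a, ha⟩ ⟨b, hb⟩)

theorem Ctx.isPGroup (C : Ctx p V H Q) : IsPGroup p V :=
  fun v => ⟨1, Subtype.ext (by simpa using C.hV.2 v v.2)⟩

theorem Ctx.inf_Q (C : Ctx p V H Q) (hA : IsPGroup p A) : A ⊓ Q = ⊥ := by
  obtain ⟨n, hn⟩ := hA.exists_card_eq
  exact inf_eq_bot_of_coprime_card (by rw [hn]; exact (C.hcop.pow_right n).symm)

theorem Ctx.inf_centralizer_Q (C : Ctx p V H Q) (hAH : A ≤ H) (hA : IsPGroup p A) :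
    A ⊓ Subgroup.centralizer (Q : Set G) = ⊥ :=
  le_bot_iff.1 ((le_inf inf_le_left ((inf_le_inf_right _ hAH).trans C.hC)).trans (C.inf_Q hA).le)

theorem Ctx.inf_V (C : Ctx p V H Q) : H ⊓ V = ⊥ :=
  le_bot_iff.1 ((inf_le_inf_left H fun _ hv => Subgroup.mem_centralizer_iff.2 fun _ hw =>
    C.comm hw hv).trans C.hf.le)

theorem Ctx.eq_bot_of_comm (C : Ctx p V H Q) (hAH : A ≤ H) (h : ⁅V, A⁆ = ⊥) : A = ⊥ :=
  le_bot_iff.1 ((le_inf hAH (Subgroup.le_centralizer_iff.1
    (Subgroup.commutator_eq_bot_iff_le_centralizer.1 h))).trans C.hf.le)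

theorem Ctx.comm_ne_bot (C : Ctx p V H Q) (hAH : A ≤ H) (h : A ≠ ⊥) : ⁅V, A⁆ ≠ ⊥ :=
  fun e => h (C.eq_bot_of_comm hAH e)

theorem Ctx.offender_pow (C : Ctx p V H Q) (hAH : A ≤ H) (hA : Cfsg.IsBestOffenderOn p V A) :
    ∀ a ∈ A, a ^ p = 1 := fun a ha =>
  Subgroup.mem_bot.1 (C.hf.le (Subgroup.mem_inf.2 ⟨pow_mem (hAH ha) p, hA.2.2 a ha⟩))

theorem Ctx.offender_comm (C : Ctx p V H Q) (hAH : A ≤ H) (hA : Cfsg.IsBestOffenderOn p V A)
    {a b : G} (ha : a ∈ A) (hb : b ∈ A) : a * b = b * a :=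
  commutatorElement_eq_one_iff_mul_comm.1 (Subgroup.mem_bot.1 (C.hf.le (Subgroup.mem_inf.2
    ⟨by rw [commutatorElement_def]
        exact mul_mem (mul_mem (mul_mem (hAH ha) (hAH hb)) (inv_mem (hAH ha))) (inv_mem (hAH hb)),
      hA.2.1 (Subgroup.commutator_mem_commutator ha hb)⟩)))

theorem Ctx.offender_isMulCommutative (C : Ctx p V H Q) (hAH : A ≤ H)
    (hA : Cfsg.IsBestOffenderOn p V A) : IsMulCommutative A :=
  ⟨⟨fun a b => Subtype.ext (C.offender_comm hAH hA a.2 b.2)⟩⟩

theorem Ctx.offender_pGroup (C : Ctx p V H Q) (hAH : A ≤ H) (hA : Cfsg.IsBestOffenderOn p V A) :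
    IsPGroup p A := fun a => ⟨1, Subtype.ext (by simpa using C.offender_pow hAH hA a a.2)⟩

theorem centralizer_bot_inf : V ⊓ Subgroup.centralizer ((⊥ : Subgroup G) : Set G) = V := by
  refine inf_eq_left.2 fun v _ => Subgroup.mem_centralizer_iff.2 fun x hx => ?_
  rw [Subgroup.mem_bot.1 hx, one_mul, mul_one]

theorem card_le_measure (hA : Cfsg.IsBestOffenderOn p V A) :
    Nat.card V ≤ Nat.card A * Nat.card (V ⊓ Subgroup.centralizer (A : Set G) : Subgroup G) := by
  have h := hA.1 ⊥ bot_le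
  rwa [centralizer_bot_inf, Subgroup.card_bot, one_mul] at h

theorem normalizer_le_normalizer_cent (K : Subgroup G) :
    Subgroup.normalizer (K : Set G) ≤
      Subgroup.normalizer (Subgroup.centralizer (K : Set G) : Set G) := by
  refine le_normalizer_iff_forall_conj_mem.2 fun n hn c hc => Subgroup.mem_centralizer_iff.2 fun k hk => ?_
  have hk' : n⁻¹ * k * n ∈ K := by
    simpa using (Subgroup.mem_normalizer_iff.1 ((Subgroup.normalizer (K : Set G)).inv_mem hn) k).1 hk
  have h3 := Subgroup.mem_centralizer_iff.1 hc _ hk'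
  calc k * (n * c * n⁻¹) = n * ((n⁻¹ * k * n) * c) * n⁻¹ := by group
    _ = n * (c * (n⁻¹ * k * n)) * n⁻¹ := by rw [h3]
    _ = n * c * n⁻¹ * k := by group

/-- Normalizing both arguments normalizes the commutator. -/
theorem le_normalizer_commutator' {K X Y : Subgroup G} (hX : K ≤ Subgroup.normalizer (X : Set G))
    (hY : K ≤ Subgroup.normalizer (Y : Set G)) :
    K ≤ Subgroup.normalizer ((⁅X, Y⁆ : Subgroup G) : Set G) := by
  refine le_normalizer_iff_forall_conj_mem.2 fun k hk => ?_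
  have h : ⁅X, Y⁆ ≤ (⁅X, Y⁆).comap (MulAut.conj k).toMonoidHom := Subgroup.commutator_le.2 fun x hx y hy => by
    show k * ⁅x, y⁆ * k⁻¹ ∈ ⁅X, Y⁆
    rw [conjugate_commutatorElement]
    exact Subgroup.commutator_mem_commutator (le_normalizer_iff_forall_conj_mem.1 hX k hk x hx)
      (le_normalizer_iff_forall_conj_mem.1 hY k hk y hy)
  exact fun z hz => h hz

theorem mul_le_of_lt {X Y : Subgroup G} (hY : IsPGroup p Y) (h : X < Y) :
    Nat.card X * p ≤ Nat.card Y := by
  obtain ⟨n, hn⟩ := hY.exists_card_eq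
  obtain ⟨m, -, hm⟩ := (Nat.dvd_prime_pow hp.out).1 (hn ▸ Subgroup.card_dvd_of_le h.le)
  have hlt : Nat.card X < Nat.card Y := lt_of_le_of_ne (Subgroup.card_le_of_le h.le)
    fun e => h.ne (Subgroup.eq_of_le_of_card_ge h.le e.ge)
  rw [hm, hn] at hlt ⊢
  rw [← pow_succ]
  exact Nat.pow_le_pow_right hp.out.pos ((Nat.pow_lt_pow_iff_right hp.out.one_lt).1 hlt)

theorem bestOffender_of_measure (hA : Cfsg.IsBestOffenderOn p V A) {B : Subgroup G} (hB : B ≤ A)
    (h : Nat.card A * Nat.card (V ⊓ Subgroup.centralizer (A : Set G) : Subgroup G) ≤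
      Nat.card B * Nat.card (V ⊓ Subgroup.centralizer (B : Set G) : Subgroup G)) :
    Cfsg.IsBestOffenderOn p V B :=
  ⟨fun D hD => (hA.1 D (hD.trans hB)).trans h, (Subgroup.commutator_mono hB hB).trans hA.2.1,
    fun b hb => hA.2.2 b (hB hb)⟩

/-- A quadratic best offender of order at least `p ^ 2` contains a proper one. -/
theorem Ctx.step (C : Ctx p V H Q) (hAH : A ≤ H) (hA : Cfsg.IsBestOffenderOn p V A)
    (hA1 : A ≠ ⊥) (hne : Nat.card A ≠ p) (hquad : A ≤ Subgroup.centralizer ((⁅V, A⁆ : Subgroup G) : Set G)) :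
    ∃ B : Subgroup G, B < A ∧ B ≠ ⊥ ∧ Cfsg.IsBestOffenderOn p V B ∧
      Nat.card B * Nat.card (V ⊓ Subgroup.centralizer (B : Set G) : Subgroup G) =
        Nat.card A * Nat.card (V ⊓ Subgroup.centralizer (A : Set G) : Subgroup G) := by
  haveI := C.offender_isMulCommutative hAH hA
  have hAQ : A ≤ Subgroup.normalizer (Q : Set G) := hAH.trans C.hHQ
  have hcopA : (Nat.card A).Coprime (Nat.card Q) := by
    obtain ⟨n, hn⟩ := (C.offender_pGroup hAH hA).exists_card_eq
    rw [hn]; exact (C.hcop.pow_right n).symm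
  obtain ⟨B, hBA, ⟨a, ha, hBa⟩, hQB⟩ : ∃ B : Subgroup G, B ≤ A ∧
      (∃ a ∈ A, B ⊔ Subgroup.zpowers a = A) ∧
      ¬ Q ⊓ Subgroup.centralizer (B : Set G) ≤ Subgroup.centralizer (A : Set G) := by
    by_contra hno
    push Not at hno
    have h1 := le_of_cocyclic_centralizers hAQ hcopA (W := Subgroup.centralizer (A : Set G)) hno
    exact hA1 (le_bot_iff.1 ((le_inf le_rfl (Subgroup.le_centralizer_iff.1 h1)).trans
      (C.inf_centralizer_Q hAH (C.offender_pGroup hAH hA)).le))
  have hBlt : B < A := lt_of_le_of_ne hBA fun e => hQB (e ▸ inf_le_right)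
  have hcardA : Nat.card A ≤ Nat.card B * p := by
    have hcard : Nat.card (Subgroup.zpowers a) ≤ p := by
      rw [Nat.card_zpowers]; exact orderOf_le_of_pow_eq_one hp.out.pos (C.offender_pow hAH hA a ha)
    refine le_trans ?_ (Nat.mul_le_mul_left _ hcard)
    rw [← Nat.card_prod]
    refine Nat.card_le_card_of_surjective
      (fun x : B × Subgroup.zpowers a => (⟨(x.2 : G) * x.1,
        mul_mem (Subgroup.zpowers_le.2 ha x.2.2) (hBA x.1.2)⟩ : A)) ?_
    rintro ⟨y, hy⟩
    rw [← hBa] at hy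
    have hn : B ≤ Subgroup.normalizer (Subgroup.zpowers a : Set G) := by
      refine le_trans (fun b hb => ?_) (Subgroup.centralizer_le_normalizer _)
      refine Subgroup.mem_centralizer_iff.2 fun z hz => ?_
      exact C.offender_comm hAH hA (Subgroup.zpowers_le.2 ha hz) (hBA hb)
    obtain ⟨m, hm, x, hx, e⟩ := exists_mul_of_mem_sup hn hy
    exact ⟨(⟨x, hx⟩, ⟨m, hm⟩), Subtype.ext e.symm⟩
  have hB1 : B ≠ ⊥ := by
    rintro rfl
    obtain ⟨n, hn⟩ := (C.offender_pGroup hAH hA).exists_card_eq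
    rw [Subgroup.card_bot, one_mul] at hcardA
    rcases n with _ | _ | n
    · exact hA1 (Subgroup.eq_bot_of_card_eq _ (by simpa using hn))
    · exact hne (by simpa using hn)
    · have h2 : p ^ (n + 2) ≤ p ^ 1 := by rw [pow_one, ← hn]; exact hcardA
      have := (Nat.pow_le_pow_iff_right hp.out.one_lt).1 h2
      omega
  set Q' := Q ⊓ Subgroup.centralizer (B : Set G) with hQ'
  have hQ'H : Q' ≤ H := inf_le_left.trans C.hQH
  set X := ⁅Q', A⁆ with hX
  have hXne : X ≠ ⊥ := fun h =>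
    hQB (Subgroup.commutator_eq_bot_iff_le_centralizer.1 h)
  -- `X` centralises whatever `A` centralises and `Q'` normalises
  have hkill : ∀ L : Subgroup G, Q' ≤ Subgroup.normalizer (L : Set G) →
      A ≤ Subgroup.centralizer (L : Set G) → X ≤ Subgroup.centralizer (L : Set G) := by
    intro L hL hAL
    refine Subgroup.commutator_le.2 fun q hq b hb => ?_
    rw [commutatorElement_def, mul_assoc (q * b), mul_assoc q]
    rw [show q * (b * (q⁻¹ * b⁻¹)) = (q * b * q⁻¹) * b⁻¹ by group]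
    refine mul_mem ?_ (inv_mem (hAL hb))
    refine Subgroup.mem_centralizer_iff.2 fun l hl => ?_
    have hl' : q⁻¹ * l * q ∈ L := by
      simpa using le_normalizer_iff_forall_conj_mem.1 hL q⁻¹ (inv_mem hq) l hl
    have h3 := Subgroup.mem_centralizer_iff.1 (hAL hb) _ hl'
    calc l * (q * b * q⁻¹) = q * ((q⁻¹ * l * q) * b) * q⁻¹ := by group
      _ = q * (b * (q⁻¹ * l * q)) * q⁻¹ := by rw [h3]
      _ = q * b * q⁻¹ * l := by group
  have hXB : X ≤ Subgroup.centralizer (B : Set G) := by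
    have hBB : A ≤ Subgroup.centralizer (B : Set G) := fun x hx =>
      Subgroup.mem_centralizer_iff.2 fun b hb => C.offender_comm hAH hA (hBA hb) hx
    refine Subgroup.commutator_le.2 fun q hq b hb => ?_
    rw [commutatorElement_def]
    exact mul_mem (mul_mem (mul_mem hq.2 (hBB hb)) (inv_mem hq.2)) (inv_mem (hBB hb))
  have hXQ : X ≤ Q := (Subgroup.commutator_mono inf_le_left le_rfl).trans
    (commutator_le_of_le_normalizer hAQ)
  have h1 : X ≤ Subgroup.centralizer ((⁅V, B⁆ : Subgroup G) : Set G) := by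
    refine hkill _ ?_ ?_
    · refine le_normalizer_commutator' ?_ ?_
      · exact hQ'H.trans C.hHV
      · exact inf_le_right.trans (Subgroup.centralizer_le_normalizer _)
    · exact hquad.trans (Subgroup.centralizer_le (Subgroup.commutator_mono le_rfl hBA))
  have h2 : ⁅⁅V, X⁆, B⁆ = ⊥ := by
    refine Subgroup.commutator_commutator_eq_bot_of_rotate ?_ ?_
    · rw [Subgroup.commutator_eq_bot_iff_le_centralizer.2 hXB, Subgroup.commutator_bot_left]
    · rw [Subgroup.commutator_comm B V]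
      exact (Subgroup.commutator_comm _ _).trans (Subgroup.commutator_eq_bot_iff_le_centralizer.2 h1)
  have hlt : V ⊓ Subgroup.centralizer (A : Set G) < V ⊓ Subgroup.centralizer (B : Set G) := by
    refine lt_of_le_of_ne (inf_le_inf_left V (Subgroup.centralizer_le hBA)) fun e => ?_
    have h3 : X ≤ Subgroup.centralizer ((V ⊓ Subgroup.centralizer (B : Set G) : Subgroup G) : Set G) := by
      refine hkill _ ?_ ?_
      · exact le_normalizer_inf_of_le (hQ'H.trans C.hHV)
          (inf_le_right.trans ((Subgroup.centralizer_le_normalizer _).trans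
            (normalizer_le_normalizer_cent _)))
      · rw [← e]; exact Subgroup.le_centralizer_iff.1 inf_le_right
    have hXV : X ≤ Subgroup.normalizer (V : Set G) := (hXQ.trans C.hQH).trans C.hHV
    have h4 : ⁅V, X⁆ ≤ V ⊓ Subgroup.centralizer (B : Set G) :=
      le_inf (commutator_le_of_le_normalizer hXV)
        (Subgroup.commutator_eq_bot_iff_le_centralizer.1 h2)
    have hcopX : (Nat.card X).Coprime (Nat.card V) := by
      obtain ⟨n, hn⟩ := C.isPGroup.exists_card_eq
      rw [hn]; exact Nat.Coprime.coprime_dvd_left (Subgroup.card_dvd_of_le hXQ) (C.hcop.pow_right n)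
    have h5 : ⁅⁅V, X⁆, X⁆ = ⊥ := Subgroup.commutator_eq_bot_iff_le_centralizer.2
      (h4.trans (Subgroup.le_centralizer_iff.1 h3))
    rw [commutator_commutator_right hXV hcopX
      (Or.inr (haveI := C.hV.1; isSolvable_of_isMulCommutative V))] at h5
    exact hXne (C.eq_bot_of_comm (hXQ.trans C.hQH) h5)
  have hmul := mul_le_of_lt (C.isPGroup.to_le inf_le_left) hlt
  have hge : Nat.card A * Nat.card (V ⊓ Subgroup.centralizer (A : Set G) : Subgroup G) ≤
      Nat.card B * Nat.card (V ⊓ Subgroup.centralizer (B : Set G) : Subgroup G) := by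
    calc _ ≤ Nat.card B * p * Nat.card (V ⊓ Subgroup.centralizer (A : Set G) : Subgroup G) :=
          Nat.mul_le_mul_right _ hcardA
      _ ≤ _ := by rw [mul_assoc, mul_comm p]; exact Nat.mul_le_mul_left _ hmul
  exact ⟨B, hBlt, hB1, bestOffender_of_measure hA hBA hge, le_antisymm (hA.1 B hBA) hge⟩

/-- Every nontrivial best offender has measure `|V|` and contains a transvection subgroup. -/
theorem Ctx.exists_trans (C : Ctx p V H Q) : ∀ A : Subgroup G, A ≤ H →
    Cfsg.IsBestOffenderOn p V A → A ≠ ⊥ →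
    Nat.card A * Nat.card (V ⊓ Subgroup.centralizer (A : Set G) : Subgroup G) = Nat.card V ∧
      ∃ A0 : Subgroup G, A0 ≤ A ∧ IsTrans p V H A0 := by
  suffices key : ∀ (n : ℕ) (A : Subgroup G), Nat.card A ≤ n → A ≤ H →
      Cfsg.IsBestOffenderOn p V A → A ≠ ⊥ →
      Nat.card A * Nat.card (V ⊓ Subgroup.centralizer (A : Set G) : Subgroup G) = Nat.card V ∧
        ∃ A0 : Subgroup G, A0 ≤ A ∧ IsTrans p V H A0 from fun A => key _ A le_rfl
  intro n
  induction n with
  | zero => intro A h; exact absurd (Nat.le_zero.1 h) Nat.card_pos.ne'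
  | succ n ih =>
    intro A hn hAH hA hA1
    have sub : ∀ B : Subgroup G, B < A → Cfsg.IsBestOffenderOn p V B → B ≠ ⊥ →
        Nat.card B * Nat.card (V ⊓ Subgroup.centralizer (B : Set G) : Subgroup G) =
          Nat.card A * Nat.card (V ⊓ Subgroup.centralizer (A : Set G) : Subgroup G) →
        Nat.card A * Nat.card (V ⊓ Subgroup.centralizer (A : Set G) : Subgroup G) = Nat.card V ∧
          ∃ A0 : Subgroup G, A0 ≤ A ∧ IsTrans p V H A0 := by
      intro B hB hBo hB1 he
      have hlt : Nat.card B < Nat.card A := lt_of_le_of_ne (Subgroup.card_le_of_le hB.le)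
        fun e => hB.ne (Subgroup.eq_of_le_of_card_ge hB.le e.ge)
      obtain ⟨h1, A0, h2, h3⟩ := ih B (by omega) (hB.le.trans hAH) hBo hB1
      exact ⟨he ▸ h1, A0, h2.trans hB.le, h3⟩
    have hAV := hAH.trans C.hHV
    obtain ⟨ht1, ht2, ht3⟩ := timmesfeld C.hV hAV hA (le_refl V)
    obtain ⟨ht4, ht5⟩ := timmesfeld_set C.hV hAV hA (V : Set G) le_rfl
    have hcs : commSet (V : Set G) A = ⁅V, A⁆ := by
      refine le_antisymm ((Subgroup.closure_le _).2 fun g ⟨v, hv, a, ha, e⟩ => ?_)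
        (Subgroup.commutator_le.2 fun v hv a ha => Subgroup.subset_closure ⟨v, hv, a, ha, rfl⟩)
      rw [e]; exact Subgroup.commutator_mem_commutator hv ha
    rw [hcs] at ht4
    rw [← ht2] at ht4
    set A' := A ⊓ Subgroup.centralizer ((⁅V, A⁆ : Subgroup G) : Set G) with hA'
    have hA'1 : A' ≠ ⊥ := fun e => ht3 (C.comm_ne_bot hAH hA1) (by
      rw [e, Subgroup.commutator_bot_right])
    rcases eq_or_lt_of_le (inf_le_left : A' ≤ A) with hq | hq
    · by_cases hcard : Nat.card A = p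
      · have h1 := card_le_measure hA
        rw [hcard] at h1 ⊢
        have hlt : V ⊓ Subgroup.centralizer (A : Set G) < V := lt_of_le_of_ne inf_le_left fun e =>
          C.comm_ne_bot hAH hA1 (Subgroup.commutator_eq_bot_iff_le_centralizer.2
            (inf_eq_left.1 e))
        have h2 := mul_le_of_lt C.isPGroup hlt
        rw [mul_comm] at h2
        exact ⟨le_antisymm h2 h1, A, le_rfl, hAH, hcard,
          by rw [mul_comm]; exact le_antisymm h2 h1⟩
      · obtain ⟨B, hB, hB1, hBo, he⟩ := C.step hAH hA hA1 hcard (hq.symm.le.trans inf_le_right)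
        exact sub B hB hBo hB1 he
    · exact sub A' hq ht1 hA'1 ht4

end CfsgLib.Solv.FFP
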