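import Cfsg.Agent.Solv.HBMain
import Cfsg.Prelude.Def_Transfer
import Mathlib

/-!
Group form of the theorem of Hall and Higman: the action of the normalizer of an elementary abelian
subgroup is turned into a linear action over an algebraically closed field.
-/

set_option autoImplicit false
set_option linter.unusedSectionVars false
set_option linter.style.haveILetI false

open scoped Cfsg

namespace CfsgLib.Solv.HB

/-- Extension of scalars for endomorphisms, as a ring homomorphism. -/
theorem exists_scalar_extension {k : Type*} [Field k] {M : Type*} [AddCommGroup M] [Module k M]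
    [FiniteDimensional k M] (K : Type*) [Field K] [Algebra k K] :
    ∃ Φ : Module.End k M →+* Module.End K (Fin (Module.finrank k M) → K), Function.Injective Φ := by
  refine ⟨((Matrix.toLinAlgEquiv' (R := K) (n := Fin (Module.finrank k M))).toAlgHom.toRingHom).comp
    ((RingHom.mapMatrix (algebraMap k K)).comp
      ((LinearMap.toMatrixAlgEquiv (Module.finBasis k M)).toAlgHom.toRingHom)), ?_⟩
  intro x y h
  simp only [RingHom.coe_comp, Function.comp_apply] at h
  have h1 := (Matrix.toLinAlgEquiv' (R := K) (n := Fin (Module.finrank k M))).injective h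
  exact (LinearMap.toMatrixAlgEquiv (Module.finBasis k M)).injective
    (Matrix.map_injective (algebraMap k K).injective h1)

variable {G : Type*} [Group G] [Finite G] {p : ℕ} [Fact p.Prime]

/-- The linear action of the normalizer of an elementary abelian subgroup. -/
theorem exists_linear_action (V : Subgroup G) (hV : Cfsg.IsElementaryAbelian p V) :
    ∃ (n : ℕ) (ρ : Subgroup.normalizer (V : Set G) →*
        Module.End (AlgebraicClosure (ZMod p)) (Fin n → AlgebraicClosure (ZMod p))),
      (V ≠ ⊥ → 0 < n) ∧ (∀ x, ρ x = 1 ↔ (x : G) ∈ Subgroup.centralizer (V : Set G)) ∧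
      ∀ (x : Subgroup.normalizer (V : Set G)) (r : ℕ), x ^ r = 1 →
        V ⊓ Subgroup.centralizer {(x : G)} = ⊥ → ∑ i ∈ Finset.range r, ρ x ^ i = 0 := by
  classical
  letI : CommGroup V := { (inferInstance : Group V) with mul_comm := hV.1.is_comm.comm }
  haveI hmod : Module (ZMod p) (Additive V) := AddCommGroup.zmodModule (fun v => by
    apply Additive.toMul.injective
    rw [toMul_nsmul, toMul_zero]
    exact Subtype.ext (hV.2 _ (Additive.toMul v).2))
  haveI : FiniteDimensional (ZMod p) (Additive V) := Module.Finite.of_finite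
  let c : Subgroup.normalizer (V : Set G) →* MulAut V := Subgroup.normalizerMonoidHom V
  let ρ₀ : Subgroup.normalizer (V : Set G) →* Module.End (ZMod p) (Additive V) :=
    { toFun := fun x => (MonoidHom.toAdditive (c x).toMonoidHom).toZModLinearMap p
      map_one' := LinearMap.ext fun v => by rw [map_one]; rfl
      map_mul' := fun x y => LinearMap.ext fun v => by rw [map_mul]; rfl }
  obtain ⟨Φ, hΦ⟩ := exists_scalar_extension (k := ZMod p) (M := Additive V) (AlgebraicClosure (ZMod p))
  have hval : ∀ (x : Subgroup.normalizer (V : Set G)) (v : Additive V),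
      ((Additive.toMul (ρ₀ x v) : V) : G) = x * (Additive.toMul v : V) * (x : G)⁻¹ := fun x v => rfl
  refine ⟨Module.finrank (ZMod p) (Additive V), Φ.toMonoidHom.comp ρ₀, ?_, ?_, ?_⟩
  · intro hne
    haveI : Nontrivial V := (Subgroup.nontrivial_iff_ne_bot V).2 hne
    exact Module.finrank_pos
  · intro x
    rw [MonoidHom.comp_apply]
    show Φ (ρ₀ x) = 1 ↔ _
    rw [← map_one Φ, hΦ.eq_iff, Subgroup.mem_centralizer_iff]
    constructor
    · intro h g hg
      have h1 := congrArg Subtype.val
        (congrArg Additive.toMul (LinearMap.congr_fun h (Additive.ofMul (⟨g, hg⟩ : V))))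
      rw [hval] at h1
      exact (mul_inv_eq_iff_eq_mul.1 h1).symm
    · intro h
      refine LinearMap.ext fun v => ?_
      apply Additive.toMul.injective
      refine Subtype.ext ?_
      rw [hval]
      exact mul_inv_eq_iff_eq_mul.2 (h _ (Additive.toMul v).2).symm
  · intro x r hxr hfix
    rw [MonoidHom.comp_apply]
    show ∑ i ∈ Finset.range r, Φ (ρ₀ x) ^ i = 0
    simp only [← map_pow Φ, ← map_sum Φ]
    rw [← map_zero Φ]
    congr 1
    refine LinearMap.ext fun v => ?_
    rw [LinearMap.sum_apply]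
    set w := ∑ i ∈ Finset.range r, (ρ₀ x ^ i) v with hw
    have hwfix : ρ₀ x w = w := by
      have h1 : ∑ i ∈ Finset.range r, (ρ₀ x ^ (i + 1)) v = w := by
        have h2 := Finset.sum_range_succ (fun i => (ρ₀ x ^ i) v) r
        have h3 : (ρ₀ x ^ r) v = (ρ₀ x ^ 0) v := by rw [← map_pow, hxr, map_one, pow_zero]
        rw [Finset.sum_range_succ', h3, add_left_inj] at h2
        exact h2
      rw [hw, map_sum]
      refine Eq.trans (Finset.sum_congr rfl fun i _ => ?_) h1
      rw [pow_succ', Module.End.mul_apply]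
    have h4 : ((Additive.toMul w : V) : G) ∈ V ⊓ Subgroup.centralizer {(x : G)} := by
      refine ⟨(Additive.toMul w).2, Subgroup.mem_centralizer_singleton_iff.2 ?_⟩
      have := congrArg Subtype.val (congrArg Additive.toMul hwfix)
      rw [hval] at this
      exact mul_inv_eq_iff_eq_mul.1 this |>.symm
    rw [hfix, Subgroup.mem_bot] at h4
    show w = 0
    exact Additive.toMul.injective (Subtype.ext h4)

theorem cast_ne_zero_of_not_dvd {n : ℕ} (h : ¬ p ∣ n) : (n : AlgebraicClosure (ZMod p)) ≠ 0 := by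
  haveI : CharP (AlgebraicClosure (ZMod p)) p :=
    charP_of_injective_algebraMap (algebraMap (ZMod p) _).injective p
  rwa [ne_eq, CharP.cast_eq_zero_iff _ p]

/-- A group of prime order acting without fixed point on `V` centralises, modulo the centralizer of
`V`, a nilpotent `p'`-group it normalizes, unless its order is one more than a prime power. -/
theorem centralized_or_exceptional_group (V : Subgroup G) (hV : Cfsg.IsElementaryAbelian p V)
    {q : ℕ} (hq : q.Prime) (hqp : q ≠ p) (x : G) (hx : orderOf x = q)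
    (hxV : x ∈ Subgroup.normalizer (V : Set G)) (hfix : V ⊓ Subgroup.centralizer {x} = ⊥)
    (H : Subgroup G) [Group.IsNilpotent H] (hHV : H ≤ Subgroup.normalizer (V : Set G))
    (hxH : x ∈ Subgroup.normalizer (H : Set G)) (hpH : ¬ p ∣ Nat.card H) (hqH : ¬ q ∣ Nat.card H) :
    (∀ h ∈ H, x * h * x⁻¹ * h⁻¹ ∈ Subgroup.centralizer (V : Set G)) ∨
      ((∃ a ∈ H, ∃ b ∈ H, a * b ≠ b * a) ∧
        ∃ r m : ℕ, r.Prime ∧ r ∣ Nat.card H ∧ 1 ≤ m ∧ q = r ^ m + 1) := by
  classical
  haveI := Fact.mk hq
  obtain ⟨n, ρ, -, hker, hsum⟩ := exists_linear_action V hV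
  set u : H →* Subgroup.normalizer (V : Set G) := Subgroup.inclusion hHV with hu
  set H' := (ρ.toHomUnits.comp u).range with hH'
  set S := ρ.toHomUnits ⟨x, hxV⟩ with hS
  have hdvd : Nat.card H' ∣ Nat.card H := Subgroup.card_range_dvd _
  have hnil : Group.IsNilpotent H' :=
    Group.nilpotent_of_surjective (ρ.toHomUnits.comp u).rangeRestrict
      (MonoidHom.rangeRestrict_surjective _)
  haveI : Finite H' :=
    Finite.of_surjective _ (ρ.toHomUnits.comp u).rangeRestrict_surjective
  have hsum' : ∑ i ∈ Finset.range q, ((S : (Module.End (AlgebraicClosure (ZMod p)) (Fin n → AlgebraicClosure (ZMod p)))ˣ) :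
      Module.End (AlgebraicClosure (ZMod p)) (Fin n → AlgebraicClosure (ZMod p))) ^ i = 0 :=
    hsum ⟨x, hxV⟩ q (Subtype.ext (by
      rw [Subgroup.coe_pow, OneMemClass.coe_one, ← hx, pow_orderOf_eq_one])) hfix
  have hqp' : ¬ p ∣ q := fun h => hqp ((Nat.prime_dvd_prime_iff_eq Fact.out hq).1 h).symm
  have hinv : ∀ y ∈ H', S * y * S⁻¹ ∈ H' := by
    rintro _ ⟨h', rfl⟩
    have hc : x * h'.1 * x⁻¹ ∈ H := (Subgroup.mem_normalizer_iff.1 hxH h'.1).1 h'.2
    refine ⟨⟨_, hc⟩, ?_⟩
    rw [hS, MonoidHom.comp_apply, MonoidHom.comp_apply, ← map_inv, ← map_mul, ← map_mul]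
    rfl
  rcases centralized_or_exceptional S hsum' (cast_ne_zero_of_not_dvd hqp') _ H' rfl inferInstance
    hnil hinv (fun h => hqH (h.trans hdvd))
    (cast_ne_zero_of_not_dvd fun h => hpH (h.trans hdvd)) with h | ⟨⟨_, ⟨a, rfl⟩, _, ⟨b, rfl⟩, hab⟩,
      r, m, hr, hrd, hrm⟩
  · left
    intro h' hh'
    have h1 := h _ ⟨⟨h', hh'⟩, rfl⟩
    have hmem : x * h' * x⁻¹ * h'⁻¹ ∈ Subgroup.normalizer (V : Set G) :=
      mul_mem (mul_mem (mul_mem hxV (hHV hh')) (inv_mem hxV)) (inv_mem (hHV hh'))
    refine (hker ⟨_, hmem⟩).1 ?_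
    have e : (⟨_, hmem⟩ : Subgroup.normalizer (V : Set G)) =
        ⟨x, hxV⟩ * u ⟨h', hh'⟩ * ⟨x, hxV⟩⁻¹ * (u ⟨h', hh'⟩)⁻¹ := Subtype.ext rfl
    have h2 : ρ.toHomUnits ⟨_, hmem⟩ = 1 := by
      rw [e, map_mul, map_mul, map_mul, map_inv, map_inv, ← hS]
      rw [show S * ρ.toHomUnits (u ⟨h', hh'⟩) = ρ.toHomUnits (u ⟨h', hh'⟩) * S from h1]
      group
    exact congrArg Units.val h2
  · right
    refine ⟨⟨a, a.2, b, b.2, fun e => hab ?_⟩, r, m, hr, hrd.trans hdvd, hrm⟩
    rw [← map_mul, ← map_mul]
    exact congrArg _ (Subtype.ext e)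

end CfsgLib.Solv.HB
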