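import Cfsg.Agent.Solv.HBMain
import Mathlib

/-!
A group with a fixed-point-free automorphism of prime order acts as an abelian group on a module on
which the automorphism has at most a one-dimensional space of fixed points.
-/

set_option autoImplicit false
set_option linter.unusedSectionVars false
set_option linter.style.haveILetI false

universe u v

namespace CfsgLib.Solv.HB

/-- Extension of scalars preserving rank one. -/
theorem exists_scalar_extension_rank_one {k : Type*} [Field k] {M : Type*} [AddCommGroup M]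
    [Module k M] [FiniteDimensional k M] (K : Type*) [Field K] [Algebra k K] :
    ∃ Φ : Module.End k M →+* Module.End K (Fin (Module.finrank k M) → K), Function.Injective Φ ∧
      ∀ P : Module.End k M, (∃ a, ∀ x, P x ∈ Submodule.span k {a}) →
        ∃ a', ∀ x, Φ P x ∈ Submodule.span K {a'} := by
  refine ⟨((Matrix.toLinAlgEquiv' (R := K) (n := Fin (Module.finrank k M))).toAlgHom.toRingHom).comp
    ((RingHom.mapMatrix (algebraMap k K)).comp
      ((LinearMap.toMatrixAlgEquiv (Module.finBasis k M)).toAlgHom.toRingHom)), ?_, ?_⟩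
  · intro x y h
    simp only [RingHom.coe_comp, Function.comp_apply] at h
    have h1 := (Matrix.toLinAlgEquiv' (R := K) (n := Fin (Module.finrank k M))).injective h
    exact (LinearMap.toMatrixAlgEquiv (Module.finBasis k M)).injective
      (Matrix.map_injective (algebraMap k K).injective h1)
  · rintro P ⟨a, ha⟩
    set b := Module.finBasis k M
    refine ⟨fun i => algebraMap k K (b.repr a i), fun x => ?_⟩
    choose c hc using fun j => Submodule.mem_span_singleton.1 (ha (b j))
    refine Submodule.mem_span_singleton.2 ⟨∑ j, algebraMap k K (c j) * x j, ?_⟩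
    funext i
    show (∑ j, algebraMap k K (c j) * x j) * algebraMap k K (b.repr a i)
      = (((LinearMap.toMatrixAlgEquiv b) P).map (algebraMap k K)).mulVec x i
    rw [Finset.sum_mul, Matrix.mulVec, dotProduct]
    refine Finset.sum_congr rfl fun j _ => ?_
    rw [Matrix.map_apply, LinearMap.toMatrixAlgEquiv_apply, ← hc j, map_smul, Finsupp.smul_apply,
      smul_eq_mul, map_mul]
    ring

variable {K : Type v} [Field K] [IsAlgClosed K]

/-- The key statement, by induction on the order of the group. -/
theorem commute_of_fpf_rank_one {r : ℕ} (hr : r.Prime) :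
    ∀ (n : ℕ) (H : Type u) [Group H] [Finite H] [Group.IsNilpotent H], Nat.card H = n →
      (Nat.card H : K) ≠ 0 → ∀ (θ : H ≃* H), (∀ x, θ^[r] x = x) → (∀ x, θ x = x → x = 1) →
        ∀ (W : Type v) [AddCommGroup W] [Module K W] [FiniteDimensional K W]
          (g : H →* Module.End K W) (S : Module.End K W), S ^ r = 1 →
          (∀ x, S * g x = g (θ x) * S) →
          (∃ a, ∀ w, (∑ i ∈ Finset.range r, S ^ i) w ∈ Submodule.span K {a}) →
            ∀ x y : H, g (x * y * x⁻¹ * y⁻¹) = 1 := by
  classical
  intro n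
  induction n using Nat.strong_induction_on with
  | _ n ih =>
  intro H _ _ _ hn hK θ hθr hfpf W _ _ _ g S hSr hS hrank x y
  rcases subsingleton_or_nontrivial H with hH | hH
  · rw [Subsingleton.elim (x * y * x⁻¹ * y⁻¹) 1, map_one]
  haveI := Fintype.ofFinite H
  set Z := Subgroup.center H with hZdef
  have hZ1 : Z ≠ ⊥ := Group.IsNilpotent.center_ne_bot H
  haveI : Nontrivial Z := (Subgroup.nontrivial_iff_ne_bot Z).2 hZ1
  have hθZ : ∀ z ∈ Z, θ z ∈ Z := by
    intro z hz
    rw [hZdef, Subgroup.mem_center_iff] at hz ⊢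
    intro b
    obtain ⟨b', rfl⟩ := θ.surjective b
    rw [← map_mul, ← map_mul, hz]
  have hZsurj : ∀ z ∈ Z, ∃ w ∈ Z, z = w⁻¹ * θ w := by
    let δ : Z → Z := fun w => ⟨w.1⁻¹ * θ w.1, mul_mem (inv_mem w.2) (hθZ _ w.2)⟩
    have hδ : Function.Injective δ := by
      intro a b hab
      have h1 : (a : H)⁻¹ * θ a = (b : H)⁻¹ * θ b := congrArg Subtype.val hab
      have h2 : θ ((b : H) * (a : H)⁻¹) = b * (a : H)⁻¹ := by
        rw [map_mul, map_inv]
        calc θ (b : H) * (θ (a : H))⁻¹
            = b * ((b : H)⁻¹ * θ b) * ((a : H)⁻¹ * θ a)⁻¹ * (a : H)⁻¹ := by group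
          _ = b * (a : H)⁻¹ := by rw [h1]; group
      exact (Subtype.ext (mul_inv_eq_one.1 (hfpf _ h2))).symm
    intro z hz
    obtain ⟨w, hw⟩ := Finite.surjective_of_injective hδ ⟨z, hz⟩
    exact ⟨w.1, w.2, (congrArg Subtype.val hw).symm⟩
  obtain ⟨c, hc⟩ : ∃ c, c = x * y * x⁻¹ * y⁻¹ := ⟨_, rfl⟩
  rw [← hc]
  -- the fixed space of the centre
  let W0 : Submodule K W :=
    { carrier := {w | ∀ z ∈ Z, g z w = w}
      add_mem' := fun {a b} ha hb z hz => by rw [map_add, ha z hz, hb z hz]
      zero_mem' := fun z _ => map_zero _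
      smul_mem' := fun t a ha z hz => by rw [map_smul, ha z hz] }
  have hW0g : ∀ h : H, ∀ w ∈ W0, g h w ∈ W0 := by
    intro h w hw z hz
    rw [← Module.End.mul_apply, ← map_mul, show z * h = h * z from (Subgroup.mem_center_iff.1 hz h).symm,
      map_mul, Module.End.mul_apply, hw z hz]
  have hW0S : ∀ w ∈ W0, S w ∈ W0 := by
    intro w hw z hz
    obtain ⟨z', rfl⟩ := θ.surjective z
    have hz' : z' ∈ Z := by
      rw [hZdef, Subgroup.mem_center_iff] at hz ⊢
      intro b
      apply θ.injective
      rw [map_mul, map_mul, hz]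
    rw [← Module.End.mul_apply, ← hS, Module.End.mul_apply, hw z' hz']
  have hW0c : ∀ w ∈ W0, g c w = w := by
    let gW : H →* Module.End K W0 :=
      { toFun := fun h => LinearMap.restrict (g h) (hW0g h)
        map_one' := LinearMap.ext fun w => Subtype.ext (by simp [LinearMap.restrict_apply])
        map_mul' := fun a b => LinearMap.ext fun w => Subtype.ext (by simp [LinearMap.restrict_apply]) }
    let gq : H ⧸ Z →* Module.End K W0 := QuotientGroup.lift Z gW fun z hz =>
      LinearMap.ext fun w => Subtype.ext (w.2 z hz)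
    have hmap : Z.map θ.toMonoidHom = Z := by
      refine le_antisymm ?_ ?_
      · rintro _ ⟨z, hz, rfl⟩; exact hθZ z hz
      · intro z hz
        obtain ⟨z', rfl⟩ := θ.surjective z
        refine ⟨z', ?_, rfl⟩
        show z' ∈ Z
        rw [hZdef, Subgroup.mem_center_iff] at hz ⊢
        intro b
        apply θ.injective
        rw [map_mul, map_mul, hz]
    let φ : H ⧸ Z ≃* H ⧸ Z := QuotientGroup.congr Z Z θ hmap
    have hφit : ∀ (k : ℕ) (a : H), φ^[k] (a : H ⧸ Z) = ((θ^[k] a : H) : H ⧸ Z) := by
      intro k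
      induction k with
      | zero => intro a; rfl
      | succ k ihk => intro a; rw [Function.iterate_succ_apply', ihk, Function.iterate_succ_apply']; rfl
    let SW : Module.End K W0 := LinearMap.restrict S hW0S
    have hSWit : ∀ (i : ℕ) (w : W0), ((SW ^ i) w).1 = (S ^ i) w.1 := by
      intro i
      induction i with
      | zero => intro w; simp
      | succ i ihi => intro w; rw [pow_succ, pow_succ, Module.End.mul_apply, ihi]; rfl
    have hlt : Nat.card (H ⧸ Z) < n := by
      rw [← hn, Z.card_eq_card_quotient_mul_card_subgroup]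
      exact lt_mul_of_one_lt_right Nat.card_pos (Finite.one_lt_card_iff_nontrivial.2 inferInstance)
    have hKq : (Nat.card (H ⧸ Z) : K) ≠ 0 := fun h => hK (by
      rw [Z.card_eq_card_quotient_mul_card_subgroup, Nat.cast_mul, h, zero_mul])
    have h1 := ih _ hlt (H ⧸ Z) rfl hKq φ
      (fun a => by
        induction a using QuotientGroup.induction_on with
        | H a => rw [hφit, hθr])
      (fun a => by
        induction a using QuotientGroup.induction_on with
        | H a =>
          intro ha
          have hmem : a⁻¹ * θ a ∈ Z := QuotientGroup.eq.1 ha.symm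
          obtain ⟨w, hw, hwe⟩ := hZsurj _ hmem
          have h2 : θ (a * w⁻¹) = a * w⁻¹ := by
            rw [map_mul, map_inv]
            calc θ a * (θ w)⁻¹ = a * (a⁻¹ * θ a) * (θ w)⁻¹ := by group
              _ = a * w⁻¹ := by rw [hwe]; group
          rw [QuotientGroup.eq_one_iff, mul_inv_eq_one.1 (hfpf _ h2)]
          exact hw)
      W0 gq SW
      (LinearMap.ext fun w => Subtype.ext (by rw [hSWit, hSr]; rfl))
      (fun a => by
        induction a using QuotientGroup.induction_on with
        | H a => exact LinearMap.ext fun w => Subtype.ext (LinearMap.congr_fun (hS a) w.1))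
      (by
        obtain ⟨a, ha⟩ := hrank
        by_cases haW : a ∈ W0
        · refine ⟨⟨a, haW⟩, fun w => ?_⟩
          obtain ⟨t, ht⟩ := Submodule.mem_span_singleton.1 (ha w.1)
          refine Submodule.mem_span_singleton.2 ⟨t, Subtype.ext ?_⟩
          rw [LinearMap.sum_apply, AddSubmonoidClass.coe_finsetSum]
          simp only [hSWit]
          rw [← LinearMap.sum_apply]
          exact ht
        · refine ⟨0, fun w => Submodule.mem_span_singleton.2 ⟨0, Subtype.ext ?_⟩⟩
          rw [LinearMap.sum_apply, AddSubmonoidClass.coe_finsetSum]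
          simp only [hSWit]
          rw [← LinearMap.sum_apply]
          obtain ⟨t, ht⟩ := Submodule.mem_span_singleton.1 (ha w.1)
          have hin : t • a ∈ W0 := by
            rw [ht, LinearMap.sum_apply]
            refine Submodule.sum_mem _ fun i _ => ?_
            rw [← hSWit]
            exact ((SW ^ i) w).2
          rcases eq_or_ne t 0 with rfl | h0
          · rw [← ht, zero_smul]; simp
          · exact absurd ((Submodule.smul_mem_iff _ h0).1 hin) haW)
      (x : H ⧸ Z) (y : H ⧸ Z)
    intro w hw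
    have h2 := congrArg (fun f => (f (⟨w, hw⟩ : W0)).1) h1
    rw [hc]
    exact h2
  -- otherwise take a weight of the centre
  by_contra hne
  let Ops : Set (Module.End K W) := insert (g c) (g '' (Z : Set H))
  have hops : ∀ z ∈ Z, ∀ h ∈ Ops, Commute (g z) h := by
    rintro z hz h (rfl | ⟨b, hb, rfl⟩)
    · exact (show Commute z c from (Subgroup.mem_center_iff.1 hz c).symm).map g
    · exact (show Commute z b from (Subgroup.mem_center_iff.1 hz b).symm).map g
  obtain ⟨U, hUle, hU, hUinv, hsc⟩ := exists_scalar_submodule Ops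
    ((Finset.univ.filter fun z : H => z ∈ Z).image g)
    (by
      intro f hf h hh
      obtain ⟨z, hz, rfl⟩ := Finset.mem_image.1 hf
      exact hops z (Finset.mem_filter.1 hz).2 h hh)
    (by
      intro f hf
      obtain ⟨z, hz, rfl⟩ := Finset.mem_image.1 hf
      exact Set.mem_insert_of_mem _ ⟨z, (Finset.mem_filter.1 hz).2, rfl⟩)
    (LinearMap.range (g c - 1)) (fun h => hne (sub_eq_zero.1 (LinearMap.range_eq_bot.1 h)))
    (by
      rintro h hh u ⟨v, rfl⟩
      refine ⟨h v, ?_⟩
      have hcm : Commute (g c) h := by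
        rcases hh with rfl | ⟨b, hb, rfl⟩
        · exact Commute.refl _
        · exact (show Commute c b from Subgroup.mem_center_iff.1 hb c).map g
      rw [← Module.End.mul_apply, ← Module.End.mul_apply, ((hcm.sub_left (Commute.one_left h))).eq])
  obtain ⟨w, hw, hw0⟩ := Submodule.exists_mem_ne_zero_of_ne_bot hU
  have hord : g c ^ Nat.card H = 1 := by rw [← map_pow, pow_card_eq_one', map_one]
  have hmoved : g c w ≠ w := fun h => hw0 (eq_zero_of_fixed_of_mem_range (g c) hord hK h (hUle hw))
  have hφ : ∀ z : Z, ∃ t : K, ∀ u ∈ U, g z u = t • u := fun z =>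
    hsc _ (Finset.mem_image_of_mem g (Finset.mem_filter.2 ⟨Finset.mem_univ _, z.2⟩))
  choose φ hφ using hφ
  -- the weight is moved by the automorphism
  let θZ : Z → Z := fun z => ⟨θ z, hθZ _ z.2⟩
  let T : (Z → K) → (Z → K) := fun ψ => ψ ∘ θZ
  have hTit : ∀ (k : ℕ) ψ, T^[k] ψ = ψ ∘ θZ^[k] := by
    intro k
    induction k with
    | zero => intro ψ; rfl
    | succ k ihk => intro ψ; rw [Function.iterate_succ_apply', ihk, Function.iterate_succ]; rfl
  have hθZit : ∀ (k : ℕ) (z : Z), ((θZ^[k] z : Z) : H) = θ^[k] (z : H) := by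
    intro k
    induction k with
    | zero => intro z; rfl
    | succ k ihk =>
      intro z
      rw [Function.iterate_succ_apply', Function.iterate_succ_apply', ← ihk]
  have hnot : T φ ≠ φ := by
    intro hfix
    apply hmoved
    refine hW0c w fun z hz => ?_
    obtain ⟨b, hb, rfl⟩ := hZsurj z hz
    have h1 : φ (θZ ⟨b, hb⟩) = φ ⟨b, hb⟩ := congrFun hfix ⟨b, hb⟩
    have e1 : g (θ b) w = g b w := by
      have e2 := hφ (θZ ⟨b, hb⟩) w hw
      rw [h1, ← hφ ⟨b, hb⟩ w hw] at e2
      exact e2
    rw [map_mul, Module.End.mul_apply, e1, ← Module.End.mul_apply, ← map_mul, inv_mul_cancel, map_one,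
      Module.End.one_apply]
  have hperT : Function.minimalPeriod T φ = r := by
    have h1 : Function.IsPeriodicPt T r φ := by
      show T^[r] φ = φ
      rw [hTit]; funext z; exact congrArg φ (Subtype.ext (by rw [hθZit, hθr]))
    rcases (Nat.dvd_prime hr).1 h1.minimalPeriod_dvd with h | h
    · exact absurd (Function.minimalPeriod_eq_one_iff_isFixedPt.1 h) hnot
    · exact h
  have hSit : ∀ (i : ℕ) a, S ^ i * g a = g (θ^[i] a) * S ^ i := by
    intro i
    induction i with
    | zero => intro a; simp
    | succ i ihi =>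
      intro a
      rw [pow_succ, mul_assoc, hS, ← mul_assoc, ihi, mul_assoc, Function.iterate_succ_apply]
  have hev : ∀ u ∈ U, ∀ (i : Fin r) (z : Z),
      g z ((S ^ (i : ℕ)) u) = φ (θZ^[r - i] z) • (S ^ (i : ℕ)) u := by
    intro u hu i z
    have e : θ^[(i : ℕ)] (θ^[r - i] (z : H)) = z := by
      rw [← Function.iterate_add_apply, Nat.add_sub_cancel' i.2.le, hθr]
    rw [← Module.End.mul_apply, ← e, ← hSit, Module.End.mul_apply]
    have := hφ (θZ^[r - i] z) u hu
    rw [hθZit] at this
    rw [this, map_smul]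
  have hsep : ∀ i j : Fin r, i ≠ j → ∃ z, φ (θZ^[r - i] z) ≠ φ (θZ^[r - j] z) := by
    intro i j hij
    by_contra hall
    push Not at hall
    apply hij
    have h1 : T^[r - i] φ = T^[r - j] φ := by
      rw [hTit, hTit]; funext a; exact hall a
    rw [← Function.iterate_mod_minimalPeriod_eq (n := r - i),
      ← Function.iterate_mod_minimalPeriod_eq (n := r - j), hperT,
      Function.iterate_eq_iterate_iff_of_lt_minimalPeriod (by rw [hperT]; exact Nat.mod_lt _ hr.pos)
        (by rw [hperT]; exact Nat.mod_lt _ hr.pos)] at h1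
    apply Fin.ext
    have hi := i.2
    have hj := j.2
    rcases Nat.eq_zero_or_pos (i : ℕ) with hi0 | hi0 <;>
      rcases Nat.eq_zero_or_pos (j : ℕ) with hj0 | hj0
    · omega
    · rw [hi0, Nat.sub_zero, Nat.mod_self, Nat.mod_eq_of_lt (by omega : r - (j : ℕ) < r)] at h1; omega
    · rw [hj0, Nat.sub_zero, Nat.mod_self, Nat.mod_eq_of_lt (by omega : r - (i : ℕ) < r)] at h1; omega
    · rw [Nat.mod_eq_of_lt (by omega : r - (i : ℕ) < r),
        Nat.mod_eq_of_lt (by omega : r - (j : ℕ) < r)] at h1
      omega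
  -- so the weight space is one dimensional
  let Wφ : Submodule K W :=
    { carrier := {u | ∀ z : Z, g z u = φ z • u}
      add_mem' := fun {a b} ha hb z => by rw [map_add, ha z, hb z, smul_add]
      zero_mem' := fun z => by rw [map_zero, smul_zero]
      smul_mem' := fun t a ha z => by rw [map_smul, ha z, smul_comm] }
  have hev' : ∀ u ∈ Wφ, ∀ (i : Fin r) (z : Z),
      g z ((S ^ (i : ℕ)) u) = φ (θZ^[r - i] z) • (S ^ (i : ℕ)) u := by
    intro u hu i z
    have e : θ^[(i : ℕ)] (θ^[r - i] (z : H)) = z := by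
      rw [← Function.iterate_add_apply, Nat.add_sub_cancel' i.2.le, hθr]
    rw [← Module.End.mul_apply, ← e, ← hSit, Module.End.mul_apply]
    have := hu (θZ^[r - i] z)
    rw [hθZit] at this
    rw [this, map_smul]
  have hzero : ∀ u ∈ Wφ, (∑ i ∈ Finset.range r, S ^ i) u = 0 → u = 0 := by
    intro u hu hsum0
    have h0 := mem_of_sum_mem (fun z : Z => g z) (fun (i : Fin r) z => φ (θZ^[r - i] z))
      (fun i : Fin r => (S ^ (i : ℕ)) u) (hev' u hu) hsep (⊥ : Submodule K W)
      (fun a b hb => by rw [(Submodule.mem_bot K).1 hb, map_zero]; exact Submodule.zero_mem _)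
      Finset.univ (fun _ => 1)
      (by
        simp only [one_smul]
        rw [Fin.sum_univ_eq_sum_range (fun i => (S ^ i) u), ← LinearMap.sum_apply, hsum0]
        exact Submodule.zero_mem _)
      ⟨0, hr.pos⟩ (Finset.mem_univ _)
    rw [Submodule.mem_bot, one_smul] at h0
    simpa using h0
  obtain ⟨a, ha⟩ := hrank
  have hwφ : w ∈ Wφ := fun z => hφ z w hw
  have hinvφ : ∀ h : H, g h w ∈ Wφ := fun h z => by
    rw [← Module.End.mul_apply, ← map_mul, show (z : H) * h = h * z from
      (Subgroup.mem_center_iff.1 z.2 h).symm, map_mul, Module.End.mul_apply, hwφ z, map_smul]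
  obtain ⟨tw, htw⟩ := Submodule.mem_span_singleton.1 (ha w)
  have htw0 : tw ≠ 0 := by
    rintro rfl
    rw [zero_smul] at htw
    exact hw0 (hzero w hwφ htw.symm)
  have hscalar : ∀ h : H, ∃ t : K, g h w = t • w := by
    intro h
    obtain ⟨th, hth⟩ := Submodule.mem_span_singleton.1 (ha (g h w))
    refine ⟨th * tw⁻¹, sub_eq_zero.1 (hzero _ (Wφ.sub_mem (hinvφ h) (Wφ.smul_mem _ hwφ)) ?_)⟩
    rw [map_sub, map_smul, ← hth, ← htw, smul_smul, mul_assoc, inv_mul_cancel₀ htw0, mul_one, sub_self]
  obtain ⟨tx, htx⟩ := hscalar x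
  obtain ⟨ty, hty⟩ := hscalar y
  apply hmoved
  have e1 : g (x * y) w = g (y * x) w := by
    rw [map_mul, map_mul, Module.End.mul_apply, Module.End.mul_apply, htx, hty, map_smul, map_smul,
      htx, hty, smul_comm]
  obtain ⟨tc, htc⟩ := hscalar c
  have e2 : g c (g (y * x) w) = g (x * y) w := by
    rw [← Module.End.mul_apply, ← map_mul, hc]
    congr 2
    group
  rw [e1, map_mul, Module.End.mul_apply, htx, map_smul, hty, map_smul, map_smul] at e2
  have htx0 : tx ≠ 0 := by
    rintro rfl
    rw [zero_smul] at htx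
    have h3 : g x⁻¹ (g x w) = w := by rw [← Module.End.mul_apply, ← map_mul, inv_mul_cancel, map_one]; rfl
    rw [htx, map_zero] at h3
    exact hw0 h3.symm
  have hty0 : ty ≠ 0 := by
    rintro rfl
    rw [zero_smul] at hty
    have h3 : g y⁻¹ (g y w) = w := by rw [← Module.End.mul_apply, ← map_mul, inv_mul_cancel, map_one]; rfl
    rw [hty, map_zero] at h3
    exact hw0 h3.symm
  exact smul_right_injective W hty0 (smul_right_injective W htx0 e2)

end CfsgLib.Solv.HB
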