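import Mathlib

/-!
The Lie ring attached to the lower central series of a group.
-/

set_option autoImplicit false
set_option linter.unusedSectionVars false

open scoped commutatorElement DirectSum

namespace CfsgLib.Solv.GLie

variable {G : Type*} [Group G]

/-- The lower central series. -/
abbrev gam (G : Type*) [Group G] (n : ℕ) : Subgroup G := (⊤ : Subgroup G).lowerCentralSeries n

theorem gam_anti {m n : ℕ} (h : m ≤ n) : gam G n ≤ gam G m := Subgroup.lowerCentralSeries_antitone _ h

theorem comm_le : ∀ i j : ℕ, ⁅gam G i, gam G j⁆ ≤ gam G (i + j + 1)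
  | i, 0 => le_of_eq (by show _ = ⁅gam G (i + 0), _⁆; simp [gam])
  | i, j + 1 => by
    have h1 := comm_le (i + 1) j
    have h2 := comm_le i j
    set N := gam G (i + (j + 1) + 1) with hN
    haveI : N.Characteristic := Subgroup.lowerCentralSeries_characteristic _ _
    have key : ∀ A B : Subgroup G, ⁅A, B⁆ ≤ N ↔ ⁅A.map (QuotientGroup.mk' N), B.map (QuotientGroup.mk' N)⁆ = ⊥ :=
      fun A B => by rw [← Subgroup.map_commutator, Subgroup.map_eq_bot_iff, QuotientGroup.ker_mk']
    rw [Subgroup.commutator_comm]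
    show ⁅⁅gam G j, ⊤⁆, gam G i⁆ ≤ N
    rw [key, Subgroup.map_commutator]
    apply Subgroup.commutator_commutator_eq_bot_of_rotate
    · rw [← Subgroup.map_commutator, ← key, Subgroup.commutator_comm (⊤ : Subgroup G)]
      refine h1.trans (le_of_eq ?_)
      rw [hN]; congr 1; omega
    · rw [← Subgroup.map_commutator, ← key]
      refine (Subgroup.commutator_mono h2 le_rfl).trans (le_of_eq ?_)
      show gam G (i + j + 1 + 1) = N
      rw [hN]; congr 1

theorem comm_mem {i j : ℕ} {g h : G} (hg : g ∈ gam G i) (hh : h ∈ gam G j) : ⁅g, h⁆ ∈ gam G (i + j + 1) :=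
  comm_le i j (Subgroup.commutator_mem_commutator hg hh)

/-- The factors. -/
abbrev Fac (G : Type*) [Group G] (n : ℕ) : Type _ :=
  Additive (Abelianization (gam G n) ⧸ ((gam G (n + 1)).subgroupOf (gam G n)).map Abelianization.of)

/-- The carrier of the Lie ring. -/
abbrev Car (G : Type*) [Group G] : Type _ := ⨁ n : ℕ, Fac G n

/-- The class of an element in a factor. -/
def facHom (n : ℕ) : gam G n →* Abelianization (gam G n) ⧸ ((gam G (n + 1)).subgroupOf (gam G n)).map Abelianization.of :=
  (QuotientGroup.mk' _).comp Abelianization.of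

theorem facHom_surjective (n : ℕ) : Function.Surjective (facHom (G := G) n) :=
  (QuotientGroup.mk'_surjective _).comp (Quotient.mk_surjective)

theorem facHom_eq_one {n : ℕ} {g : gam G n} : facHom n g = 1 ↔ (g : G) ∈ gam G (n + 1) := by
  have hle : commutator (gam G n) ≤ (gam G (n + 1)).subgroupOf (gam G n) := by
    refine Subgroup.commutator_le.2 fun a _ b _ => ?_
    exact gam_anti (show n + 1 ≤ n + n + 1 by omega) (comm_mem a.2 b.2)
  rw [facHom, MonoidHom.comp_apply, QuotientGroup.mk'_apply, QuotientGroup.eq_one_iff,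
    ← Subgroup.mem_comap, Subgroup.comap_map_eq, Abelianization.ker_of, sup_eq_left.2 hle]
  rfl

open Classical in
/-- An element in a given degree. -/
noncomputable def el (n : ℕ) (g : G) : Car G :=
  if h : g ∈ gam G n then DirectSum.of (Fac G) n (Additive.ofMul (facHom n ⟨g, h⟩)) else 0

theorem el_of_mem {n : ℕ} {g : G} (h : g ∈ gam G n) :
    el n g = DirectSum.of (Fac G) n (Additive.ofMul (facHom n ⟨g, h⟩)) := dif_pos h

theorem el_mul {n : ℕ} {g h : G} (hg : g ∈ gam G n) (hh : h ∈ gam G n) : el n (g * h) = el n g + el n h := by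
  rw [el_of_mem (mul_mem hg hh), el_of_mem hg, el_of_mem hh, ← map_add, ← ofMul_mul, ← map_mul]; rfl

theorem el_eq_zero {n : ℕ} {g : G} (hg : g ∈ gam G (n + 1)) : el n g = 0 := by
  rw [el_of_mem (gam_anti n.le_succ hg), (facHom_eq_one (g := ⟨g, gam_anti n.le_succ hg⟩)).2 hg]
  exact map_zero _

theorem el_one (n : ℕ) : el n (1 : G) = 0 := el_eq_zero (one_mem _)

theorem el_inv {n : ℕ} {g : G} (hg : g ∈ gam G n) : el n g⁻¹ = - el n g :=
  eq_neg_of_add_eq_zero_left (by rw [← el_mul (inv_mem hg) hg, inv_mul_cancel, el_one])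

theorem mem_succ_of_el_eq_zero {n : ℕ} {g : G} (hg : g ∈ gam G n) (h : el n g = 0) : g ∈ gam G (n + 1) := by
  rw [el_of_mem hg, ← map_zero (DirectSum.of (Fac G) n)] at h
  exact facHom_eq_one.1 (show facHom n ⟨g, hg⟩ = 1 from DirectSum.of_injective n h)

theorem el_conj {n : ℕ} (c : G) {g : G} (hg : g ∈ gam G n) : el n (c * g * c⁻¹) = el n g := by
  have h : ⁅c, g⁆ ∈ gam G (n + 1) := by simpa using comm_mem (show c ∈ gam G 0 from Subgroup.mem_top c) hg
  rw [show c * g * c⁻¹ = ⁅c, g⁆ * g by rw [commutatorElement_def]; group,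
    el_mul (gam_anti n.le_succ h) hg, el_eq_zero h, zero_add]

theorem induction_el {P : Car G → Prop} (h0 : P 0) (hadd : ∀ x y, P x → P y → P (x + y))
    (hel : ∀ n g, g ∈ gam G n → P (el n g)) (x : Car G) : P x := by
  induction x using DirectSum.induction_on with
  | zero => exact h0
  | of n y =>
    obtain ⟨⟨g, hg⟩, he⟩ := facHom_surjective n y.toMul
    have h1 := hel n g hg
    rw [el_of_mem hg, he, ofMul_toMul] at h1
    exact h1
  | add x y hx hy => exact hadd x y hx hy

/-- Homomorphisms out of a factor. -/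
def liftFac {M : Type*} [AddCommGroup M] (n : ℕ) (f : gam G n →* Multiplicative M)
    (hf : ∀ g : gam G n, (g : G) ∈ gam G (n + 1) → f g = 1) : Fac G n →+ M :=
  MonoidHom.toAdditiveLeft (QuotientGroup.lift _ (Abelianization.lift f) (by
    rintro _ ⟨g, hg, rfl⟩
    rw [MonoidHom.mem_ker, Abelianization.lift_apply_of]
    exact hf g hg))

theorem liftFac_apply {M : Type*} [AddCommGroup M] (n : ℕ) (f : gam G n →* Multiplicative M) (hf)
    (g : gam G n) : liftFac n f hf (Additive.ofMul (facHom n g)) = (f g).toAdd := rfl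

theorem addHom_ext {M : Type*} [AddCommGroup M] {n : ℕ} {f g : Fac G n →+ M}
    (h : ∀ x : gam G n, f (Additive.ofMul (facHom n x)) = g (Additive.ofMul (facHom n x))) : f = g := by
  refine AddMonoidHom.ext fun y => ?_
  obtain ⟨x, hx⟩ := facHom_surjective n y.toMul
  have h1 := h x
  rwa [hx, ofMul_toMul] at h1

theorem el_comm_add_left {i j : ℕ} {a b h : G} (ha : a ∈ gam G i) (hb : b ∈ gam G i) (hh : h ∈ gam G j) :
    el (i + j + 1) ⁅a * b, h⁆ = el (i + j + 1) ⁅a, h⁆ + el (i + j + 1) ⁅b, h⁆ := by
  rw [show ⁅a * b, h⁆ = (a * ⁅b, h⁆ * a⁻¹) * ⁅a, h⁆ by simp only [commutatorElement_def]; group,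
    el_mul (Subgroup.Normal.conj_mem inferInstance _ (comm_mem hb hh) a) (comm_mem ha hh),
    el_conj a (comm_mem hb hh), add_comm]

theorem el_comm_add_right {i j : ℕ} {g a b : G} (hg : g ∈ gam G i) (ha : a ∈ gam G j) (hb : b ∈ gam G j) :
    el (i + j + 1) ⁅g, a * b⁆ = el (i + j + 1) ⁅g, a⁆ + el (i + j + 1) ⁅g, b⁆ := by
  rw [show ⁅g, a * b⁆ = ⁅g, a⁆ * (a * ⁅g, b⁆ * a⁻¹) by simp only [commutatorElement_def]; group,
    el_mul (comm_mem hg ha) (Subgroup.Normal.conj_mem inferInstance _ (comm_mem hg hb) a),
    el_conj a (comm_mem hg hb)]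

/-- The bracket with a homogeneous element on the left. -/
noncomputable def leftHom (i : ℕ) (g : gam G i) : Car G →+ Car G :=
  DirectSum.toAddMonoid fun j => liftFac j
    { toFun := fun h => Multiplicative.ofAdd (el (i + j + 1) ⁅(g : G), (h : G)⁆)
      map_one' := by simp [el_one]
      map_mul' := fun a b => by
        rw [Subgroup.coe_mul, el_comm_add_right g.2 a.2 b.2]; rfl }
    (fun h hh => by
      show Multiplicative.ofAdd _ = 1
      rw [el_eq_zero (by simpa [add_assoc, add_comm, add_left_comm] using comm_mem g.2 hh)]; rfl)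

theorem leftHom_el {i j : ℕ} (g : gam G i) {h : G} (hh : h ∈ gam G j) :
    leftHom i g (el j h) = el (i + j + 1) ⁅(g : G), h⁆ := by
  rw [el_of_mem hh, leftHom, DirectSum.toAddMonoid_of]; rfl

/-- The bracket. -/
noncomputable def bracketHom : Car G →+ Car G →+ Car G :=
  DirectSum.toAddMonoid fun i => liftFac i
    { toFun := fun g => Multiplicative.ofAdd (leftHom i g)
      map_one' := by
        show Multiplicative.ofAdd _ = Multiplicative.ofAdd 0
        congr 1
        refine AddMonoidHom.ext fun x => ?_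
        induction x using induction_el with
        | h0 => simp
        | hadd x y hx hy => simp [hx, hy]
        | hel n h hh => rw [leftHom_el _ hh]; simp [el_one]
      map_mul' := fun a b => by
        show Multiplicative.ofAdd _ = Multiplicative.ofAdd (_ + _)
        congr 1
        refine AddMonoidHom.ext fun x => ?_
        induction x using induction_el with
        | h0 => simp
        | hadd x y hx hy => simp only [map_add, hx, hy]
        | hel n h hh =>
          rw [AddMonoidHom.add_apply, toAdd_ofAdd, toAdd_ofAdd, leftHom_el _ hh, leftHom_el _ hh, leftHom_el _ hh]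
          exact el_comm_add_left a.2 b.2 hh }
    (fun g hg => by
      show Multiplicative.ofAdd _ = Multiplicative.ofAdd 0
      congr 1
      refine AddMonoidHom.ext fun x => ?_
      induction x using induction_el with
      | h0 => simp
      | hadd x y hx hy => simp [hx, hy]
      | hel n h hh =>
        rw [leftHom_el _ hh, el_eq_zero (by
          simpa [add_assoc, add_comm, add_left_comm] using comm_mem hg hh)]
        rfl)

theorem bracketHom_el {i j : ℕ} {g h : G} (hg : g ∈ gam G i) (hh : h ∈ gam G j) :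
    bracketHom (el i g) (el j h) = el (i + j + 1) ⁅g, h⁆ := by
  conv_lhs => rw [el_of_mem hg, bracketHom, DirectSum.toAddMonoid_of]
  exact leftHom_el ⟨g, hg⟩ hh

theorem hall_witt (x y z : G) :
    (y * ⁅x, ⁅y⁻¹, z⁆⁆ * y⁻¹) * (z * ⁅y, ⁅z⁻¹, x⁆⁆ * z⁻¹) * (x * ⁅z, ⁅x⁻¹, y⁆⁆ * x⁻¹) = 1 := by
  simp only [commutatorElement_def]; group

theorem el_jacobi {i j k : ℕ} {x y z : G} (hx : x ∈ gam G i) (hy : y ∈ gam G j) (hz : z ∈ gam G k) :
    bracketHom (el i x) (bracketHom (el j y) (el k z)) + bracketHom (el j y) (bracketHom (el k z) (el i x)) +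
      bracketHom (el k z) (bracketHom (el i x) (el j y)) = 0 := by
  have hy' := inv_mem hy
  have hz' := inv_mem hz
  have hx' := inv_mem hx
  set n := i + (j + k + 1) + 1 with hn
  have e₁ : ∀ {a b c : ℕ} {u v w : G}, u ∈ gam G a → v ∈ gam G b → w ∈ gam G c → a + (b + c + 1) + 1 = n →
      ∀ d : G, el n (d * ⁅u, ⁅v⁻¹, w⁆⁆ * d⁻¹) = - bracketHom (el a u) (bracketHom (el b v) (el c w)) ∧
        d * ⁅u, ⁅v⁻¹, w⁆⁆ * d⁻¹ ∈ gam G n := by
    intro a b c u v w hu hv hw he d
    have hm : ⁅u, ⁅v⁻¹, w⁆⁆ ∈ gam G n := he ▸ comm_mem hu (comm_mem (inv_mem hv) hw)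
    refine ⟨?_, Subgroup.Normal.conj_mem inferInstance _ hm d⟩
    rw [el_conj d hm, ← he, ← bracketHom_el hu (comm_mem (inv_mem hv) hw),
      ← bracketHom_el (inv_mem hv) hw, el_inv hv]
    simp only [map_neg, AddMonoidHom.neg_apply]
  have h1 := e₁ hx hy hz hn.symm y
  have h2 := e₁ hy hz hx (by omega) z
  have h3 := e₁ hz hx hy (by omega) x
  have h := congrArg (el n) (hall_witt x y z)
  rw [el_mul (mul_mem h1.2 h2.2) h3.2, el_mul h1.2 h2.2, h1.1, h2.1, h3.1, el_one] at h
  rw [← neg_eq_zero]
  rw [← h]; abel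

theorem el_skew {i j : ℕ} {g h : G} (hg : g ∈ gam G i) (hh : h ∈ gam G j) :
    bracketHom (el i g) (el j h) = - bracketHom (el j h) (el i g) := by
  rw [bracketHom_el hg hh, bracketHom_el hh hg, show j + i + 1 = i + j + 1 by omega,
    ← el_inv (by simpa [add_comm i j] using comm_mem hh hg), commutatorElement_inv]

theorem bracketHom_skew (x y : Car G) : bracketHom x y = - bracketHom y x := by
  induction x using induction_el with
  | h0 => simp
  | hadd a b ha hb => simp only [map_add, AddMonoidHom.add_apply, ha, hb]; abel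
  | hel n g hg =>
    induction y using induction_el with
    | h0 => simp
    | hadd a b ha hb => simp only [map_add, AddMonoidHom.add_apply, ha, hb]; abel
    | hel m h hh => exact el_skew hg hh

theorem bracketHom_self (x : Car G) : bracketHom x x = 0 := by
  induction x using induction_el with
  | h0 => simp
  | hadd a b ha hb =>
    simp only [map_add, AddMonoidHom.add_apply, ha, hb, bracketHom_skew a b]; abel
  | hel n g hg => rw [bracketHom_el hg hg, commutatorElement_self, el_one]

theorem bracketHom_jacobi (x y z : Car G) :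
    bracketHom x (bracketHom y z) + bracketHom y (bracketHom z x) + bracketHom z (bracketHom x y) = 0 := by
  induction x using induction_el with
  | h0 => simp
  | hadd a b ha hb =>
    simp only [map_add, AddMonoidHom.add_apply]
    refine Eq.trans ?_ ((congrArg₂ (· + ·) ha hb).trans (add_zero 0))
    abel
  | hel n u hu =>
    induction y using induction_el with
    | h0 => simp
    | hadd a b ha hb =>
      simp only [map_add, AddMonoidHom.add_apply]
      refine Eq.trans ?_ ((congrArg₂ (· + ·) ha hb).trans (add_zero 0))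
      abel
    | hel m v hv =>
      induction z using induction_el with
      | h0 => simp
      | hadd a b ha hb =>
        simp only [map_add, AddMonoidHom.add_apply]
        refine Eq.trans ?_ ((congrArg₂ (· + ·) ha hb).trans (add_zero 0))
        abel
      | hel k w hw => exact el_jacobi hu hv hw

noncomputable instance instLieRingCar : LieRing (Car G) where
  bracket x y := bracketHom x y
  add_lie x y z := by show bracketHom _ _ = _; rw [map_add]; rfl
  lie_add x y z := map_add _ _ _
  lie_self := bracketHom_self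
  leibniz_lie x y z := by
    show bracketHom x (bracketHom y z) = bracketHom (bracketHom x y) z + bracketHom y (bracketHom x z)
    have h := bracketHom_jacobi x y z
    rw [bracketHom_skew (bracketHom x y) z, bracketHom_skew x z, map_neg]
    rw [← sub_eq_zero, ← h]; abel

theorem lie_el {i j : ℕ} {g h : G} (hg : g ∈ gam G i) (hh : h ∈ gam G j) :
    ⁅el i g, el j h⁆ = el (i + j + 1) ⁅g, h⁆ :=
  bracketHom_el hg hh

end CfsgLib.Solv.GLie
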