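import Cfsg.Agent.Solv.KrekninLie
import Cfsg.Agent.Solv.GroupLieRing

/-!
Groups with a fixed-point-free automorphism of prime order have bounded class.
-/

set_option autoImplicit false
set_option linter.unusedSectionVars false

open scoped commutatorElement DirectSum TensorProduct

namespace CfsgLib.Solv.Krek

open CfsgLib.Solv.GLie

variable {G : Type*} [Group G] [Finite G]

theorem map_mem_gam (φ : G ≃* G) {n : ℕ} {g : G} (hg : g ∈ gam G n) : φ g ∈ gam G n := by
  have h := Subgroup.map_lowerCentralSeries (⊤ : Subgroup G) φ.toMonoidHom n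
  rw [Subgroup.map_top_of_surjective _ φ.surjective] at h
  exact le_of_eq h (Subgroup.mem_map_of_mem φ.toMonoidHom hg)

/-- The action on the Lie ring. -/
noncomputable def carMap (φ : G ≃* G) : Car G →+ Car G :=
  DirectSum.toAddMonoid fun n => liftFac n
    { toFun := fun g => Multiplicative.ofAdd (el n (φ (g : G)))
      map_one' := by simp [el_one]
      map_mul' := fun a b => by
        rw [Subgroup.coe_mul, map_mul, el_mul (map_mem_gam φ a.2) (map_mem_gam φ b.2)]; rfl }
    (fun g hg => by
      show Multiplicative.ofAdd _ = 1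
      rw [el_eq_zero (map_mem_gam φ hg)]; rfl)

theorem carMap_el (φ : G ≃* G) {n : ℕ} {g : G} (hg : g ∈ gam G n) : carMap φ (el n g) = el n (φ g) := by
  rw [el_of_mem hg, carMap, DirectSum.toAddMonoid_of]; rfl

theorem carMap_lie (φ : G ≃* G) (x y : Car G) : carMap φ ⁅x, y⁆ = ⁅carMap φ x, carMap φ y⁆ := by
  induction x using induction_el with
  | h0 => simp
  | hadd a b ha hb => simp only [map_add, add_lie, ha, hb]
  | hel n g hg =>
    induction y using induction_el with
    | h0 => simp
    | hadd a b ha hb => simp only [map_add, lie_add, ha, hb]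
    | hel m h hh =>
      rw [lie_el hg hh, carMap_el φ (comm_mem hg hh), carMap_el φ hg, carMap_el φ hh,
        lie_el (map_mem_gam φ hg) (map_mem_gam φ hh), map_commutatorElement]

theorem el_list_prod {n : ℕ} : ∀ l : List G, (∀ g ∈ l, g ∈ gam G n) → el n l.prod = (l.map (el n)).sum
  | [], _ => by simp [el_one]
  | g :: l, h => by
    have hl : l.prod ∈ gam G n := list_prod_mem fun x hx => h x (List.mem_cons_of_mem _ hx)
    rw [List.prod_cons, el_mul (h g (List.mem_cons_self ..)) hl,
      el_list_prod l fun x hx => h x (List.mem_cons_of_mem _ hx)]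
    rfl

theorem el_nsmul {n : ℕ} {g : G} (hg : g ∈ gam G n) : ∀ k : ℕ, k • el n g = el n (g ^ k)
  | 0 => by simp [el_one]
  | k + 1 => by rw [succ_nsmul, el_nsmul hg k, pow_succ, el_mul (pow_mem hg k) hg]

theorem card_nsmul_car (x : Car G) : Nat.card G • x = 0 := by
  induction x using induction_el with
  | h0 => simp
  | hadd a b ha hb => rw [nsmul_add, ha, hb, add_zero]
  | hel n g hg => rw [el_nsmul hg, pow_card_eq_one', el_one]

theorem not_dvd_card_of_fpf {p : ℕ} [hp : Fact p.Prime] (φ : MulAut G) (hφ : φ ^ p = 1)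
    (hfpf : ∀ g : G, φ g = g → g = 1) : ¬ p ∣ Nat.card G := by
  intro hd
  have hP : IsPGroup p (Subgroup.zpowers φ) := fun ⟨x, hx⟩ => ⟨1, Subtype.ext (by
    obtain ⟨i, rfl⟩ := Subgroup.mem_zpowers_iff.1 hx
    show (φ ^ i) ^ p ^ 1 = 1
    rw [pow_one, ← zpow_natCast, ← zpow_mul, mul_comm, zpow_mul, zpow_natCast, hφ, one_zpow])⟩
  have h1 := hP.card_modEq_card_fixedPoints (α := G)
  have h2 : MulAction.fixedPoints (Subgroup.zpowers φ) G = {1} := by
    ext g
    rw [Set.mem_singleton_iff]
    refine ⟨fun h => hfpf g (h ⟨φ, Subgroup.mem_zpowers φ⟩), ?_⟩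
    rintro rfl a
    exact map_one (a : MulAut G)
  rw [Nat.card_congr (Equiv.setCongr h2), show Nat.card ({1} : Set G) = 1 from Nat.card_unique] at h1
  have := (Nat.modEq_zero_iff_dvd.2 hd).symm.trans h1
  rw [Nat.ModEq, Nat.zero_mod, Nat.one_mod_eq_one.2 hp.out.one_lt.ne'] at this
  exact absurd this zero_ne_one

variable (p : ℕ) [Fact p.Prime]

/-- The cyclotomic integers. -/
abbrev Cyc : Type := AdjoinRoot (Polynomial.cyclotomic p ℤ)

/-- A primitive root of unity. -/
noncomputable def rt : Cyc p := AdjoinRoot.root (Polynomial.cyclotomic p ℤ)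

theorem sum_rt : ∑ i ∈ Finset.range p, rt p ^ i = 0 := by
  have h := congrArg (AdjoinRoot.mk (Polynomial.cyclotomic p ℤ)) (Polynomial.cyclotomic_prime ℤ p)
  rw [AdjoinRoot.mk_self, map_sum] at h
  replace h := h.symm
  simpa [rt, map_pow, AdjoinRoot.mk_X] using h

theorem rt_pow : rt p ^ p = 1 := by
  have h := geom_sum_mul (rt p) p
  rw [sum_rt, zero_mul] at h
  exact (sub_eq_zero.1 h.symm)

/-- The characters. -/
noncomputable def chi (a : ZMod p) : Cyc p := rt p ^ a.val

theorem chi_add (a b : ZMod p) : chi p (a + b) = chi p a * chi p b := by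
  rw [chi, chi, chi, ZMod.val_add, ← pow_add]
  exact (pow_eq_pow_mod _ (rt_pow p)).symm

theorem chi_zero : chi p 0 = 1 := by simp [chi]

theorem sum_zmod {M : Type*} [AddCommMonoid M] (f : ℕ → M) :
    ∑ a : ZMod p, f a.val = ∑ i ∈ Finset.range p, f i :=
  Finset.sum_bij (fun a _ => a.val) (fun a _ => Finset.mem_range.2 (ZMod.val_lt a))
    (fun a _ b _ h => ZMod.val_injective p h)
    (fun i hi => ⟨(i : ZMod p), Finset.mem_univ _, ZMod.val_natCast_of_lt (Finset.mem_range.1 hi)⟩)
    (fun a _ => rfl)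

theorem sum_chi (d : ZMod p) : ∑ a : ZMod p, chi p (d * a) = if d = 0 then (p : Cyc p) else 0 := by
  split_ifs with h
  · subst h; simp [chi_zero]
  · exact (Equiv.sum_comp (Equiv.mulLeft₀ d h) (chi p)).trans
      ((sum_zmod p (fun i => rt p ^ i)).trans (sum_rt p))

theorem tmul_injective {M : Type*} [AddCommGroup M] {x : M} (h : (1 : Cyc p) ⊗ₜ[ℤ] x = 0) : x = 0 := by
  have hm := Polynomial.cyclotomic.monic p ℤ
  set B := AdjoinRoot.powerBasis' hm with hB
  have hd : 0 < B.dim := by
    rw [hB, AdjoinRoot.powerBasis'_dim, Polynomial.natDegree_cyclotomic]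
    exact Nat.totient_pos.2 (Fact.out : p.Prime).pos
  have h1 := congrArg (fun t => TensorProduct.lid ℤ M (LinearMap.rTensor M (B.basis.coord ⟨0, hd⟩) t)) h
  simp only [LinearMap.rTensor_tmul, TensorProduct.lid_tmul, map_zero] at h1
  have e : B.basis.coord ⟨0, hd⟩ (1 : Cyc p) = 1 := by
    have : (1 : Cyc p) = B.basis ⟨0, hd⟩ := by rw [B.coe_basis]; simp
    rw [this, Module.Basis.coord_apply, Module.Basis.repr_self, Finsupp.single_eq_same]
  rwa [e, one_smul] at h1

/-- The extended Lie ring. -/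
abbrev Ext (G : Type*) [Group G] : Type _ := Cyc p ⊗[ℤ] Car G

/-- The extended action. -/
noncomputable def extMap (φ : G ≃* G) : Ext p G →ₗ[Cyc p] Ext p G :=
  LinearMap.baseChange (Cyc p) (carMap φ).toIntLinearMap

theorem extMap_tmul (φ : G ≃* G) (r : Cyc p) (x : Car G) : extMap p φ (r ⊗ₜ x) = r ⊗ₜ carMap φ x := rfl

theorem ext_lie_zero (x : Ext p G) : ⁅x, (0 : Ext p G)⁆ = 0 := lie_zero x

theorem ext_lie_add (x y z : Ext p G) : ⁅x, y + z⁆ = ⁅x, y⁆ + ⁅x, z⁆ := lie_add x y z

theorem ext_smul_lie_smul (a b : Cyc p) (x y : Ext p G) : ⁅a • x, b • y⁆ = (a * b) • ⁅x, y⁆ :=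
  (smul_lie a x (b • y)).trans ((congrArg (a • ·) (lie_smul b x y)).trans (smul_smul a b _))

theorem extMap_lie (φ : G ≃* G) (x y : Ext p G) : extMap p φ ⁅x, y⁆ = ⁅extMap p φ x, extMap p φ y⁆ := by
  induction x using TensorProduct.induction_on with
  | zero => simp
  | add a b ha hb => simp only [map_add, add_lie, ha, hb]
  | tmul r u =>
    induction y using TensorProduct.induction_on with
    | zero => simp only [ext_lie_zero, map_zero]
    | add a b ha hb => simp only [map_add, ext_lie_add, ha, hb]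
    | tmul s v =>
      simp only [LieAlgebra.ExtendScalars.bracket_tmul, extMap_tmul, carMap_lie]

/-- Powers of the action indexed by residues. -/
noncomputable def act (φ : MulAut G) (a : ZMod p) : Ext p G →ₗ[Cyc p] Ext p G := extMap p (φ ^ a.val)

theorem carMap_comp (φ ψ : MulAut G) (x : Car G) : carMap φ (carMap ψ x) = carMap (φ * ψ) x := by
  induction x using induction_el with
  | h0 => simp
  | hadd a b ha hb => simp only [map_add, ha, hb]
  | hel n g hg => rw [carMap_el _ hg, carMap_el _ (map_mem_gam ψ hg), carMap_el _ hg]; rfl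

theorem extMap_comp (φ ψ : MulAut G) (x : Ext p G) : extMap p φ (extMap p ψ x) = extMap p (φ * ψ) x := by
  induction x using TensorProduct.induction_on with
  | zero => simp
  | add a b ha hb => simp only [map_add, ha, hb]
  | tmul r u => simp only [extMap_tmul, carMap_comp]

theorem extMap_one (x : Ext p G) : extMap p (1 : MulAut G) x = x := by
  induction x using TensorProduct.induction_on with
  | zero => simp
  | add a b ha hb => simp only [map_add, ha, hb]
  | tmul r u =>
    rw [extMap_tmul]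
    congr 1
    induction u using induction_el with
    | h0 => simp
    | hadd a b ha hb => simp only [map_add, ha, hb]
    | hel n g hg => rw [carMap_el _ hg]; rfl

theorem carMap_sum (φ : MulAut G) (hφ : φ ^ p = 1) (hfpf : ∀ g : G, φ g = g → g = 1) (x : Car G) :
    ∑ a : ZMod p, carMap (φ ^ a.val) x = 0 := by
  induction x using induction_el with
  | h0 => simp
  | hadd a b ha hb => simp only [map_add, Finset.sum_add_distrib, ha, hb, add_zero]
  | hel n g hg =>
    simp only [carMap_el _ hg]
    rw [sum_zmod p (fun i => el n ((φ ^ i) g))]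
    have hit : ∀ i : ℕ, (⇑(φ : G →* G))^[i] = ⇑(φ ^ i) := by
      intro i
      induction i with
      | zero => rfl
      | succ i ih => rw [Function.iterate_succ', ih, pow_succ']; rfl
    have hprod := MonoidHom.FixedPointFree.prod_pow_eq_one (φ := (φ : G →* G)) hfpf (n := p)
      (by rw [hit, hφ]; rfl) g
    have := congrArg (el n) hprod
    rw [el_one, el_list_prod _ (by
      intro x hx
      obtain ⟨i, -, rfl⟩ := List.mem_map.1 hx
      rw [hit]; exact map_mem_gam _ hg), List.map_map] at this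
    rw [← this, ← List.sum_toFinset _ List.nodup_range, List.toFinset_range]
    exact Finset.sum_congr rfl fun i _ => by simp only [Function.comp_apply, hit]

theorem act_sum (φ : MulAut G) (hφ : φ ^ p = 1) (hfpf : ∀ g : G, φ g = g → g = 1) (x : Ext p G) :
    ∑ a : ZMod p, act p φ a x = 0 := by
  induction x using TensorProduct.induction_on with
  | zero => simp
  | add a b ha hb => simp only [map_add, Finset.sum_add_distrib, ha, hb, add_zero]
  | tmul r u =>
    simp only [act, extMap_tmul, ← TensorProduct.tmul_sum, carMap_sum p φ hφ hfpf u, TensorProduct.tmul_zero]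

theorem exists_grading (φ : MulAut G) (hφ : φ ^ p = 1) (hfpf : ∀ g : G, φ g = g → g = 1) :
    ∃ Gr : Grading (Ext p G) p, Gr.IsGraded ⊤ := by
  obtain ⟨hp, hcop⟩ := And.intro (Fact.out : p.Prime) ((Fact.out : p.Prime).coprime_iff_not_dvd.2
    (not_dvd_card_of_fpf φ hφ hfpf))
  set u : Cyc p := ((Nat.gcdA p (Nat.card G) : ℤ) : Cyc p) with hu
  have hcard : ∀ x : Ext p G, (Nat.card G : Cyc p) • x = 0 := by
    intro x
    rw [Nat.cast_smul_eq_nsmul]
    induction x using TensorProduct.induction_on with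
    | zero => simp
    | add a b ha hb => rw [nsmul_add, ha, hb, add_zero]
    | tmul r v => rw [TensorProduct.smul_tmul', TensorProduct.smul_tmul, card_nsmul_car, TensorProduct.tmul_zero]
  have hup : ∀ x : Ext p G, (u * (p : Cyc p)) • x = x := by
    intro x
    have h := congrArg (fun z : ℤ => (z : Cyc p)) (Nat.gcd_eq_gcd_ab p (Nat.card G))
    rw [hcop.gcd_eq_one] at h
    push_cast at h
    have h2 : u * (p : Cyc p) = 1 - (Nat.gcdB p (Nat.card G) : Cyc p) * (Nat.card G : Cyc p) := by
      rw [h, hu]; ring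
    rw [h2, sub_smul, one_smul, mul_smul, hcard, smul_zero, sub_zero]
  let C : ZMod p → AddSubgroup (Ext p G) := fun c =>
    (extMap p φ - chi p c • LinearMap.id).toAddMonoidHom.ker
  have hC : ∀ c x, x ∈ C c ↔ extMap p φ x = chi p c • x := fun c x => by
    show extMap p φ x - chi p c • x = 0 ↔ _
    exact sub_eq_zero
  have hact : ∀ a x, extMap p φ (act p φ a x) = act p φ (a + 1) x := by
    intro a x
    rw [act, act, extMap_comp, ← pow_succ']
    congr 2
    rw [ZMod.val_add, ZMod.val_one, pow_eq_pow_mod (a.val + 1) hφ]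
  have hact0 : ∀ x, act p φ 0 x = x := fun x => by rw [act, ZMod.val_zero, pow_zero, extMap_one]
  have heig : ∀ {c x}, x ∈ C c → ∀ a, act p φ a x = chi p (c * a) • x := by
    intro c x hx a
    have : ∀ n : ℕ, extMap p (φ ^ n) x = chi p (c * (n : ZMod p)) • x := by
      intro n
      induction n with
      | zero => rw [pow_zero, extMap_one, Nat.cast_zero, mul_zero, chi_zero, one_smul]
      | succ n ih =>
        rw [pow_succ', ← extMap_comp, ih, map_smul, (hC c x).1 hx, smul_smul, ← chi_add, Nat.cast_succ,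
          mul_add, mul_one]
    rw [act, this, ZMod.natCast_zmod_val]
  let P : ZMod p → Ext p G →+ Ext p G := fun c =>
    (∑ a : ZMod p, (u * chi p (-(c * a))) • act p φ a).toAddMonoidHom
  have hP : ∀ c x, P c x = ∑ a : ZMod p, (u * chi p (-(c * a))) • act p φ a x := fun c x => by
    show (∑ a : ZMod p, (u * chi p (-(c * a))) • act p φ a) x = _
    rw [LinearMap.sum_apply]; rfl
  have hPmem : ∀ c x, P c x ∈ C c := by
    intro c x
    rw [hC, hP, map_sum, Finset.smul_sum]
    simp only [map_smul, hact, smul_smul]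
    refine Fintype.sum_equiv (Equiv.addRight (1 : ZMod p)) _ _ fun a => ?_
    show _ = (chi p c * (u * chi p (-(c * (a + 1))))) • act p φ (a + 1) x
    rw [mul_left_comm, ← chi_add, show c + -(c * (a + 1)) = -(c * a) by ring]
  have hPeig : ∀ c d x, x ∈ C d → P c x = if d = c then x else 0 := by
    intro c d x hx
    rw [hP]
    simp only [heig hx, smul_smul, mul_assoc, ← chi_add]
    rw [← Finset.sum_smul, ← Finset.mul_sum]
    simp only [show ∀ a, -(c * a) + d * a = (d - c) * a from fun a => by ring, sum_chi, sub_eq_zero]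
    split_ifs with h
    · exact hup x
    · rw [mul_zero, zero_smul]
  refine ⟨⟨C, P, ?_, ?_, fun {c x} hx => by rw [hPeig c c x hx, if_pos rfl],
    fun {c d x} hx hne => by rw [hPeig c d x hx, if_neg hne]⟩, ?_⟩
  · refine eq_bot_iff.2 fun x hx => AddSubgroup.mem_bot.2 ?_
    have h1 := hPeig 0 0 x hx
    rw [if_pos rfl, hP] at h1
    simp only [zero_mul, neg_zero, chi_zero, mul_one] at h1
    rw [← h1, ← Finset.smul_sum, act_sum p φ hφ hfpf, smul_zero]
  · intro a b x y hx hy
    rw [hC] at hx hy ⊢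
    rw [extMap_lie, hx, hy, ext_smul_lie_smul, chi_add]
  · intro x _
    have hx : x = ∑ c : ZMod p, P c x := by
      simp only [hP]
      rw [Finset.sum_comm]
      simp only [← Finset.sum_smul, ← Finset.mul_sum]
      rw [Finset.sum_eq_single (0 : ZMod p)]
      · have h0 : (∑ c : ZMod p, chi p (-(c * 0))) = (p : Cyc p) := by
          simp only [mul_zero, neg_zero, chi_zero]
          rw [Finset.sum_const, Finset.card_univ, ZMod.card, nsmul_eq_mul, mul_one]
        rw [hact0, h0]
        exact (hup x).symm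
      · intro a _ ha
        have h2 := sum_chi p (-a)
        rw [if_neg (neg_ne_zero.2 ha)] at h2
        rw [show ∑ c : ZMod p, chi p (-(c * a)) = 0 by
          rw [← h2]; exact Finset.sum_congr rfl fun c _ => by ring_nf]
        rw [mul_zero, zero_smul]
      · intro h; exact absurd (Finset.mem_univ _) h
    rw [hx]
    exact sum_mem fun c _ => AddSubgroup.mem_iSup_of_mem c ⟨AddSubgroup.mem_top _, hPmem c x⟩

theorem tmul_el_mem_low : ∀ (n : ℕ) {g : G}, g ∈ gam G n →
    ((1 : Cyc p) ⊗ₜ[ℤ] el n g : Ext p G) ∈ low (⊤ : AddSubgroup (Ext p G)) n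
  | 0, g, _ => AddSubgroup.mem_top _
  | n + 1, g, hg => by
    let S : Subgroup G :=
      { carrier := {g | g ∈ gam G (n + 1) ∧
          ((1 : Cyc p) ⊗ₜ[ℤ] el (n + 1) g : Ext p G) ∈ low (⊤ : AddSubgroup (Ext p G)) (n + 1)}
        one_mem' := ⟨one_mem _, by rw [el_one, TensorProduct.tmul_zero]; exact zero_mem _⟩
        mul_mem' := fun {a b} ha hb => ⟨mul_mem ha.1 hb.1, by
          rw [el_mul ha.1 hb.1, TensorProduct.tmul_add]; exact add_mem ha.2 hb.2⟩
        inv_mem' := fun {a} ha => ⟨inv_mem ha.1, by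
          rw [el_inv ha.1, TensorProduct.tmul_neg]; exact neg_mem ha.2⟩ }
    refine (show gam G (n + 1) ≤ S from ?_) hg |>.2
    refine Subgroup.commutator_le.2 fun a ha b _ => ⟨Subgroup.commutator_mem_commutator ha (Subgroup.mem_top b), ?_⟩
    have hb : b ∈ gam G 0 := Subgroup.mem_top b
    have e : ((1 : Cyc p) ⊗ₜ[ℤ] el (n + 1) ⁅a, b⁆ : Ext p G) =
        ⁅(1 : Cyc p) ⊗ₜ[ℤ] el n a, (1 : Cyc p) ⊗ₜ[ℤ] el 0 b⁆ := by
      rw [LieAlgebra.ExtendScalars.bracket_tmul, lie_el ha hb, one_mul]
    rw [e]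
    exact lie_mem_br (tmul_el_mem_low n ha) (AddSubgroup.mem_top _)

theorem gam_eq_bot_of_low [Group.IsNilpotent G] {m : ℕ} (h : low (⊤ : AddSubgroup (Ext p G)) m = ⊥) :
    gam G m = ⊥ := by
  have hle : gam G m ≤ gam G (m + 1) := fun g hg => mem_succ_of_el_eq_zero hg
    (tmul_injective p (AddSubgroup.mem_bot.1 (h ▸ tmul_el_mem_low p m hg)))
  have hall : ∀ k, gam G m ≤ gam G (m + k) := by
    intro k
    induction k with
    | zero => exact le_rfl
    | succ k ih =>
      refine hle.trans ?_
      show ⁅gam G m, (⊤ : Subgroup G)⁆ ≤ ⁅gam G (m + k), ⊤⁆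
      exact Subgroup.commutator_mono ih le_rfl
  obtain ⟨c, hc⟩ := Subgroup.nilpotent_iff_lowerCentralSeries.1 ‹Group.IsNilpotent G›
  exact eq_bot_iff.2 ((hall c).trans ((gam_anti (Nat.le_add_left c m)).trans hc.le))

theorem class_bounds [Group.IsNilpotent G] (φ : MulAut G) (hφ : φ ^ p = 1)
    (hfpf : ∀ g : G, φ g = g → g = 1) :
    gam G (bound p (2 ^ (p - 1) - 1)) = ⊥ ∧ (p = 3 → gam G 2 = ⊥) := by
  obtain ⟨Gr, hGr⟩ := exists_grading p φ hφ hfpf
  exact ⟨gam_eq_bot_of_low p (Gr.low_eq_bot _ ⊤ hGr le_top (Gr.der_eq_bot hGr le_top)),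
    fun h3 => gam_eq_bot_of_low p (Gr.low_two_of_three h3 hGr)⟩

end CfsgLib.Solv.Krek
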