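import Cfsg.Agent.Solv.UpperSeries
import Cfsg.Agent.Solv.FittingBasic
import Cfsg.Agent.Solv.CoprimeSylow
import Cfsg.Agent.Solv.TransvectionTransfer

/-!
Exponent and `p`-length when the other Sylow subgroups are abelian.
-/

set_option autoImplicit false
set_option linter.style.haveILetI false
set_option linter.deprecated false
set_option linter.unusedSectionVars false

open scoped commutatorElement

namespace CfsgLib.Solv.PLenAb

open CfsgLib.Solv

/-- Elimination in a ring: a family of twisted copies of a commuting family cannot be dependent unless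
`(1 - c)` is nilpotent. -/
theorem eliminate {R : Type*} [Ring R] {B : Type*} [Group B] (m : ℕ) (hm : 0 < m) (σ : ℕ → B →* R) (xs : ℕ → R)
    (hσ : ∀ i j a b, Commute (σ i a) (σ j b))
    (hN : ∀ a, ∑ i ∈ Finset.range m, σ i a * xs i = 0)
    (h0 : xs 0 = 1) (c : R) (hc : ∀ i a, Commute c (σ i a))
    (hd : ∀ k, 0 < k → k < m → ∃ b, σ k b = σ 0 b * c) :
    (1 - c) ^ (m - 1) = 0 := by
  classical
  have key : ∀ S : Finset ℕ, S ⊆ (Finset.range m).erase 0 → ∃ e : ℕ → R,
      (∀ a, ∑ i ∈ Finset.range m, e i * σ i a * xs i = 0) ∧ (∀ i ∈ S, e i = 0) ∧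
      (∀ i j a, Commute (e i) (σ j a)) ∧ ∃ u : R, IsUnit u ∧ e 0 = u * (1 - c) ^ S.card := by
    intro S
    induction S using Finset.induction with
    | empty =>
      exact fun _ => ⟨fun _ => 1, fun a => by simpa using hN a, by simp,
        fun i j a => Commute.one_left _, 1, isUnit_one, by simp⟩
    | @insert k S hkS ih =>
      intro hsub
      obtain ⟨e, he, heS, hcomm, u, hu, hu0⟩ := ih ((Finset.subset_insert k S).trans hsub)
      obtain ⟨hk0, hkm⟩ := Finset.mem_erase.1 (hsub (Finset.mem_insert_self k S))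
      obtain ⟨b, hb⟩ := hd k (Nat.pos_of_ne_zero hk0) (Finset.mem_range.1 hkm)
      refine ⟨fun i => e i * (σ i b - σ k b), fun a => ?_, ?_, fun i j a =>
        (hcomm i j a).mul_left ((hσ i j b a).sub_left (hσ k j b a)), u * σ 0 b,
        hu.mul ⟨⟨σ 0 b, σ 0 b⁻¹, by rw [← map_mul, mul_inv_cancel, map_one],
          by rw [← map_mul, inv_mul_cancel, map_one]⟩, rfl⟩, ?_⟩
      · calc ∑ i ∈ Finset.range m, e i * (σ i b - σ k b) * σ i a * xs i
            = (∑ i ∈ Finset.range m, e i * σ i (b * a) * xs i) -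
              σ k b * ∑ i ∈ Finset.range m, e i * σ i a * xs i := by
              rw [Finset.mul_sum, ← Finset.sum_sub_distrib]
              refine Finset.sum_congr rfl fun i _ => ?_
              rw [mul_sub, sub_mul, sub_mul, map_mul]
              simp only [mul_assoc]
              rw [← mul_assoc (e i) (σ k b), (hcomm i k b).eq, mul_assoc]
          _ = 0 := by rw [he, he, mul_zero, sub_zero]
      · intro i hi
        show e i * (σ i b - σ k b) = 0
        rcases Finset.mem_insert.1 hi with rfl | hi'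
        · rw [sub_self, mul_zero]
        · rw [heS i hi', zero_mul]
      · show e 0 * (σ 0 b - σ k b) = u * σ 0 b * (1 - c) ^ (insert k S).card
        rw [hu0, hb, Finset.card_insert_of_notMem hkS, pow_succ',
          show σ 0 b - σ 0 b * c = σ 0 b * (1 - c) by rw [mul_sub, mul_one]]
        have hcomm' : Commute ((1 - c) ^ S.card) (σ 0 b) :=
          ((Commute.one_left _).sub_left (hc 0 b)).pow_left _
        rw [mul_assoc, ← mul_assoc ((1 - c) ^ S.card), hcomm'.eq, mul_assoc (σ 0 b),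
          ← pow_succ, ← pow_succ']
        simp only [mul_assoc]
  obtain ⟨e, he, heS, -, u, hu, hu0⟩ := key _ subset_rfl
  have h := he 1
  rw [Finset.sum_eq_single_of_mem 0 (Finset.mem_range.2 hm) (fun i hi hi0 => by
      rw [heS i (Finset.mem_erase.2 ⟨hi0, hi⟩), zero_mul, zero_mul]), map_one, h0, mul_one, mul_one,
    hu0, Finset.card_erase_of_mem (Finset.mem_range.2 hm), Finset.card_range] at h
  exact hu.mul_right_eq_zero.1 h

variable {G : Type*} [Group G] [Finite G] {p : ℕ} [hp : Fact p.Prime]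

set_option maxHeartbeats 1000000 in
/-- With `O_{p'}(G) = 1` the exponent of a Sylow subgroup drops modulo `O_p(G)`. -/
theorem pow_mem_pCore (hG : Cfsg.IsPSolvable p G) (hO : Cfsg.pPrimeCore p G = ⊥)
    (hab : ∀ (q : ℕ) [Fact q.Prime], q ≠ p → ∀ Q : Sylow q G, IsMulCommutative (Q : Subgroup G))
    (n : ℕ) (hexp : ∀ (P : Sylow p G), ∀ x ∈ (P : Subgroup G), x ^ p ^ (n + 1) = 1)
    (P : Sylow p G) {x : G} (hx : x ∈ (P : Subgroup G)) : x ^ p ^ n ∈ Cfsg.pCore p G := by
  classical
  by_contra hy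
  set P0 := Cfsg.pCore p G
  haveI : P0.Normal := pCore_normal G p
  have hP0p : IsPGroup p P0 := pCore_isPGroup G p
  have hcent := CfsgLib.Perm.centralizer_pCore_le_of_pSolvable hG hO
  set F := (frattini P0).map P0.subtype with hF
  haveI : F.Normal := normal_map_subtype_of_characteristic (frattini P0)
  set π := QuotientGroup.mk' F
  set V := P0.map π
  haveI : V.Normal := Subgroup.Normal.map inferInstance _ (QuotientGroup.mk'_surjective _)
  haveI hVc : IsMulCommutative V := ⟨⟨fun ⟨_, a, ha, ea⟩ ⟨_, b, hb, eb⟩ => Subtype.ext (by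
    subst ea eb
    show π a * π b = π b * π a
    refine commutatorElement_eq_one_iff_mul_comm.1 ?_
    rw [← map_commutatorElement]
    exact (QuotientGroup.eq_one_iff _).2 ⟨⁅⟨a, ha⟩, ⟨b, hb⟩⁆,
      commutator_le_frattini hP0p (Subgroup.commutator_mem_commutator (Subgroup.mem_top _)
        (Subgroup.mem_top _)), rfl⟩)⟩⟩
  have hVp : ∀ v ∈ V, v ^ p = 1 := by
    rintro _ ⟨a, ha, rfl⟩
    rw [← map_pow]
    exact (QuotientGroup.eq_one_iff _).2 ⟨⟨a, ha⟩ ^ p, pow_mem_frattini hP0p ⟨a, ha⟩, rfl⟩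
  letI : CommGroup V :=
    { (inferInstance : Group V) with mul_comm := fun a b => hVc.is_comm.comm a b }
  let R := AddMonoid.End (Additive V)
  let ρ : G →* R :=
    { toFun := fun g => MonoidHom.toAdditive ((MulAut.conjNormal (π g) : MulAut V).toMonoidHom)
      map_one' := by
        refine AddMonoidHom.ext fun a => Additive.toMul.injective ?_
        show (MulAut.conjNormal (π 1) : MulAut V) (Additive.toMul a) = Additive.toMul a
        rw [map_one, map_one, MulAut.one_apply]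
      map_mul' := fun g h => by
        refine AddMonoidHom.ext fun a => Additive.toMul.injective ?_
        show (MulAut.conjNormal (π (g * h)) : MulAut V) (Additive.toMul a) =
          (MulAut.conjNormal (π g) : MulAut V) ((MulAut.conjNormal (π h) : MulAut V) (Additive.toMul a))
        rw [map_mul, map_mul, MulAut.mul_apply] }
  have hρ : ∀ g (v : V), ((Additive.toMul (ρ g (Additive.ofMul v)) : V) : G ⧸ F) = π g * v * (π g)⁻¹ :=
    fun g v => MulAut.conjNormal_apply _ _
  have hker : ∀ g, ρ g = 1 → g ∈ P0 := by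
    -- the kernel is a normal `p`-subgroup
    have hkerle : ∀ g, ρ g = 1 → ∀ k ∈ P0, ⁅g, k⁆ ∈ F := by
      intro g hg k hk
      rw [← QuotientGroup.eq_one_iff]
      show π ⁅g, k⁆ = 1
      have h := hρ g ⟨π k, k, hk, rfl⟩
      rw [hg] at h
      rw [map_commutatorElement, commutatorElement_def, ← h]
      exact mul_inv_cancel _
    have hpg : IsPGroup p ρ.ker := by
      rintro ⟨g, hg⟩
      obtain ⟨a, b, hb, hab'⟩ := Nat.exists_eq_pow_mul_and_not_dvd (orderOf_pos g).ne' p hp.out.ne_one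
      refine ⟨a, Subtype.ext ?_⟩
      show g ^ p ^ a = 1
      set z := g ^ p ^ a
      have hzb : z ^ b = 1 := by rw [← pow_mul, ← hab', pow_orderOf_eq_one]
      have hcop : (orderOf z).Coprime p := (Nat.Coprime.coprime_dvd_left (orderOf_dvd_of_pow_eq_one hzb)
        ((hp.out.coprime_iff_not_dvd.2 hb).symm))
      have hz : z ∈ P0 := by
        refine hcent (le_centralizer_of_trivial_on_frattini_quotient (A := Subgroup.zpowers z) ?_ ?_
          (Subgroup.mem_zpowers z))
        · obtain ⟨j, hj⟩ := (hP0p.to_subgroup (frattini P0)).exists_card_eq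
          rw [Nat.card_zpowers, hj]
          exact hcop.pow_right j
        · intro w hw k hk
          refine hkerle w ?_ k hk
          exact MonoidHom.mem_ker.1 (Subgroup.zpowers_le.2 (pow_mem hg _) hw)
      obtain ⟨j, hj⟩ := hP0p ⟨z, hz⟩
      have hj' : z ^ p ^ j = 1 := by simpa using congrArg Subtype.val hj
      exact orderOf_eq_one_iff.1 (Nat.eq_one_of_dvd_coprimes (hcop.pow_right j) dvd_rfl
        (orderOf_dvd_of_pow_eq_one hj'))
    exact fun g hg => le_pCore hpg (MonoidHom.mem_ker.2 hg)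
  -- the quotient modulo `P0`
  set H := G ⧸ P0
  set mk := QuotientGroup.mk' P0
  set m := p ^ (n + 1) with hm
  set xb := mk x
  set yb := xb ^ p ^ n with hyb
  have hyb1 : yb ≠ 1 := fun h => hy ((QuotientGroup.eq_one_iff _).1 (by rw [← h, hyb, ← map_pow]; rfl))
  have hxm : xb ^ m = 1 := by rw [← map_pow, hexp P x hx, map_one]
  haveI : (Cfsg.pPrimeCore p H).Normal := pPrimeCore_normal H p
  set Rc := Cfsg.pPrimeCore p H with hRc
  have hOH : Cfsg.pCore p H = ⊥ := pCore_quotient_self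
  have hCR := FFP.centralizer_pPrimeCore_le_of_pSolvable (CfsgLib.Perm.isPSolvable_quotient hG P0) hOH
  have hAc : (Nat.card (Subgroup.zpowers xb)).Coprime (Nat.card Rc) := by
    rw [Nat.card_zpowers]
    exact ((pPrimeCore_coprime H p).symm.pow_left _).coprime_dvd_left (orderOf_dvd_of_pow_eq_one hxm)
  have hAR : Subgroup.zpowers xb ≤ Subgroup.normalizer (Rc : Set H) :=
    (Subgroup.normalizer_eq_top (H := Rc)).symm ▸ le_top
  have hyR : yb ∉ Subgroup.centralizer (Rc : Set H) := by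
    intro h
    have h1 : yb ∈ Subgroup.zpowers xb ⊓ Rc :=
      Subgroup.mem_inf.2 ⟨pow_mem (Subgroup.mem_zpowers xb) _, hCR h⟩
    rw [inf_eq_bot_of_coprime_card hAc, Subgroup.mem_bot] at h1
    exact hyb1 h1
  obtain ⟨q, hqf, Q0, hQA, hQy⟩ : ∃ (q : ℕ) (_ : Fact q.Prime) (Q0 : Sylow q Rc),
      Subgroup.zpowers xb ≤ Subgroup.normalizer (((Q0 : Subgroup Rc).map Rc.subtype : Subgroup H) : Set H) ∧
      yb ∉ Subgroup.centralizer (((Q0 : Subgroup Rc).map Rc.subtype : Subgroup H) : Set H) := by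
    by_contra hno
    refine hyR (Subgroup.mem_centralizer_iff.2 fun r hr => ?_)
    set Cy := (Subgroup.centralizer ({yb} : Set H)).subgroupOf Rc with hCy
    suffices hCtop : Cy = ⊤ by
      exact Subgroup.mem_centralizer_singleton_iff.1 (show (⟨r, hr⟩ : Rc).1 ∈ _ from
        Subgroup.mem_subgroupOf.1 (hCtop.ge (Subgroup.mem_top (⟨r, hr⟩ : Rc))))
    rw [← Subgroup.index_eq_one]
    refine Nat.eq_one_iff_not_exists_prime_dvd.2 fun q hq hqd => ?_
    haveI := Fact.mk hq
    obtain ⟨Q0, hQ0⟩ := exists_invariant_sylow (p := q) hAR hAc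
      (Or.inl (Group.isSolvable_of_comm fun a b => mul_comm' a b))
    refine Q0.not_dvd_index (hqd.trans (Subgroup.index_dvd_of_le fun r hr => ?_))
    rw [hCy, Subgroup.mem_subgroupOf, Subgroup.mem_centralizer_singleton_iff]
    by_contra hne
    refine hno ⟨q, ⟨hq⟩, Q0, hQ0, fun h => hne ?_⟩
    exact (Subgroup.mem_centralizer_iff.1 h r.1 ⟨r, hr, rfl⟩)
  set Q := (Q0 : Subgroup Rc).map Rc.subtype with hQ
  have hQq : IsPGroup q Q := Q0.2.map _
  obtain ⟨a0, ha0, ha0y⟩ : ∃ a ∈ Q, a * yb ≠ yb * a := by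
    by_contra h
    push Not at h
    exact hQy (Subgroup.mem_centralizer_iff.2 h)
  have hqp : q ≠ p := by
    rintro rfl
    obtain ⟨k, hk⟩ := hQq ⟨a0, ha0⟩
    have h1 : orderOf a0 ∣ q ^ k := orderOf_dvd_of_pow_eq_one (by simpa using congrArg Subtype.val hk)
    have h2 : orderOf a0 ∣ Nat.card Rc := by
      rw [show a0 = ((⟨a0, Subgroup.map_subtype_le _ ha0⟩ : Rc) : H) from rfl, Subgroup.orderOf_coe]
      exact orderOf_dvd_natCard _
    have := Nat.eq_one_of_dvd_coprimes ((pPrimeCore_coprime H q).symm.pow_left k) h1 h2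
    exact ha0y (by rw [orderOf_eq_one_iff.1 this, one_mul, mul_one])
  haveI hQc : IsMulCommutative Q := by
    obtain ⟨S, hS⟩ := hQq.exists_le_sylow
    obtain ⟨T, rfl⟩ := Sylow.mapSurjective_surjective (QuotientGroup.mk'_surjective P0) q S
    have hT := hab q hqp T
    refine ⟨⟨fun a b => Subtype.ext ?_⟩⟩
    obtain ⟨a', ha', ea⟩ := hS a.2
    obtain ⟨b', hb', eb⟩ := hS b.2
    show (a : H) * b = b * a
    rw [← ea, ← eb, ← map_mul, ← map_mul,
      show a' * b' = b' * a' from congrArg Subtype.val (hT.is_comm.comm ⟨a', ha'⟩ ⟨b', hb'⟩)]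
  have hcm : ∀ {a b : H}, a ∈ Q → b ∈ Q → a * b = b * a := fun ha hb =>
    congrArg Subtype.val (hQc.is_comm.comm ⟨_, ha⟩ ⟨_, hb⟩)
  have hconjQ : ∀ (g : H), g ∈ Subgroup.zpowers xb → ∀ a ∈ Q, g * a * g⁻¹ ∈ Q :=
    fun g hg a ha => le_normalizer_iff_forall_conj_mem.1 hQA g hg a ha
  have hymem : yb ∈ Subgroup.zpowers xb := pow_mem (Subgroup.mem_zpowers xb) _
  -- the image of `a ↦ [y, a]`
  let δ : Q →* H := MonoidHom.mk' (fun a => yb * a * yb⁻¹ * (a : H)⁻¹) fun a b => by
    show yb * ((a : H) * b) * yb⁻¹ * ((a : H) * b)⁻¹ = yb * a * yb⁻¹ * (a : H)⁻¹ * (yb * b * yb⁻¹ * (b : H)⁻¹)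
    have h1 : yb * (b : H) * yb⁻¹ * (b : H)⁻¹ ∈ Q := mul_mem (hconjQ _ hymem _ b.2) (inv_mem b.2)
    calc yb * ((a : H) * b) * yb⁻¹ * ((a : H) * b)⁻¹
        = (yb * a * yb⁻¹) * ((yb * b * yb⁻¹ * (b : H)⁻¹) * (a : H)⁻¹) := by group
      _ = (yb * a * yb⁻¹) * ((a : H)⁻¹ * (yb * b * yb⁻¹ * (b : H)⁻¹)) := by rw [hcm h1 (inv_mem a.2)]
      _ = _ := by group
  set B := δ.range with hB
  have hBQ : B ≤ Q := by rintro _ ⟨a, rfl⟩; exact mul_mem (hconjQ _ hymem _ a.2) (inv_mem a.2)
  have hBinv : ∀ g ∈ Subgroup.zpowers xb, ∀ b ∈ B, g * b * g⁻¹ ∈ B := by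
    rintro g hg _ ⟨a, rfl⟩
    refine ⟨⟨g * a * g⁻¹, hconjQ g hg _ a.2⟩, ?_⟩
    show yb * (g * a * g⁻¹) * yb⁻¹ * (g * a * g⁻¹)⁻¹ = g * (yb * a * yb⁻¹ * (a : H)⁻¹) * g⁻¹
    obtain ⟨i, rfl⟩ := Subgroup.mem_zpowers_iff.1 hg
    have hc : Commute yb (xb ^ i) := ((Commute.refl xb).zpow_right i).pow_left _
    calc yb * (xb ^ i * a * (xb ^ i)⁻¹) * yb⁻¹ * (xb ^ i * a * (xb ^ i)⁻¹)⁻¹
        = (yb * xb ^ i) * a * (yb * xb ^ i)⁻¹ * (xb ^ i * (a : H)⁻¹ * (xb ^ i)⁻¹) := by group
      _ = (xb ^ i * yb) * a * (xb ^ i * yb)⁻¹ * (xb ^ i * (a : H)⁻¹ * (xb ^ i)⁻¹) := by rw [hc.eq]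
      _ = _ := by group
  have hyp : yb ^ p = 1 := by rw [hyb, ← pow_mul, ← pow_succ]; exact hxm
  have hqcop : ∀ b : H, b ∈ Q → b ^ p = 1 → b = 1 := by
    intro b hb hbp
    obtain ⟨k, hk⟩ := hQq ⟨b, hb⟩
    exact orderOf_eq_one_iff.1 (Nat.eq_one_of_dvd_coprimes
      (((Nat.coprime_primes hqf.out hp.out).2 hqp).pow_left k)
      (orderOf_dvd_of_pow_eq_one (by simpa using congrArg Subtype.val hk))
      (orderOf_dvd_of_pow_eq_one hbp))
  have hBfix : ∀ b ∈ B, b * yb = yb * b → b = 1 := by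
    rintro _ ⟨a, rfl⟩ hb
    set b := δ a with hbdef
    have hconj : yb * a * yb⁻¹ = b * a := by
      show _ = yb * a * yb⁻¹ * (a : H)⁻¹ * a
      group
    have hpw : ∀ k : ℕ, yb ^ k * a * (yb ^ k)⁻¹ = b ^ k * a := by
      intro k
      induction k with
      | zero => simp
      | succ k ih =>
        rw [pow_succ', show yb * yb ^ k * a * (yb * yb ^ k)⁻¹ = yb * (yb ^ k * a * (yb ^ k)⁻¹) * yb⁻¹ by group, ih]
        have hbk : yb * b ^ k = b ^ k * yb := ((show Commute b yb from hb).pow_left k).eq.symm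
        rw [← mul_assoc, hbk, show b ^ k * yb * a * yb⁻¹ = b ^ k * (yb * a * yb⁻¹) by group, hconj,
          pow_succ, mul_assoc]
    have h := hpw p
    rw [hyp, one_mul, inv_one, mul_one] at h
    exact hqcop b (hBQ ⟨a, rfl⟩) (mul_eq_right.mp h.symm)
  obtain ⟨c0, hc0B, hc01⟩ : ∃ b ∈ B, b ≠ 1 := ⟨δ ⟨a0, ha0⟩, ⟨_, rfl⟩, fun h => ha0y (by
    have : yb * a0 * yb⁻¹ * a0⁻¹ = 1 := h
    rw [mul_inv_eq_one] at this
    calc a0 * yb = yb * a0 * yb⁻¹ * yb := by rw [this]
      _ = yb * a0 := by group)⟩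
  -- the operators
  let ρb : H →* R := QuotientGroup.lift P0 ρ fun g hg => by
    refine MonoidHom.mem_ker.2 ?_
    refine AddMonoidHom.ext fun v => Additive.toMul.injective (Subtype.ext ?_)
    show ((Additive.toMul (ρ g v) : V) : G ⧸ F) = ((Additive.toMul v : V) : G ⧸ F)
    rw [show v = Additive.ofMul (Additive.toMul v) from rfl, hρ]
    have h1 : π g * (Additive.toMul v : V) = (Additive.toMul v : V) * π g :=
      congrArg Subtype.val (hVc.is_comm.comm ⟨π g, Subgroup.mem_map_of_mem π hg⟩ (Additive.toMul v))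
    rw [h1, mul_inv_cancel_right]
    rfl
  have hinj : ∀ h : H, ρb h = 1 → h = 1 := by
    intro h hh
    obtain ⟨g, rfl⟩ := QuotientGroup.mk'_surjective P0 h
    exact (QuotientGroup.eq_one_iff g).2 (hker g hh)
  let σ : ℕ → B →* R := fun i => ρb.comp ((MulAut.conj (xb ^ i)).toMonoidHom.comp B.subtype)
  have hN : ∑ i ∈ Finset.range m, ρb (xb ^ i) = 0 := by
    refine AddMonoidHom.ext fun v => ?_
    obtain ⟨v, rfl⟩ := Additive.ofMul.surjective v
    obtain ⟨_, u, hu, rfl⟩ := v
    let ev : R →+ Additive V :=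
      { toFun := fun f => f (Additive.ofMul (⟨π u, u, hu, rfl⟩ : V))
        map_zero' := rfl
        map_add' := fun _ _ => rfl }
    show ev (∑ i ∈ Finset.range m, ρb (xb ^ i)) = ev 0
    rw [map_sum, map_zero]
    have hpow : ∀ k : ℕ, ((Additive.toMul (∑ i ∈ Finset.range k,
        ρb (xb ^ i) (Additive.ofMul (⟨π u, u, hu, rfl⟩ : V))) : V) : G ⧸ F) =
        π ((u * x) ^ k * (x ^ k)⁻¹) := by
      intro k
      induction k with
      | zero => simp
      | succ k ih =>
        rw [Finset.sum_range_succ_comm, toMul_add, Subgroup.coe_mul, ih, ← map_pow mk]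
        show ((Additive.toMul (ρ (x ^ k) _) : V) : G ⧸ F) * _ = _
        rw [hρ]
        have hcomm : Commute (π (x ^ k) * π u * (π (x ^ k))⁻¹) (π ((u * x) ^ k * (x ^ k)⁻¹)) := by
          have h1 : (u * x) ^ k * (x ^ k)⁻¹ ∈ P0 := by
            rw [← QuotientGroup.eq_one_iff]
            show mk _ = 1
            rw [map_mul, map_inv, map_pow, map_pow, map_mul,
              show mk u = 1 from (QuotientGroup.eq_one_iff u).2 hu, one_mul, mul_inv_cancel]
          exact congrArg Subtype.val (hVc.is_comm.comm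
            ⟨_, Subgroup.Normal.conj_mem inferInstance (π u) (Subgroup.mem_map_of_mem π hu) _⟩ ⟨_, Subgroup.mem_map_of_mem π h1⟩)
        rw [hcomm.eq, ← map_inv, ← map_mul, ← map_mul, ← map_mul, pow_succ, pow_succ]
        congr 1
        group
    refine Additive.toMul.injective (Subtype.ext ?_)
    refine (hpow m).trans ?_
    rw [hexp P _ (mul_mem (pCore_le_sylow P hu) hx), hexp P x hx, inv_one, mul_one, map_one]
    rfl
  have hρn : ∀ (i : ℕ) (b : B), σ i b * ρb (xb ^ i) = ρb (xb ^ i) * ρb b := fun i b => by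
    show ρb (xb ^ i * b * (xb ^ i)⁻¹) * ρb (xb ^ i) = _
    rw [← map_mul, ← map_mul, inv_mul_cancel_right]
  have hres := eliminate m (pow_pos hp.out.pos _) σ (fun i => ρb (xb ^ i))
    (fun i j a b => (show Commute _ _ from hcm (hBQ (hBinv _ (pow_mem (Subgroup.mem_zpowers xb) i) _ a.2))
      (hBQ (hBinv _ (pow_mem (Subgroup.mem_zpowers xb) j) _ b.2))).map ρb)
    (fun a => by simp_rw [hρn, ← Finset.sum_mul, hN, zero_mul])
    (by rw [pow_zero, map_one]) (ρb c0)
    (fun i a => (show Commute _ _ from hcm (hBQ hc0B)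
      (hBQ (hBinv _ (pow_mem (Subgroup.mem_zpowers xb) i) _ a.2))).map ρb)
    (fun k hk hkm => by
      set g := xb ^ k with hg
      have hgz : g ∈ Subgroup.zpowers xb := pow_mem (Subgroup.mem_zpowers xb) k
      let ε : B → B := fun b => ⟨(b : H)⁻¹ * (g * b * g⁻¹), mul_mem (inv_mem b.2) (hBinv g hgz _ b.2)⟩
      have hεinj : Function.Injective ε := by
        intro b b' he
        have he' : (b : H)⁻¹ * (g * b * g⁻¹) = (b' : H)⁻¹ * (g * b' * g⁻¹) := congrArg Subtype.val he
        set d := (b' : H) * (b : H)⁻¹ with hd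
        have hdB : d ∈ B := mul_mem b'.2 (inv_mem b.2)
        have hgd : g * d = d * g := by
          have h1 : g * b' * g⁻¹ = d * (g * b * g⁻¹) := by
            calc g * b' * g⁻¹ = (b' : H) * ((b' : H)⁻¹ * (g * b' * g⁻¹)) := by group
            _ = (b' : H) * ((b : H)⁻¹ * (g * b * g⁻¹)) := by rw [he']
            _ = d * (g * b * g⁻¹) := by rw [hd]; group
          calc g * d = (g * b' * g⁻¹) * (g * b * g⁻¹)⁻¹ * g := by rw [hd]; group
            _ = d * g := by rw [h1]; group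
        have hyd : d * yb = yb * d := by
          obtain ⟨t, ht, htg⟩ := (Nat.dvd_prime_pow hp.out).1 (Nat.gcd_dvd_right k m)
          have htn : t ≤ n := by
            by_contra hlt
            have : t = n + 1 := by omega
            rw [this, ← hm] at htg
            have := Nat.le_of_dvd hk (htg ▸ Nat.gcd_dvd_left k m)
            omega
          have hgcd : xb ^ p ^ t ∈ Subgroup.zpowers g := by
            refine ⟨Nat.gcdA k m, ?_⟩
            show g ^ Nat.gcdA k m = _
            have h2 := Nat.gcd_eq_gcd_ab k m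
            rw [← zpow_natCast xb (p ^ t), ← htg, h2, zpow_add, zpow_mul, zpow_mul, zpow_natCast,
              zpow_natCast, hxm, one_zpow, mul_one, hg]
          have hyg : yb ∈ Subgroup.zpowers g := by
            rw [hyb, show p ^ n = p ^ t * p ^ (n - t) by rw [← pow_add]; congr 1; omega, pow_mul]
            exact pow_mem hgcd _
          obtain ⟨i, hi⟩ := Subgroup.mem_zpowers_iff.1 hyg
          rw [← hi]
          exact ((show Commute d g from hgd.symm).zpow_right i).eq
        refine Subtype.ext ?_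
        have := hBfix d hdB hyd
        exact (mul_inv_eq_one.1 (hd ▸ this)).symm
      obtain ⟨b, hb⟩ := (Finite.injective_iff_surjective.1 hεinj) ⟨c0, hc0B⟩
      refine ⟨b, ?_⟩
      show ρb (g * b * g⁻¹) = ρb (xb ^ 0 * b * (xb ^ 0)⁻¹) * ρb c0
      have hb' : (b : H)⁻¹ * (g * b * g⁻¹) = c0 := congrArg Subtype.val hb
      rw [← map_mul, ← hb', pow_zero, one_mul, inv_one, mul_one, mul_inv_cancel_left])
  -- conclude
  haveI : Nontrivial R := by
    refine ⟨ρb c0, 1, fun h => hc01 (hinj _ h)⟩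
  haveI : CharP R p := (CharP.charP_iff_prime_eq_zero hp.out).2 (by
    refine AddMonoidHom.ext fun v => Additive.toMul.injective (Subtype.ext ?_)
    show (((Additive.toMul v : V) ^ p : V) : G ⧸ F) = 1
    rw [SubmonoidClass.coe_pow]
    exact hVp _ (Additive.toMul v).2)
  have h3 : (1 - ρb c0) ^ p ^ (n + 1) = 0 := pow_eq_zero_of_le (Nat.sub_le _ _) hres
  rw [sub_pow_char_pow_of_commute p (n + 1) (Commute.one_left _), one_pow, sub_eq_zero, ← map_pow] at h3
  have h4 := hinj _ h3.symm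
  obtain ⟨k, hk⟩ := hQq ⟨c0, hBQ hc0B⟩
  exact hc01 (orderOf_eq_one_iff.1 (Nat.eq_one_of_dvd_coprimes
    ((((Nat.coprime_primes hqf.out hp.out).2 hqp).pow k (n + 1)))
    (orderOf_dvd_of_pow_eq_one (by simpa using congrArg Subtype.val hk))
    (orderOf_dvd_of_pow_eq_one h4)))

theorem plen : ∀ (n : ℕ) (G : Type*) [Group G] [Finite G], Cfsg.IsPSolvable p G →
    (∀ (q : ℕ) [Fact q.Prime], q ≠ p → ∀ Q : Sylow q G, IsMulCommutative (Q : Subgroup G)) →
    (∀ (P : Sylow p G), ∀ x ∈ (P : Subgroup G), x ^ p ^ n = 1) → Cfsg.PLengthLE p n G := by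
  intro n
  induction n with
  | zero =>
    intro G _ _ hG hab hexp
    rw [Upper.plen_zero_iff]
    intro hd
    obtain ⟨x, hx⟩ := exists_prime_orderOf_dvd_card' p hd
    obtain ⟨P, hP⟩ := (IsPGroup.of_card (n := 1) (p := p) (G := Subgroup.zpowers x)
      (by rw [Nat.card_zpowers, hx, pow_one])).exists_le_sylow
    have := hexp P x (hP (Subgroup.mem_zpowers x))
    rw [pow_zero, pow_one] at this
    rw [this, orderOf_one] at hx
    exact hp.out.one_lt.ne hx
  | succ n ih =>
    intro G _ _ hG hab hexp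
    haveI := pPrimeCore_normal G p
    refine Upper.plen_of_quotient_coprime (Cfsg.pPrimeCore p G) (pPrimeCore_coprime G p) ?_
    set π := QuotientGroup.mk' (Cfsg.pPrimeCore p G)
    have hπ : Function.Surjective π := QuotientGroup.mk'_surjective _
    set G1 := G ⧸ Cfsg.pPrimeCore p G
    haveI := pCore_normal G1 p
    have hG1 := CfsgLib.Perm.isPSolvable_quotient hG (Cfsg.pPrimeCore p G)
    have hab1 : ∀ (q : ℕ) [Fact q.Prime], q ≠ p → ∀ Q : Sylow q G1, IsMulCommutative (Q : Subgroup G1) := by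
      intro q _ hqp Q
      obtain ⟨T, rfl⟩ := Sylow.mapSurjective_surjective hπ q Q
      have hT := hab q hqp T
      refine ⟨⟨fun ⟨_, a, ha, ea⟩ ⟨_, b, hb, eb⟩ => Subtype.ext ?_⟩⟩
      subst ea eb
      show π a * π b = π b * π a
      rw [← map_mul, ← map_mul, show a * b = b * a from congrArg Subtype.val (hT.is_comm.comm ⟨a, ha⟩ ⟨b, hb⟩)]
    have hexp1 : ∀ (P : Sylow p G1), ∀ x ∈ (P : Subgroup G1), x ^ p ^ (n + 1) = 1 := by
      intro P
      obtain ⟨T, rfl⟩ := Sylow.mapSurjective_surjective hπ p P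
      rintro _ ⟨a, ha, rfl⟩
      rw [← map_pow, hexp T a ha, map_one]
    refine Upper.plen_lift pPrimeCore_quotient_self ?_
    set mk := QuotientGroup.mk' (Cfsg.pCore p G1)
    have hmk : Function.Surjective mk := QuotientGroup.mk'_surjective _
    refine ih _ (CfsgLib.Perm.isPSolvable_quotient hG1 _) (fun q _ hqp Q => ?_) fun P => ?_
    · obtain ⟨T, rfl⟩ := Sylow.mapSurjective_surjective hmk q Q
      have hT := hab1 q hqp T
      refine ⟨⟨fun ⟨_, a, ha, ea⟩ ⟨_, b, hb, eb⟩ => Subtype.ext ?_⟩⟩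
      subst ea eb
      show mk a * mk b = mk b * mk a
      rw [← map_mul, ← map_mul, show a * b = b * a from congrArg Subtype.val (hT.is_comm.comm ⟨a, ha⟩ ⟨b, hb⟩)]
    · obtain ⟨T, rfl⟩ := Sylow.mapSurjective_surjective hmk p P
      rintro _ ⟨a, ha, rfl⟩
      rw [← map_pow]
      exact (QuotientGroup.eq_one_iff _).2
        (pow_mem_pCore hG1 pPrimeCore_quotient_self hab1 n hexp1 T ha)

end CfsgLib.Solv.PLenAb
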