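import Cfsg.Agent.Solv.PLengthOne

/-!
The upper `p`-series: quotients, shifts and subdirect products; `PLengthLE` calculus.
-/

set_option autoImplicit false
set_option linter.style.haveILetI false
set_option linter.deprecated false

namespace CfsgLib.Solv.Upper

universe u

open Cfsg

variable {G Q : Type u} [Group G] [Group Q] {p : ℕ}

/-- The operator of one step at an even (`true`) or odd position. -/
def op (p : ℕ) (b : Bool) (X : Type u) [Group X] : Subgroup X :=
  cond b (Cfsg.pPrimeCore p X) (Cfsg.pCore p X)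

theorem op_map_le (b : Bool) {f : G →* Q} (hf : Function.Surjective f) : (op p b G).map f ≤ op p b Q := by
  cases b
  · exact CfsgLib.Solv.map_pCore_le hf
  · exact CfsgLib.Solv.map_pPrimeCore_le hf

theorem map_op_equiv (b : Bool) (e : G ≃* Q) : (op p b G).map e.toMonoidHom = op p b Q := by
  cases b
  · exact CfsgLib.Solv.map_pCore_equiv e
  · exact CfsgLib.Solv.map_pPrimeCore_equiv e

/-- Preimage of the operator at a normal subgroup. -/
def nxt (p : ℕ) (b : Bool) (V : Subgroup G) [V.Normal] : Subgroup G :=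
  (op p b (G ⧸ V)).comap (QuotientGroup.mk' V)

theorem series_succ (n : ℕ) :
    (upperPSeries p G (n + 1)).1 = nxt p (decide (Even n)) (upperPSeries p G n).1 := by
  by_cases he : Even n <;> simp [upperPSeries, nxt, op, he]

theorem le_nxt (b : Bool) (V : Subgroup G) [V.Normal] : V ≤ nxt p b V := fun x hx => by
  show QuotientGroup.mk' V x ∈ op p b (G ⧸ V)
  rw [show QuotientGroup.mk' V x = 1 from (QuotientGroup.eq_one_iff x).2 hx]
  exact one_mem _

/-- Monotonicity along surjective homomorphisms. -/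
theorem nxt_le_comap (b : Bool) {f : G →* Q} (hf : Function.Surjective f) (V : Subgroup G) [V.Normal]
    (U : Subgroup Q) [U.Normal] (hVU : V ≤ U.comap f) : nxt p b V ≤ (nxt p b U).comap f := by
  intro x hx
  set g : G ⧸ V →* Q ⧸ U := QuotientGroup.map V U f hVU
  have hg : Function.Surjective g := fun y => by
    obtain ⟨q, rfl⟩ := QuotientGroup.mk'_surjective U y
    obtain ⟨x, rfl⟩ := hf q
    exact ⟨QuotientGroup.mk' V x, rfl⟩
  exact op_map_le b hg ⟨_, hx, rfl⟩

theorem comap_nxt (b : Bool) {f : G →* Q} (hf : Function.Surjective f) (V : Subgroup G) [V.Normal]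
    (U : Subgroup Q) [U.Normal] (hV : V = U.comap f) : nxt p b V = (nxt p b U).comap f := by
  set h := (QuotientGroup.mk' U).comp f
  have hs : Function.Surjective h := (QuotientGroup.mk'_surjective U).comp hf
  have hk : V = h.ker := by rw [hV, ← MonoidHom.comap_ker, QuotientGroup.ker_mk']
  let e : G ⧸ V ≃* Q ⧸ U := (QuotientGroup.quotientMulEquivOfEq hk).trans
    (QuotientGroup.quotientKerEquivOfSurjective h hs)
  ext x
  show QuotientGroup.mk' V x ∈ op p b (G ⧸ V) ↔ h x ∈ op p b (Q ⧸ U)
  rw [← map_op_equiv (p := p) b e, show h x = e.toMonoidHom (QuotientGroup.mk' V x) from rfl]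
  exact (Subgroup.mem_map_iff_mem e.injective).symm

theorem series_le_comap (p : ℕ) {f : G →* Q} (hf : Function.Surjective f) : ∀ n,
    (upperPSeries p G n).1 ≤ (upperPSeries p Q n).1.comap f
  | 0 => bot_le
  | n + 1 => by
    rw [series_succ, series_succ]
    exact nxt_le_comap _ hf _ _ (series_le_comap p hf n)

theorem series_mono (p : ℕ) {m n : ℕ} (h : m ≤ n) : (upperPSeries p G m).1 ≤ (upperPSeries p G n).1 := by
  induction n, h using Nat.le_induction with
  | base => exact le_rfl
  | succ n _ ih => rw [series_succ]; exact ih.trans (le_nxt _ _)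

theorem plen_map {k : ℕ} {f : G →* Q} (hf : Function.Surjective f) (h : PLengthLE p k G) : PLengthLE p k Q := by
  refine top_unique fun y _ => ?_
  obtain ⟨x, rfl⟩ := hf y
  exact series_le_comap p hf _ (h.ge (Subgroup.mem_top x))

theorem plen_mono {k l : ℕ} (hkl : k ≤ l) (h : PLengthLE p k G) : PLengthLE p l G :=
  top_unique (h.ge.trans (series_mono p (by omega)))

theorem series_one (p : ℕ) : (upperPSeries p G 1).1 = pPrimeCore p G := by
  show (pPrimeCore p (G ⧸ (⊥ : Subgroup G))).comap (QuotientGroup.mk' (⊥ : Subgroup G)) = _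
  rw [← CfsgLib.Solv.map_pPrimeCore_equiv (p := p) (QuotientGroup.quotientBot (G := G)).symm]
  exact Subgroup.comap_map_eq_self_of_injective (f := QuotientGroup.mk' (⊥ : Subgroup G))
    (fun a b hab => by simpa [QuotientGroup.eq, inv_mul_eq_one] using hab) _

theorem series_shift (p : ℕ) : ∀ n : ℕ,
    (upperPSeries p G (n + 2)).1 =
      (upperPSeries p (G ⧸ (upperPSeries p G 2).1) n).1.comap (QuotientGroup.mk' (upperPSeries p G 2).1)
  | 0 => by
    show (upperPSeries p G 2).1 = (⊥ : Subgroup _).comap _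
    rw [MonoidHom.comap_bot, QuotientGroup.ker_mk']
  | n + 1 => by
    rw [series_succ n, show n + 1 + 2 = (n + 2) + 1 by omega, series_succ (n + 2),
      show decide (Even (n + 2)) = decide (Even n) by simp [Nat.even_add],
      comap_nxt _ (QuotientGroup.mk'_surjective _) _ _ (series_shift p n)]

/-- A normal `p'`-subgroup does not count. -/
theorem plen_of_quotient_coprime [Finite G] [Fact p.Prime] {k : ℕ} (R : Subgroup G) [R.Normal]
    (hR : (Nat.card R).Coprime p) (h : PLengthLE p k (G ⧸ R)) : PLengthLE p k G := by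
  have key : ∀ n, (upperPSeries p (G ⧸ R) (n + 1)).1.comap (QuotientGroup.mk' R) ≤ (upperPSeries p G (n + 1)).1 := by
    intro n
    induction n with
    | zero =>
      rw [series_one, series_one]
      refine CfsgLib.Solv.le_pPrimeCore (hN := (CfsgLib.Solv.pPrimeCore_normal (G ⧸ R) p).comap _) ?_
      have h1 : Nat.card ↥((pPrimeCore p (G ⧸ R)).comap (QuotientGroup.mk' R)) =
          Nat.card R * Nat.card (pPrimeCore p (G ⧸ R)) := by
        set N := (pPrimeCore p (G ⧸ R)).comap (QuotientGroup.mk' R)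
        have hRN : R ≤ N := fun x hx => by
          show QuotientGroup.mk' R x ∈ pPrimeCore p (G ⧸ R)
          rw [show QuotientGroup.mk' R x = 1 from (QuotientGroup.eq_one_iff x).2 hx]; exact one_mem _
        rw [← Subgroup.map_comap_eq_self_of_surjective (QuotientGroup.mk'_surjective R) (pPrimeCore p (G ⧸ R)),
          ← Subgroup.relIndex_ker, QuotientGroup.ker_mk', ← CfsgLib.Solv.card_subgroupOf hRN, Subgroup.relIndex,
          Subgroup.card_mul_index]
      rw [h1]
      exact hR.mul_left (CfsgLib.Solv.pPrimeCore_coprime _ p)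
    | succ n ih =>
      haveI : ((upperPSeries p (G ⧸ R) (n + 1)).1.comap (QuotientGroup.mk' R)).Normal := inferInstance
      rw [series_succ (n + 1), series_succ (n + 1),
        ← comap_nxt _ (QuotientGroup.mk'_surjective R) _ _ rfl]
      exact nxt_le_comap (f := MonoidHom.id G) _ Function.surjective_id _ _ ih
  exact top_unique (le_trans (by rw [show (upperPSeries p (G ⧸ R) (2 * k + 1)).1 = ⊤ from h, Subgroup.comap_top])
    (key (2 * k)))

/-- Removing `O_p` when `O_{p'} = 1`. -/
theorem plen_drop [Finite G] [Fact p.Prime] {k : ℕ} [(pCore p G).Normal] (hbot : pPrimeCore p G = ⊥)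
    (h : PLengthLE p (k + 1) G) : PLengthLE p k (G ⧸ pCore p G) := by
  have e : (upperPSeries p G 2).1 = pCore p G := by
    show (pCore p (G ⧸ (upperPSeries p G 1).1)).comap (QuotientGroup.mk' _) = _
    have h1 : (upperPSeries p G 1).1 = ⊥ := by rw [series_one, hbot]
    rw [← CfsgLib.Solv.map_pCore_equiv (p := p) ((QuotientGroup.quotientMulEquivOfEq h1).trans
      QuotientGroup.quotientBot).symm]
    exact Subgroup.comap_map_eq_self_of_injective (f := QuotientGroup.mk' (upperPSeries p G 1).1)
      (fun a b hab => by simpa [QuotientGroup.eq, h1, inv_mul_eq_one] using hab) _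
  have h2 : PLengthLE p k (G ⧸ (upperPSeries p G 2).1) := by
    have h3 := series_shift (G := G) p (2 * k + 1)
    rw [show 2 * k + 1 + 2 = 2 * (k + 1) + 1 by ring, show (upperPSeries p G (2 * (k + 1) + 1)).1 = ⊤ from h] at h3
    show _ = ⊤
    rw [← Subgroup.map_comap_eq_self_of_surjective (QuotientGroup.mk'_surjective (upperPSeries p G 2).1)
      (upperPSeries p (G ⧸ (upperPSeries p G 2).1) (2 * k + 1)).1, ← h3,
      Subgroup.map_top_of_surjective _ (QuotientGroup.mk'_surjective _)]
  exact plen_map (f := (QuotientGroup.quotientMulEquivOfEq e).toMonoidHom) (MulEquiv.surjective _) h2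

/-- Raising by one when the quotient by `O_p` is bounded and `O_{p'} = 1`. -/
theorem plen_lift [Finite G] [Fact p.Prime] {k : ℕ} [(pCore p G).Normal] (hbot : pPrimeCore p G = ⊥)
    (h : PLengthLE p k (G ⧸ pCore p G)) : PLengthLE p (k + 1) G := by
  have e : (upperPSeries p G 2).1 = pCore p G := by
    show (pCore p (G ⧸ (upperPSeries p G 1).1)).comap (QuotientGroup.mk' _) = _
    have h1 : (upperPSeries p G 1).1 = ⊥ := by rw [series_one, hbot]
    rw [← CfsgLib.Solv.map_pCore_equiv (p := p) ((QuotientGroup.quotientMulEquivOfEq h1).trans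
      QuotientGroup.quotientBot).symm]
    exact Subgroup.comap_map_eq_self_of_injective (f := QuotientGroup.mk' (upperPSeries p G 1).1)
      (fun a b hab => by simpa [QuotientGroup.eq, h1, inv_mul_eq_one] using hab) _
  have h2 : PLengthLE p k (G ⧸ (upperPSeries p G 2).1) :=
    plen_map (f := (QuotientGroup.quotientMulEquivOfEq e.symm).toMonoidHom) (MulEquiv.surjective _) h
  show _ = ⊤
  rw [show 2 * (k + 1) + 1 = 2 * k + 1 + 2 by ring, series_shift,
    show (upperPSeries p (G ⧸ (upperPSeries p G 2).1) (2 * k + 1)).1 = ⊤ from h2, Subgroup.comap_top]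

theorem plen_zero_iff [Finite G] [Fact p.Prime] : PLengthLE p 0 G ↔ ¬ p ∣ Nat.card G := by
  show (upperPSeries p G 1).1 = ⊤ ↔ _
  rw [series_one, ← (Fact.out : p.Prime).coprime_iff_not_dvd, Nat.coprime_comm]
  refine ⟨fun h => ?_, fun h => eq_top_iff.2 (CfsgLib.Solv.le_pPrimeCore (N := ⊤) (by rwa [Subgroup.card_top]))⟩
  have := CfsgLib.Solv.pPrimeCore_coprime G p
  rwa [h, Subgroup.card_top] at this

/-- A normal subgroup whose images lie in the cores lies in the next term. -/
theorem le_nxt_of_images [Finite G] [Fact p.Prime] {ι : Type*} [Fintype ι] (b : Bool) (W V : Subgroup G) [W.Normal]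
    [V.Normal] (Y : ι → Type u) [∀ i, Group (Y i)] [∀ i, Finite (Y i)] (φ : ∀ i, G →* Y i)
    (himg : ∀ x ∈ W, ∀ i, φ i x ∈ op p b (Y i)) (hker : ∀ x ∈ W, (∀ i, φ i x = 1) → x ∈ V) : W ≤ nxt p b V := by
  set π := QuotientGroup.mk' V
  haveI : (W.map π).Normal := Subgroup.Normal.map inferInstance π (QuotientGroup.mk'_surjective V)
  suffices hle : W.map π ≤ op p b (G ⧸ V) from Subgroup.map_le_iff_le_comap.1 hle
  have hpow : ∀ x ∈ W, ∀ m : ℕ, (∀ i, (φ i x) ^ m = 1) → (π x) ^ m = 1 := fun x hx m hm => by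
    rw [← map_pow]
    exact (QuotientGroup.eq_one_iff _).2 (hker _ (pow_mem hx m) fun i => by rw [map_pow]; exact hm i)
  cases b with
  | true =>
    refine CfsgLib.Solv.le_pPrimeCore ?_
    refine Nat.coprime_comm.1 ((Fact.out : p.Prime).coprime_iff_not_dvd.2 fun hdvd => ?_)
    obtain ⟨⟨y, x, hxW, rfl⟩, hyo⟩ := exists_prime_orderOf_dvd_card' p hdvd
    rw [← Subgroup.orderOf_coe] at hyo
    have h1 : (π x) ^ (∏ i, Nat.card (pPrimeCore p (Y i))) = 1 := hpow x hxW _ fun i =>
      orderOf_dvd_iff_pow_eq_one.1 ((Subgroup.orderOf_dvd_natCard _ (himg x hxW i)).trans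
        (Finset.dvd_prod_of_mem (fun i => Nat.card (pPrimeCore p (Y i))) (Finset.mem_univ i)))
    exact ((Fact.out : p.Prime).coprime_iff_not_dvd.1 (Nat.Coprime.prod_right fun i _ =>
      (CfsgLib.Solv.pPrimeCore_coprime (Y i) p).symm)) (hyo ▸ orderOf_dvd_of_pow_eq_one h1)
  | false =>
    refine CfsgLib.Solv.le_pCore (h := ?_)
    rintro ⟨y, x, hxW, rfl⟩
    have hk : ∀ i, ∃ a : ℕ, (φ i x) ^ p ^ a = 1 := fun i => by
      obtain ⟨a, ha⟩ := CfsgLib.Solv.pCore_isPGroup (Y i) p ⟨_, himg x hxW i⟩
      exact ⟨a, congrArg Subtype.val ha⟩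
    choose a ha using hk
    refine ⟨∑ i, a i, Subtype.ext ?_⟩
    exact hpow x hxW _ fun i => orderOf_dvd_iff_pow_eq_one.1 ((orderOf_dvd_of_pow_eq_one (ha i)).trans
      (pow_dvd_pow p (Finset.single_le_sum (fun j _ => Nat.zero_le (a j)) (Finset.mem_univ i))))

/-- Subdirect products. -/
theorem plen_subdirect [Finite G] [Fact p.Prime] {ι : Type*} [Fintype ι] (M : ι → Subgroup G)
    (hMn : ∀ i, (M i).Normal) (hM : (⨅ i, M i) = ⊥) {k : ℕ} (h : ∀ i, haveI := hMn i; PLengthLE p k (G ⧸ M i)) :
    PLengthLE p k G := by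
  haveI := hMn
  set W : ℕ → Subgroup G := fun n => ⨅ i, (upperPSeries p (G ⧸ M i) n).1.comap (QuotientGroup.mk' (M i)) with hW
  have hWn : ∀ n, (W n).Normal := fun n => Subgroup.normal_iInf_normal fun i => inferInstance
  have key : ∀ n, W n ≤ (upperPSeries p G n).1 := by
    intro n
    induction n with
    | zero =>
      show W 0 ≤ (⊥ : Subgroup G)
      rw [← hM]
      refine le_of_eq (iInf_congr fun i => ?_)
      show (⊥ : Subgroup _).comap _ = _
      rw [MonoidHom.comap_bot, QuotientGroup.ker_mk']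
    | succ n ih =>
      rw [series_succ]
      haveI := hWn (n + 1)
      refine le_nxt_of_images _ (W (n + 1)) _ (fun i => (G ⧸ M i) ⧸ (upperPSeries p (G ⧸ M i) n).1)
        (fun i => (QuotientGroup.mk' (upperPSeries p (G ⧸ M i) n).1).comp (QuotientGroup.mk' (M i)))
        (fun x hx i => ?_) (fun x _ hx => ih (Subgroup.mem_iInf.2 fun i => (QuotientGroup.eq_one_iff (QuotientGroup.mk' (M i) x)).1 (hx i)))
      have := Subgroup.mem_iInf.1 hx i
      rw [Subgroup.mem_comap, series_succ] at this
      exact this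
  refine top_unique (le_trans ?_ (key (2 * k + 1)))
  refine le_iInf fun i => ?_
  rw [show (upperPSeries p (G ⧸ M i) (2 * k + 1)).1 = ⊤ from h i, Subgroup.comap_top]

/-- The intersection of the `q'`-cores over all prime divisors, modulo a prime excluded by `O_p = 1`. -/
theorem iInf_pPrimeCore_eq_bot [Finite G] {ι : Type*} (q : ι → ℕ) (hq : ∀ i, (q i).Prime) (p : ℕ)
    (hcover : ∀ s : ℕ, s.Prime → s ∣ Nat.card G → s ≠ p → ∃ i, q i = s) (hO : pCore p G = ⊥) :
    (⨅ i, pPrimeCore (q i) G) = ⊥ := by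
  set N := ⨅ i, pPrimeCore (q i) G
  haveI : N.Normal := Subgroup.normal_iInf_normal fun i => CfsgLib.Solv.pPrimeCore_normal G (q i)
  have hNp : IsPGroup p N := by
    intro x
    have hdvd : ∀ s : ℕ, s.Prime → s ∣ orderOf x → s = p := by
      intro s hs hsd
      by_contra hne
      have hsN : s ∣ Nat.card N := hsd.trans (orderOf_dvd_natCard x)
      obtain ⟨i, rfl⟩ := hcover s hs (hsN.trans (Subgroup.card_subgroup_dvd_card N)) hne
      haveI := Fact.mk (hq i)
      exact hs.coprime_iff_not_dvd.1 (CfsgLib.Solv.pPrimeCore_coprime G (q i)).symm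
        (hsN.trans (Subgroup.card_dvd_of_le (iInf_le _ i)))
    exact ⟨(orderOf x).primeFactorsList.length, by
      rw [← orderOf_dvd_iff_pow_eq_one]
      exact dvd_of_eq (Nat.eq_prime_pow_of_unique_prime_dvd (orderOf_pos x).ne' (fun {d} hd hdd => hdvd d hd hdd))⟩
  exact le_bot_iff.1 (hO ▸ CfsgLib.Solv.le_pCore hNp)

end CfsgLib.Solv.Upper
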