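import Mathlib

/-!
A solvable group with a fixed-point-free automorphism of order dividing four has nilpotent
derived subgroup.  The key point is that such a group, acting faithfully and irreducibly together
with the automorphism, is abelian.
-/

set_option autoImplicit false
set_option linter.unusedSectionVars false

universe u

namespace CfsgLib.Solv.FpfFour

open scoped commutatorElement

/-- An automorphism `σ` with `σ⁴ = 1` and no nontrivial fixed point. -/
def Fpf4 {X : Type*} [Group X] (σ : X ≃* X) : Prop :=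
  (∀ x, σ (σ (σ (σ x))) = x) ∧ ∀ x, σ x = x → x = 1

/-- The same for an additive group. -/
def AddFpf4 {V : Type*} [AddCommGroup V] (s : V ≃+ V) : Prop :=
  (∀ v, s (s (s (s v))) = v) ∧ ∀ v, s v = v → v = 0

theorem exists_fixed_of_odd {α : Type*} [Finite α] (f : α → α) (hf : ∀ a, f (f a) = a)
    (hα : Odd (Nat.card α)) : ∃ a, f a = a := by
  classical
  have := Fintype.ofFinite α
  haveI : Fact (Nat.Prime 2) := ⟨Nat.prime_two⟩
  by_contra h
  push Not at h
  have h2 := Equiv.Perm.card_fixedPoints_modEq (f := (f : Function.End α)) (p := 2) (n := 1)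
    (funext hf)
  have h0 : Fintype.card (Function.fixedPoints f) = 0 := by
    rw [Fintype.card_eq_zero_iff]
    exact ⟨fun a => h a.1 a.2⟩
  rw [Nat.card_eq_fintype_card, Nat.odd_iff] at hα
  have h3 : Fintype.card α % 2 = Fintype.card (Function.fixedPoints f) % 2 := h2
  omega

theorem odd_of_unique_fixed {α : Type*} [Finite α] (f : α → α) (hf : ∀ a, f (f (f (f a))) = a)
    (a₀ : α) (h₀ : f a₀ = a₀) (huniq : ∀ a, f a = a → a = a₀) : Odd (Nat.card α) := by
  classical
  have := Fintype.ofFinite α
  haveI : Fact (Nat.Prime 2) := ⟨Nat.prime_two⟩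
  have h2 := Equiv.Perm.card_fixedPoints_modEq (f := (f : Function.End α)) (p := 2) (n := 2)
    (funext hf)
  have h0 : Fintype.card (Function.fixedPoints f) = 1 := by
    rw [Fintype.card_eq_one_iff]
    exact ⟨⟨a₀, h₀⟩, fun a => Subtype.ext (huniq a.1 a.2)⟩
  rw [Nat.card_eq_fintype_card, Nat.odd_iff]
  have h3 : Fintype.card α % 2 = Fintype.card (Function.fixedPoints f) % 2 := h2
  omega

theorem Fpf4.odd {X : Type*} [Group X] [Finite X] {σ : X ≃* X} (h : Fpf4 σ) :
    Odd (Nat.card X) :=
  odd_of_unique_fixed σ h.1 1 (map_one σ) h.2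

theorem AddFpf4.odd {V : Type*} [AddCommGroup V] [Finite V] {s : V ≃+ V} (h : AddFpf4 s) :
    Odd (Nat.card V) :=
  odd_of_unique_fixed s h.1 0 (map_zero s) h.2

theorem mem_of_sq_mem {X : Type*} [Group X] [Finite X] (hX : Odd (Nat.card X)) {H : Subgroup X}
    {x : X} (h : x * x ∈ H) : x ∈ H := by
  obtain ⟨k, hk⟩ := hX
  have hx : x = (x * x) ^ (k + 1) := by
    rw [← pow_two, ← pow_mul, show 2 * (k + 1) = Nat.card X + 1 by omega, pow_add,
      pow_card_eq_one', one_mul, pow_one]
  rw [hx]
  exact pow_mem h _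

theorem eq_zero_of_add_self {V : Type*} [AddCommGroup V] [Finite V] (hV : Odd (Nat.card V)) {v : V}
    (h : v + v = 0) : v = 0 := by
  obtain ⟨k, hk⟩ := hV
  have h1 : (Nat.card V) • v = 0 := card_nsmul_eq_zero'
  rw [hk, add_nsmul, mul_nsmul, two_nsmul, h, nsmul_zero, zero_add, one_nsmul] at h1
  exact h1

/-- Elements fixed by the square of a fixed-point-free automorphism of order four are inverted. -/
theorem Fpf4.inverts {X : Type*} [Group X] [Finite X] {σ : X ≃* X} (h : Fpf4 σ) {x : X}
    (hx : σ (σ x) = x) : σ x = x⁻¹ := by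
  let C : Subgroup X :=
    { carrier := {y | σ (σ y) = y}
      one_mem' := by simp
      mul_mem' := fun {a b} (ha : σ (σ a) = a) (hb : σ (σ b) = b) => by
        show σ (σ (a * b)) = a * b
        rw [map_mul, map_mul, ha, hb]
      inv_mem' := fun {a} (ha : σ (σ a) = a) => by
        show σ (σ a⁻¹) = a⁻¹
        rw [map_inv, map_inv, ha] }
  let f : C →* C :=
    { toFun := fun c => ⟨σ c, congrArg σ c.2⟩
      map_one' := by ext; simp
      map_mul' := fun a b => by ext; simp }
  have hf : MonoidHom.FixedPointFree f := fun c hc =>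
    Subtype.ext (h.2 _ (congrArg Subtype.val hc))
  have := congrFun (MonoidHom.FixedPointFree.coe_eq_inv_of_involutive hf
    (fun c => Subtype.ext c.2)) ⟨x, hx⟩
  exact congrArg Subtype.val this

theorem Fpf4.fixed_commute {X : Type*} [Group X] [Finite X] {σ : X ≃* X} (h : Fpf4 σ) {x y : X}
    (hx : σ (σ x) = x) (hy : σ (σ y) = y) : x * y = y * x := by
  have hxy : σ (σ (x * y)) = x * y := by rw [map_mul, map_mul, hx, hy]
  have h1 := h.inverts hxy
  rw [map_mul, h.inverts hx, h.inverts hy, mul_inv_rev] at h1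
  calc x * y = (y⁻¹ * x⁻¹)⁻¹ := by group
    _ = (x⁻¹ * y⁻¹)⁻¹ := by rw [← h1]
    _ = y * x := by group

/-- If the square of `σ` is fixed-point-free as well then the group is abelian. -/
theorem commute_of_sq_fpf {X : Type*} [Group X] [Finite X] {σ : X ≃* X} (h : Fpf4 σ)
    (h2 : ∀ x, σ (σ x) = x → x = 1) (x y : X) : x * y = y * x := by
  let f : X →* X := σ.toMonoidHom.comp σ.toMonoidHom
  exact MonoidHom.FixedPointFree.commute_all_of_involutive (φ := f) (fun g hg => h2 g hg)
    (fun g => h.1 g) x y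

theorem Fpf4.restrict_surj {X : Type*} [Group X] [Finite X] {σ : X ≃* X} (h : Fpf4 σ)
    (N : Subgroup X) (hN : ∀ n ∈ N, σ n ∈ N) {a : X} (ha : a ∈ N) : ∃ n ∈ N, n⁻¹ * σ n = a := by
  let f : N → N := fun n => ⟨(n : X)⁻¹ * σ n, mul_mem (inv_mem n.2) (hN _ n.2)⟩
  have hf : Function.Injective f := by
    intro n m hnm
    have h1 : (n : X)⁻¹ * σ n = (m : X)⁻¹ * σ m := congrArg Subtype.val hnm
    have h2 : σ ((m : X) * (n : X)⁻¹) = (m : X) * (n : X)⁻¹ := by
      rw [map_mul, map_inv]
      calc σ (m : X) * (σ (n : X))⁻¹ = m * ((m : X)⁻¹ * σ m) * ((n : X)⁻¹ * σ n)⁻¹ * (n : X)⁻¹ := by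
            group
        _ = m * (n : X)⁻¹ := by rw [h1]; group
    exact Subtype.ext (mul_inv_eq_one.1 (h.2 _ h2)).symm
  obtain ⟨n, hn⟩ := Finite.surjective_of_injective hf ⟨a, ha⟩
  exact ⟨n, n.2, congrArg Subtype.val hn⟩

theorem map_eq_of_invariant {X : Type*} [Group X] [Finite X] (σ : X ≃* X) (N : Subgroup X)
    (hN : ∀ n ∈ N, σ n ∈ N) : N.map σ.toMonoidHom = N := by
  refine Subgroup.eq_of_le_of_card_ge ?_ ?_
  · rintro _ ⟨n, hn, rfl⟩; exact hN n hn
  · rw [← Nat.card_congr (N.equivMapOfInjective σ.toMonoidHom σ.injective).toEquiv]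

theorem Fpf4.quotient {X : Type*} [Group X] [Finite X] {σ : X ≃* X} (h : Fpf4 σ)
    (N : Subgroup X) [N.Normal] (hN : ∀ n ∈ N, σ n ∈ N) :
    Fpf4 (QuotientGroup.congr N N σ (map_eq_of_invariant σ N hN)) := by
  refine ⟨fun q => ?_, fun q hq => ?_⟩
  · induction q using QuotientGroup.induction_on with
    | _ x =>
      show QuotientGroup.mk (σ (σ (σ (σ x)))) = QuotientGroup.mk x
      rw [h.1]
  · induction q using QuotientGroup.induction_on with
    | _ x =>
      have hq' : (QuotientGroup.mk x : X ⧸ N) = QuotientGroup.mk (σ x) := hq.symm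
      rw [QuotientGroup.eq] at hq'
      obtain ⟨n, hn, hn2⟩ := h.restrict_surj N hN hq'
      have h3 : σ (x * n⁻¹) = x * n⁻¹ := by
        rw [map_mul, map_inv]
        calc σ x * (σ n)⁻¹ = x * (x⁻¹ * σ x) * (n⁻¹ * σ n)⁻¹ * n⁻¹ := by group
          _ = x * n⁻¹ := by rw [hn2]; group
      rw [QuotientGroup.eq_one_iff, mul_inv_eq_one.1 (h.2 _ h3)]
      exact hn

/-- Minimal invariant normal subgroups. -/
theorem exists_minimal {X : Type*} [Group X] [Finite X] [Nontrivial X] (σ : X ≃* X) :
    ∃ N : Subgroup X, N.Normal ∧ (∀ n ∈ N, σ n ∈ N) ∧ N ≠ ⊥ ∧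
      ∀ M : Subgroup X, M.Normal → (∀ n ∈ M, σ n ∈ M) → M ≤ N → M = ⊥ ∨ M = N := by
  obtain ⟨N, ⟨h1, h2, h3⟩, hmin⟩ := (Set.toFinite {N : Subgroup X | N.Normal ∧
    (∀ n ∈ N, σ n ∈ N) ∧ N ≠ ⊥}).exists_minimal
    ⟨⊤, inferInstance, fun _ _ => trivial, top_ne_bot⟩
  refine ⟨N, h1, h2, h3, fun M hM hMs hle => ?_⟩
  by_cases hM0 : M = ⊥
  · exact Or.inl hM0
  · exact Or.inr (le_antisymm hle (hmin ⟨hM, hMs, hM0⟩ hle))

theorem minimal_commute {X : Type*} [Group X] [Finite X] (hX : Group.IsSolvable X) (σ : X ≃* X)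
    (N : Subgroup X) (hNn : N.Normal) (hN : ∀ n ∈ N, σ n ∈ N) (hN0 : N ≠ ⊥)
    (hmin : ∀ M : Subgroup X, M.Normal → (∀ n ∈ M, σ n ∈ M) → M ≤ N → M = ⊥ ∨ M = N) :
    ∀ a ∈ N, ∀ b ∈ N, a * b = b * a := by
  have hinv : ∀ n ∈ ⁅N, N⁆, σ n ∈ ⁅N, N⁆ := by
    intro n hn
    have : σ n ∈ (⁅N, N⁆).map σ.toMonoidHom := ⟨n, hn, rfl⟩
    rwa [Subgroup.map_commutator, map_eq_of_invariant σ N hN] at this
  rcases hmin ⁅N, N⁆ inferInstance hinv (Subgroup.commutator_le_self N) with h | h
  · intro a ha b hb
    have := Subgroup.commutator_eq_bot_iff_le_centralizer.1 h ha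
    exact (Subgroup.mem_centralizer_iff.1 this b hb).symm
  · exfalso
    obtain ⟨n, hn⟩ := hX
    have hle : ∀ k, N ≤ derivedSeries X k := by
      intro k
      induction k with
      | zero => simp
      | succ k ih => rw [derivedSeries_succ, ← h]; exact Subgroup.commutator_mono ih ih
    exact hN0 (le_bot_iff.1 (hn ▸ hle n))

section Action

variable {X : Type*} [Group X] [Finite X] {V : Type*} [AddCommGroup V] [Finite V]
  (ρ : X →* AddMonoid.End V)

theorem act_mul (x y : X) (v : V) : ρ (x * y) v = ρ x (ρ y v) := by rw [map_mul]; rfl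

theorem act_one (v : V) : ρ 1 v = v := by rw [map_one]; rfl

theorem act_inv (x : X) (v : V) : ρ x⁻¹ (ρ x v) = v := by rw [← act_mul, inv_mul_cancel, act_one]

theorem act_inv' (x : X) (v : V) : ρ x (ρ x⁻¹ v) = v := by rw [← act_mul, mul_inv_cancel, act_one]

/-- The stabiliser of a vector. -/
def stab (v : V) : Subgroup X where
  carrier := {x | ρ x v = v}
  one_mem' := act_one ρ v
  mul_mem' := fun {a b} (ha : ρ a v = v) (hb : ρ b v = v) => by
    show ρ (a * b) v = v
    rw [act_mul, hb, ha]
  inv_mem' := fun {a} (ha : ρ a v = v) => by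
    show ρ a⁻¹ v = v
    nth_rewrite 1 [← ha]
    exact act_inv ρ a v

theorem mem_stab {x : X} {v : V} : x ∈ stab ρ v ↔ ρ x v = v := Iff.rfl

/-- The average over a subgroup. -/
noncomputable def avg (H : Subgroup X) : V →+ V :=
  letI := Fintype.ofFinite H
  { toFun := fun v => (Nat.gcdA (Nat.card H) (Nat.card V)) • ∑ h : H, ρ (h : X) v
    map_zero' := by simp
    map_add' := fun a b => by simp [Finset.sum_add_distrib, smul_add] }

theorem avg_apply (H : Subgroup X) [Fintype H] (v : V) :
    avg ρ H v = (Nat.gcdA (Nat.card H) (Nat.card V)) • ∑ h : H, ρ (h : X) v := by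
  show (Nat.gcdA (Nat.card H) (Nat.card V)) •
    (@Finset.sum _ _ _ (@Finset.univ H (Fintype.ofFinite H)) fun h => ρ (h : X) v) = _
  congr 1
  exact Finset.sum_congr (Finset.ext fun _ => by simp) (fun _ _ => rfl)

theorem avg_fixed (H : Subgroup X) (v : V) {h : X} (hh : h ∈ H) :
    ρ h (avg ρ H v) = avg ρ H v := by
  have := Fintype.ofFinite H
  rw [avg_apply, map_zsmul, map_sum]
  congr 1
  refine Fintype.sum_equiv (Equiv.mulLeft ⟨h, hh⟩) _ _ (fun k => ?_)
  rw [← act_mul]; rfl

theorem avg_of_fixed (H : Subgroup X) (hco : (Nat.card H).Coprime (Nat.card V)) {v : V}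
    (hv : ∀ h ∈ H, ρ h v = v) : avg ρ H v = v := by
  have := Fintype.ofFinite H
  rw [avg_apply, Finset.sum_congr rfl (fun (k : H) _ => hv _ k.2), Finset.sum_const, Finset.card_univ,
    ← Nat.card_eq_fintype_card, ← natCast_zsmul, smul_smul]
  have hb := Nat.gcd_eq_gcd_ab (Nat.card H) (Nat.card V)
  rw [hco.gcd_eq_one, Nat.cast_one] at hb
  have h1 : (Nat.card V : ℤ) • v = 0 := by rw [natCast_zsmul]; exact card_nsmul_eq_zero'
  nth_rewrite 2 [← one_zsmul v]
  rw [hb, add_zsmul, mul_comm (Nat.card H : ℤ), mul_comm (Nat.card V : ℤ) _,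
    ← smul_smul _ (Nat.card V : ℤ), h1, smul_zero, add_zero]

theorem avg_comm (H : Subgroup X) (f : V →+ V) (π : H ≃ H)
    (hf : ∀ (h : H) (v : V), f (ρ (h : X) v) = ρ (π h : X) (f v)) (v : V) :
    f (avg ρ H v) = avg ρ H (f v) := by
  have := Fintype.ofFinite H
  rw [avg_apply, avg_apply, map_zsmul, map_sum]
  congr 1
  exact Fintype.sum_equiv π _ _ (fun h => hf h v)

theorem avg_self (H : Subgroup X) (hco : (Nat.card H).Coprime (Nat.card V)) (v : V) :
    avg ρ H (v - avg ρ H v) = 0 := by
  rw [map_sub, avg_of_fixed ρ H hco (v := avg ρ H v) (fun h hh => avg_fixed ρ H v hh), sub_self]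

end Action

set_option maxHeartbeats 400000 in
/-- The main lemma: a solvable group acting faithfully and irreducibly, compatibly with
fixed-point-free automorphisms of order dividing four, is abelian. -/
theorem abelian_core : ∀ (n : ℕ) (X : Type u) [Group X] [Finite X] (V : Type u) [AddCommGroup V]
    [Finite V] (σ : X ≃* X) (s : V ≃+ V) (ρ : X →* AddMonoid.End V),
    Nat.card X = n → Group.IsSolvable X → Fpf4 σ → AddFpf4 s → Function.Injective ρ →
    (∀ x v, s (ρ x v) = ρ (σ x) (s v)) →
    (∀ U : AddSubgroup V, (∀ x, ∀ u ∈ U, ρ x u ∈ U) → (∀ u ∈ U, s u ∈ U) → U = ⊥ ∨ U = ⊤) →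
    ∀ x y : X, x * y = y * x := by
  intro n
  induction n using Nat.strong_induction_on with
  | _ n ih =>
  intro X _ _ V _ _ σ s ρ hn hsol hσ hs hρ hcomp hirr
  by_cases htriv : Subsingleton X
  · intro x y; exact Subsingleton.elim _ _
  have : Nontrivial X := not_subsingleton_iff_nontrivial.1 htriv
  have hX := hσ.odd
  have hV := hs.odd
  have heqX : ∀ x : X, x * x = 1 → x = 1 := fun x hx =>
    (Subgroup.mem_bot).1 (mem_of_sq_mem hX (H := ⊥) (Subgroup.mem_bot.2 hx))
  have hext : ∀ x y : X, (∀ v, ρ x v = ρ y v) → x = y := fun x y h => hρ (AddMonoidHom.ext h)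
  have hext1 : ∀ x : X, (∀ v, ρ x v = v) → x = 1 := fun x h =>
    hext x 1 (fun v => by rw [h, act_one])
  have hV0 : ∃ v : V, v ≠ 0 := by
    by_contra h
    push Not at h
    obtain ⟨x, hx⟩ := exists_ne (1 : X)
    exact hx (hext1 x fun v => by rw [h v, h (ρ x 0)])
  have hcomp2 : ∀ x v, s (s (ρ x v)) = ρ (σ (σ x)) (s (s v)) := fun x v => by rw [hcomp, hcomp]
  -- vectors fixed by the square of `s`
  have hplus : ∀ v, s (s v) = v → s v = -v := by
    intro v hv
    have h1 : s (v + s v) = v + s v := by rw [map_add, hv, add_comm]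
    exact eq_neg_of_add_eq_zero_right (hs.2 _ h1)
  have hCfix : ∀ c, σ (σ c) = c → ∀ v, s (s v) = v → ρ c v = v := by
    intro c hc v hv
    have hcv : s (s (ρ c v)) = ρ c v := by rw [hcomp2, hc, hv]
    have h1 := hplus _ hcv
    rw [hcomp, hσ.inverts hc, hplus v hv, map_neg, neg_inj] at h1
    have h2 : ρ (c * c) v = v := by rw [act_mul, ← h1, act_inv']
    exact mem_of_sq_mem hX (H := stab ρ v) h2
  by_cases hzero : ∀ v, s (s v) = v → v = 0
  · -- the square of `s` is `-1`, so the square of `σ` is trivial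
    have hneg : ∀ v, s (s v) = -v := by
      intro v
      have h1 : s (s (v + s (s v))) = v + s (s v) := by rw [map_add, map_add, hs.1, add_comm]
      exact eq_neg_of_add_eq_zero_right (hzero _ h1)
    have hσ2 : ∀ x, σ (σ x) = x := by
      intro x
      refine hext _ _ fun v => ?_
      have h1 := hcomp2 x (-v)
      rw [map_neg (ρ x), hneg, hneg, neg_neg, neg_neg] at h1
      exact h1.symm
    intro x y
    exact hσ.fixed_commute (hσ2 x) (hσ2 y)
  push Not at hzero
  obtain ⟨v₀, hv₀, hv₀0⟩ := hzero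
  obtain ⟨N, hNn, hNs, hN0, hNmin⟩ := exists_minimal σ
  have hNc := minimal_commute hsol σ N hNn hNs hN0 hNmin
  have hNconj : ∀ x, ∀ m ∈ N, x * m * x⁻¹ ∈ N := fun x m hm => hNn.conj_mem m hm x
  have hσsurj : ∀ m ∈ N, ∃ k ∈ N, σ k = m := by
    intro m hm
    have : m ∈ N.map σ.toMonoidHom := by rw [map_eq_of_invariant σ N hNs]; exact hm
    obtain ⟨k, hk, rfl⟩ := this
    exact ⟨k, hk, rfl⟩
  -- no fixed vectors of `N`
  have hfixN : ∀ v, (∀ m ∈ N, ρ m v = v) → v = 0 := by
    let U : AddSubgroup V :=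
      { carrier := {v | ∀ m ∈ N, ρ m v = v}
        zero_mem' := fun m _ => map_zero _
        add_mem' := fun {a b} (ha : ∀ m ∈ N, ρ m a = a) (hb : ∀ m ∈ N, ρ m b = b) m hm => by
          rw [map_add, ha m hm, hb m hm]
        neg_mem' := fun {a} (ha : ∀ m ∈ N, ρ m a = a) m hm => by rw [map_neg, ha m hm] }
    intro v hv
    have h1 : ∀ x, ∀ u ∈ U, ρ x u ∈ U := by
      intro x u (hu : ∀ m ∈ N, ρ m u = u) m hm
      have h2 := hu (x⁻¹ * m * x) (by simpa using hNconj x⁻¹ m hm)
      rw [act_mul, act_mul] at h2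
      have h3 := congrArg (ρ x) h2
      rwa [act_inv'] at h3
    have h2 : ∀ u ∈ U, s u ∈ U := by
      intro u (hu : ∀ m ∈ N, ρ m u = u) m hm
      obtain ⟨k, hk, rfl⟩ := hσsurj m hm
      rw [← hcomp, hu k hk]
    rcases hirr U h1 h2 with h | h
    · exact (AddSubgroup.mem_bot).1 (h ▸ (hv : v ∈ U))
    · exfalso
      exact hN0 ((Subgroup.eq_bot_iff_forall _).2 fun m hm =>
        hext1 m fun u => (h ▸ AddSubgroup.mem_top u : u ∈ U) m hm)
  -- `N` has order prime to that of `V`
  have hco : (Nat.card N).Coprime (Nat.card V) := by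
    refine Nat.coprime_of_dvd fun r hr hrN hrV => ?_
    have : Fact r.Prime := ⟨hr⟩
    let M : Subgroup X :=
      { carrier := {m | m ∈ N ∧ m ^ r = 1}
        one_mem' := ⟨one_mem _, one_pow _⟩
        mul_mem' := fun {a b} (ha : a ∈ N ∧ a ^ r = 1) (hb : b ∈ N ∧ b ^ r = 1) =>
          ⟨mul_mem ha.1 hb.1, by rw [Commute.mul_pow (hNc _ ha.1 _ hb.1), ha.2, hb.2, one_mul]⟩
        inv_mem' := fun {a} (ha : a ∈ N ∧ a ^ r = 1) =>
          ⟨inv_mem ha.1, by rw [inv_pow, ha.2, inv_one]⟩ }
    have hMn : M.Normal := ⟨fun m (hm : m ∈ N ∧ m ^ r = 1) x =>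
      ⟨hNconj x m hm.1, by rw [conj_pow, hm.2, mul_one, mul_inv_cancel]⟩⟩
    have hMN : M = N := by
      refine (hNmin M hMn (fun m (hm : m ∈ N ∧ m ^ r = 1) =>
        ⟨hNs m hm.1, by rw [← map_pow, hm.2, map_one]⟩) (fun m hm => hm.1)).resolve_left ?_
      intro h
      obtain ⟨a, ha⟩ := exists_prime_orderOf_dvd_card' (G := N) r hrN
      have h1 : (a : X) ∈ M := ⟨a.2, by rw [← SubgroupClass.coe_pow, ← ha, pow_orderOf_eq_one]; rfl⟩
      rw [h, Subgroup.mem_bot] at h1
      have : a = 1 := Subtype.ext h1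
      rw [this, orderOf_one] at ha
      exact hr.one_lt.ne ha
    have hNp : IsPGroup r N := fun a => ⟨1, Subtype.ext (by
      rw [pow_one, SubgroupClass.coe_pow]
      exact (hMN.ge a.2).2)⟩
    let act : MulAction N V :=
      { smul := fun m v => ρ (m : X) v
        one_smul := fun v => act_one ρ v
        mul_smul := fun a b v => act_mul ρ a b v }
    obtain ⟨v, hv, hv0⟩ := hNp.exists_fixed_point_of_prime_dvd_card_of_fixed_point V hrV
      (a := (0 : V)) (fun m => map_zero (ρ (m : X)))
    exact hv0 (hfixN v fun m hm => hv ⟨m, hm⟩).symm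
  -- the action on `N`
  have hirrN : ∀ M : Subgroup X, M.Normal → (∀ m ∈ M, σ m ∈ M) → M ≤ N → M = ⊥ ∨ M = N := hNmin
  have hab : ∀ x y : X, ∀ m ∈ N, (x * y) * m * (x * y)⁻¹ = (y * x) * m * (y * x)⁻¹ := by
    letI : CommGroup N :=
      { (inferInstance : Group N) with mul_comm := fun a b => Subtype.ext (hNc a a.2 b b.2) }
    let f : X →* AddMonoid.End (Additive N) :=
      { toFun := fun x =>
          { toFun := fun a => Additive.ofMul ⟨x * (a.toMul : N) * x⁻¹, hNconj x _ a.toMul.2⟩
            map_zero' := by ext; simp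
            map_add' := fun a b => by ext; simp [mul_assoc] }
        map_one' := AddMonoidHom.ext fun a => by
          show Additive.ofMul _ = a
          apply Additive.toMul.injective
          apply Subtype.ext
          simp
        map_mul' := fun x y => AddMonoidHom.ext fun a => by
          show Additive.ofMul _ = Additive.ofMul _
          apply Additive.toMul.injective
          apply Subtype.ext
          show x * y * ((a.toMul : N) : X) * (x * y)⁻¹ = x * (y * ((a.toMul : N) : X) * y⁻¹) * x⁻¹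
          group }
    have hker : ∀ c, c ∈ f.ker ↔ ∀ m ∈ N, c * m * c⁻¹ = m := by
      intro c
      constructor
      · intro hc m hm
        have := DFunLike.congr_fun (hc : f c = 1) (Additive.ofMul ⟨m, hm⟩)
        exact congrArg (fun a : Additive N => ((a.toMul : N) : X)) this
      · intro h
        ext a
        exact h _ a.toMul.2
    have hkerσ : ∀ c ∈ f.ker, σ c ∈ f.ker := by
      intro c hc
      rw [hker] at hc ⊢
      intro m hm
      obtain ⟨k, hk, rfl⟩ := hσsurj m hm
      rw [← map_inv, ← map_mul, ← map_mul, hc k hk]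
    have hNker : N ≤ f.ker := fun a ha =>
      (hker a).2 fun m hm => by rw [hNc a ha m hm, mul_inv_cancel_right]
    let σN : Additive N ≃+ Additive N :=
      { toFun := fun a => Additive.ofMul ⟨σ (a.toMul : N), hNs _ a.toMul.2⟩
        invFun := fun a => Additive.ofMul ⟨σ.symm (a.toMul : N), by
          obtain ⟨k, hk, hk2⟩ := hσsurj _ a.toMul.2
          rw [← hk2, σ.symm_apply_apply]; exact hk⟩
        left_inv := fun a => by ext; simp
        right_inv := fun a => by ext; simp
        map_add' := fun a b => by ext; simp }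
    have hlt : Nat.card (X ⧸ f.ker) < n := by
      obtain ⟨a, ha, ha1⟩ := (Subgroup.bot_or_exists_ne_one N).resolve_left hN0
      have h1 : 1 < Nat.card f.ker := by
        rw [Subgroup.one_lt_card_iff_ne_bot]
        intro h
        exact ha1 ((Subgroup.mem_bot).1 (h ▸ hNker ha))
      rw [← hn, Subgroup.card_eq_card_quotient_mul_card_subgroup f.ker]
      exact lt_mul_of_one_lt_right Nat.card_pos h1
    have hsN : AddFpf4 σN := by
      have hval : ∀ a : Additive N, (((σN a).toMul : N) : X) = σ ((a.toMul : N) : X) :=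
        fun _ => rfl
      refine ⟨fun a => ?_, fun a ha => ?_⟩
      · apply Additive.toMul.injective
        apply Subtype.ext
        rw [hval, hval, hval, hval]
        exact hσ.1 _
      · have h1 : σ ((a.toMul : N) : X) = ((a.toMul : N) : X) := by rw [← hval, ha]
        apply Additive.toMul.injective
        apply Subtype.ext
        rw [toMul_zero, OneMemClass.coe_one]
        exact hσ.2 _ h1
    let fl : X ⧸ f.ker →* AddMonoid.End (Additive N) := QuotientGroup.lift f.ker f le_rfl
    have hfl : Function.Injective fl := by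
      rw [injective_iff_map_eq_one]
      intro q hq
      induction q using QuotientGroup.induction_on with
      | _ x => exact (QuotientGroup.eq_one_iff x).2 hq
    have hcompN : ∀ (q : X ⧸ f.ker) (v : Additive N),
        σN (fl q v)
          = fl (QuotientGroup.congr f.ker f.ker σ
              (map_eq_of_invariant σ f.ker hkerσ) q) (σN v) := by
      intro q v
      induction q using QuotientGroup.induction_on with
      | _ x =>
        show σN (f x v) = f (σ x) (σN v)
        apply Additive.toMul.injective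
        apply Subtype.ext
        show σ (x * ((v.toMul : N) : X) * x⁻¹) = σ x * σ ((v.toMul : N) : X) * (σ x)⁻¹
        simp
    have hirr' : ∀ U : AddSubgroup (Additive N),
        (∀ q : X ⧸ f.ker, ∀ u ∈ U, fl q u ∈ U) → (∀ u ∈ U, σN u ∈ U) →
        U = ⊥ ∨ U = ⊤ := by
      intro U h1 h2
      let M : Subgroup X :=
        { carrier := {m | ∃ hm : m ∈ N, Additive.ofMul (⟨m, hm⟩ : N) ∈ U}
          one_mem' := ⟨one_mem _, U.zero_mem⟩
          mul_mem' := fun {a b} ⟨ha, ha'⟩ ⟨hb, hb'⟩ => ⟨mul_mem ha hb, U.add_mem ha' hb'⟩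
          inv_mem' := fun {a} ⟨ha, ha'⟩ => ⟨inv_mem ha, U.neg_mem ha'⟩ }
      have hMn : M.Normal := ⟨fun m ⟨hm, hm'⟩ x =>
        ⟨hNconj x m hm, h1 (QuotientGroup.mk x) _ hm'⟩⟩
      rcases hirrN M hMn (fun m ⟨hm, hm'⟩ => ⟨hNs m hm, h2 _ hm'⟩) (fun m ⟨hm, _⟩ => hm)
        with h | h
      · left
        rw [AddSubgroup.eq_bot_iff_forall]
        intro u hu
        have : ((u.toMul : N) : X) ∈ M := ⟨u.toMul.2, hu⟩
        rw [h, Subgroup.mem_bot] at this
        ext
        exact this
      · right
        rw [eq_top_iff]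
        intro u _
        obtain ⟨hm, hm'⟩ : ((u.toMul : N) : X) ∈ M := h.ge u.toMul.2
        exact hm'
    have hcommQ := ih _ hlt (X ⧸ f.ker) (Additive N) _ σN (fl) rfl
      (by have := hsol; infer_instance) (hσ.quotient f.ker hkerσ) hsN
      hfl hcompN hirr'
    intro x y m hm
    have h1 := congrArg (fun q : X ⧸ f.ker =>
      ((((fl q) (Additive.ofMul ⟨m, hm⟩)).toMul : N) : X))
      (hcommQ (QuotientGroup.mk x) (QuotientGroup.mk y))
    exact h1
  -- centraliser of `σ²`
  have hCcentral : ∀ c, σ (σ c) = c →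
      (∃ m ∈ N, m ≠ 1 ∧ σ (σ m) = m) → ∀ m ∈ N, c * m * c⁻¹ = m := by
    intro c hc ⟨a, ha, ha1, hat⟩
    let M : Subgroup X :=
      { carrier := {m | m ∈ N ∧ c * m * c⁻¹ = m}
        one_mem' := ⟨one_mem _, by simp⟩
        mul_mem' := fun {p q} (hp : p ∈ N ∧ c * p * c⁻¹ = p) (hq : q ∈ N ∧ c * q * c⁻¹ = q) =>
          ⟨mul_mem hp.1 hq.1, by
            calc c * (p * q) * c⁻¹ = (c * p * c⁻¹) * (c * q * c⁻¹) := by group
              _ = p * q := by rw [hp.2, hq.2]⟩
        inv_mem' := fun {p} (hp : p ∈ N ∧ c * p * c⁻¹ = p) => ⟨inv_mem hp.1, by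
          calc c * p⁻¹ * c⁻¹ = (c * p * c⁻¹)⁻¹ := by group
            _ = p⁻¹ := by rw [hp.2]⟩ }
    have hMn : M.Normal := ⟨fun m (hm : m ∈ N ∧ c * m * c⁻¹ = m) x => ⟨hNconj x m hm.1, by
      calc c * (x * m * x⁻¹) * c⁻¹ = c * x * m * (c * x)⁻¹ := by group
        _ = x * c * m * (x * c)⁻¹ := hab c x m hm.1
        _ = x * (c * m * c⁻¹) * x⁻¹ := by group
        _ = x * m * x⁻¹ := by rw [hm.2]⟩⟩
    have hMs : ∀ m ∈ M, σ m ∈ M := by
      intro m (hm : m ∈ N ∧ c * m * c⁻¹ = m)
      refine ⟨hNs m hm.1, ?_⟩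
      have h1 : c⁻¹ * m * c = m := by
        nth_rewrite 1 [← hm.2]; group
      have h2 := congrArg σ h1
      rwa [map_mul, map_mul, map_inv, hσ.inverts hc, inv_inv] at h2
    have hMN : M = N := by
      refine (hirrN M hMn hMs (fun m hm => hm.1)).resolve_left fun h => ha1 ?_
      have : a ∈ M := ⟨ha, by rw [hσ.fixed_commute hc hat, mul_inv_cancel_right]⟩
      rwa [h, Subgroup.mem_bot] at this
    exact fun m hm => (hMN.ge hm).2
  -- the part of `N` centralised by `σ²`
  by_cases hNplus : ∃ m ∈ N, m ≠ 1 ∧ σ (σ m) = m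
  · exfalso
    -- `σ²` inverts the action on `N`
    have hinvN : ∀ x, ∀ m ∈ N, σ (σ x) * m * (σ (σ x))⁻¹ = x⁻¹ * m * x := by
      intro x m hm
      set K : Subgroup X := Subgroup.centralizer (N : Set X) with hK
      have hKmem : ∀ k, k ∈ K ↔ ∀ m ∈ N, k * m * k⁻¹ = m := by
        intro k
        rw [hK, Subgroup.mem_centralizer_iff]
        exact forall₂_congr fun m _ => by rw [mul_inv_eq_iff_eq_mul, eq_comm]
      set y := x * σ (σ x) with hy
      have hσK : ∀ k ∈ K, σ k ∈ K := by
        intro k hk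
        rw [hKmem] at hk ⊢
        intro m hm
        obtain ⟨l, hl, rfl⟩ := hσsurj m hm
        rw [← map_inv, ← map_mul, ← map_mul, hk l hl]
      have hty : y⁻¹ * σ (σ y) ∈ K := by
        rw [hKmem]
        intro m hm
        have h1 : σ (σ y) = σ (σ x) * x := by rw [hy, map_mul, map_mul, hσ.1]
        rw [h1]
        calc y⁻¹ * (σ (σ x) * x) * m * (y⁻¹ * (σ (σ x) * x))⁻¹
            = y⁻¹ * ((σ (σ x) * x) * m * (σ (σ x) * x)⁻¹) * y := by group
          _ = y⁻¹ * (y * m * y⁻¹) * y := by rw [hab (σ (σ x)) x m hm, ← hy]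
          _ = m := by group
      obtain ⟨⟨k, hk⟩, hkfix⟩ := exists_fixed_of_odd (α := K)
        (fun k => ⟨(y⁻¹ * σ (σ y)) * σ (σ (k : X)), mul_mem hty (hσK _ (hσK _ k.2))⟩)
        (fun k => by
          apply Subtype.ext
          simp only [map_mul, map_inv, hσ.1]
          group)
        (Odd.of_dvd_nat hX (Subgroup.card_subgroup_dvd_card K))
      have hk' : y⁻¹ * σ (σ y) * σ (σ k) = k := congrArg Subtype.val hkfix
      have hc : σ (σ (y * k)) = y * k := by
        rw [map_mul, map_mul]
        calc σ (σ y) * σ (σ k) = y * (y⁻¹ * σ (σ y) * σ (σ k)) := by group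
          _ = y * k := by rw [hk']
      have hyc := hCcentral (y * k) hc hNplus (x⁻¹ * m * x) (by simpa using hNconj x⁻¹ m hm)
      have hym : y * (x⁻¹ * m * x) * y⁻¹ = x⁻¹ * m * x := by
        conv_rhs => rw [← hyc]
        have := (hKmem k).1 hk (x⁻¹ * m * x) (by simpa using hNconj x⁻¹ m hm)
        calc y * (x⁻¹ * m * x) * y⁻¹ = y * (k * (x⁻¹ * m * x) * k⁻¹) * y⁻¹ := by rw [this]
          _ = (y * k) * (x⁻¹ * m * x) * (y * k)⁻¹ := by group
      calc σ (σ x) * m * (σ (σ x))⁻¹
          = (σ (σ x) * x) * (x⁻¹ * m * x) * (σ (σ x) * x)⁻¹ := by group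
        _ = y * (x⁻¹ * m * x) * y⁻¹ := hab _ _ _ (by simpa using hNconj x⁻¹ m hm)
        _ = x⁻¹ * m * x := hym
    -- squares detect centralisers
    have hsq : ∀ x m : X, x * (x * m * x⁻¹) * x⁻¹ = m → x * m * x⁻¹ = m := by
      intro x m h
      have h1 : x * x ∈ Subgroup.centralizer ({m} : Set X) := by
        rw [Subgroup.mem_centralizer_singleton_iff]
        calc x * x * m = x * (x * m * x⁻¹) * x⁻¹ * (x * x) := by group
          _ = m * (x * x) := by rw [h]
      have := mem_of_sq_mem hX h1
      rw [Subgroup.mem_centralizer_singleton_iff] at this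
      rw [this, mul_inv_cancel_right]
    let Np : Subgroup X :=
      { carrier := {m | m ∈ N ∧ σ (σ m) = m}
        one_mem' := ⟨one_mem _, by simp⟩
        mul_mem' := fun {a b} (ha : a ∈ N ∧ σ (σ a) = a) (hb : b ∈ N ∧ σ (σ b) = b) =>
          ⟨mul_mem ha.1 hb.1, by rw [map_mul, map_mul, ha.2, hb.2]⟩
        inv_mem' := fun {a} (ha : a ∈ N ∧ σ (σ a) = a) =>
          ⟨inv_mem ha.1, by rw [map_inv, map_inv, ha.2]⟩ }
    have hNpN : Np ≤ N := fun m hm => hm.1
    have hcoP : (Nat.card Np).Coprime (Nat.card V) :=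
      hco.coprime_dvd_left (Subgroup.card_dvd_of_le hNpN)
    set e := avg ρ Np with he
    -- vectors killed by the average
    have het : ∀ v, s (s (e v)) = e (s (s v)) := fun v =>
      avg_comm ρ Np (s.toAddMonoidHom.comp s.toAddMonoidHom) (Equiv.refl _) (fun h w => by
        show s (s (ρ (h : X) w)) = ρ (h : X) (s (s w))
        rw [hcomp2, h.2.2]) v
    have hPneg : ∀ v, e v = 0 → s (s v) = -v := by
      intro v hv
      have h1 : s (s (v + s (s v))) = v + s (s v) := by rw [map_add, map_add, hs.1, add_comm]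
      have h2 : e (v + s (s v)) = v + s (s v) :=
        avg_of_fixed ρ Np hcoP (fun m hm => hCfix m hm.2 _ h1)
      rw [map_add, hv, ← het, hv, map_zero, map_zero, add_zero] at h2
      exact eq_neg_of_add_eq_zero_right h2.symm
    have hPminus : ∀ v, e v = 0 → ∀ m ∈ N, σ (σ m) = m⁻¹ → ρ m v = v := by
      intro v hv m hm hmt
      have h1 : e (ρ m v) = 0 := by
        have h0 := avg_comm ρ Np (ρ m) (Equiv.refl _) (fun h w => by
          show ρ m (ρ (h : X) w) = ρ (h : X) (ρ m w)
          rw [← act_mul, ← act_mul, hNc m hm _ (hNpN h.2)]) v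
        exact h0.symm.trans ((congrArg (ρ m) hv).trans (map_zero _))
      have h2 := hPneg _ h1
      rw [hcomp2, hmt, hPneg v hv, map_neg, neg_inj] at h2
      have h3 : ρ (m * m) v = v := by rw [act_mul, ← h2, act_inv']
      exact mem_of_sq_mem hX (H := stab ρ v) h3
    have hsurjN : ∀ f : Np →* Np, Function.Injective f → Function.Surjective f := fun f hf =>
      Finite.surjective_of_injective hf
    have hhalf : ∀ m ∈ N, ∀ v, e v = 0 → ρ (m * σ (σ m)) v = v → ρ m v = v := by
      intro m hm v hv h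
      have htm : σ (σ m) ∈ N := hNs _ (hNs _ hm)
      have h1 : ρ (m * (σ (σ m))⁻¹) v = v := by
        refine hPminus v hv _ (mul_mem hm (inv_mem htm)) ?_
        rw [map_mul, map_mul, map_inv, map_inv, hσ.1, mul_inv_rev, inv_inv]
      refine mem_of_sq_mem hX (H := stab ρ v) ?_
      show ρ (m * m) v = v
      have e1 : m * m = (m * (σ (σ m))⁻¹) * (m * σ (σ m)) := by
        rw [hNc m hm (σ (σ m)) htm]; group
      rw [e1, act_mul, h, h1]
    -- `W ∩ P = 0`
    have hWP : ∀ v, e v = 0 → (∀ m ∈ N, σ (σ m) = m → ρ m v = v) → v = 0 := by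
      intro v hv hfix
      refine hfixN v fun m hm => hhalf m hm v hv (hfix _ (mul_mem hm (hNs _ (hNs _ hm))) ?_)
      rw [map_mul, map_mul, hσ.1, hNc m hm _ (hNs _ (hNs _ hm))]
    -- the kernel of the average is invariant
    have hPinv : ∀ x, ∀ v, e v = 0 → e (ρ x v) = 0 := by
      intro x v hv
      set y := x⁻¹ with hy
      let H : Subgroup X := Np.map (MulAut.conj y).toMonoidHom
      have hHN : H ≤ N := by
        rintro _ ⟨m, hm, rfl⟩
        exact hNconj y m hm.1
      have hcoH : (Nat.card H).Coprime (Nat.card V) :=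
        hco.coprime_dvd_left (Subgroup.card_dvd_of_le hHN)
      set w := avg ρ H v with hw
      have hwP : e w = 0 := by
        have hcom : ∀ (h : H) (u : V), e (ρ (h : X) u) = ρ (h : X) (e u) := fun h u =>
          (avg_comm ρ Np (ρ (h : X)) (Equiv.refl _) (fun k z => by
            show ρ (h : X) (ρ (k : X) z) = ρ (k : X) (ρ (h : X) z)
            rw [← act_mul, ← act_mul, hNc _ (hHN h.2) _ (hNpN k.2)]) u).symm
        rw [hw, avg_comm ρ H e (Equiv.refl _) hcom v, hv, map_zero]
      have hw0 : w = 0 := by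
        refine hWP w hwP ?_
        let ψ : Np →* Np :=
          { toFun := fun m => ⟨(y * m * y⁻¹) * σ (σ (y * m * y⁻¹)),
              mul_mem (hNconj y _ (hNpN m.2)) (hNs _ (hNs _ (hNconj y _ (hNpN m.2)))), by
              rw [map_mul σ, map_mul σ, hσ.1,
                hNc _ (hNconj y _ (hNpN m.2)) _ (hNs _ (hNs _ (hNconj y _ (hNpN m.2))))]⟩
            map_one' := by ext; simp
            map_mul' := fun a b => by
              apply Subtype.ext
              show (y * (a * b : X) * y⁻¹) * σ (σ (y * (a * b : X) * y⁻¹)) = _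
              have e1 : y * (a * b : X) * y⁻¹ = (y * a * y⁻¹) * (y * b * y⁻¹) := by group
              rw [e1, map_mul σ, map_mul σ]
              have hA := hNconj y _ (hNpN a.2)
              have hB := hNconj y _ (hNpN b.2)
              show _ = (y * a * y⁻¹ * σ (σ (y * a * y⁻¹))) * (y * b * y⁻¹ * σ (σ (y * b * y⁻¹)))
              have hcm := hNc _ hB _ (hNs _ (hNs _ hA))
              generalize σ (σ (y * (a : X) * y⁻¹)) = tA at hcm ⊢
              generalize σ (σ (y * (b : X) * y⁻¹)) = tB
              generalize y * (a : X) * y⁻¹ = A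
              generalize y * (b : X) * y⁻¹ = B at hcm ⊢
              calc A * B * (tA * tB) = A * (B * tA) * tB := by simp only [mul_assoc]
                _ = A * (tA * B) * tB := by rw [hcm]
                _ = A * tA * (B * tB) := by simp only [mul_assoc] }
        have hψ : Function.Injective ψ := by
          rw [injective_iff_map_eq_one]
          intro m hm
          have h1 : (y * m * y⁻¹) * σ (σ (y * m * y⁻¹)) = 1 := congrArg Subtype.val hm
          have h2 : σ (σ (y * m * y⁻¹)) = y⁻¹ * m * y := by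
            rw [map_mul σ (y * (m : X)) y⁻¹, map_mul σ y (m : X), map_mul σ (σ y * σ (m : X)),
              map_mul σ (σ y), map_inv σ y, map_inv σ (σ y), (m.2).2]
            exact hinvN y m (hNpN m.2)
          rw [h2] at h1
          -- `y²` inverts `m`
          have h3 : y * (y * (m : X) * y⁻¹) * y⁻¹ = (m : X)⁻¹ := by
            rw [eq_inv_of_mul_eq_one_left h1]
            simp only [mul_inv_rev, inv_inv, mul_assoc, mul_inv_cancel_left, mul_inv_cancel,
              mul_one]
          have h4 : (y * y) * ((y * y) * (m : X) * (y * y)⁻¹) * (y * y)⁻¹ = (m : X) := by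
            have h5 : (y * y) * (m : X) * (y * y)⁻¹ = (m : X)⁻¹ := by rw [← h3]; group
            rw [h5]
            calc (y * y) * (m : X)⁻¹ * (y * y)⁻¹ = ((y * y) * (m : X) * (y * y)⁻¹)⁻¹ := by
                  simp only [mul_inv_rev, inv_inv, mul_assoc]
              _ = m := by rw [h5, inv_inv]
          have h6 := hsq _ _ h4
          have h7 : y * (y * (m : X) * y⁻¹) * y⁻¹ = m := by
            calc y * (y * (m : X) * y⁻¹) * y⁻¹ = (y * y) * (m : X) * (y * y)⁻¹ := by group
              _ = m := h6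
          rw [h7] at h3
          apply Subtype.ext
          apply heqX
          nth_rewrite 2 [h3]
          exact mul_inv_cancel _
        intro a ha hat
        obtain ⟨m, hm⟩ := hsurjN ψ hψ ⟨a, ha, hat⟩
        have hma : (y * m * y⁻¹) * σ (σ (y * m * y⁻¹)) = a := congrArg Subtype.val hm
        set b := y * (m : X) * y⁻¹ with hb
        have hb1 : ρ b w = w := avg_fixed ρ H v ⟨(m : X), m.2, rfl⟩
        have hb2 : ρ (σ (σ b)) w = w := by
          have := congrArg (fun u => s (s u)) hb1
          simp only [hcomp2, hPneg w hwP, map_neg, neg_inj] at this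
          exact this
        rw [← hma, act_mul, hb2, hb1]
      -- transport the average
      have key : ρ x w = e (ρ x v) := by
        have := Fintype.ofFinite Np
        have := Fintype.ofFinite H
        have hcard : Nat.card H = Nat.card Np :=
          (Nat.card_congr (Np.equivMapOfInjective _ (MulAut.conj y).injective).toEquiv).symm
        rw [hw, he, avg_apply, avg_apply, map_zsmul, map_sum, hcard]
        congr 1
        refine (Fintype.sum_equiv
          (Np.equivMapOfInjective _ (MulAut.conj y).injective).toEquiv _ _ (fun k => ?_)).symm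
        show ρ (k : X) (ρ x v) = ρ x (ρ (y * k * y⁻¹) v)
        rw [← act_mul, ← act_mul, hy]
        congr 2
        group
      rw [← key, hw0, map_zero]
    -- conclusion
    let P : AddSubgroup V :=
      { carrier := {v | e v = 0}
        zero_mem' := map_zero e
        add_mem' := fun {a b} (ha : e a = 0) (hb : e b = 0) => by
          show e (a + b) = 0
          rw [map_add, ha, hb, add_zero]
        neg_mem' := fun {a} (ha : e a = 0) => by
          show e (-a) = 0
          rw [map_neg, ha, neg_zero] }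
    have hPs : ∀ u ∈ P, s u ∈ P := by
      intro u (hu : e u = 0)
      let π : Np ≃ Np := Equiv.ofBijective
        (fun m => ⟨σ m, hNs _ (hNpN m.2), by rw [(m.2).2]⟩)
        (Finite.injective_iff_bijective.1 fun a b hab => Subtype.ext
          (σ.injective (congrArg Subtype.val hab)))
      have := avg_comm ρ Np s.toAddMonoidHom π (fun h w => hcomp _ _) u
      show e (s u) = 0
      rw [he]
      exact this.symm.trans (by rw [← he, hu, map_zero])
    rcases hirr P (fun x u hu => hPinv x u hu) hPs with h | h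
    · -- everything is fixed by `Np`
      obtain ⟨a, ha, ha1, hat⟩ := hNplus
      refine ha1 (hext1 a fun v => ?_)
      have h1 : v - e v ∈ P := avg_self ρ Np hcoP v
      rw [h, AddSubgroup.mem_bot, sub_eq_zero] at h1
      rw [h1]
      exact avg_fixed ρ Np v ⟨ha, hat⟩
    · have h1 : v₀ ∈ P := h ▸ AddSubgroup.mem_top v₀
      exact hv₀0 ((avg_of_fixed ρ Np hcoP (fun m hm => hCfix m hm.2 v₀ hv₀)).symm.trans h1)
  · -- `σ²` inverts `N`
    push Not at hNplus
    have hinv : ∀ m ∈ N, σ (σ m) = m⁻¹ := by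
      intro m hm
      have htm : σ (σ m) ∈ N := hNs _ (hNs _ hm)
      by_contra hne
      refine hNplus (m * σ (σ m)) (mul_mem hm htm) (fun h1 => hne (eq_inv_of_mul_eq_one_right h1)) ?_
      rw [map_mul, map_mul, hσ.1, hNc m hm _ htm]
    let U : AddSubgroup V :=
      AddSubgroup.closure {u | ∃ m ∈ N, ∃ v, s (s v) = v ∧ ρ m v = u}
    have hUN : ∀ m ∈ N, ∀ u ∈ U, ρ m u ∈ U := by
      intro m hm u hu
      induction hu using AddSubgroup.closure_induction with
      | mem u hu =>
        obtain ⟨k, hk, v, hv, rfl⟩ := hu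
        rw [← act_mul]
        exact AddSubgroup.subset_closure ⟨m * k, mul_mem hm hk, v, hv, rfl⟩
      | zero => rw [map_zero]; exact U.zero_mem
      | add a b _ _ iha ihb => rw [map_add]; exact U.add_mem iha ihb
      | neg a _ iha => rw [map_neg]; exact U.neg_mem iha
    have hUplus : ∀ v, v + s (s v) ∈ U := fun v =>
      AddSubgroup.subset_closure ⟨1, one_mem _, v + s (s v),
        by rw [map_add, map_add, hs.1, add_comm], act_one ρ _⟩
    have hUfull : ∀ v, v ∈ U := by
      intro v
      have hmod : ∀ m ∈ N, ρ m v - v ∈ U := by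
        -- modulo `U` every `m²` acts trivially
        have hsqU : ∀ m ∈ N, ρ (m * m) v - v ∈ U := by
          intro m hm
          have h1 := hUplus (ρ m v)
          rw [hcomp2, hinv m hm] at h1
          have h3 : ρ m (ρ m v + ρ m⁻¹ (s (s v))) - (v + s (s v)) ∈ U :=
            U.sub_mem (hUN m hm _ h1) (hUplus v)
          rw [map_add, act_inv', ← act_mul, add_sub_add_right_eq_sub] at h3
          exact h3
        intro m hm
        obtain ⟨k, hk⟩ := hX
        have e1 : m = m ^ (k + 1) * m ^ (k + 1) := by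
          rw [← pow_add, show k + 1 + (k + 1) = Nat.card X + 1 by omega, pow_add, pow_card_eq_one',
            one_mul, pow_one]
        rw [e1]
        exact hsqU _ (pow_mem hm _)
      have := Fintype.ofFinite N
      have h0 : avg ρ N v = 0 := hfixN _ (fun m hm => avg_fixed ρ N v hm)
      have h1 : avg ρ N v - v ∈ U := by
        rw [avg_apply]
        have h2 : (Nat.gcdA (Nat.card N) (Nat.card V)) • ∑ _h : N, v = v := by
          have := avg_of_fixed (ρ := (1 : X →* AddMonoid.End V)) N hco (v := v) (fun _ _ => rfl)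
          rw [avg_apply] at this
          exact this
        nth_rewrite 2 [← h2]
        rw [← smul_sub, ← Finset.sum_sub_distrib]
        exact U.zsmul_mem (U.sum_mem fun m _ => hmod _ m.2) _
      rw [h0, zero_sub, neg_mem_iff] at h1
      exact h1
    have hC1 : ∀ c, σ (σ c) = c → c = 1 := by
      intro c hc
      have hcv := hCfix c hc
      have hconj : ∀ m ∈ N, ∀ v, s (s v) = v → ρ c (ρ m v) = ρ (c * m * c⁻¹) v := by
        intro m _ v hv
        nth_rewrite 2 [← hcv v hv]
        rw [← act_mul, ← act_mul]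
        congr 2
        group
      -- operators agreeing on fixed vectors of `σ²`
      have hop : ∀ m ∈ N, ∀ u, ρ (c * m * c⁻¹) u + ρ (c * m⁻¹ * c⁻¹) u = ρ m u + ρ m⁻¹ u := by
        intro m hm u
        have hu := hUfull u
        induction hu using AddSubgroup.closure_induction with
        | mem u hu =>
          obtain ⟨k, hk, v, hv, rfl⟩ := hu
          have h1 : s (s (ρ m v + ρ m⁻¹ v)) = ρ m v + ρ m⁻¹ v := by
            rw [map_add, map_add, hcomp2, hcomp2, hinv m hm, hinv _ (inv_mem hm), inv_inv, hv,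
              add_comm]
          have h2 := hcv _ h1
          rw [map_add, hconj m hm v hv, hconj _ (inv_mem hm) v hv] at h2
          have hcomm : ∀ a ∈ N, ρ a (ρ k v) = ρ k (ρ a v) := fun a ha => by
            rw [← act_mul, ← act_mul, hNc a ha k hk]
          rw [hcomm _ (hNconj c m hm), hcomm _ (hNconj c _ (inv_mem hm)), hcomm m hm,
            hcomm _ (inv_mem hm), ← map_add, ← map_add, h2]
        | zero => simp
        | add a b _ _ iha ihb =>
          simp only [map_add]
          rw [add_add_add_comm, iha, ihb, add_add_add_comm]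
        | neg a _ iha => simp only [map_neg]; rw [← neg_add, iha, neg_add]
      have hprod : ∀ m ∈ N, ∀ u,
          ρ (m⁻¹ * (c * m * c⁻¹)) (ρ (m * (c * m * c⁻¹)) u - u) = ρ (m * (c * m * c⁻¹)) u - u := by
        intro m hm u
        set a := c * m * c⁻¹ with ha
        have haN : a ∈ N := hNconj c m hm
        have hai : c * m⁻¹ * c⁻¹ = a⁻¹ := by rw [ha]; group
        have h := congrArg (ρ a) (hop m hm u)
        rw [hai, map_add, map_add, act_inv', ← act_mul, ← act_mul, ← act_mul] at h
        rw [map_sub, ← act_mul]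
        have e1 : m⁻¹ * a * (m * a) = a * a := by
          rw [hNc m hm a haN]
          calc m⁻¹ * a * (a * m) = m⁻¹ * (a * a * m) := by group
            _ = m⁻¹ * (m * (a * a)) := by rw [hNc _ (mul_mem haN haN) m hm]
            _ = a * a := by group
        rw [e1, hNc m hm a haN, hNc m⁻¹ (inv_mem hm) a haN, sub_eq_sub_iff_add_eq_add,
          add_comm (ρ (a * m) u)]
        rw [← ha] at h
        exact h.trans (add_comm _ _)
      have hc2 : ∀ m ∈ N, c * c * m * (c * c)⁻¹ = m := by
        intro m₀ hm₀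
        set d := (c * c * m₀ * (c * c)⁻¹) * m₀⁻¹ with hd
        have hdN : d ∈ N := mul_mem (hNconj _ m₀ hm₀) (inv_mem hm₀)
        have hcoD : (Nat.card (Subgroup.zpowers d)).Coprime (Nat.card V) :=
          hco.coprime_dvd_left (Subgroup.card_dvd_of_le (Subgroup.zpowers_le.2 hdN))
        suffices hdfix : ∀ v, ρ d v = v from mul_inv_eq_one.1 (hext1 d hdfix)
        let T : AddSubgroup V :=
          { carrier := {v | avg ρ (Subgroup.zpowers d) v = 0}
            zero_mem' := map_zero _
            add_mem' := fun {a b} (ha : avg ρ _ a = 0) (hb : avg ρ _ b = 0) => by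
              show avg ρ (Subgroup.zpowers d) (a + b) = 0
              rw [map_add, ha, hb, add_zero]
            neg_mem' := fun {a} (ha : avg ρ _ a = 0) => by
              show avg ρ (Subgroup.zpowers d) (-a) = 0
              rw [map_neg, ha, neg_zero] }
        have hTN : ∀ m ∈ N, ∀ u ∈ T, ρ m u ∈ T := by
          intro m hm u (hu : avg ρ _ u = 0)
          show avg ρ (Subgroup.zpowers d) (ρ m u) = 0
          have h0 := avg_comm ρ (Subgroup.zpowers d) (ρ m) (Equiv.refl _) (fun h w => by
            show ρ m (ρ (h : X) w) = ρ (h : X) (ρ m w)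
            rw [← act_mul, ← act_mul, hNc m hm _ (Subgroup.zpowers_le.2 hdN h.2)]) u
          exact h0.symm.trans ((congrArg (ρ m) hu).trans (map_zero _))
        by_cases hT : T = ⊥
        · intro v
          have h1 : v - avg ρ _ v ∈ T := avg_self ρ _ hcoD v
          rw [hT, AddSubgroup.mem_bot, sub_eq_zero] at h1
          rw [h1]
          exact avg_fixed ρ _ v (Subgroup.mem_zpowers d)
        exfalso
        obtain ⟨W, ⟨hW0, hWN, hWT⟩, hWmin⟩ := (Set.toFinite {W : AddSubgroup V |
          W ≠ ⊥ ∧ (∀ m ∈ N, ∀ u ∈ W, ρ m u ∈ W) ∧ W ≤ T}).exists_minimal ⟨T, hT, hTN, le_rfl⟩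
        let Sa : Subgroup X :=
          { carrier := {m | m ∈ N ∧ ∀ u ∈ W, ρ (c * m * c⁻¹) u = ρ m u}
            one_mem' := ⟨one_mem _, fun u _ => by simp⟩
            mul_mem' := fun {a b} (ha : a ∈ N ∧ _) (hb : b ∈ N ∧ _) =>
              ⟨mul_mem ha.1 hb.1, fun u hu => by
                rw [show c * (a * b) * c⁻¹ = (c * a * c⁻¹) * (c * b * c⁻¹) by group, act_mul,
                  hb.2 u hu, ha.2 _ (hWN b hb.1 u hu), ← act_mul]⟩
            inv_mem' := fun {a} (ha : a ∈ N ∧ _) => ⟨inv_mem ha.1, fun u hu => by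
              have h1 := ha.2 _ (hWN a⁻¹ (inv_mem ha.1) u hu)
              rw [act_inv'] at h1
              have h2 := congrArg (ρ (c * a⁻¹ * c⁻¹)) h1
              rw [← act_mul, show c * a⁻¹ * c⁻¹ * (c * a * c⁻¹) = 1 by group, act_one] at h2
              exact h2.symm⟩ }
        let Sb : Subgroup X :=
          { carrier := {m | m ∈ N ∧ ∀ u ∈ W, ρ (m * (c * m * c⁻¹)) u = u}
            one_mem' := ⟨one_mem _, fun u _ => by simp⟩
            mul_mem' := fun {a b} (ha : a ∈ N ∧ _) (hb : b ∈ N ∧ _) =>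
              ⟨mul_mem ha.1 hb.1, fun u hu => by
                have e1 : a * b * (c * (a * b) * c⁻¹) = (a * (c * a * c⁻¹)) * (b * (c * b * c⁻¹)) := by
                  rw [show c * (a * b) * c⁻¹ = (c * a * c⁻¹) * (c * b * c⁻¹) by group,
                    mul_assoc a b, ← mul_assoc b (c * a * c⁻¹), hNc b hb.1 _ (hNconj c a ha.1)]
                  group
                rw [e1, act_mul, hb.2 u hu, ha.2 u hu]⟩
            inv_mem' := fun {a} (ha : a ∈ N ∧ _) => ⟨inv_mem ha.1, fun u hu => by
              have e1 : a⁻¹ * (c * a⁻¹ * c⁻¹) = (a * (c * a * c⁻¹))⁻¹ := by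
                rw [hNc a ha.1 _ (hNconj c a ha.1)]; group
              rw [e1]
              nth_rewrite 1 [← ha.2 u hu]
              exact act_inv ρ _ u⟩ }
        have hcover : ∀ m ∈ N, m ∈ Sa ∨ m ∈ Sb := by
          intro m hm
          by_cases hb : ∀ u ∈ W, ρ (m * (c * m * c⁻¹)) u = u
          · exact Or.inr ⟨hm, hb⟩
          left
          refine ⟨hm, ?_⟩
          push Not at hb
          obtain ⟨u₀, hu₀, hu₀ne⟩ := hb
          set g := m * (c * m * c⁻¹) with hg
          set h := m⁻¹ * (c * m * c⁻¹) with hh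
          have hgN : g ∈ N := mul_mem hm (hNconj c m hm)
          have hhN : h ∈ N := mul_mem (inv_mem hm) (hNconj c m hm)
          let F : AddSubgroup V :=
            { carrier := {u | u ∈ W ∧ ρ h u = u}
              zero_mem' := ⟨W.zero_mem, map_zero _⟩
              add_mem' := fun {a b} (ha : a ∈ W ∧ _) (hb : b ∈ W ∧ _) =>
                ⟨W.add_mem ha.1 hb.1, by rw [map_add, ha.2, hb.2]⟩
              neg_mem' := fun {a} (ha : a ∈ W ∧ _) => ⟨W.neg_mem ha.1, by rw [map_neg, ha.2]⟩ }
          have hF0 : ρ g u₀ - u₀ ∈ F :=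
            ⟨W.sub_mem (hWN g hgN u₀ hu₀) hu₀, hprod m hm u₀⟩
          have hFW : W ≤ F := hWmin ⟨fun hb' => hu₀ne (sub_eq_zero.1
              ((AddSubgroup.mem_bot).1 (hb' ▸ hF0))),
            fun k hk u hu => ⟨hWN k hk u hu.1, by
              rw [← act_mul, hNc h hhN k hk, act_mul, hu.2]⟩,
            fun u hu => hWT hu.1⟩ (fun u hu => hu.1)
          intro u hu
          have := congrArg (ρ m) (hFW hu).2
          rw [hh, ← act_mul, mul_inv_cancel_left] at this
          exact this
        have hsame : (∀ m ∈ N, m ∈ Sa) ∨ ∀ m ∈ N, m ∈ Sb := by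
          by_contra hc'
          push Not at hc'
          obtain ⟨⟨p, hp, hpa⟩, q, hq, hqb⟩ := hc'
          have hpb := (hcover p hp).resolve_left hpa
          have hqa := (hcover q hq).resolve_right hqb
          rcases hcover (p * q) (mul_mem hp hq) with h | h
          · exact hpa (by simpa using mul_mem h (inv_mem hqa))
          · exact hqb (by simpa using mul_mem (inv_mem hpb) h)
        have hdW : ∀ u ∈ W, ρ d u = u := by
          intro u hu
          have hm1 : c * m₀ * c⁻¹ ∈ N := hNconj c m₀ hm₀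
          have key : ρ (c * (c * m₀ * c⁻¹) * c⁻¹) (ρ m₀⁻¹ u) = u := by
            rcases hsame with h | h
            · have hu' := hWN m₀⁻¹ (inv_mem hm₀) u hu
              rw [(h _ hm1).2 _ hu', (h m₀ hm₀).2 _ hu', act_inv']
            · have hu' := hWN m₀⁻¹ (inv_mem hm₀) u hu
              -- both products fix `W`
              have h1 := (h _ hm1).2 _ hu'
              rw [← act_mul] at h1 ⊢
              have h2 := (h m₀ hm₀).2 u hu
              have e1 : c * m₀ * c⁻¹ * (c * (c * m₀ * c⁻¹) * c⁻¹) * m₀⁻¹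
                  = (c * (c * m₀ * c⁻¹) * c⁻¹ * m₀⁻¹) * (c * m₀ * c⁻¹) := by
                exact (mul_assoc _ _ _).trans
                  (hNc _ hm1 _ (mul_mem (hNconj c _ hm1) (inv_mem hm₀)))
              rw [e1, act_mul] at h1
              have e2 : ρ (c * m₀ * c⁻¹) u = ρ m₀⁻¹ u := by
                have := congrArg (ρ m₀⁻¹) h2
                rwa [← act_mul, inv_mul_cancel_left] at this
              rw [e2, ← act_mul] at h1
              have h3 := congrArg (ρ m₀) h1
              rw [act_inv', ← act_mul] at h3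
              rw [show c * (c * m₀ * c⁻¹) * c⁻¹ * m₀⁻¹
                = m₀ * (c * (c * m₀ * c⁻¹) * c⁻¹ * m₀⁻¹ * m₀⁻¹) by
                rw [hNc m₀ hm₀ _ (mul_mem (mul_mem (hNconj c _ hm1) (inv_mem hm₀))
                  (inv_mem hm₀)), inv_mul_cancel_right]]
              exact h3
          rw [hd, act_mul]
          rw [show c * c * m₀ * (c * c)⁻¹ = c * (c * m₀ * c⁻¹) * c⁻¹ by group]
          exact key
        obtain ⟨u, hu, hu0⟩ := W.bot_or_exists_ne_zero.resolve_left hW0
        have h1 : avg ρ (Subgroup.zpowers d) u = u := by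
          refine avg_of_fixed ρ _ hcoD fun h hh => ?_
          exact (Subgroup.zpowers_le.2 (show d ∈ stab ρ u from hdW u hu)) hh
        exact hu0 (h1.symm.trans (hWT hu))
      have hc1 : ∀ m ∈ N, c * m * c⁻¹ = m := by
        intro m hm
        have h1 : c * c ∈ Subgroup.centralizer ({m} : Set X) := by
          rw [Subgroup.mem_centralizer_singleton_iff]
          exact mul_inv_eq_iff_eq_mul.1 (hc2 m hm)
        have := mem_of_sq_mem hX h1
        rw [Subgroup.mem_centralizer_singleton_iff] at this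
        rw [this, mul_inv_cancel_right]
      refine hext1 c fun u => ?_
      have hu := hUfull u
      induction hu using AddSubgroup.closure_induction with
      | mem u hu =>
        obtain ⟨k, hk, v, hv, rfl⟩ := hu
        rw [hconj k hk v hv, hc1 k hk]
      | zero => exact map_zero _
      | add a b _ _ iha ihb => rw [map_add, iha, ihb]
      | neg a _ iha => rw [map_neg, iha]
    exact commute_of_sq_fpf hσ hC1

set_option maxHeartbeats 400000 in
/-- The derived subgroup of a solvable group with a fixed-point-free automorphism of order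
dividing four is nilpotent. -/
theorem isNilpotent_commutator_aux : ∀ (n : ℕ) (G : Type u) [Group G] [Finite G] (σ : G ≃* G),
    Nat.card G = n → Group.IsSolvable G → Fpf4 σ → Group.IsNilpotent (commutator G) := by
  intro n
  induction n using Nat.strong_induction_on with
  | _ n ih =>
  intro G _ _ σ hn hsol hσ
  by_cases htriv : Subsingleton G
  · infer_instance
  have : Nontrivial G := not_subsingleton_iff_nontrivial.1 htriv
  obtain ⟨M, hMn, hMs, hM0, hMmin⟩ := exists_minimal σ
  have hMc := minimal_commute hsol σ M hMn hMs hM0 hMmin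
  letI : CommGroup M :=
    { (inferInstance : Group M) with mul_comm := fun a b => Subtype.ext (hMc a a.2 b b.2) }
  let f : G →* AddMonoid.End (Additive M) :=
    { toFun := fun x =>
        { toFun := fun a => Additive.ofMul ⟨x * (a.toMul : M) * x⁻¹, hMn.conj_mem _ a.toMul.2 x⟩
          map_zero' := by ext; simp
          map_add' := fun a b => by ext; simp [mul_assoc] }
      map_one' := AddMonoidHom.ext fun a => by
        show Additive.ofMul _ = a
        apply Additive.toMul.injective
        apply Subtype.ext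
        simp
      map_mul' := fun x y => AddMonoidHom.ext fun a => by
        show Additive.ofMul _ = Additive.ofMul _
        apply Additive.toMul.injective
        apply Subtype.ext
        show x * y * ((a.toMul : M) : G) * (x * y)⁻¹ = x * (y * ((a.toMul : M) : G) * y⁻¹) * x⁻¹
        group }
  have hsurj : ∀ m ∈ M, ∃ k ∈ M, σ k = m := by
    intro m hm
    have : m ∈ M.map σ.toMonoidHom := by rw [map_eq_of_invariant σ M hMs]; exact hm
    obtain ⟨k, hk, rfl⟩ := this
    exact ⟨k, hk, rfl⟩
  have hker : ∀ c, c ∈ f.ker ↔ ∀ m ∈ M, c * m * c⁻¹ = m := by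
    intro c
    constructor
    · intro hc m hm
      have := DFunLike.congr_fun (hc : f c = 1) (Additive.ofMul ⟨m, hm⟩)
      exact congrArg (fun a : Additive M => ((a.toMul : M) : G)) this
    · intro h
      ext a
      exact h _ a.toMul.2
  have hkerσ : ∀ c ∈ f.ker, σ c ∈ f.ker := by
    intro c hc
    rw [hker] at hc ⊢
    intro m hm
    obtain ⟨k, hk, rfl⟩ := hsurj m hm
    rw [← map_inv, ← map_mul, ← map_mul, hc k hk]
  let σM : Additive M ≃+ Additive M :=
    { toFun := fun a => Additive.ofMul ⟨σ (a.toMul : M), hMs _ a.toMul.2⟩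
      invFun := fun a => Additive.ofMul ⟨σ.symm (a.toMul : M), by
        obtain ⟨k, hk, hk2⟩ := hsurj _ a.toMul.2
        rw [← hk2, σ.symm_apply_apply]; exact hk⟩
      left_inv := fun a => by ext; simp
      right_inv := fun a => by ext; simp
      map_add' := fun a b => by ext; simp }
  have hsM : AddFpf4 σM := by
    have hval : ∀ a : Additive M, (((σM a).toMul : M) : G) = σ ((a.toMul : M) : G) :=
      fun _ => rfl
    refine ⟨fun a => ?_, fun a ha => ?_⟩
    · apply Additive.toMul.injective
      apply Subtype.ext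
      rw [hval, hval, hval, hval]
      exact hσ.1 _
    · have h1 : σ ((a.toMul : M) : G) = ((a.toMul : M) : G) := by rw [← hval, ha]
      apply Additive.toMul.injective
      apply Subtype.ext
      rw [toMul_zero, OneMemClass.coe_one]
      exact hσ.2 _ h1
  let fl : G ⧸ f.ker →* AddMonoid.End (Additive M) := QuotientGroup.lift f.ker f le_rfl
  have hfl : Function.Injective fl := by
    rw [injective_iff_map_eq_one]
    intro q hq
    induction q using QuotientGroup.induction_on with
    | _ x => exact (QuotientGroup.eq_one_iff x).2 hq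
  have hcompM : ∀ (q : G ⧸ f.ker) (v : Additive M),
      σM (fl q v)
        = fl (QuotientGroup.congr f.ker f.ker σ
            (map_eq_of_invariant σ f.ker hkerσ) q) (σM v) := by
    intro q v
    induction q using QuotientGroup.induction_on with
    | _ x =>
      show σM (f x v) = f (σ x) (σM v)
      apply Additive.toMul.injective
      apply Subtype.ext
      show σ (x * ((v.toMul : M) : G) * x⁻¹) = σ x * σ ((v.toMul : M) : G) * (σ x)⁻¹
      simp
  have hirr : ∀ U : AddSubgroup (Additive M),
      (∀ q : G ⧸ f.ker, ∀ u ∈ U, fl q u ∈ U) → (∀ u ∈ U, σM u ∈ U) →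
      U = ⊥ ∨ U = ⊤ := by
    intro U h1 h2
    let L : Subgroup G :=
      { carrier := {m | ∃ hm : m ∈ M, Additive.ofMul (⟨m, hm⟩ : M) ∈ U}
        one_mem' := ⟨one_mem _, U.zero_mem⟩
        mul_mem' := fun {a b} ⟨ha, ha'⟩ ⟨hb, hb'⟩ => ⟨mul_mem ha hb, U.add_mem ha' hb'⟩
        inv_mem' := fun {a} ⟨ha, ha'⟩ => ⟨inv_mem ha, U.neg_mem ha'⟩ }
    have hLn : L.Normal := ⟨fun m ⟨hm, hm'⟩ x =>
      ⟨hMn.conj_mem m hm x, h1 (QuotientGroup.mk x) _ hm'⟩⟩
    rcases hMmin L hLn (fun m ⟨hm, hm'⟩ => ⟨hMs m hm, h2 _ hm'⟩) (fun m ⟨hm, _⟩ => hm) with h | h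
    · left
      rw [AddSubgroup.eq_bot_iff_forall]
      intro u hu
      have : ((u.toMul : M) : G) ∈ L := ⟨u.toMul.2, hu⟩
      rw [h, Subgroup.mem_bot] at this
      ext
      exact this
    · right
      rw [eq_top_iff]
      intro u _
      obtain ⟨hm, hm'⟩ : ((u.toMul : M) : G) ∈ L := h.ge u.toMul.2
      exact hm'
  have hcomm := abelian_core _ (G ⧸ f.ker) (Additive M) _ σM (fl) rfl
    (by have := hsol; infer_instance) (hσ.quotient f.ker hkerσ) hsM
    hfl hcompM hirr
  have hder : commutator G ≤ f.ker := by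
    rw [commutator_def, Subgroup.commutator_le]
    intro a _ b _
    rw [← QuotientGroup.eq_one_iff]
    show QuotientGroup.mk' f.ker ⁅a, b⁆ = 1
    rw [map_commutatorElement, commutatorElement_eq_one_iff_mul_comm]
    exact hcomm _ _
  have hlt : Nat.card (G ⧸ M) < n := by
    rw [← hn, Subgroup.card_eq_card_quotient_mul_card_subgroup M]
    exact lt_mul_of_one_lt_right Nat.card_pos ((Subgroup.one_lt_card_iff_ne_bot _).2 hM0)
  have hnil : Group.IsNilpotent (commutator (G ⧸ M)) :=
    ih _ hlt (G ⧸ M) _ rfl (by have := hsol; infer_instance)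
      (hσ.quotient M hMs)
  have hmap : (commutator G).map (QuotientGroup.mk' M) ≤ commutator (G ⧸ M) := by
    rw [commutator_def, commutator_def, Subgroup.map_commutator]
    exact Subgroup.commutator_mono le_top le_top
  let φ : commutator G →* commutator (G ⧸ M) :=
    ((QuotientGroup.mk' M).comp (commutator G).subtype).codRestrict (commutator (G ⧸ M))
      (fun a => hmap ⟨a, a.2, rfl⟩)
  refine Subgroup.isNilpotent_of_ker_le_center φ ?_
  intro a ha
  rw [Subgroup.mem_center_iff]
  intro b
  have ha' : (a : G) ∈ M := by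
    rw [← QuotientGroup.eq_one_iff]
    exact congrArg Subtype.val (ha : φ a = 1)
  apply Subtype.ext
  show (b : G) * a = a * b
  exact mul_inv_eq_iff_eq_mul.1 ((hker _).1 (hder b.2) _ ha')

end CfsgLib.Solv.FpfFour
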