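import Cfsg.Agent.Solv.FittingBasic
import Cfsg.Agent.Solv.CoprimeAction
import Mathlib.GroupTheory.Index
import Mathlib.Data.ZMod.Basic

/-!
Odd-order operators normalizing all subgroups of a given order of a 2-group.
-/

set_option autoImplicit false
set_option linter.style.haveILetI false
set_option linter.deprecated false

open scoped commutatorElement

namespace CfsgLib.Solv

variable {X : Type*} [Group X]

/-- The Frattini subgroup of a subgroup, inside the ambient group. -/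
abbrev phiOf (P : Subgroup X) : Subgroup X := (frattini ↥P).map P.subtype

theorem phiOf_le (P : Subgroup X) : phiOf P ≤ P := Subgroup.map_subtype_le _

variable [Finite X]

theorem index_two_of_coatom {P : Subgroup X} (hP : IsPGroup 2 P) {M : Subgroup ↥P} (hM : IsCoatom M) :
    M.index = 2 := by
  haveI : Fact (Nat.Prime 2) := ⟨Nat.prime_two⟩
  haveI := hP.isNilpotent
  obtain ⟨hn, hc⟩ := isCoatom_normal_and_card_quotient hP hM
  exact hc

/-- If all maximal subgroups are invariant, a group of odd order acts trivially. -/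
theorem le_centralizer_of_coatoms_invariant {P A : Subgroup X} (hP : IsPGroup 2 P)
    (hA : Odd (Nat.card A)) (hAP : A ≤ Subgroup.normalizer (P : Set X))
    (h : ∀ M : Subgroup ↥P, IsCoatom M → A ≤ Subgroup.normalizer (M.map P.subtype : Set X)) :
    A ≤ Subgroup.centralizer (P : Set X) := by
  haveI : Fact (Nat.Prime 2) := ⟨Nat.prime_two⟩
  refine le_centralizer_of_trivial_on_frattini_quotient ?_ fun a ha k hk => ?_
  · obtain ⟨j, hj⟩ := IsPGroup.iff_card.1 (hP.to_subgroup (frattini ↥P))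
    rw [hj]
    exact (Nat.coprime_two_right.2 hA).pow_right j
  have hc : ⁅a, k⁆ ∈ P := by
    rw [commutatorElement_def]
    exact mul_mem ((Subgroup.mem_normalizer_iff.1 (hAP ha) k).1 hk) (inv_mem hk)
  refine ⟨⟨_, hc⟩, ?_, rfl⟩
  show (⟨⁅a, k⁆, hc⟩ : ↥P) ∈ frattini ↥P
  rw [frattini, Order.radical]
  simp only [Subgroup.mem_iInf]
  intro M hM
  have hak : a * k * a⁻¹ ∈ P := (Subgroup.mem_normalizer_iff.1 (hAP ha) k).1 hk
  have he : (⟨⁅a, k⁆, hc⟩ : ↥P) = ⟨a * k * a⁻¹, hak⟩ * (⟨k, hk⟩ : ↥P)⁻¹ := Subtype.ext rfl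
  have hmem : ∀ y (hy : y ∈ P), y ∈ M.map P.subtype ↔ (⟨y, hy⟩ : ↥P) ∈ M := fun y hy =>
    ⟨fun ⟨z, hz, e⟩ => by
      have : z = ⟨y, hy⟩ := Subtype.ext e
      exact this ▸ hz, fun hz => ⟨_, hz, rfl⟩⟩
  rw [he, Subgroup.mul_mem_iff_of_index_two (index_two_of_coatom hP hM), inv_mem_iff,
    ← hmem, ← hmem]
  exact (Subgroup.mem_normalizer_iff.1 (h M hM ha) k).symm

theorem le_centralizer_of_isCyclic {P A : Subgroup X} [IsCyclic P] (hP : IsPGroup 2 P)
    (hA : Odd (Nat.card A)) (hAP : A ≤ Subgroup.normalizer (P : Set X)) :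
    A ≤ Subgroup.centralizer (P : Set X) := by
  refine le_centralizer_of_coatoms_invariant hP hA hAP fun M hM => ?_
  refine le_normalizer_iff_forall_conj_mem.2 ?_
  rintro a ha _ ⟨y, hy, rfl⟩
  have hay : a * (y : X) * a⁻¹ ∈ P := (Subgroup.mem_normalizer_iff.1 (hAP ha) _).1 y.2
  refine ⟨⟨_, hay⟩, ?_, rfl⟩
  obtain ⟨m, hm⟩ := MonoidHom.map_cyclic
    (Subgroup.normalizerMonoidHom P ⟨a, hAP ha⟩).toMonoidHom
  have he : (⟨_, hay⟩ : ↥P) = y ^ m := by rw [← hm y]; rfl
  rw [SetLike.mem_coe, he]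
  exact zpow_mem hy m

theorem exists_card_two_pow_between {P R : Subgroup X} (hP : IsPGroup 2 P) (hRP : R ≤ P) {k : ℕ}
    (h1 : Nat.card R ≤ 2 ^ k) (h2 : 2 ^ k ≤ Nat.card P) :
    ∃ E : Subgroup X, R ≤ E ∧ E ≤ P ∧ Nat.card E = 2 ^ k := by
  haveI : Fact (Nat.Prime 2) := ⟨Nat.prime_two⟩
  obtain ⟨m, hm⟩ := IsPGroup.iff_card.1 hP
  obtain ⟨j, hj⟩ := IsPGroup.iff_card.1 (hP.to_le hRP)
  have hkm : k ≤ m := (Nat.pow_le_pow_iff_right (by norm_num)).1 (hm ▸ h2)
  have hjk : j ≤ k := (Nat.pow_le_pow_iff_right (by norm_num)).1 (hj ▸ h1)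
  obtain ⟨E, hE, hle⟩ := Sylow.exists_subgroup_card_pow_prime_le (p := 2) (G := ↥P)
    (n := j) (m := k) (by rw [hm]; exact pow_dvd_pow _ hkm) (R.subgroupOf P)
    (by rw [card_subgroupOf hRP, hj]) hjk
  refine ⟨E.map P.subtype, ?_, Subgroup.map_subtype_le _, by rw [card_map_subtype, hE]⟩
  rw [← Subgroup.map_subgroupOf_eq_of_le hRP]
  exact Subgroup.map_mono hle

theorem zmod_two_facts : ((0 : ZMod 2) = 1 + 1) ∧ (∀ c : ZMod 2, c ≠ 0 → c = 1) ∧
    (∀ c : ZMod 2, 0 = c + 1 → c = 1) := by decide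

theorem exists_index_two_invariant {P A : Subgroup X} (hP : IsPGroup 2 P) (hA : Odd (Nat.card A))
    (hAP : A ≤ Subgroup.normalizer (P : Set X)) {x : X} (hx : x ∈ P) (hxP : x ∉ phiOf P)
    (hfix : ∀ a ∈ A, a * x * a⁻¹ = x) :
    ∃ K : Subgroup X, K ≤ P ∧ x ∉ K ∧ A ≤ Subgroup.normalizer (K : Set X) ∧
      ∀ y ∈ P, y ∈ K ∨ x⁻¹ * y ∈ K := by
  classical
  haveI : Fact (Nat.Prime 2) := ⟨Nat.prime_two⟩
  have hx' : (⟨x, hx⟩ : ↥P) ∉ frattini ↥P := fun h => hxP ⟨_, h, rfl⟩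
  rw [frattini, Order.radical] at hx'
  simp only [Subgroup.mem_iInf, not_forall] at hx'
  obtain ⟨M, hM, hxM⟩ := hx'
  have hM2 := index_two_of_coatom hP hM
  have : Fintype A := Fintype.ofFinite A
  let cj : ↥A → ↥P → ↥P := fun a y =>
    ⟨(a : X) * y * (a : X)⁻¹, (Subgroup.mem_normalizer_iff.1 (hAP a.2) _).1 y.2⟩
  let χ : ↥P → ZMod 2 := fun y => if y ∈ M then 0 else 1
  have hχ : ∀ y z, χ (y * z) = χ y + χ z := by
    intro y z
    simp only [χ, Subgroup.mul_mem_iff_of_index_two hM2]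
    by_cases h1 : y ∈ M <;> by_cases h2 : z ∈ M <;> simp [h1, h2]
    exact zmod_two_facts.1
  let f : ↥P → ZMod 2 := fun y => ∑ a : ↥A, χ (cj a y)
  have hf : ∀ y z, f (y * z) = f y + f z := by
    intro y z
    simp only [f, ← Finset.sum_add_distrib]
    refine Finset.sum_congr rfl fun a _ => ?_
    rw [← hχ]
    congr 1
    exact Subtype.ext (show (a : X) * (y * z : X) * (a : X)⁻¹ =
      ((a : X) * y * (a : X)⁻¹) * ((a : X) * z * (a : X)⁻¹) by group)
  let φ : ↥P →* Multiplicative (ZMod 2) :=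
    MonoidHom.mk' (fun y => Multiplicative.ofAdd (f y)) fun y z => by rw [hf, ofAdd_add]
  have hφ : ∀ y : ↥P, y ∈ φ.ker ↔ f y = 0 := fun y => Iff.rfl
  have hfx : f ⟨x, hx⟩ = 1 := by
    have : ∀ a : ↥A, cj a ⟨x, hx⟩ = ⟨x, hx⟩ := fun a => Subtype.ext (hfix a a.2)
    simp only [f, this, χ, if_neg hxM, Finset.sum_const, Finset.card_univ, nsmul_eq_mul, mul_one]
    rw [← Nat.card_eq_fintype_card]
    exact ZMod.natCast_eq_one_iff_odd.2 hA
  have hinv : ∀ (b : ↥A) (y : ↥P), f (cj b y) = f y := by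
    intro b y
    refine Fintype.sum_equiv (Equiv.mulRight b) _ _ fun a => ?_
    congr 1
    refine Subtype.ext ?_
    show (a : X) * ((b : X) * y * (b : X)⁻¹) * (a : X)⁻¹ = ((a : X) * b) * y * ((a : X) * b)⁻¹
    group
  refine ⟨φ.ker.map P.subtype, Subgroup.map_subtype_le _, ?_, ?_, fun y hy => ?_⟩
  · rintro ⟨z, hz, e⟩
    obtain rfl : z = ⟨x, hx⟩ := Subtype.ext e
    rw [SetLike.mem_coe, hφ, hfx] at hz
    exact one_ne_zero hz
  · refine le_normalizer_iff_forall_conj_mem.2 ?_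
    rintro a ha _ ⟨z, hz, rfl⟩
    refine ⟨cj ⟨a, ha⟩ z, ?_, rfl⟩
    rw [SetLike.mem_coe, hφ, hinv]
    exact hz
  · by_cases h0 : f ⟨y, hy⟩ = 0
    · exact Or.inl ⟨⟨y, hy⟩, h0, rfl⟩
    · refine Or.inr ⟨(⟨x, hx⟩ : ↥P)⁻¹ * ⟨y, hy⟩, ?_, rfl⟩
      have h1 := zmod_two_facts.2.1
      have hfi : f ((⟨x, hx⟩ : ↥P)⁻¹) = 1 := by
        have h2 := hf (⟨x, hx⟩ : ↥P)⁻¹ ⟨x, hx⟩
        have h3 : f 1 = 0 := by have := hf 1 1; rw [one_mul] at this; simpa using this
        rw [inv_mul_cancel, h3, hfx] at h2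
        exact zmod_two_facts.2.2 _ h2
      rw [SetLike.mem_coe, hφ, hf, hfi, h1 _ h0]
      exact zmod_two_facts.1.symm

theorem odd_normalizing_centralizes_aux (A : Subgroup X) (hA : Odd (Nat.card A)) {k : ℕ} (hk : 1 ≤ k) :
    ∀ (n : ℕ) (P : Subgroup X), Nat.card P = n → IsPGroup 2 P →
      A ≤ Subgroup.normalizer (P : Set X) → 2 ^ k < Nat.card P →
      (∀ E : Subgroup X, E ≤ P → (Nat.card E = 2 ^ k ∨ (k = 1 ∧ Nat.card E = 4)) →
        A ≤ Subgroup.normalizer (E : Set X)) →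
      A ≤ Subgroup.centralizer (P : Set X) := by
  intro n
  induction n using Nat.strong_induction_on with
  | _ n ih =>
  intro P hn hP hAP hlt hinv
  haveI : Fact (Nat.Prime 2) := ⟨Nat.prime_two⟩
  haveI := hP.isNilpotent
  obtain ⟨m, hm⟩ := IsPGroup.iff_card.1 hP
  have hkm : k + 1 ≤ m := (Nat.pow_lt_pow_iff_right (by norm_num)).1 (hm ▸ hlt)
  by_cases h2 : m = k + 1
  · refine le_centralizer_of_coatoms_invariant hP hA hAP fun M hM => hinv _ (Subgroup.map_subtype_le _)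
      (Or.inl ?_)
    have h1 := M.card_mul_index
    rw [index_two_of_coatom hP hM, hm, h2, pow_succ] at h1
    rw [card_map_subtype]
    omega
  have hbig : 2 ^ (k + 2) ≤ Nat.card P := hm ▸ Nat.pow_le_pow_right (by norm_num) (by omega)
  -- proper invariant subgroups are centralized
  have step : ∀ R : Subgroup X, R ≤ P → R ≠ P → A ≤ Subgroup.normalizer (R : Set X) →
      A ≤ Subgroup.centralizer (R : Set X) := by
    intro R hRP hne hAR
    obtain ⟨R₀, ⟨h0P, h0ne, h0A, hR0⟩, hmax⟩ := Set.exists_max_image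
      {S : Subgroup X | S ≤ P ∧ S ≠ P ∧ A ≤ Subgroup.normalizer (S : Set X) ∧ R ≤ S}
      (fun S => Nat.card S) (Set.toFinite _) ⟨R, hRP, hne, hAR, le_rfl⟩
    refine le_trans ?_ (Subgroup.centralizer_le hR0)
    have hlt0 : Nat.card R₀ < n := hn ▸ lt_of_le_of_ne (Subgroup.card_le_of_le h0P) fun e =>
      h0ne (Subgroup.eq_of_le_of_card_ge h0P e.ge)
    by_cases hbig0 : 2 ^ k < Nat.card R₀
    · exact ih _ hlt0 R₀ rfl (hP.to_le h0P) h0A hbig0 fun E hE => hinv E (hE.trans h0P)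
    push Not at hbig0
    have hchain : ∀ S : Subgroup X, R₀ ≤ S → S ≤ P → A ≤ Subgroup.normalizer (S : Set X) →
        S = R₀ ∨ S = P := by
      intro S h1 h2 h3
      by_contra hcon
      push Not at hcon
      have := hmax S ⟨h2, hcon.2, h3, hR0.trans h1⟩
      exact hcon.1 (Subgroup.eq_of_le_of_card_ge h1 this).symm
    have hcard0 : Nat.card R₀ = 2 ^ k := by
      obtain ⟨E, hE1, hE2, hE3⟩ := exists_card_two_pow_between hP h0P hbig0 hlt.le
      rcases hchain E hE1 hE2 (hinv E hE2 (Or.inl hE3)) with e | e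
      · rw [← e, hE3]
      · rw [← e, hE3] at hlt; exact absurd hlt (lt_irrefl _)
    obtain ⟨M, hM1, hM2, hM3⟩ := exists_card_two_pow_between hP h0P (k := k + 1)
      (hcard0 ▸ Nat.pow_le_pow_right (by norm_num) (by omega))
      (le_trans (Nat.pow_le_pow_right (by norm_num) (by omega)) hbig)
    haveI hMn : Group.IsNilpotent M := (hP.to_le hM2).isNilpotent
    by_cases hMc : IsCyclic M
    · haveI : IsCyclic R₀ := Subgroup.isCyclic_of_le hM1
      exact le_centralizer_of_isCyclic (hP.to_le h0P) hA h0A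
    exfalso
    obtain ⟨y, hyM, hy0⟩ : ∃ y ∈ M, y ∉ R₀ := SetLike.not_le_iff_exists.1 fun h => by
      have := Subgroup.card_le_of_le h
      rw [hcard0, hM3, pow_succ] at this
      have := Nat.two_pow_pos k
      omega
    have hz : Subgroup.zpowers (⟨y, hyM⟩ : M) ≠ ⊤ := fun e => hMc ⟨⟨⟨y, hyM⟩, fun z =>
      Subgroup.mem_zpowers_iff.1 (e ▸ Subgroup.mem_top z)⟩⟩
    obtain ⟨N, hN, hyN⟩ := (eq_top_or_exists_le_coatom _).resolve_left hz
    have hNcard : Nat.card (N.map M.subtype) = 2 ^ k := by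
      have h1 := N.card_mul_index
      rw [index_two_of_coatom (hP.to_le hM2) hN, hM3, pow_succ] at h1
      rw [card_map_subtype]
      omega
    set E := N.map M.subtype
    have hEP : E ≤ P := (Subgroup.map_subtype_le _).trans hM2
    have hsupM : R₀ ⊔ E ≤ M := sup_le hM1 (Subgroup.map_subtype_le _)
    have hAsup : A ≤ Subgroup.normalizer ((R₀ ⊔ E : Subgroup X) : Set X) := fun a ha =>
      mem_normalizer_of_conj_smul_eq (by
        rw [Subgroup.smul_sup, conj_smul_eq_self_of_mem_normalizer (h0A ha),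
          conj_smul_eq_self_of_mem_normalizer (hinv E hEP (Or.inl hNcard) ha)])
    rcases hchain _ le_sup_left (hsupM.trans hM2) hAsup with e | e
    · exact hy0 (e ▸ Subgroup.mem_sup_right ⟨⟨y, hyM⟩, hyN (Subgroup.mem_zpowers _), rfl⟩)
    · have := Subgroup.card_le_of_le (e ▸ hsupM)
      rw [hM3] at this
      have h4 : 2 ^ (k + 1) < 2 ^ (k + 2) := Nat.pow_lt_pow_right (by norm_num) (by omega)
      omega
  by_contra hnot
  -- a fixed element outside the Frattini subgroup finishes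
  have nofix : ∀ x ∈ P, x ∉ phiOf P → ¬ ∀ a ∈ A, a * x * a⁻¹ = x := by
    intro x hx hxP hfix
    obtain ⟨K, hKP, hxK, hAK, hgen⟩ := exists_index_two_invariant hP hA hAP hx hxP hfix
    have hK := step K hKP (fun e => hxK (e ▸ hx)) hAK
    refine hnot fun a ha => Subgroup.mem_centralizer_iff.2 fun y hy => ?_
    have hx' : x * a = a * x := by
      calc x * a = (a * x * a⁻¹) * a := by rw [hfix a ha]
        _ = a * x := by group
    rcases hgen y hy with h | h
    · exact Subgroup.mem_centralizer_iff.1 (hK ha) y h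
    · have := Subgroup.mem_centralizer_iff.1 (hK ha) _ h
      calc y * a = x * ((x⁻¹ * y) * a) := by group
        _ = (x * a) * (x⁻¹ * y) := by rw [this, mul_assoc]
        _ = a * y := by rw [hx']; group
  set Φ := phiOf P with hΦ
  have hΦinv : A ≤ Subgroup.normalizer (Φ : Set X) := by
    refine hAP.trans ?_
    refine le_normalizer_iff_forall_conj_mem.2 ?_
    rintro g hg _ ⟨z, hz, rfl⟩
    exact ⟨Subgroup.normalizerMonoidHom P ⟨g, hg⟩ z,
      Subgroup.characteristic_iff_map_le.1 inferInstance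
        (Subgroup.normalizerMonoidHom P ⟨g, hg⟩) ⟨z, hz, rfl⟩, rfl⟩
  haveI : Nontrivial P := Finite.one_lt_card_iff_nontrivial.1 (lt_of_le_of_lt (Nat.one_le_two_pow) hlt)
  have hΦne : Φ ≠ P := fun e => by
    have e' : frattini ↥P = ⊤ := Subgroup.map_injective P.subtype_injective
      (by rw [← MonoidHom.range_eq_map, Subgroup.range_subtype]; exact e)
    exact bot_ne_top (α := Subgroup ↥P) (frattini_nongenerating (by rw [e', sup_top_eq]))
  have hΦC := step Φ (phiOf_le P) hΦne hΦinv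
  have hsq : ∀ y ∈ P, y * y ∈ Φ := fun y hy =>
    ⟨(⟨y, hy⟩ : P) ^ 2, pow_mem_frattini hP _, by simp [pow_two]⟩
  -- some commutator with `A` is outside the Frattini subgroup
  obtain ⟨a, ha, y, hy, hxP⟩ : ∃ a ∈ A, ∃ y ∈ P, ⁅a, y⁆ ∉ Φ := by
    by_contra hcon
    push Not at hcon
    refine hnot (le_centralizer_of_trivial_on_frattini_quotient ?_ hcon)
    obtain ⟨j, hj⟩ := IsPGroup.iff_card.1 (hP.to_subgroup (frattini ↥P))
    rw [hj]
    exact (Nat.coprime_two_right.2 hA).pow_right j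
  set x := ⁅a, y⁆ with hxdef
  have hayP : a * y * a⁻¹ ∈ P := (Subgroup.mem_normalizer_iff.1 (hAP ha) y).1 hy
  have hx : x ∈ P := by rw [hxdef, commutatorElement_def]; exact mul_mem hayP (inv_mem hy)
  -- the Frattini subgroup is central
  have hcen : ∀ z ∈ P, ∀ f ∈ Φ, z * f = f * z := by
    by_contra hcon
    push Not at hcon
    set C := P ⊓ Subgroup.centralizer (Φ : Set X) with hC
    have hCne : C ≠ P := fun e => by
      obtain ⟨z, hz, f, hf, hne⟩ := hcon
      exact hne (Subgroup.mem_centralizer_iff.1 (Subgroup.mem_inf.1 (e.ge hz)).2 f hf).symm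
    have hCA : A ≤ Subgroup.normalizer (C : Set X) := by
      refine le_normalizer_iff_forall_conj_mem.2 fun b hb c hc => ?_
      obtain ⟨hcP, hcC⟩ := Subgroup.mem_inf.1 hc
      refine Subgroup.mem_inf.2 ⟨(Subgroup.mem_normalizer_iff.1 (hAP hb) c).1 hcP,
        Subgroup.mem_centralizer_iff.2 fun f hf => ?_⟩
      have h1 : b⁻¹ * f * b ∈ Φ := (Subgroup.mem_normalizer_iff''.1 (hΦinv hb) f).1 hf
      calc f * (b * c * b⁻¹) = b * ((b⁻¹ * f * b) * c) * b⁻¹ := by group
        _ = b * (c * (b⁻¹ * f * b)) * b⁻¹ := by rw [Subgroup.mem_centralizer_iff.1 hcC _ h1]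
        _ = b * c * b⁻¹ * f := by group
    have hxC : x ∈ C := by
      refine Subgroup.mem_inf.2 ⟨hx, Subgroup.mem_centralizer_iff.2 fun f hf => ?_⟩
      obtain ⟨z, hz, rfl⟩ := hf
      have hf' : y⁻¹ * (z : X) * y ∈ Φ :=
        ⟨(⟨y, hy⟩ : P)⁻¹ * z * ⟨y, hy⟩, by
          simpa using (inferInstance : (frattini ↥P).Normal).conj_mem z hz (⟨y, hy⟩ : P)⁻¹, rfl⟩
      have h1 : (y⁻¹ * (z : X) * y) * a⁻¹ = a⁻¹ * (y⁻¹ * (z : X) * y) :=
        Subgroup.mem_centralizer_iff.1 (hΦC (inv_mem ha)) _ hf'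
      have h2 : (z : X) * a = a * (z : X) := Subgroup.mem_centralizer_iff.1 (hΦC ha) _ ⟨z, hz, rfl⟩
      show (z : X) * x = x * (z : X)
      calc (z : X) * x = (z : X) * a * y * a⁻¹ * y⁻¹ := by rw [hxdef, commutatorElement_def]; group
        _ = a * y * ((y⁻¹ * (z : X) * y) * a⁻¹) * y⁻¹ := by rw [h2]; group
        _ = a * y * (a⁻¹ * (y⁻¹ * (z : X) * y)) * y⁻¹ := by rw [h1]
        _ = x * (z : X) := by rw [hxdef, commutatorElement_def]; group
    refine nofix x hx hxP fun b hb => ?_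
    have := Subgroup.mem_centralizer_iff.1 (step C inf_le_left hCne hCA hb) x hxC
    rw [← this, mul_inv_cancel_right]
  -- `x ^ 4 = 1`
  have hx4 : x ^ 4 = 1 := by
    set u := a * y * a⁻¹ with hu
    set v := y⁻¹ with hv
    have hvP : v ∈ P := inv_mem hy
    set c := v * u * v⁻¹ * u⁻¹ with hc
    have hcΦ : c ∈ Φ := by
      refine ⟨⁅(⟨v, hvP⟩ : P), ⟨u, hayP⟩⁆, commutator_le_frattini hP
        (Subgroup.commutator_mem_commutator (Subgroup.mem_top _) (Subgroup.mem_top _)), ?_⟩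
      simp [commutatorElement_def, hc]
    have hu2 := hsq u hayP
    have hv2 := hsq v hvP
    have hc2 : c * c = 1 := by
      calc c * c = (v * c * v⁻¹) * c := by rw [hcen v hvP c hcΦ]; group
        _ = (v * v) * u * (v * v)⁻¹ * u⁻¹ := by rw [hc]; group
        _ = 1 := by rw [← hcen u hayP _ hv2]; group
    have h1 : x ^ 2 = c * (u * u) * (v * v) := by
      calc x ^ 2 = u * (v * u * v⁻¹ * u⁻¹) * u * v * v := by
            rw [hxdef, commutatorElement_def, hu, hv, pow_two]; group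
        _ = c * (u * u) * (v * v) := by rw [← hc, hcen u hayP c hcΦ]; group
    have hu4 : (u * u) * (u * u) = (y * y) * (y * y) := by
      have h2 := Subgroup.mem_centralizer_iff.1 (hΦC ha) _ (mul_mem (hsq y hy) (hsq y hy))
      calc (u * u) * (u * u) = a * ((y * y) * (y * y)) * a⁻¹ := by rw [hu]; group
        _ = (y * y) * (y * y) := by rw [← h2]; group
    have hc' : ∀ {s t : X}, s ∈ Φ → t ∈ Φ → Commute s t := fun hs ht => hcen _ (phiOf_le P hs) _ ht
    calc x ^ 4 = (c * (u * u) * (v * v)) ^ 2 := by rw [← h1, ← pow_mul]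
      _ = c ^ 2 * (u * u) ^ 2 * (v * v) ^ 2 := by
        rw [((hc' hcΦ hv2).mul_left (hc' hu2 hv2)).mul_pow, (hc' hcΦ hu2).mul_pow]
      _ = 1 := by rw [pow_two, hc2, pow_two, hu4, pow_two, hv]; group
  -- the subgroup of the given order
  obtain ⟨E, hEP, hE, hEne⟩ : ∃ E : Subgroup X, E ≤ P ∧
      (Nat.card E = 2 ^ k ∨ (k = 1 ∧ Nat.card E = 4)) ∧ ¬ E ≤ Φ ∧ E ⊔ Φ ≠ P := by
    by_cases hcase : Nat.card Φ < 2 ^ k
    · obtain ⟨E, hE1, hE2, hE3⟩ := exists_card_two_pow_between hP (phiOf_le P) hcase.le hlt.le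
      refine ⟨E, hE2, Or.inl hE3, fun h => ?_, fun e => ?_⟩
      · exact absurd (hE3 ▸ Subgroup.card_le_of_le h) (not_le.2 hcase)
      · rw [sup_eq_left.2 hE1] at e
        rw [← e, hE3] at hlt
        exact absurd hlt (lt_irrefl _)
    push Not at hcase
    have hzP : Subgroup.zpowers x ≤ P := Subgroup.zpowers_le.2 hx
    have hord : orderOf x ∣ 4 := orderOf_dvd_of_pow_eq_one hx4
    have hdone : ∀ E : Subgroup X, Subgroup.zpowers x ≤ E → E ≤ Subgroup.zpowers x ⊔ Φ →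
        (Nat.card E = 2 ^ k ∨ (k = 1 ∧ Nat.card E = 4)) →
        ∃ E : Subgroup X, E ≤ P ∧ (Nat.card E = 2 ^ k ∨ (k = 1 ∧ Nat.card E = 4)) ∧
          ¬ E ≤ Φ ∧ E ⊔ Φ ≠ P := by
      intro E h1 h2 h3
      refine ⟨E, h2.trans (sup_le hzP (phiOf_le P)), h3,
        fun h => hxP (h (h1 (Subgroup.mem_zpowers x))), fun e => ?_⟩
      have hgen : Subgroup.zpowers x ⊔ Φ = P := le_antisymm (sup_le hzP (phiOf_le P))
        (e ▸ sup_le h2 le_sup_right)
      haveI : IsCyclic P := by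
        have h4 : Subgroup.zpowers (⟨x, hx⟩ : P) ⊔ frattini ↥P = ⊤ := by
          refine Subgroup.map_injective P.subtype_injective ?_
          rw [Subgroup.map_sup, MonoidHom.map_zpowers, ← MonoidHom.range_eq_map, Subgroup.range_subtype]
          exact hgen
        exact ⟨⟨⟨x, hx⟩, fun z => Subgroup.mem_zpowers_iff.1
          (frattini_nongenerating h4 ▸ Subgroup.mem_top z)⟩⟩
      exact hnot (le_centralizer_of_isCyclic hP hA hAP)
    by_cases hk1 : k = 1 ∧ orderOf x = 4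
    · exact hdone (Subgroup.zpowers x) le_rfl le_sup_left
        (Or.inr ⟨hk1.1, by rw [Nat.card_zpowers, hk1.2]⟩)
    · have hle : Nat.card (Subgroup.zpowers x) ≤ 2 ^ k := by
        rw [Nat.card_zpowers]
        rcases (Nat.dvd_prime_pow Nat.prime_two).1 (show orderOf x ∣ 2 ^ 2 by norm_num; exact hord) with
          ⟨i, hi, he⟩
        rw [he]
        refine Nat.pow_le_pow_right (by norm_num) ?_
        by_contra hki
        exact hk1 ⟨by omega, by rw [he, show i = 2 by omega]; norm_num⟩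
      obtain ⟨E, h1, h2, h3⟩ := exists_card_two_pow_between
        (hP.to_le (sup_le hzP (phiOf_le P))) (le_sup_left : Subgroup.zpowers x ≤ _ ⊔ Φ) hle
        (hcase.trans (Subgroup.card_le_of_le le_sup_right))
      exact hdone E h1 h2 (Or.inl h3)
  have hsupA : A ≤ Subgroup.normalizer ((E ⊔ Φ : Subgroup X) : Set X) := fun b hb =>
    mem_normalizer_of_conj_smul_eq (by
      rw [Subgroup.smul_sup, conj_smul_eq_self_of_mem_normalizer (hinv E hEP hE hb),
        conj_smul_eq_self_of_mem_normalizer (hΦinv hb)])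
  obtain ⟨e, heE, heΦ⟩ := SetLike.not_le_iff_exists.1 hEne.1
  refine nofix e (hEP heE) heΦ fun b hb => ?_
  have := Subgroup.mem_centralizer_iff.1 (step _ (sup_le hEP (phiOf_le P)) hEne.2 hsupA hb) e
    (Subgroup.mem_sup_left heE)
  rw [← this, mul_inv_cancel_right]

theorem odd_normalizing_centralizes (P A D : Subgroup X) (hP : IsPGroup 2 P) (hA : Odd (Nat.card A))
    (hAP : A ≤ Subgroup.normalizer (P : Set X)) (hDP : D ≤ P) (hD1 : 1 < Nat.card D)
    (hD2 : Nat.card D < Nat.card P)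
    (hinv : ∀ E : Subgroup X, E ≤ P →
      (Nat.card E = Nat.card D ∨ (Nat.card D = 2 ∧ Nat.card E = 4)) →
      A ≤ Subgroup.normalizer (E : Set X)) :
    A ≤ Subgroup.centralizer (P : Set X) := by
  haveI : Fact (Nat.Prime 2) := ⟨Nat.prime_two⟩
  obtain ⟨k, hk⟩ := IsPGroup.iff_card.1 (hP.to_le hDP)
  have hk1 : 1 ≤ k := by
    rcases Nat.eq_zero_or_pos k with rfl | h
    · simp [hk] at hD1
    · exact h
  exact odd_normalizing_centralizes_aux A hA hk1 _ P rfl hP hAP (hk ▸ hD2) fun E hE h =>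
    hinv E hE (h.imp (fun h => h.trans hk.symm) fun h => ⟨by rw [hk, h.1]; rfl, h.2⟩)

end CfsgLib.Solv
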