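import Cfsg.Agent.Solv.Basic
import Cfsg.Prelude.Def_Transfer
import Mathlib.RingTheory.Ideal.Quotient.Basic
import Mathlib.RingTheory.IntegralDomain
import Mathlib.Algebra.CharP.Frobenius
import Mathlib.Algebra.Polynomial.Roots

/-!
Irreducible actions of groups of prime order.
-/

set_option autoImplicit false
set_option linter.style.haveILetI false

namespace CfsgLib.Solv

/-- A finite domain all of whose elements satisfy `z ^ n = z` has at most `n` elements. -/
theorem card_le_of_forall_pow_eq (K : Type*) [CommRing K] [IsDomain K] [Finite K] (n : ℕ) (hn : 1 < n)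
    (h : ∀ z : K, z ^ n = z) : Nat.card K ≤ n := by
  classical
  haveI := Fintype.ofFinite K
  have hne : (Polynomial.X ^ n - Polynomial.X : Polynomial K) ≠ 0 := fun h0 => by
    have h1 := congrArg (fun P => Polynomial.coeff P n) h0
    simp [Polynomial.coeff_X_pow, Polynomial.coeff_X, (show (1 : ℕ) ≠ n by omega)] at h1
  have hsub : (Finset.univ : Finset K) ⊆ (Polynomial.X ^ n - Polynomial.X : Polynomial K).roots.toFinset := fun z _ => by
    rw [Multiset.mem_toFinset, Polynomial.mem_roots hne]
    simp [h z]
  rw [Nat.card_eq_fintype_card, ← Finset.card_univ]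
  refine (Finset.card_le_card hsub).trans ((Multiset.toFinset_card_le _).trans ((Polynomial.card_roots' _).trans ?_))
  refine (Polynomial.natDegree_sub_le _ _).trans (max_le ?_ ?_)
  · exact Polynomial.natDegree_X_pow_le n
  · exact Polynomial.natDegree_X_le.trans (by omega)

/-- A simple module for a cyclic group of prime order `p` in characteristic `q` has order at most `q ^ e`. -/
theorem card_le_of_simple {V : Type*} [AddCommGroup V] [Finite V] [Nontrivial V] {p q : ℕ} [hq : Fact q.Prime]
    (T : AddMonoid.End V) (hT : T ^ p = 1) (hV : ∀ v : V, q • v = 0) (e : ℕ) (hepos : 0 < e) (he : q ^ e ≡ 1 [MOD p])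
    (hsimple : ∀ W : AddSubgroup V, (∀ w ∈ W, T w ∈ W) → W = ⊥ ∨ W = ⊤) : Nat.card V ≤ q ^ e := by
  classical
  let f : Polynomial ℤ →+* AddMonoid.End V := Polynomial.eval₂RingHom' (Int.castRingHom _) T (fun z => Int.cast_commute z T)
  have hfX : f Polynomial.X = T := Polynomial.eval₂_X _ _
  have hcomm : ∀ r : Polynomial ℤ, T * f r = f r * T := fun r => by
    rw [← hfX, ← map_mul, ← map_mul, mul_comm]
  let I := RingHom.ker f
  haveI hI : I.IsPrime := by
    refine ⟨fun h => ?_, fun {a b} hab => ?_⟩
    · obtain ⟨v, hv⟩ := exists_ne (0 : V)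
      have h1 : f 1 = 0 := RingHom.mem_ker.1 (h ▸ Submodule.mem_top (x := (1 : Polynomial ℤ)) : (1 : Polynomial ℤ) ∈ I)
      rw [map_one] at h1
      exact hv (DFunLike.congr_fun h1 v)
    · by_contra hno
      push Not at hno
      obtain ⟨ha, hb⟩ := hno
      apply hb
      rw [RingHom.mem_ker] at hab ⊢
      rcases hsimple (AddMonoidHom.ker (f a)) (fun w hw => by
        show f a (T w) = 0
        have h := DFunLike.congr_fun (hcomm a) w
        have h' : T (f a w) = f a (T w) := h
        rw [← h', show f a w = 0 from hw, map_zero]) with h | h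
      · refine AddMonoidHom.ext fun v => ?_
        have hv : f b v ∈ AddMonoidHom.ker (f a) := by
          show f a (f b v) = 0
          have h2 := DFunLike.congr_fun hab v
          rw [map_mul] at h2
          exact h2
        rw [h, AddSubgroup.mem_bot] at hv
        exact hv
      · refine absurd (RingHom.mem_ker.2 ?_) ha
        exact AddMonoidHom.ext fun v => (h.symm ▸ AddSubgroup.mem_top v : v ∈ AddMonoidHom.ker (f a))
  let K := Polynomial ℤ ⧸ I
  let g : K →+* AddMonoid.End V := RingHom.kerLift f
  haveI : Finite (AddMonoid.End V) := Finite.of_injective _ (DFunLike.coe_injective (F := AddMonoid.End V))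
  haveI : Finite K := Finite.of_injective g (RingHom.kerLift_injective f)
  haveI : IsDomain K := Ideal.Quotient.isDomain I
  haveI : CharP K q := by
    refine (CharP.charP_iff_prime_eq_zero hq.out).2 ?_
    show (Ideal.Quotient.mk I) (q : Polynomial ℤ) = 0
    rw [Ideal.Quotient.eq_zero_iff_mem, RingHom.mem_ker, map_natCast]
    refine AddMonoidHom.ext fun v => ?_
    show ((q : AddMonoid.End V)) v = 0
    rw [AddMonoid.End.natCast_apply]
    exact hV v
  haveI : ExpChar K q := ExpChar.prime hq.out
  have hfix : ∀ z : K, z ^ q ^ e = z := by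
    have hX : (Ideal.Quotient.mk I Polynomial.X) ^ p = (1 : K) := by
      rw [← map_pow, ← map_one (Ideal.Quotient.mk I), Ideal.Quotient.eq, RingHom.mem_ker, map_sub, map_pow, hfX, hT,
        map_one, sub_self]
    have hXe : (Ideal.Quotient.mk I Polynomial.X) ^ q ^ e = (Ideal.Quotient.mk I Polynomial.X : K) := by
      have h1 : 1 ≤ q ^ e := Nat.one_le_pow _ _ hq.out.pos
      obtain ⟨c, hc⟩ := (Nat.modEq_iff_dvd' h1).1 he.symm
      rw [show q ^ e = p * c + 1 by omega, pow_succ, pow_mul, hX, one_pow, one_mul]
    have heq : (iterateFrobenius K q e).comp (Ideal.Quotient.mk I) = Ideal.Quotient.mk I := by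
      refine Polynomial.ringHom_ext' (RingHom.ext_int _ _) ?_
      show (iterateFrobenius K q e) (Ideal.Quotient.mk I Polynomial.X) = _
      rw [iterateFrobenius_def]
      exact hXe
    intro z
    obtain ⟨r, rfl⟩ := Ideal.Quotient.mk_surjective z
    have := RingHom.congr_fun heq r
    rwa [RingHom.comp_apply, iterateFrobenius_def] at this
  have hK : Nat.card K ≤ q ^ e := by
    exact card_le_of_forall_pow_eq K (q ^ e) (Nat.one_lt_pow hepos.ne' hq.out.one_lt) hfix
  obtain ⟨v, hv⟩ := exists_ne (0 : V)
  let W : AddSubgroup V := ((AddMonoidHom.eval v).comp g.toAddMonoidHom).range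
  have hWtop : W = ⊤ := by
    rcases hsimple W (fun w ⟨z, hz⟩ => ⟨Ideal.Quotient.mk I Polynomial.X * z, by
      rw [← hz]
      show (g (Ideal.Quotient.mk I Polynomial.X * z)) v = T ((g z) v)
      rw [map_mul, show g (Ideal.Quotient.mk I Polynomial.X) = T from hfX]
      rfl⟩) with h | h
    · exfalso
      apply hv
      have hm : v ∈ W := ⟨1, by show (g 1) v = v; rw [map_one]; rfl⟩
      rwa [h, AddSubgroup.mem_bot] at hm
    · exact h
  refine (Nat.card_le_card_of_surjective (fun z : K => (g z) v) fun w => ?_).trans hK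
  exact (hWtop.symm ▸ AddSubgroup.mem_top w : w ∈ W)

end CfsgLib.Solv
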