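import Cfsg.Prelude.Def_BaumannBlocks
import Mathlib

/-!
Metacyclic `p`-groups for odd `p`: a normal form, the commutation criterion and the resulting description of
subgroups and their centralizers.
-/

set_option autoImplicit false

open scoped commutatorElement

namespace CfsgLib.Solv.Metacyclic

theorem exists_nat_pow {H : Type*} [Group H] [Finite H] {a x : H} :
    x ∈ Subgroup.zpowers a ↔ ∃ k : ℕ, a ^ k = x :=
  mem_powers_iff_mem_zpowers.symm.trans (Submonoid.mem_powers_iff _ _)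

theorem one_add_pow_three (x m : ℕ) :
    ∃ c, (1 + x) ^ m = 1 + m * x + m.choose 2 * x ^ 2 + x ^ 3 * c := by
  induction m with
  | zero => exact ⟨0, by simp⟩
  | succ m ih =>
    obtain ⟨c, hc⟩ := ih
    refine ⟨c * (1 + x) + m.choose 2, ?_⟩
    rw [pow_succ, hc, Nat.choose_succ_succ' m 1, Nat.choose_one_right]
    ring

/-- The powers of `1 + p ^ t * u`. -/
theorem exists_exponent_function {p : ℕ} [Fact p.Prime] (hp : p ≠ 2) {t u : ℕ} (ht : 1 ≤ t) (hu : ¬ p ∣ u) :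
    ∃ f : ℕ → ℕ, (∀ j, (1 + p ^ t * u) ^ j = 1 + p ^ t * f j) ∧ ∀ j k, p ^ k ∣ f j ↔ p ^ k ∣ j := by
  classical
  have hpp : p.Prime := Fact.out
  have hpc : p ∣ p.choose 2 := hpp.dvd_choose_self two_ne_zero (by have := hpp.two_le; omega)
  have main : ∀ e, ∃ w, ¬ p ∣ w ∧ (1 + p ^ t * u) ^ (p ^ e) = 1 + p ^ (t + e) * w := by
    intro e
    induction e with
    | zero => exact ⟨u, hu, by simp⟩
    | succ e ih =>
      obtain ⟨w, hw, he⟩ := ih
      obtain ⟨c, hc⟩ := one_add_pow_three (p ^ (t + e) * w) p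
      obtain ⟨d, hd⟩ := hpc
      obtain ⟨s, hs⟩ : ∃ s, t + e = s + 1 := ⟨t + e - 1, by omega⟩
      refine ⟨w + p * (d * p ^ s * w ^ 2 + p ^ (2 * s) * w ^ 3 * c), fun h => hw ?_, ?_⟩
      · exact (Nat.dvd_add_left (dvd_mul_right p _)).1 h
      · rw [pow_succ, pow_mul, he, hc, hd, show t + (e + 1) = s + 2 by omega, hs]
        ring
  have key : ∀ j, ∃ F, (1 + p ^ t * u) ^ j = 1 + p ^ t * F ∧ ∀ k, p ^ k ∣ F ↔ p ^ k ∣ j := by
    intro j
    rcases Nat.eq_zero_or_pos j with rfl | hj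
    · exact ⟨0, by simp, fun k => Iff.rfl⟩
    obtain ⟨e, m, hm, rfl⟩ := Nat.exists_eq_pow_mul_and_not_dvd hj.ne' p hpp.ne_one
    obtain ⟨w, hw, he⟩ := main e
    obtain ⟨c, hc⟩ := one_add_pow_three (p ^ (t + e) * w) m
    obtain ⟨s, hs⟩ : ∃ s, t + e = s + 1 := ⟨t + e - 1, by omega⟩
    set W := m * w + p * (m.choose 2 * p ^ s * w ^ 2 + p ^ (2 * s + 1) * w ^ 3 * c) with hW
    have hWp : ¬ p ∣ W := fun h => by
      rcases hpp.dvd_mul.1 ((Nat.dvd_add_left (dvd_mul_right p _)).1 h) with h | h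
      · exact hm h
      · exact hw h
    refine ⟨p ^ e * W, ?_, fun k => ?_⟩
    · rw [pow_mul, he, hc, ← mul_assoc (p ^ t), ← pow_add, hs, hW]
      ring
    · rw [((hpp.coprime_iff_not_dvd.2 hWp).pow_left k).dvd_mul_right,
        ((hpp.coprime_iff_not_dvd.2 hm).pow_left k).dvd_mul_right]
  choose f hf1 hf2 using key
  exact ⟨f, hf1, hf2⟩

theorem exists_level {H : Type*} [Group H] {p k : ℕ} [Fact p.Prime] (g : H) (hg : orderOf g = p ^ k)
    (S : Subgroup H) : ∃ u ≤ k, ∀ x : ℕ, g ^ x ∈ S ↔ p ^ u ∣ x := by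
  classical
  have hpp : p.Prime := Fact.out
  have hex : ∃ u, g ^ p ^ u ∈ S := ⟨k, by rw [← hg, pow_orderOf_eq_one]; exact S.one_mem⟩
  refine ⟨Nat.find hex, Nat.find_min' hex (by rw [← hg, pow_orderOf_eq_one]; exact S.one_mem), fun x => ?_⟩
  constructor
  · intro hx
    obtain ⟨e, he, hge⟩ := (Nat.dvd_prime_pow hpp).1 (Nat.gcd_dvd_right x (p ^ Nat.find hex))
    have h1 : g ^ p ^ e ∈ S := by
      rw [← hge, ← zpow_natCast, Nat.gcd_eq_gcd_ab, zpow_add, zpow_mul, zpow_mul, zpow_natCast, zpow_natCast]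
      exact S.mul_mem (S.zpow_mem hx _) (S.zpow_mem (Nat.find_spec hex) _)
    rw [show Nat.find hex = e from le_antisymm (Nat.find_min' hex h1) he, ← hge]
    exact Nat.gcd_dvd_left _ _
  · rintro ⟨y, rfl⟩
    rw [pow_mul]
    exact S.pow_mem (Nat.find_spec hex) y

/-- Normal form data of a metacyclic `p`-group of odd order. -/
structure Data (G : Type*) [Group G] (p : ℕ) where
  a : G
  b : G
  α : ℕ
  β : ℕ
  t : ℕ
  r : ℕ
  f : ℕ → ℕ
  ordA : orderOf a = p ^ α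
  conj : b * a = a ^ r * b
  normalA : (Subgroup.zpowers a).Normal
  nf : ∀ g : G, ∃ i j : ℕ, g = a ^ i * b ^ j
  bmem : ∀ j : ℕ, b ^ j ∈ Subgroup.zpowers a ↔ p ^ β ∣ j
  rpow : ∀ j, r ^ j = 1 + p ^ t * f j
  fdvd : ∀ j k, p ^ k ∣ f j ↔ p ^ k ∣ j

theorem exists_data {G : Type*} [Group G] [Finite G] {p : ℕ} [Fact p.Prime] (hp : p ≠ 2) (hG : IsPGroup p G)
    {N : Subgroup G} [N.Normal] [IsCyclic N] [IsCyclic (G ⧸ N)] : Nonempty (Data G p) := by
  classical
  have hpp : p.Prime := Fact.out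
  obtain ⟨a₀, ha₀⟩ := IsCyclic.exists_generator (α := N)
  obtain ⟨a, ha⟩ : ∃ a : G, Subgroup.zpowers a = N := ⟨a₀, by
    ext x
    constructor
    · rintro ⟨z, rfl⟩
      exact (a₀ ^ z).2
    · intro hx
      obtain ⟨z, hz⟩ := ha₀ ⟨x, hx⟩
      exact ⟨z, congrArg Subtype.val hz⟩⟩
  subst ha
  obtain ⟨qb, hqb⟩ := IsCyclic.exists_generator (α := G ⧸ Subgroup.zpowers a)
  obtain ⟨b, rfl⟩ := QuotientGroup.mk_surjective qb
  obtain ⟨α, hα⟩ := IsPGroup.iff_orderOf.1 hG a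
  obtain ⟨β, hβ⟩ := IsPGroup.iff_orderOf.1 (hG.to_quotient (Subgroup.zpowers a)) (b : G ⧸ Subgroup.zpowers a)
  have hbmem : ∀ j : ℕ, b ^ j ∈ Subgroup.zpowers a ↔ p ^ β ∣ j := by
    intro j
    rw [← hβ, orderOf_dvd_iff_pow_eq_one, ← QuotientGroup.mk_pow, QuotientGroup.eq_one_iff]
  obtain ⟨r₀, hr₀⟩ : ∃ r₀ : ℕ, a ^ r₀ = b * a * b⁻¹ := by
    have h := (inferInstance : (Subgroup.zpowers a).Normal).conj_mem a (Subgroup.mem_zpowers a) b
    exact exists_nat_pow.1 h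
  have hr₀1 : 1 ≤ r₀ + p ^ α := Nat.one_le_iff_ne_zero.2 (by have := Nat.pos_of_ne_zero (pow_ne_zero α hpp.ne_zero); omega)
  -- an exponent congruent to `r₀` of the shape `1 + p ^ t * u`
  obtain ⟨t, u, ht, hu, hr⟩ : ∃ t u, 1 ≤ t ∧ ¬ p ∣ u ∧ a ^ (1 + p ^ t * u) = b * a * b⁻¹ := by
    by_cases hab : b * a * b⁻¹ = a
    · refine ⟨α + 1, 1, le_add_self, hpp.not_dvd_one, ?_⟩
      rw [hab, pow_add, pow_one, mul_one, pow_succ, pow_mul, ← hα, pow_orderOf_eq_one, one_pow, mul_one]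
    · obtain ⟨R, hR⟩ : ∃ R, r₀ + p ^ α = 1 + R := ⟨r₀ + p ^ α - 1, by omega⟩
      have hRa : a ^ (1 + R) = b * a * b⁻¹ := by
        rw [← hR, pow_add, ← hα, pow_orderOf_eq_one, mul_one, hr₀]
      have hR0 : R ≠ 0 := by
        rintro rfl
        exact hab (by rw [← hRa, add_zero, pow_one])
      obtain ⟨t, u, hu, rfl⟩ := Nat.exists_eq_pow_mul_and_not_dvd hR0 p hpp.ne_one
      refine ⟨t, u, ?_, hu, hRa⟩
      by_contra ht
      obtain rfl : t = 0 := by omega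
      rw [pow_zero, one_mul] at hRa
      -- the action of `b` on `a` has `p`-power order
      have hit : ∀ j : ℕ, b ^ j * a * (b ^ j)⁻¹ = a ^ (1 + u) ^ j := by
        intro j
        induction j with
        | zero => simp
        | succ j ih =>
          rw [pow_succ (1 + u), pow_mul, ← ih, conj_pow, hRa]
          group
      obtain ⟨e, he⟩ := IsPGroup.iff_orderOf.1 hG b
      have h1 := hit (p ^ e)
      rw [← he, pow_orderOf_eq_one, one_mul, inv_one, mul_one] at h1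
      rcases Nat.eq_zero_or_pos α with rfl | hα0
      · apply hab
        rw [pow_zero, orderOf_eq_one_iff] at hα
        subst hα
        simp
      have h2 : (1 + u) ^ orderOf b ≡ 1 [MOD p] := by
        have h3 : (1 + u) ^ orderOf b ≡ 1 [MOD p ^ α] := by
          rw [← hα, ← pow_eq_pow_iff_modEq, pow_one]
          exact h1.symm
        exact h3.of_dvd (dvd_pow_self p hα0.ne')
      apply hu
      have h4 : ((1 + u : ℕ) : ZMod p) ^ orderOf b = 1 := by
        have := (ZMod.natCast_eq_natCast_iff _ _ _).2 h2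
        simpa using this
      have hfer : ∀ (x : ZMod p) (k : ℕ), x ^ p ^ k = x := by
        intro x k
        induction k with
        | zero => simp
        | succ k ih => rw [pow_succ, pow_mul, ih, ZMod.pow_card]
      rw [he, hfer] at h4
      refine (ZMod.natCast_eq_zero_iff _ _).1 ?_
      push_cast at h4
      simpa using h4
  obtain ⟨f, hf1, hf2⟩ := exists_exponent_function hp ht hu
  exact ⟨{
    a := a, b := b, α := α, β := β, t := t, r := 1 + p ^ t * u, f := f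
    ordA := hα
    conj := by rw [hr, inv_mul_cancel_right]
    normalA := inferInstance
    nf := fun g => by
      obtain ⟨j, hj⟩ := exists_nat_pow.1 (hqb (g : G ⧸ Subgroup.zpowers a))
      have hj' : g * (b ^ j)⁻¹ ∈ Subgroup.zpowers a := by
        rw [← QuotientGroup.eq_one_iff, QuotientGroup.mk_mul, QuotientGroup.mk_inv, QuotientGroup.mk_pow, hj,
          mul_inv_cancel]
      obtain ⟨i, hi⟩ := exists_nat_pow.1 hj'
      exact ⟨i, j, by rw [hi, inv_mul_cancel_right]⟩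
    bmem := hbmem
    rpow := hf1
    fdvd := hf2 }⟩

namespace Data

variable {G : Type*} [Group G] {p : ℕ} (D : Data G p)

/-- The order of the derived subgroup is `p ^ D.n`. -/
def n : ℕ := D.α - D.t

theorem pow_b_mul_pow_a (l k : ℕ) : D.b ^ l * D.a ^ k = D.a ^ (k * D.r ^ l) * D.b ^ l := by
  have h1 : ∀ k, D.b * D.a ^ k = D.a ^ (k * D.r) * D.b := by
    intro k
    induction k with
    | zero => simp
    | succ k ih => rw [pow_succ, ← mul_assoc, ih, mul_assoc, D.conj, ← mul_assoc, ← pow_add, add_mul, one_mul]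
  induction l generalizing k with
  | zero => simp
  | succ l ih =>
    rw [pow_succ, mul_assoc, h1, ← mul_assoc, ih, mul_assoc (k) D.r, ← pow_succ' D.r]
    rw [mul_assoc]

theorem mul_nf (i j k l : ℕ) :
    D.a ^ i * D.b ^ j * (D.a ^ k * D.b ^ l) = D.a ^ (i + k * D.r ^ j) * D.b ^ (j + l) := by
  rw [mul_assoc, ← mul_assoc (D.b ^ j), D.pow_b_mul_pow_a, pow_add, pow_add]
  simp only [mul_assoc]

theorem f_zero [Fact p.Prime] : D.f 0 = 0 := by
  have h := D.rpow 0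
  rw [pow_zero] at h
  have : 0 < p ^ D.t := Nat.pos_of_ne_zero (pow_ne_zero _ (Fact.out : p.Prime).ne_zero)
  exact (Nat.mul_eq_zero.1 (Nat.add_eq_left.1 h.symm)).resolve_left this.ne'

theorem f_eq [Fact p.Prime] (v : ℕ) : ∃ w, D.f (p ^ v) = p ^ v * w ∧ ¬ p ∣ w := by
  obtain ⟨w, hw⟩ := (D.fdvd (p ^ v) v).2 dvd_rfl
  refine ⟨w, hw, fun h => ?_⟩
  have h1 : p ^ (v + 1) ∣ p ^ v := (D.fdvd _ _).1 (by rw [hw, pow_succ]; exact mul_dvd_mul_left _ h)
  have hpp : p.Prime := Fact.out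
  have := (Nat.pow_dvd_pow_iff_le_right hpp.one_lt).1 h1
  omega

theorem commute_iff [Fact p.Prime] (i j k l : ℕ) :
    Commute (D.a ^ i * D.b ^ j) (D.a ^ k * D.b ^ l) ↔
      ((p : ℤ) ^ D.n ∣ (k : ℤ) * D.f j - (i : ℤ) * D.f l) := by
  have hpp : p.Prime := Fact.out
  unfold Commute SemiconjBy
  rw [D.mul_nf, D.mul_nf, add_comm l j, mul_left_inj, pow_eq_pow_iff_modEq, D.ordA, Nat.ModEq.comm,
    Nat.modEq_iff_dvd, D.rpow, D.rpow, n]
  push_cast
  have e : ((i : ℤ) + k * (1 + (p : ℤ) ^ D.t * D.f j)) - (k + i * (1 + (p : ℤ) ^ D.t * D.f l))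
      = (p : ℤ) ^ D.t * (k * D.f j - i * D.f l) := by ring
  rw [e]
  rcases le_or_gt D.t D.α with h | h
  · conv_lhs => rw [← Nat.add_sub_cancel' h, pow_add]
    exact mul_dvd_mul_iff_left (pow_ne_zero _ (by exact_mod_cast hpp.ne_zero))
  · rw [Nat.sub_eq_zero_of_le h.le, pow_zero]
    exact iff_of_true (Dvd.dvd.mul_right (pow_dvd_pow _ h.le) _) (one_dvd _)

theorem commute_a [Fact p.Prime] (i j : ℕ) : Commute (D.a ^ i * D.b ^ j) D.a ↔ p ^ D.n ∣ j := by
  have h := D.commute_iff i j 1 0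
  rw [pow_one, pow_zero, mul_one, D.f_zero] at h
  rw [h]
  push_cast
  rw [one_mul, mul_zero, sub_zero]
  norm_cast
  exact D.fdvd j _

theorem cancel_f [Fact p.Prime] (v : ℕ) (hv : v ≤ D.n) (d : ℤ) :
    (p : ℤ) ^ D.n ∣ d * D.f (p ^ v) ↔ (p : ℤ) ^ (D.n - v) ∣ d := by
  have hpp : p.Prime := Fact.out
  obtain ⟨w, hw, hwp⟩ := D.f_eq v
  have hco : IsCoprime ((p : ℤ) ^ (D.n - v)) (w : ℤ) := by
    have := (hpp.coprime_iff_not_dvd.2 hwp).pow_left (D.n - v)
    exact_mod_cast Nat.isCoprime_iff_coprime.2 this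
  rw [hw]
  conv_lhs => rw [← Nat.add_sub_cancel' hv, pow_add]
  push_cast
  rw [show d * ((p : ℤ) ^ v * w) = (p : ℤ) ^ v * (d * w) by ring,
    mul_dvd_mul_iff_left (pow_ne_zero _ (by exact_mod_cast hpp.ne_zero))]
  exact ⟨hco.dvd_of_dvd_mul_right, fun h => h.mul_right _⟩

theorem commute_b [Fact p.Prime] (i j : ℕ) : Commute (D.a ^ i * D.b ^ j) D.b ↔ p ^ D.n ∣ i := by
  have h := D.commute_iff i j 0 1
  rw [pow_one, pow_zero, one_mul] at h
  rw [h, Nat.cast_zero, zero_mul, zero_sub, dvd_neg]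
  have h2 := D.cancel_f 0 (Nat.zero_le _) i
  rw [pow_zero, Nat.sub_zero] at h2
  rw [h2]
  norm_cast

theorem mem_center_iff [Fact p.Prime] (i j : ℕ) :
    D.a ^ i * D.b ^ j ∈ Subgroup.center G ↔ p ^ D.n ∣ i ∧ p ^ D.n ∣ j := by
  rw [Subgroup.mem_center_iff]
  constructor
  · intro h
    exact ⟨(D.commute_b i j).1 (h D.b).symm, (D.commute_a i j).1 (h D.a).symm⟩
  · rintro ⟨hi, hj⟩ g
    obtain ⟨k, l, rfl⟩ := D.nf g
    exact (((D.commute_a i j).2 hj).pow_right k |>.mul_right (((D.commute_b i j).2 hi).pow_right l)).eq.symm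

/-- The exponent sum in a power. -/
theorem pow_nf [Fact p.Prime] (i l q : ℕ) : ∃ S, (D.a ^ i * D.b ^ l) ^ q = D.a ^ (i * S) * D.b ^ (l * q) ∧
    (∀ k, p ^ k ∣ S ↔ p ^ k ∣ q) := by
  have hpp : p.Prime := Fact.out
  have hpt : p ^ D.t ≠ 0 := pow_ne_zero _ hpp.ne_zero
  have h : ∀ q, ∃ S, (D.a ^ i * D.b ^ l) ^ q = D.a ^ (i * S) * D.b ^ (l * q) ∧ D.f (l * q) = D.f l * S ∧
      (l = 0 → S = q) := by
    intro q
    induction q with
    | zero => exact ⟨0, by simp, by simp [D.f_zero], fun _ => rfl⟩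
    | succ q ih =>
      obtain ⟨S, h1, h2, h3⟩ := ih
      refine ⟨S + D.r ^ (l * q), ?_, ?_, fun hl => ?_⟩
      · rw [pow_succ, h1, D.mul_nf, ← mul_add i, Nat.mul_succ]
      · apply Nat.eq_of_mul_eq_mul_left (Nat.pos_of_ne_zero hpt)
        apply Nat.add_left_cancel (n := 1)
        rw [← D.rpow, Nat.mul_succ, pow_add, D.rpow l]
        have hh := D.rpow (l * q)
        rw [h2] at hh
        linear_combination hh
      · rw [h3 hl, hl, zero_mul, pow_zero]
  obtain ⟨S, h1, h2, h3⟩ := h q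
  refine ⟨S, h1, fun k => ?_⟩
  rcases Nat.eq_zero_or_pos l with hl | hl
  · rw [h3 hl]
  obtain ⟨e, m, hm, rfl⟩ := Nat.exists_eq_pow_mul_and_not_dvd hl.ne' p hpp.ne_one
  obtain ⟨w, hw⟩ : p ^ e ∣ D.f (p ^ e * m) := (D.fdvd _ _).2 (dvd_mul_right _ _)
  have hwp : ¬ p ∣ w := by
    intro hh
    have h4 : p ^ (e + 1) ∣ p ^ e * m := (D.fdvd _ _).1 (by rw [hw, pow_succ]; exact mul_dvd_mul_left _ hh)
    rw [pow_succ, Nat.mul_dvd_mul_iff_left (Nat.pos_of_ne_zero (pow_ne_zero _ hpp.ne_zero))] at h4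
    exact hm h4
  have h5 := D.fdvd (p ^ e * m * q) (e + k)
  rw [h2, hw, mul_assoc (p ^ e), mul_assoc (p ^ e), pow_add,
    Nat.mul_dvd_mul_iff_left (Nat.pos_of_ne_zero (pow_ne_zero _ hpp.ne_zero)),
    Nat.mul_dvd_mul_iff_left (Nat.pos_of_ne_zero (pow_ne_zero _ hpp.ne_zero)),
    ((hpp.coprime_iff_not_dvd.2 hwp).pow_left k).dvd_mul_left,
    ((hpp.coprime_iff_not_dvd.2 hm).pow_left k).dvd_mul_left] at h5
  exact h5

/-- The position of a subgroup relative to the cyclic normal subgroup. -/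
structure Params (L : Subgroup G) (u v : ℕ) : Prop where
  hu : u ≤ D.α
  hv : v ≤ D.β
  memA : ∀ x : ℕ, D.a ^ x ∈ L ↔ p ^ u ∣ x
  memB : ∀ y : ℕ, (∃ x : ℕ, D.a ^ x * D.b ^ y ∈ L) ↔ p ^ v ∣ y

variable [Finite G] [Fact p.Prime]

theorem mem_zpowers_iff (x : G) : x ∈ Subgroup.zpowers D.a ↔ ∃ k : ℕ, D.a ^ k = x :=
  exists_nat_pow

theorem exists_params (L : Subgroup G) : ∃ u v, D.Params L u v := by
  haveI := D.normalA
  obtain ⟨u, hu, hmA⟩ := exists_level D.a D.ordA L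
  have hord : orderOf (D.b : G ⧸ Subgroup.zpowers D.a) = p ^ D.β := by
    refine Nat.dvd_antisymm ?_ ?_
    · rw [orderOf_dvd_iff_pow_eq_one, ← QuotientGroup.mk_pow, QuotientGroup.eq_one_iff, D.bmem]
    · rw [← D.bmem, ← QuotientGroup.eq_one_iff, QuotientGroup.mk_pow, pow_orderOf_eq_one]
  obtain ⟨v, hv, hmB⟩ := exists_level (D.b : G ⧸ Subgroup.zpowers D.a) hord
    (L.map (QuotientGroup.mk' (Subgroup.zpowers D.a)))
  refine ⟨u, v, hu, hv, hmA, fun y => ?_⟩
  rw [← hmB y, Subgroup.mem_map]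
  constructor
  · rintro ⟨x, hx⟩
    refine ⟨_, hx, ?_⟩
    rw [QuotientGroup.mk'_apply, QuotientGroup.mk_mul, QuotientGroup.mk_pow, QuotientGroup.mk_pow,
      (QuotientGroup.eq_one_iff _).2 (Subgroup.mem_zpowers D.a), one_pow, one_mul]
  · rintro ⟨g, hg, hgy⟩
    rw [QuotientGroup.mk'_apply, ← QuotientGroup.mk_pow] at hgy
    have h1 : g * (D.b ^ y)⁻¹ ∈ Subgroup.zpowers D.a := by
      rw [← QuotientGroup.eq_one_iff, QuotientGroup.mk_mul, QuotientGroup.mk_inv, hgy, mul_inv_cancel]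
    obtain ⟨x, hx⟩ := (D.mem_zpowers_iff _).1 h1
    exact ⟨x, by rw [hx, inv_mul_cancel_right]; exact hg⟩

theorem params_top : D.Params ⊤ 0 0 :=
  ⟨Nat.zero_le _, Nat.zero_le _, fun x => by simp, fun y => by simp⟩

theorem params_unique {L : Subgroup G} {u v u' v' : ℕ} (h : D.Params L u v) (h' : D.Params L u' v') :
    u = u' ∧ v = v' := by
  have hp1 : 1 < p := (Fact.out : p.Prime).one_lt
  constructor
  · exact le_antisymm ((Nat.pow_dvd_pow_iff_le_right hp1).1 ((h.memA _).1 ((h'.memA _).2 dvd_rfl)))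
      ((Nat.pow_dvd_pow_iff_le_right hp1).1 ((h'.memA _).1 ((h.memA _).2 dvd_rfl)))
  · exact le_antisymm ((Nat.pow_dvd_pow_iff_le_right hp1).1 ((h.memB _).1 ((h'.memB _).2 dvd_rfl)))
      ((Nat.pow_dvd_pow_iff_le_right hp1).1 ((h'.memB _).1 ((h.memB _).2 dvd_rfl)))

theorem card_params {L : Subgroup G} {u v : ℕ} (h : D.Params L u v) :
    Nat.card L = p ^ (D.α - u) * p ^ (D.β - v) := by
  haveI := D.normalA
  have hpp : p.Prime := Fact.out
  set π := QuotientGroup.mk' (Subgroup.zpowers D.a) with hπ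
  have h1 : Nat.card (π.comp L.subtype).ker * Nat.card (L.map π) = Nat.card L := by
    rw [← Subgroup.card_mul_index (π.comp L.subtype).ker, Subgroup.index_ker,
      MonoidHom.range_comp, Subgroup.range_subtype]
  have hker : (π.comp L.subtype).ker.map L.subtype = Subgroup.zpowers (D.a ^ p ^ u) := by
    ext x
    constructor
    · rintro ⟨⟨y, hyL⟩, hy, rfl⟩
      obtain ⟨k, rfl⟩ := (D.mem_zpowers_iff _).1 ((QuotientGroup.eq_one_iff _).1 hy)
      obtain ⟨m, rfl⟩ := (h.memA k).1 hyL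
      exact ⟨m, by simp [pow_mul]⟩
    · intro hx
      obtain ⟨m, rfl⟩ := exists_nat_pow.1 hx
      refine ⟨⟨_, L.pow_mem ((h.memA _).2 dvd_rfl) m⟩, ?_, rfl⟩
      exact (QuotientGroup.eq_one_iff _).2 (Subgroup.pow_mem _ (Subgroup.pow_mem _ (Subgroup.mem_zpowers _) _) _)
  have hkc : Nat.card (π.comp L.subtype).ker = p ^ (D.α - u) := by
    rw [← Subgroup.card_map_of_injective L.subtype_injective, hker, Nat.card_zpowers,
      orderOf_pow, D.ordA, Nat.gcd_eq_right (pow_dvd_pow p h.hu), Nat.pow_div h.hu hpp.pos]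
  have hord : orderOf (π D.b) = p ^ D.β := by
    refine Nat.dvd_antisymm ?_ ?_
    · rw [orderOf_dvd_iff_pow_eq_one, ← map_pow, hπ, QuotientGroup.mk'_apply, QuotientGroup.eq_one_iff, D.bmem]
    · rw [← D.bmem, ← QuotientGroup.eq_one_iff, QuotientGroup.mk_pow]
      exact pow_orderOf_eq_one (π D.b)
  have hmap : L.map π = Subgroup.zpowers (π D.b ^ p ^ v) := by
    have hπa : ∀ x : ℕ, π (D.a ^ x) = 1 := fun x =>
      (QuotientGroup.eq_one_iff _).2 (Subgroup.pow_mem _ (Subgroup.mem_zpowers _) _)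
    ext z
    constructor
    · rintro ⟨g, hg, rfl⟩
      obtain ⟨x, y, rfl⟩ := D.nf g
      obtain ⟨m, rfl⟩ := (h.memB y).1 ⟨x, hg⟩
      exact ⟨m, by simp [map_mul, hπa, map_pow, pow_mul]⟩
    · intro hz
      obtain ⟨m, rfl⟩ := exists_nat_pow.1 hz
      obtain ⟨x, hx⟩ := (h.memB (p ^ v)).2 dvd_rfl
      exact ⟨_, L.pow_mem hx m, by rw [map_pow, map_mul, hπa, one_mul, map_pow]⟩
  rw [← h1, hkc, hmap, Nat.card_zpowers, orderOf_pow, hord, Nat.gcd_eq_right (pow_dvd_pow p h.hv),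
    Nat.pow_div h.hv hpp.pos]

theorem card_eq : Nat.card G = p ^ (D.α + D.β) := by
  rw [← Subgroup.card_top (G := G), D.card_params D.params_top, Nat.sub_zero, Nat.sub_zero, pow_add]

theorem card_mul {L : Subgroup G} {u v : ℕ} (h : D.Params L u v) : Nat.card L * p ^ (u + v) = Nat.card G := by
  rw [D.card_params h, D.card_eq, ← pow_add, ← pow_add]
  congr 1
  have := h.hu; have := h.hv; omega

theorem zmemA {L : Subgroup G} {u v : ℕ} (h : D.Params L u v) (x : ℤ) :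
    D.a ^ x ∈ L ↔ ((p : ℤ) ^ u ∣ x) := by
  obtain ⟨m, rfl | rfl⟩ := Int.eq_nat_or_neg x
  · rw [zpow_natCast, h.memA]; norm_cast
  · rw [zpow_neg, Subgroup.inv_mem_iff, zpow_natCast, h.memA, dvd_neg]; norm_cast

theorem beta_ge : D.n ≤ D.β := by
  obtain ⟨e, he⟩ := (D.mem_zpowers_iff _).1 ((D.bmem _).2 dvd_rfl)
  have h : Commute (D.a ^ 0 * D.b ^ p ^ D.β) D.a := by
    rw [pow_zero, one_mul, ← he]
    exact (Commute.refl D.a).pow_left e
  exact (Nat.pow_dvd_pow_iff_le_right (Fact.out : p.Prime).one_lt).1 ((D.commute_a _ _).1 h)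

theorem n_le_alpha : D.n ≤ D.α := Nat.sub_le _ _

theorem params_center : D.Params (Subgroup.center G) D.n D.n := by
  refine ⟨D.n_le_alpha, D.beta_ge, fun x => ?_, fun y => ?_⟩
  · have h := D.mem_center_iff x 0
    rw [pow_zero, mul_one] at h
    rw [h]
    simp
  · constructor
    · rintro ⟨x, hx⟩
      exact ((D.mem_center_iff x y).1 hx).2
    · exact fun hy => ⟨0, (D.mem_center_iff 0 y).2 ⟨dvd_zero _, hy⟩⟩

/-- Every element of a subgroup in terms of two generators. -/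
theorem decomp {L : Subgroup G} {u v : ℕ} (h : D.Params L u v) {i : ℕ} (hc : D.a ^ i * D.b ^ p ^ v ∈ L)
    {g : G} (hg : g ∈ L) : ∃ (z : ℤ) (q : ℕ), g = (D.a ^ p ^ u) ^ z * (D.a ^ i * D.b ^ p ^ v) ^ q := by
  obtain ⟨x, y, rfl⟩ := D.nf g
  obtain ⟨q, rfl⟩ := (h.memB y).1 ⟨x, hg⟩
  obtain ⟨S, hS, -⟩ := D.pow_nf i (p ^ v) q
  have h1 : D.a ^ ((x : ℤ) - (i * S : ℕ)) ∈ L := by
    have h2 := L.mul_mem hg (L.inv_mem (L.pow_mem hc q))
    rw [hS, _root_.mul_inv_rev, mul_assoc, mul_inv_cancel_left] at h2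
    rwa [zpow_sub, zpow_natCast, zpow_natCast]
  obtain ⟨z, hz⟩ := (D.zmemA h _).1 h1
  refine ⟨z, q, ?_⟩
  rw [hS, ← zpow_natCast D.a (p ^ u), ← zpow_mul, Nat.cast_pow, ← hz, ← mul_assoc, zpow_sub, zpow_natCast,
    zpow_natCast, inv_mul_cancel_right]

theorem commutative_iff {L : Subgroup G} {u v : ℕ} (h : D.Params L u v) :
    IsMulCommutative L ↔ D.n ≤ u + v := by
  have hpp : p.Prime := Fact.out
  obtain ⟨i, hc⟩ := (h.memB (p ^ v)).2 dvd_rfl
  have key : Commute (D.a ^ p ^ u) (D.a ^ i * D.b ^ p ^ v) ↔ D.n ≤ u + v := by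
    have h1 := D.commute_iff (p ^ u) 0 i (p ^ v)
    rw [pow_zero, mul_one, D.f_zero, Nat.cast_zero, mul_zero, zero_sub, dvd_neg] at h1
    rw [h1]
    obtain ⟨w, hw, hwp⟩ := D.f_eq v
    norm_cast
    rw [hw, ← mul_assoc, ← pow_add]
    rw [((hpp.coprime_iff_not_dvd.2 hwp).pow_left _).dvd_mul_right, Nat.pow_dvd_pow_iff_le_right hpp.one_lt]
  constructor
  · intro hL
    refine key.1 ?_
    have := hL.is_comm.comm (⟨_, (h.memA _).2 dvd_rfl⟩ : L) ⟨_, hc⟩
    exact congrArg Subtype.val this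
  · intro hn
    refine ⟨⟨fun g k => Subtype.ext ?_⟩⟩
    obtain ⟨z, q, hg⟩ := D.decomp h hc g.2
    obtain ⟨z', q', hk⟩ := D.decomp h hc k.2
    show (g : G) * k = k * g
    rw [hg, hk]
    have hcm := key.2 hn
    exact ((((Commute.refl (D.a ^ p ^ u)).zpow_zpow z z').mul_right ((hcm.zpow_left z).pow_right q')).mul_left
      (((hcm.symm.pow_left q).zpow_right z').mul_right ((Commute.refl _).pow_pow q q'))).eq

theorem mem_centralizer_iff {L : Subgroup G} {u v : ℕ} (h : D.Params L u v) {i : ℕ}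
    (hc : D.a ^ i * D.b ^ p ^ v ∈ L) (x : G) :
    x ∈ Subgroup.centralizer (L : Set G) ↔ Commute (D.a ^ p ^ u) x ∧ Commute (D.a ^ i * D.b ^ p ^ v) x := by
  rw [Subgroup.mem_centralizer_iff]
  constructor
  · exact fun hx => ⟨hx _ ((h.memA _).2 dvd_rfl), hx _ hc⟩
  · rintro ⟨h1, h2⟩ g hg
    obtain ⟨z, q, rfl⟩ := D.decomp h hc hg
    exact ((h1.zpow_left z).mul_left (h2.pow_left q)).eq

theorem commute_pow_a {u : ℕ} (hu : u ≤ D.n) (k l : ℕ) :
    Commute (D.a ^ p ^ u) (D.a ^ k * D.b ^ l) ↔ p ^ (D.n - u) ∣ l := by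
  have hpp : p.Prime := Fact.out
  have h1 := D.commute_iff (p ^ u) 0 k l
  rw [pow_zero, mul_one, D.f_zero, Nat.cast_zero, mul_zero, zero_sub, dvd_neg] at h1
  rw [h1]
  norm_cast
  conv_lhs => rw [← Nat.add_sub_cancel' hu, pow_add,
    Nat.mul_dvd_mul_iff_left (Nat.pos_of_ne_zero (pow_ne_zero _ hpp.ne_zero))]
  exact D.fdvd l _

/-- A subgroup of small parameters contains its centralizer. -/
theorem centralizer_le {L : Subgroup G} {u v : ℕ} (h : D.Params L u v) (huv : u + v ≤ D.n) :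
    Subgroup.centralizer (L : Set G) ≤ L := by
  obtain ⟨i, hc⟩ := (h.memB (p ^ v)).2 dvd_rfl
  intro x hx
  obtain ⟨h1, h2⟩ := (D.mem_centralizer_iff h hc x).1 hx
  obtain ⟨k, l, rfl⟩ := D.nf x
  obtain ⟨q, rfl⟩ : p ^ v ∣ l :=
    (pow_dvd_pow p (show v ≤ D.n - u by omega)).trans ((D.commute_pow_a (show u ≤ D.n by omega) k l).1 h1)
  obtain ⟨S, hS, -⟩ := D.pow_nf i (p ^ v) q
  have hfl : D.f (p ^ v * q) = D.f (p ^ v) * S ∨ True := Or.inr trivial
  have h3 : Commute (D.a ^ i * D.b ^ p ^ v) ((D.a ^ k * D.b ^ (p ^ v * q)) * ((D.a ^ i * D.b ^ p ^ v) ^ q)⁻¹) :=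
    h2.mul_right ((Commute.refl _).pow_right q).inv_right
  have he : (D.a ^ k * D.b ^ (p ^ v * q)) * ((D.a ^ i * D.b ^ p ^ v) ^ q)⁻¹ = D.a ^ ((k : ℤ) - (i * S : ℕ)) := by
    rw [hS, _root_.mul_inv_rev, mul_assoc, mul_inv_cancel_left, zpow_sub, zpow_natCast, zpow_natCast]
  rw [he] at h3
  obtain ⟨m, hm⟩ := (D.mem_zpowers_iff _).1 (Subgroup.zpow_mem _ (Subgroup.mem_zpowers D.a) ((k : ℤ) - (i * S : ℕ)))
  rw [← hm] at h3 he
  have h4 := D.commute_iff i (p ^ v) m 0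
  rw [pow_zero, mul_one, D.f_zero, Nat.cast_zero, mul_zero, sub_zero, D.cancel_f v (by omega)] at h4
  have h5 : p ^ u ∣ m := by
    have := h4.1 h3
    exact (pow_dvd_pow p (show u ≤ D.n - v by omega)).trans (by exact_mod_cast this)
  have h6 := L.mul_mem ((h.memA m).2 h5) (L.pow_mem hc q)
  rwa [← he, inv_mul_cancel_right] at h6

theorem le_of_center_le {L : Subgroup G} {u v : ℕ} (h : D.Params L u v) (hZ : Subgroup.center G ≤ L) :
    u ≤ D.n ∧ v ≤ D.n := by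
  have hp1 : 1 < p := (Fact.out : p.Prime).one_lt
  obtain ⟨x, hx⟩ := (D.params_center.memB _).2 dvd_rfl
  exact ⟨(Nat.pow_dvd_pow_iff_le_right hp1).1 ((h.memA _).1 (hZ ((D.params_center.memA _).2 dvd_rfl))),
    (Nat.pow_dvd_pow_iff_le_right hp1).1 ((h.memB _).1 ⟨x, hZ hx⟩)⟩

theorem params_centralizer {L : Subgroup G} {u v : ℕ} (h : D.Params L u v) (hZ : Subgroup.center G ≤ L) :
    D.Params (Subgroup.centralizer (L : Set G)) (D.n - v) (D.n - u) := by
  have hpp : p.Prime := Fact.out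
  obtain ⟨hu, hv⟩ := D.le_of_center_le h hZ
  obtain ⟨i, hc⟩ := (h.memB (p ^ v)).2 dvd_rfl
  obtain ⟨w, hw, hwp⟩ := D.f_eq v
  refine ⟨(Nat.sub_le _ _).trans D.n_le_alpha, (Nat.sub_le _ _).trans D.beta_ge, fun x => ?_, fun y => ?_⟩
  · rw [D.mem_centralizer_iff h hc]
    have h1 := D.commute_iff i (p ^ v) x 0
    rw [pow_zero, mul_one, D.f_zero, Nat.cast_zero, mul_zero, sub_zero, D.cancel_f v hv] at h1
    rw [and_iff_right ((Commute.refl D.a).pow_pow _ _), h1]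
    norm_cast
  · constructor
    · rintro ⟨x, hx⟩
      exact (D.commute_pow_a hu x y).1 ((D.mem_centralizer_iff h hc _).1 hx).1
    intro hy
    -- the constraint on `i`
    have hiv : p ^ v ∣ p ^ (D.n - u) * i := by
      obtain ⟨S, hS, hSd⟩ := D.pow_nf i (p ^ v) (p ^ (D.n - v))
      have hmul : p ^ v * p ^ (D.n - v) = p ^ D.n := by rw [← pow_add, Nat.add_sub_cancel' hv]
      rw [hmul] at hS
      have hz : D.a ^ 0 * D.b ^ p ^ D.n ∈ L := hZ ((D.mem_center_iff _ _).2 ⟨dvd_zero _, dvd_rfl⟩)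
      rw [pow_zero, one_mul] at hz
      have h2 := L.mul_mem (hS ▸ L.pow_mem hc (p ^ (D.n - v))) (L.inv_mem hz)
      rw [mul_inv_cancel_right, h.memA] at h2
      obtain ⟨s, hs⟩ := (hSd _).2 dvd_rfl
      have hsp : ¬ p ∣ s := fun hh => by
        have := (Nat.pow_dvd_pow_iff_le_right hpp.one_lt).1
          ((hSd (D.n - v + 1)).1 (by rw [hs, pow_succ]; exact mul_dvd_mul_left _ hh))
        omega
      rw [hs, ← mul_assoc, ((hpp.coprime_iff_not_dvd.2 hsp).pow_left u).dvd_mul_right] at h2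
      have h3 : p ^ (u + v) ∣ p ^ u * (p ^ (D.n - u) * i) := by
        rw [← mul_assoc, ← pow_add p u, Nat.add_sub_cancel' hu, ← hmul, pow_add]
        calc p ^ u * p ^ v ∣ i * p ^ (D.n - v) * p ^ v := mul_dvd_mul_right h2 _
          _ = _ := by ring
      rwa [pow_add, Nat.mul_dvd_mul_iff_left (Nat.pos_of_ne_zero (pow_ne_zero _ hpp.ne_zero))] at h3
    obtain ⟨F, hF⟩ : p ^ v ∣ D.f y * i := by
      obtain ⟨y', hy'⟩ := (D.fdvd y _).2 hy
      rw [hy', mul_right_comm]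
      exact dvd_mul_of_dvd_left hiv _
    refine ⟨F * w ^ (Nat.totient (p ^ D.n) - 1), (D.mem_centralizer_iff h hc _).2
      ⟨(D.commute_pow_a hu _ _).2 hy, ?_⟩⟩
    rw [D.commute_iff, hw]
    have htot := Nat.ModEq.pow_totient ((hpp.coprime_iff_not_dvd.2 hwp).symm.pow_right D.n)
    have ht1 : 1 ≤ Nat.totient (p ^ D.n) := Nat.totient_pos.2 (Nat.pos_of_ne_zero (pow_ne_zero _ hpp.ne_zero))
    have h4 : F * w ^ (Nat.totient (p ^ D.n) - 1) * (p ^ v * w) ≡ i * D.f y [MOD p ^ D.n] := by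
      rw [mul_comm i, hF, show F * w ^ (Nat.totient (p ^ D.n) - 1) * (p ^ v * w)
        = p ^ v * F * w ^ (Nat.totient (p ^ D.n) - 1 + 1) by ring, Nat.sub_add_cancel ht1]
      simpa using htot.mul_left (p ^ v * F)
    have h5 := Nat.modEq_iff_dvd.1 h4.symm
    push_cast at h5 ⊢
    exact h5

include D in
theorem card_mul_centralizer {L : Subgroup G} (hZ : Subgroup.center G ≤ L) :
    Nat.card L * Nat.card (Subgroup.centralizer (L : Set G)) = Nat.card G * Nat.card (Subgroup.center G) := by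
  obtain ⟨u, v, h⟩ := D.exists_params L
  obtain ⟨hu, hv⟩ := D.le_of_center_le h hZ
  rw [D.card_params h, D.card_params (D.params_centralizer h hZ), D.card_params D.params_center, D.card_eq]
  simp only [← pow_add]
  congr 1
  have := D.n_le_alpha; have := D.beta_ge; have := h.hu; have := h.hv
  omega

theorem commutator_eq : commutator G = Subgroup.zpowers (D.a ^ p ^ D.t) := by
  have hpp : p.Prime := Fact.out
  haveI := D.normalA
  apply le_antisymm
  · haveI hN : (Subgroup.zpowers (D.a ^ p ^ D.t)).Normal := by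
      refine ⟨fun x hx g => ?_⟩
      obtain ⟨m, rfl⟩ := Subgroup.mem_zpowers_iff.1 hx
      have h := D.normalA.conj_mem D.a (Subgroup.mem_zpowers _) g
      obtain ⟨k, hk⟩ := Subgroup.mem_zpowers_iff.1 h
      refine Subgroup.mem_zpowers_iff.2 ⟨k * m, ?_⟩
      rw [← conj_zpow, ← conj_pow, ← hk, ← zpow_natCast, ← zpow_natCast, ← zpow_mul, ← zpow_mul, ← zpow_mul]
      congr 1
      ring
    rw [commutator_def, Subgroup.commutator_le]
    intro g _ k _
    obtain ⟨i, j, rfl⟩ := D.nf g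
    obtain ⟨x, y, rfl⟩ := D.nf k
    set N := Subgroup.zpowers (D.a ^ p ^ D.t)
    rw [← QuotientGroup.eq_one_iff]
    have hab : Commute (D.b : G ⧸ N) (D.a : G ⧸ N) := by
      show _ = _
      rw [← QuotientGroup.mk_mul, ← QuotientGroup.mk_mul, D.conj, QuotientGroup.eq]
      have h1 : (D.a ^ D.r * D.b)⁻¹ * (D.a * D.b) = D.b⁻¹ * ((D.a ^ D.r)⁻¹ * D.a) * D.b := by group
      rw [h1]
      have h2 : (D.a ^ D.r)⁻¹ * D.a ∈ N := by
        have h3 := D.rpow 1
        rw [pow_one] at h3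
        rw [h3, pow_add, pow_one, _root_.mul_inv_rev, inv_mul_cancel_right, pow_mul]
        exact N.inv_mem (N.pow_mem (Subgroup.mem_zpowers _) _)
      exact hN.conj_mem' _ h2 D.b
    have hcom : Commute ((D.a ^ i * D.b ^ j : G) : G ⧸ N) ((D.a ^ x * D.b ^ y : G) : G ⧸ N) := by
      simp only [QuotientGroup.mk_mul, QuotientGroup.mk_pow]
      exact ((((Commute.refl (D.a : G ⧸ N)).pow_pow i x).mul_right (hab.symm.pow_pow i y)).mul_left
        ((hab.pow_pow j x).mul_right ((Commute.refl (D.b : G ⧸ N)).pow_pow j y)))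
    rw [← map_one (QuotientGroup.mk' N)]
    show (QuotientGroup.mk' N) _ = _
    rw [map_commutatorElement, map_one]
    exact commutatorElement_eq_one_iff_mul_comm.2 hcom.eq
  · rw [Subgroup.zpowers_le]
    obtain ⟨w, hw, hwp⟩ := D.f_eq 0
    have h1 : ⁅D.b, D.a⁆ = (D.a ^ p ^ D.t) ^ w := by
      rw [commutatorElement_def, D.conj, mul_inv_cancel_right, ← pow_one D.r, D.rpow, ← pow_mul]
      rw [show (1 : ℕ) = p ^ 0 from (pow_zero p).symm, hw, pow_zero, one_mul, pow_add, pow_one]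
      exact ((Commute.refl D.a).pow_right _).mul_inv_cancel
    have h2 : (D.a ^ p ^ D.t) ^ w ∈ commutator G := h1 ▸ Subgroup.commutator_mem_commutator (Subgroup.mem_top _) (Subgroup.mem_top _)
    have hco : (orderOf (D.a ^ p ^ D.t)).Coprime w := by
      refine Nat.Coprime.coprime_dvd_left (orderOf_pow_dvd _) ?_
      rw [D.ordA]
      exact (hpp.coprime_iff_not_dvd.2 hwp).pow_left _
    obtain ⟨m, hm⟩ := exists_pow_eq_self_of_coprime hco.symm
    rw [← hm]
    exact Subgroup.pow_mem _ h2 m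

theorem card_commutator : Nat.card (commutator G) = p ^ D.n := by
  have hpp : p.Prime := Fact.out
  rw [D.commutator_eq, Nat.card_zpowers, orderOf_pow, D.ordA, n]
  rcases le_or_gt D.t D.α with h | h
  · rw [Nat.gcd_eq_right (pow_dvd_pow p h), Nat.pow_div h hpp.pos]
  · rw [Nat.gcd_eq_left (pow_dvd_pow p h.le), Nat.div_self (Nat.pos_of_ne_zero (pow_ne_zero _ hpp.ne_zero)),
      Nat.sub_eq_zero_of_le h.le, pow_zero]

theorem index_commutator : (commutator G).index = p ^ (D.α + D.β - D.n) := by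
  have hpp : p.Prime := Fact.out
  have h := Subgroup.card_mul_index (commutator G)
  rw [D.card_commutator, D.card_eq, ← Nat.add_sub_cancel' (D.n_le_alpha.trans (Nat.le_add_right D.α D.β)),
    pow_add] at h
  exact Nat.eq_of_mul_eq_mul_left (Nat.pos_of_ne_zero (pow_ne_zero _ hpp.ne_zero)) h

/-- The subgroup generated by the `p ^ s`-th powers of the generators. -/
def H (s : ℕ) : Subgroup G := Subgroup.zpowers (D.a ^ p ^ s) ⊔ Subgroup.zpowers (D.b ^ p ^ s)

theorem normal_zpowers_pow (k : ℕ) : (Subgroup.zpowers (D.a ^ k)).Normal := by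
  refine ⟨fun x hx g => ?_⟩
  obtain ⟨m, rfl⟩ := Subgroup.mem_zpowers_iff.1 hx
  have h := D.normalA.conj_mem D.a (Subgroup.mem_zpowers _) g
  obtain ⟨z, hz⟩ := Subgroup.mem_zpowers_iff.1 h
  refine Subgroup.mem_zpowers_iff.2 ⟨z * m, ?_⟩
  rw [← conj_zpow, ← conj_pow, ← hz, ← zpow_natCast, ← zpow_natCast, ← zpow_mul, ← zpow_mul, ← zpow_mul]
  congr 1
  ring

theorem mem_H_iff {s : ℕ} (hs : s ≤ D.n) (i j : ℕ) : D.a ^ i * D.b ^ j ∈ D.H s ↔ p ^ s ∣ i ∧ p ^ s ∣ j := by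
  have hpp : p.Prime := Fact.out
  constructor
  · intro h
    haveI := D.normal_zpowers_pow (p ^ s)
    obtain ⟨x, hx, y, hy, hxy⟩ := Subgroup.mem_sup_of_normal_left.1 h
    obtain ⟨m, rfl⟩ := exists_nat_pow.1 hx
    obtain ⟨k, rfl⟩ := exists_nat_pow.1 hy
    simp only [← pow_mul] at hxy
    -- compare the parts outside `⟨a⟩`
    have hj : p ^ s ∣ j := by
      haveI := D.normalA
      have h1 : ((D.b ^ j : G) : G ⧸ Subgroup.zpowers D.a) = ((D.b ^ (p ^ s * k) : G) : G ⧸ Subgroup.zpowers D.a) := by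
        have := congrArg (fun g : G => (g : G ⧸ Subgroup.zpowers D.a)) hxy
        simpa [(QuotientGroup.eq_one_iff D.a).2 (Subgroup.mem_zpowers D.a)] using this.symm
      have h2 : p ^ D.β ∣ ((j : ℤ) - (p ^ s * k : ℕ)).natAbs := by
        rw [← D.bmem]
        have h3 : D.b ^ ((j : ℤ) - (p ^ s * k : ℕ)) ∈ Subgroup.zpowers D.a := by
          rw [← QuotientGroup.eq_one_iff, zpow_sub, zpow_natCast, zpow_natCast, QuotientGroup.mk_mul,
            QuotientGroup.mk_inv, h1, mul_inv_cancel]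
        rcases Int.natAbs_eq ((j : ℤ) - (p ^ s * k : ℕ)) with e | e <;> rw [e] at h3
        · rwa [zpow_natCast] at h3
        · rwa [zpow_neg, Subgroup.inv_mem_iff, zpow_natCast] at h3
      have h4 : ((p ^ s : ℕ) : ℤ) ∣ (j : ℤ) - (p ^ s * k : ℕ) :=
        Int.natCast_dvd.2 ((pow_dvd_pow p (hs.trans D.beta_ge)).trans h2)
      have h5 : ((p ^ s : ℕ) : ℤ) ∣ ((p ^ s * k : ℕ) : ℤ) := Int.natCast_dvd_natCast.2 (dvd_mul_right _ _)
      exact Int.natCast_dvd_natCast.1 (by simpa using dvd_add h4 h5)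
    refine ⟨?_, hj⟩
    -- compare the action on `b`
    have h6 : Commute ((D.a ^ (p ^ s * m) * D.b ^ (p ^ s * k)) ^ p ^ (D.n - s)) D.b := by
      obtain ⟨S, hS, hSd⟩ := D.pow_nf (p ^ s * m) (p ^ s * k) (p ^ (D.n - s))
      rw [hS, D.commute_b]
      obtain ⟨S', rfl⟩ := (hSd _).2 dvd_rfl
      exact ⟨m * S', by conv_rhs => rw [← Nat.add_sub_cancel' hs, pow_add]
                        ring⟩
    rw [hxy] at h6
    obtain ⟨S, hS, hSd⟩ := D.pow_nf i j (p ^ (D.n - s))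
    rw [hS, D.commute_b] at h6
    obtain ⟨S', rfl⟩ := (hSd _).2 dvd_rfl
    have hS' : ¬ p ∣ S' := fun hh => by
      have := (Nat.pow_dvd_pow_iff_le_right hpp.one_lt).1
        ((hSd (D.n - s + 1)).1 (by rw [pow_succ]; exact mul_dvd_mul_left _ hh))
      omega
    rw [← mul_assoc, ((hpp.coprime_iff_not_dvd.2 hS').pow_left _).dvd_mul_right, mul_comm i] at h6
    conv at h6 => lhs; rw [← Nat.sub_add_cancel hs, pow_add]
    exact (Nat.mul_dvd_mul_iff_left (Nat.pos_of_ne_zero (pow_ne_zero _ hpp.ne_zero))).1 h6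
  · rintro ⟨⟨i, rfl⟩, ⟨j, rfl⟩⟩
    rw [pow_mul, pow_mul]
    exact Subgroup.mul_mem_sup (Subgroup.pow_mem _ (Subgroup.mem_zpowers _) _)
      (Subgroup.pow_mem _ (Subgroup.mem_zpowers _) _)

theorem params_H {s : ℕ} (hs : s ≤ D.n) : D.Params (D.H s) s s := by
  refine ⟨hs.trans D.n_le_alpha, hs.trans D.beta_ge, fun x => ?_, fun y => ?_⟩
  · have := D.mem_H_iff hs x 0
    rw [pow_zero, mul_one] at this
    rw [this]; simp
  · exact ⟨fun ⟨x, hx⟩ => ((D.mem_H_iff hs x y).1 hx).2, fun hy => ⟨0, (D.mem_H_iff hs 0 y).2 ⟨dvd_zero _, hy⟩⟩⟩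

theorem pow_mem_center_iff {m : ℕ} (hm : m ≤ D.n) (g : G) :
    g ^ p ^ m ∈ Subgroup.center G ↔ g ∈ D.H (D.n - m) := by
  have hpp : p.Prime := Fact.out
  obtain ⟨i, j, rfl⟩ := D.nf g
  obtain ⟨S, hS, hSd⟩ := D.pow_nf i j (p ^ m)
  obtain ⟨S', rfl⟩ := (hSd _).2 dvd_rfl
  have hS' : ¬ p ∣ S' := fun hh => by
    have := (Nat.pow_dvd_pow_iff_le_right hpp.one_lt).1
      ((hSd (m + 1)).1 (by rw [pow_succ]; exact mul_dvd_mul_left _ hh))
    omega
  have hcan : ∀ x, p ^ D.n ∣ x * p ^ m ↔ p ^ (D.n - m) ∣ x := fun x => by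
    conv_lhs => rw [← Nat.sub_add_cancel hm, pow_add]
    exact Nat.mul_dvd_mul_iff_right (Nat.pos_of_ne_zero (pow_ne_zero _ hpp.ne_zero))
  rw [hS, D.mem_center_iff, D.mem_H_iff (Nat.sub_le _ _), ← mul_assoc,
    ((hpp.coprime_iff_not_dvd.2 hS').pow_left _).dvd_mul_right, hcan, hcan]

theorem centralizer_sup_center (R : Subgroup G) :
    Subgroup.centralizer ((R ⊔ Subgroup.center G : Subgroup G) : Set G) = Subgroup.centralizer (R : Set G) := by
  refine le_antisymm (Subgroup.centralizer_le (SetLike.coe_subset_coe.2 le_sup_left)) fun x hx => ?_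
  rw [Subgroup.mem_centralizer_iff]
  intro g hg
  obtain ⟨r, hr, z, hz, rfl⟩ := Subgroup.mem_sup_of_normal_right.1 hg
  exact (Commute.mul_left (Subgroup.mem_centralizer_iff.1 hx r hr) (Subgroup.mem_center_iff.1 hz x).symm).eq

include D in
/-- The class size of `g` is its order modulo the centre. -/
theorem index_centralizer (g : G) :
    (Subgroup.centralizer ({g} : Set G)).index * Nat.card (Subgroup.center G)
      = Nat.card (Subgroup.zpowers g ⊔ Subgroup.center G : Subgroup G) := by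
  have h := D.card_mul_centralizer (L := Subgroup.zpowers g ⊔ Subgroup.center G) le_sup_right
  rw [centralizer_sup_center, Subgroup.zpowers_eq_closure, Subgroup.centralizer_closure,
    ← Subgroup.card_mul_index (Subgroup.centralizer ({g} : Set G))] at h
  rw [Subgroup.zpowers_eq_closure]
  apply Nat.eq_of_mul_eq_mul_right (Nat.card_pos (α := Subgroup.centralizer ({g} : Set G)))
  rw [h]; ring

theorem index_le_iff {m : ℕ} (hm : m ≤ D.n) (g : G) :
    (Subgroup.centralizer ({g} : Set G)).index ≤ p ^ m ↔ g ∈ D.H (D.n - m) := by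
  have hpp : p.Prime := Fact.out
  rw [← D.pow_mem_center_iff hm]
  set Z := Subgroup.center G
  have h1 : (Subgroup.centralizer ({g} : Set G)).index = orderOf (g : G ⧸ Z) := by
    have h2 := D.index_centralizer g
    have hker : (QuotientGroup.mk' Z).ker = Z := QuotientGroup.ker_mk' Z
    have h3 : (Subgroup.zpowers g ⊔ Z) = Subgroup.comap (QuotientGroup.mk' Z) (Subgroup.zpowers (g : G ⧸ Z)) := by
      rw [← QuotientGroup.mk'_apply Z g, ← MonoidHom.map_zpowers, Subgroup.comap_map_eq, hker]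
    have h4 : Nat.card (Subgroup.zpowers g ⊔ Z : Subgroup G) = Nat.card Z * orderOf (g : G ⧸ Z) := by
      have h5 : (Subgroup.zpowers g ⊔ Z).index = (Subgroup.zpowers (g : G ⧸ Z)).index := by
        rw [h3, Subgroup.index_comap_of_surjective _ (QuotientGroup.mk'_surjective Z)]
      apply Nat.eq_of_mul_eq_mul_right (Nat.pos_of_ne_zero (Subgroup.index_ne_zero_of_finite
        (H := Subgroup.zpowers g ⊔ Z)))
      rw [Subgroup.card_mul_index, mul_assoc, h5, ← Nat.card_zpowers, Subgroup.card_mul_index,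
        ← Subgroup.index_eq_card, Subgroup.card_mul_index]
    rw [h4, mul_comm] at h2
    exact Nat.eq_of_mul_eq_mul_left Nat.card_pos h2
  obtain ⟨e, he⟩ := IsPGroup.iff_orderOf.1 ((IsPGroup.of_card D.card_eq).to_quotient Z) (g : G ⧸ Z)
  rw [h1, he, Nat.pow_le_pow_iff_right hpp.one_lt, ← Nat.pow_dvd_pow_iff_le_right hpp.one_lt, ← he,
    orderOf_dvd_iff_pow_eq_one, ← QuotientGroup.mk_pow, QuotientGroup.eq_one_iff]

theorem closure_pow {s : ℕ} (hs : s ≤ D.n) :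
    Subgroup.closure {x : G | ∃ y : G, y ^ p ^ s = x} = D.H s := by
  refine le_antisymm ((Subgroup.closure_le _).2 ?_) (sup_le ?_ ?_)
  · rintro _ ⟨y, rfl⟩
    obtain ⟨i, j, rfl⟩ := D.nf y
    obtain ⟨S, hS, hSd⟩ := D.pow_nf i j (p ^ s)
    rw [SetLike.mem_coe, hS]
    exact (D.mem_H_iff hs _ _).2 ⟨dvd_mul_of_dvd_right ((hSd s).2 dvd_rfl) _, dvd_mul_left _ _⟩
  · exact Subgroup.zpowers_le.2 (Subgroup.subset_closure ⟨_, rfl⟩)
  · exact Subgroup.zpowers_le.2 (Subgroup.subset_closure ⟨_, rfl⟩)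

theorem H_n : D.H D.n = Subgroup.center G := by
  ext g
  obtain ⟨i, j, rfl⟩ := D.nf g
  rw [D.mem_H_iff le_rfl, D.mem_center_iff]

end Data

end CfsgLib.Solv.Metacyclic
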