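import Mathlib
import Cfsg.Prelude.Def_Transfer

/-!
Abelian Sylow subgroups of a group with a minimal cover by nilpotent subgroups and trivial centre.
-/

set_option autoImplicit false
set_option linter.style.haveILetI false
set_option linter.unusedSectionVars false

open scoped Pointwise

namespace CfsgLib.Solv.NilpotentCover

variable {G : Type*} [Group G] [Finite G]

/-- `𝓐` is a cover by proper subgroups of least size, all members nilpotent. -/
structure IsMinNilCover (𝓐 : Finset (Subgroup G)) : Prop where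
  proper : ∀ A ∈ 𝓐, A ≠ ⊤
  cover : ∀ g : G, ∃ A ∈ 𝓐, g ∈ A
  minimal : ∀ 𝓑 : Finset (Subgroup G),
    (∀ A ∈ 𝓑, A ≠ ⊤) ∧ (∀ g : G, ∃ A ∈ 𝓑, g ∈ A) → 𝓐.card ≤ 𝓑.card
  nilpotent : ∀ A ∈ 𝓐, Group.IsNilpotent A

variable {𝓐 : Finset (Subgroup G)} (hA : IsMinNilCover 𝓐) (hZ : Subgroup.center G = ⊥)
  {p : ℕ} [hp : Fact p.Prime]

include hA in
/-- Two members of a minimal cover do not both lie in one proper subgroup. -/
theorem eq_of_le_proper {A B M : Subgroup G} (hA1 : A ∈ 𝓐) (hB : B ∈ 𝓐) (hM : M ≠ ⊤) (hAM : A ≤ M)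
    (hBM : B ≤ M) : A = B := by
  classical
  by_contra hne
  have hB' : B ∈ 𝓐.erase A := Finset.mem_erase.2 ⟨Ne.symm hne, hB⟩
  have h := hA.minimal (insert M ((𝓐.erase A).erase B)) ⟨?_, ?_⟩
  · have h1 := Finset.card_insert_le M ((𝓐.erase A).erase B)
    have h2 := Finset.card_erase_add_one hA1
    have h3 := Finset.card_erase_add_one hB'
    omega
  · intro C hC
    rcases Finset.mem_insert.1 hC with rfl | hC
    · exact hM
    · exact hA.proper C (Finset.mem_of_mem_erase (Finset.mem_of_mem_erase hC))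
  · intro g
    obtain ⟨C, hC, hg⟩ := hA.cover g
    by_cases h1 : C = A
    · exact ⟨M, Finset.mem_insert_self _ _, hAM (h1 ▸ hg)⟩
    by_cases h2 : C = B
    · exact ⟨M, Finset.mem_insert_self _ _, hBM (h2 ▸ hg)⟩
    exact ⟨C, Finset.mem_insert_of_mem (Finset.mem_erase.2 ⟨h2, Finset.mem_erase.2 ⟨h1, hC⟩⟩), hg⟩

/-- Every Sylow subgroup is abelian if one is. -/
theorem sylow_comm (P : Sylow p G) [IsMulCommutative (P : Subgroup G)] {H : Subgroup G}
    (hH : IsPGroup p H) : IsMulCommutative H := by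
  obtain ⟨Q, hQ⟩ := hH.exists_le_sylow
  refine ⟨⟨fun a b => Subtype.ext ?_⟩⟩
  have := (Q.equiv P).injective.eq_iff.1
    (show Q.equiv P (⟨a, hQ a.2⟩ * ⟨b, hQ b.2⟩) = Q.equiv P (⟨b, hQ b.2⟩ * ⟨a, hQ a.2⟩) by
      rw [map_mul, map_mul]; exact IsMulCommutative.is_comm.comm _ _)
  have h' := congrArg Subtype.val this
  simpa using h'

/-- In a nilpotent subgroup with abelian Sylow `p`-subgroups every `p`-element is central. -/
theorem pElem_central (P : Sylow p G) [IsMulCommutative (P : Subgroup G)] {A : Subgroup G}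
    (hn : Group.IsNilpotent A) {z : G} (hz : z ∈ A) {k : ℕ} (hzk : z ^ p ^ k = 1) {a : G}
    (ha : a ∈ A) : a * z = z * a := by
  haveI := hn
  haveI : Fintype A := Fintype.ofFinite A
  let φ : (∀ r : Nat.primeFactors (Nat.card A), ∀ R : Sylow r A, (R : Subgroup A)) ≃* A :=
    Classical.choice (((Group.isNilpotent_of_finite_tfae (G := A)).out 0 4).1 hn)
  suffices h : ∀ u v : A, u ^ p ^ k = 1 → u * v = v * u by
    exact (congrArg Subtype.val (h ⟨z, hz⟩ ⟨a, ha⟩ (Subtype.ext hzk))).symm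
  intro u v hu
  obtain ⟨f, rfl⟩ := φ.surjective u
  obtain ⟨g, rfl⟩ := φ.surjective v
  rw [← map_mul, ← map_mul]
  congr 1
  funext r R
  simp only [Pi.mul_apply]
  have hf : f r R ^ p ^ k = 1 := by
    rw [← map_pow] at hu
    have := φ.injective (hu.trans (map_one φ).symm)
    simpa using congrFun₂ this r R
  by_cases hr : (r : ℕ) = p
  · haveI : Fact (r : ℕ).Prime := ⟨Nat.prime_of_mem_primeFactors r.2⟩
    have hR : IsPGroup p ((R : Subgroup A).map A.subtype) := by
      rw [← hr]; exact R.isPGroup'.map _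
    haveI := sylow_comm P hR
    have := IsMulCommutative.is_comm.comm
      (⟨_, Subgroup.mem_map_of_mem A.subtype (f r R).2⟩ : (R : Subgroup A).map A.subtype)
      ⟨_, Subgroup.mem_map_of_mem A.subtype (g r R).2⟩
    have h' := congrArg Subtype.val this
    apply Subtype.ext
    apply Subtype.ext
    simpa using h'
  · haveI : Fact (r : ℕ).Prime := ⟨Nat.prime_of_mem_primeFactors r.2⟩
    obtain ⟨j, hj⟩ := R.isPGroup' (f r R)
    have h1 : orderOf (f r R) ∣ 1 := by
      have := Nat.dvd_gcd (orderOf_dvd_of_pow_eq_one hj) (orderOf_dvd_of_pow_eq_one hf)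
      rwa [Nat.Coprime.pow j k ((Nat.coprime_primes Fact.out hp.out).2 hr)] at this
    rw [orderOf_eq_one_iff.1 (Nat.dvd_one.1 h1), one_mul, mul_one]

include hA hZ in
/-- A nontrivial `p`-element lies in exactly one member. -/
theorem member_unique (P : Sylow p G) [IsMulCommutative (P : Subgroup G)] {z : G} (hz1 : z ≠ 1)
    {k : ℕ} (hzk : z ^ p ^ k = 1) {A B : Subgroup G} (hA1 : A ∈ 𝓐) (hB : B ∈ 𝓐) (hzA : z ∈ A)
    (hzB : z ∈ B) : A = B := by
  refine eq_of_le_proper hA hA1 hB (M := Subgroup.centralizer {z}) (fun h => hz1 ?_) ?_ ?_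
  · have : z ∈ Subgroup.center G := Subgroup.mem_center_iff.2 fun g =>
      Subgroup.mem_centralizer_singleton_iff.1 (h.ge (Subgroup.mem_top g))
    rw [hZ] at this
    exact Subgroup.mem_bot.1 this
  · exact fun a ha => Subgroup.mem_centralizer_singleton_iff.2
      (pElem_central P (hA.nilpotent A hA1) hzA hzk ha)
  · exact fun a ha => Subgroup.mem_centralizer_singleton_iff.2
      (pElem_central P (hA.nilpotent B hB) hzB hzk ha)

include hA hZ in
/-- Unless `P` is elementary abelian of order `> p`, it lies in a member. -/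
theorem exists_member_ge (P : Sylow p G) [IsMulCommutative (P : Subgroup G)]
    (hne : (P : Subgroup G) ≠ ⊥)
    (h : (∃ y ∈ (P : Subgroup G), y ^ p ≠ 1) ∨ Nat.card (P : Subgroup G) = p) :
    ∃ A ∈ 𝓐, (P : Subgroup G) ≤ A := by
  rcases h with ⟨y, hy, hyp⟩ | hc
  · have hcomm : ∀ a ∈ (P : Subgroup G), ∀ b ∈ (P : Subgroup G), Commute a b := fun a ha b hb =>
      congrArg Subtype.val (IsMulCommutative.is_comm.comm (⟨a, ha⟩ : (P : Subgroup G)) ⟨b, hb⟩)
    have hk : ∀ a ∈ (P : Subgroup G), ∃ k : ℕ, a ^ p ^ k = 1 := fun a ha => by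
      obtain ⟨k, hk⟩ := P.isPGroup' ⟨a, ha⟩
      exact ⟨k, congrArg Subtype.val hk⟩
    have hy1 : y ≠ 1 := fun h => hyp (by rw [h, one_pow])
    obtain ⟨A, hA1, hyA⟩ := hA.cover y
    obtain ⟨k, hyk⟩ := hk _ (pow_mem hy p)
    refine ⟨A, hA1, ?_⟩
    -- every element of order `p` lies in `A`, hence every element does
    have hΩ : ∀ e ∈ (P : Subgroup G), e ^ p = 1 → e ∈ A := by
      intro e he hep
      obtain ⟨B, hB, hyeB⟩ := hA.cover (y * e)
      have hpow : (y * e) ^ p = y ^ p := by rw [(hcomm y hy e he).mul_pow, hep, mul_one]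
      have hAB : A = B := member_unique hA hZ P hyp hyk hA1 hB (pow_mem hyA p)
        (hpow ▸ pow_mem hyeB p)
      subst hAB
      simpa using mul_mem (inv_mem hyA) hyeB
    intro x hx
    by_cases hx1 : x = 1
    · rw [hx1]; exact one_mem _
    obtain ⟨B, hB, hxB⟩ := hA.cover x
    obtain ⟨j, hj⟩ := hk x hx
    obtain ⟨i, hi0, hi1⟩ : ∃ i, x ^ p ^ i ≠ 1 ∧ x ^ p ^ (i + 1) = 1 := by
      induction j with
      | zero => exact absurd (by simpa using hj) hx1
      | succ j ih =>
        by_cases hj' : x ^ p ^ j = 1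
        · exact ih hj'
        · exact ⟨j, hj', hj⟩
    have hord : (x ^ p ^ i) ^ p = 1 := by rw [← pow_mul, ← pow_succ]; exact hi1
    have hAB : A = B := member_unique hA hZ P hi0 (k := 1) (by rwa [pow_one]) hA1 hB
      (hΩ _ (pow_mem hx _) hord) (pow_mem hxB _)
    exact hAB ▸ hxB
  · haveI : IsCyclic (P : Subgroup G) := isCyclic_of_prime_card hc
    obtain ⟨g, hg⟩ := (Subgroup.isCyclic_iff_exists_zpowers_eq_top (P : Subgroup G)).1 inferInstance
    obtain ⟨A, hA1, hgA⟩ := hA.cover g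
    exact ⟨A, hA1, hg ▸ Subgroup.zpowers_le.2 hgA⟩

include hA hZ in
/-- If `A` contains the Sylow subgroup `P`, it is the centralizer of every `z ∈ P#`. -/
theorem centralizer_elem_eq (P : Sylow p G) [IsMulCommutative (P : Subgroup G)]
    (h : (∃ y ∈ (P : Subgroup G), y ^ p ≠ 1) ∨ Nat.card (P : Subgroup G) = p) {A : Subgroup G}
    (hA1 : A ∈ 𝓐) (hPA : (P : Subgroup G) ≤ A) {z : G} (hz : z ∈ (P : Subgroup G)) (hz1 : z ≠ 1) :
    Subgroup.centralizer ({z} : Set G) = A := by
  obtain ⟨k, hk⟩ := P.isPGroup' ⟨z, hz⟩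
  have hzk : z ^ p ^ k = 1 := congrArg Subtype.val hk
  refine le_antisymm (fun c hc => ?_) fun a ha => Subgroup.mem_centralizer_singleton_iff.2
    (pElem_central P (hA.nilpotent A hA1) (hPA hz) hzk ha)
  have hcz : Commute c z := Subgroup.mem_centralizer_singleton_iff.1 hc
  -- the cyclic group generated by `c` and the member containing `z * c'`
  set n := orderOf c
  obtain ⟨e, m, hm, hn⟩ := Nat.exists_eq_pow_mul_and_not_dvd (orderOf_pos c).ne' p hp.out.ne_one
  have hcop : (p ^ e).Coprime m := (hp.out.coprime_iff_not_dvd.2 hm).pow_left e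
  -- `c ^ m` is a `p`-element, `c ^ p ^ e` a `p'`-element
  have hp_mem : c ^ m ∈ A := by
    obtain ⟨B, hB, hcB⟩ := hA.cover (c ^ m)
    have hpe : (c ^ m) ^ p ^ e = 1 := by rw [← pow_mul, mul_comm, ← hn]; exact pow_orderOf_eq_one c
    have hz' : Commute (c ^ m) z := hcz.pow_left m
    let Q : Subgroup G := Subgroup.closure {z, c ^ m}
    haveI : IsMulCommutative Q := Subgroup.isMulCommutative_closure (by
      rintro a (rfl | rfl) b (rfl | rfl)
      exacts [rfl, hz'.eq.symm, hz'.eq, rfl])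
    have hQ : IsPGroup p Q := by
      intro q
      refine ⟨k + e, Subtype.ext ?_⟩
      show (q : G) ^ p ^ (k + e) = 1
      obtain ⟨q, hq⟩ := q
      induction hq using Subgroup.closure_induction with
      | mem x hx =>
        rcases hx with rfl | rfl
        · rw [pow_add, pow_mul, hzk, one_pow]
        · rw [add_comm, pow_add, pow_mul, hpe, one_pow]
      | one => exact one_pow _
      | mul x y hx hy ihx ihy =>
        have hxy : Commute x y :=
          congrArg Subtype.val (IsMulCommutative.is_comm.comm (⟨x, hx⟩ : Q) ⟨y, hy⟩)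
        show (x * y) ^ p ^ (k + e) = 1
        rw [hxy.mul_pow, ihx, ihy, one_mul]
      | inv x hx ihx => show x⁻¹ ^ p ^ (k + e) = 1; rw [inv_pow, ihx, inv_one]
    obtain ⟨R, hR⟩ := hQ.exists_le_sylow
    haveI : IsMulCommutative (R : Subgroup G) := sylow_comm P R.isPGroup'
    -- `R` lies in one member
    have hR' : (∃ y ∈ (R : Subgroup G), y ^ p ≠ 1) ∨ Nat.card (R : Subgroup G) = p := by
      rcases h with ⟨y, hy, hyp⟩ | hc
      · refine Or.inl ⟨_, (P.equiv R ⟨y, hy⟩).2, fun h1 => hyp ?_⟩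
        have : P.equiv R (⟨y, hy⟩ ^ p) = 1 := by rw [map_pow]; exact Subtype.ext h1
        exact congrArg Subtype.val ((P.equiv R).map_eq_one_iff.1 this)
      · exact Or.inr ((Nat.card_congr (P.equiv R).toEquiv).symm.trans hc)
    have hzR : z ∈ (R : Subgroup G) := hR (Subgroup.subset_closure (by simp))
    obtain ⟨C, hC, hRC⟩ := exists_member_ge hA hZ R
      (fun h => hz1 (Subgroup.mem_bot.1 (h ▸ hzR))) hR'
    have hAC : A = C := member_unique hA hZ P hz1 hzk hA1 hC (hPA hz) (hRC hzR)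
    exact hAC ▸ hRC (hR (Subgroup.subset_closure (by simp)))
  have hp'_mem : c ^ p ^ e ∈ A := by
    set d := c ^ p ^ e
    obtain ⟨B, hB, hB'⟩ := hA.cover (z * d)
    have hcomm : Commute z d := (hcz.pow_left _).symm
    have hdm : d ^ m = 1 := by rw [← pow_mul, ← hn]; exact pow_orderOf_eq_one c
    obtain ⟨u, v, huv⟩ : ∃ u v : ℤ, u * (p ^ k : ℕ) + v * m = 1 :=
      Nat.Coprime.isCoprime ((hp.out.coprime_iff_not_dvd.2 hm).pow_left k)
    have hzz : z ∈ B := by
      have h1 : (z * d) ^ (v * (m : ℤ)) = z := by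
        rw [hcomm.mul_zpow, mul_comm v, zpow_mul d, zpow_natCast, hdm, one_zpow, mul_one]
        conv_rhs => rw [← zpow_one z, ← huv, zpow_add, mul_comm u, zpow_mul z, zpow_natCast, hzk,
          one_zpow, one_mul]
        rw [mul_comm]
      exact h1 ▸ zpow_mem hB' _
    have hAB : A = B := member_unique hA hZ P hz1 hzk hA1 hB (hPA hz) hzz
    subst hAB
    simpa using mul_mem (inv_mem hzz) hB'
  obtain ⟨u, v, huv⟩ : ∃ u v : ℤ, u * (p ^ e : ℕ) + v * m = 1 := Nat.Coprime.isCoprime hcop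
  rw [← zpow_one c, ← huv, zpow_add, mul_comm u, mul_comm v, zpow_mul, zpow_mul, zpow_natCast,
    zpow_natCast]
  exact mul_mem (zpow_mem hp'_mem _) (zpow_mem hp_mem _)

include hA hZ in
/-- The main statement: `C(P) = A`, `N(P)` is maximal and `P` is trivial-intersection. -/
theorem main (P : Sylow p G) [IsMulCommutative (P : Subgroup G)]
    (hnn : ¬ (P : Subgroup G).Normal)
    (h : (∃ y ∈ (P : Subgroup G), y ^ p ≠ 1) ∨ Nat.card (P : Subgroup G) = p) :
    ∃ A ∈ 𝓐, (P : Subgroup G) ≤ A ∧ ¬ p ∣ ((P : Subgroup G).subgroupOf A).index ∧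
      IsCoatom (Subgroup.normalizer ((P : Subgroup G) : Set G)) ∧
      (∀ g : G, g ∉ Subgroup.normalizer ((P : Subgroup G) : Set G) →
        ¬ p ∣ Nat.card ↥(Subgroup.normalizer ((P : Subgroup G) : Set G) ⊓
          (Subgroup.normalizer ((P : Subgroup G) : Set G)).map (MulAut.conj g).toMonoidHom)) ∧
      Subgroup.centralizer ((P : Subgroup G) : Set G) = A ∧
      ∀ M : Subgroup G, M ≠ ⊤ → A ≤ M → M ≤ Subgroup.normalizer ((P : Subgroup G) : Set G) := by
  classical
  set N := Subgroup.normalizer ((P : Subgroup G) : Set G) with hN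
  have hne : (P : Subgroup G) ≠ ⊥ := fun hb => hnn (hb ▸ inferInstance)
  obtain ⟨A, hA1, hPA⟩ := exists_member_ge hA hZ P hne h
  obtain ⟨z0, hz0, hz01⟩ := (P : Subgroup G).bot_or_exists_ne_one.resolve_left hne
  have hcomm : ∀ a ∈ (P : Subgroup G), ∀ b ∈ (P : Subgroup G), a * b = b * a := fun a ha b hb =>
    congrArg Subtype.val (IsMulCommutative.is_comm.comm (⟨a, ha⟩ : (P : Subgroup G)) ⟨b, hb⟩)
  have hAc : ∀ a ∈ A, ∀ z ∈ (P : Subgroup G), a * z = z * a := fun a ha z hz => by
    obtain ⟨k, hk⟩ := P.isPGroup' ⟨z, hz⟩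
    exact pElem_central P (hA.nilpotent A hA1) (hPA hz) (congrArg Subtype.val hk) ha
  have hC : Subgroup.centralizer ((P : Subgroup G) : Set G) = A := by
    refine le_antisymm ?_ fun a ha => Subgroup.mem_centralizer_iff.2 fun z hz => (hAc a ha z hz).symm
    rw [← centralizer_elem_eq hA hZ P h hA1 hPA hz0 hz01]
    exact Subgroup.centralizer_le (Set.singleton_subset_iff.2 hz0)
  have hpart : ∀ w ∈ A, (∃ k : ℕ, w ^ p ^ k = 1) → w ∈ (P : Subgroup G) := by
    rintro w hw ⟨k, hk⟩
    have hwc : w ∈ N := Subgroup.centralizer_le_normalizer _ (show w ∈ Subgroup.centralizer ((P : Subgroup G) : Set G) from hC.symm ▸ hw)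
    have hz : IsPGroup p (Subgroup.zpowers w) := by
      have : orderOf w ∣ p ^ k := orderOf_dvd_of_pow_eq_one hk
      obtain ⟨j, -, hj⟩ := (Nat.dvd_prime_pow hp.out).1 this
      exact IsPGroup.of_card ((Nat.card_zpowers w).trans hj)
    have hsup := P.isPGroup'.to_sup_of_normal_left' hz (Subgroup.zpowers_le.2 hwc)
    exact P.3 hsup le_sup_left ▸ Subgroup.mem_sup_right (Subgroup.mem_zpowers w)
  have hTI : ∀ g : G, ∀ z : G, z ≠ 1 → z ∈ (P : Subgroup G) → g⁻¹ * z * g ∈ (P : Subgroup G) →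
      g ∈ N := by
    intro g z hz1 hz hzg
    have hw1 : g⁻¹ * z * g ≠ 1 := fun h => hz1 (by
      have := congrArg (fun t => g * t * g⁻¹) h
      simpa [mul_assoc] using this)
    rw [hN, Subgroup.mem_normalizer_iff]
    suffices hle : ∀ x ∈ (P : Subgroup G), g * x * g⁻¹ ∈ (P : Subgroup G) by
      intro x
      refine ⟨hle x, fun hx => ?_⟩
      have hfin : ((P : Subgroup G).map (MulAut.conj g).toMonoidHom) = (P : Subgroup G) := by
        refine Subgroup.eq_of_le_of_card_ge (Subgroup.map_le_iff_le_comap.2 hle) (le_of_eq ?_)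
        exact (Subgroup.card_map_of_injective
          (f := (MulAut.conj g).toMonoidHom) (MulAut.conj g).injective).symm
      rw [← hfin] at hx
      obtain ⟨y, hy, hyx⟩ := hx
      simp only [MulEquiv.coe_toMonoidHom, MulAut.conj_apply] at hyx
      exact (mul_right_injective g (mul_left_injective g⁻¹ hyx)) ▸ hy
    intro x hx
    refine hpart _ ?_ ?_
    · rw [← centralizer_elem_eq hA hZ P h hA1 hPA hz hz1, Subgroup.mem_centralizer_singleton_iff]
      have := hcomm x hx _ hzg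
      calc g * x * g⁻¹ * z = g * (x * (g⁻¹ * z * g)) * g⁻¹ := by group
        _ = g * ((g⁻¹ * z * g) * x) * g⁻¹ := by rw [this]
        _ = z * (g * x * g⁻¹) := by group
    · obtain ⟨k, hk⟩ := P.isPGroup' ⟨x, hx⟩
      have hk' : x ^ p ^ k = 1 := congrArg Subtype.val hk
      exact ⟨k, by rw [conj_pow, hk', mul_one, mul_inv_cancel]⟩
  have hmax : ∀ M : Subgroup G, M ≠ ⊤ → A ≤ M → M ≤ N := by
    intro M hM hAM g hg
    obtain ⟨B, hB, hBA⟩ : ∃ B ∈ 𝓐, ∀ a ∈ (P : Subgroup G), g * a * g⁻¹ ∈ B := by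
      set R : Sylow p G := g • P with hR
      have hR' : (∃ y ∈ (R : Subgroup G), y ^ p ≠ 1) ∨ Nat.card (R : Subgroup G) = p := by
        rcases h with ⟨y, hy, hyp⟩ | hc
        · refine Or.inl ⟨g * y * g⁻¹, Subgroup.mem_map_of_mem (MulAut.conj g).toMonoidHom hy, ?_⟩
          rw [conj_pow]
          exact fun h1 => hyp (mul_inv_eq_one.1 h1 |> mul_eq_left.1)
        · exact Or.inr ((Nat.card_congr (P.equiv R).toEquiv).symm.trans hc)
      haveI : IsMulCommutative (R : Subgroup G) := sylow_comm P R.isPGroup'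
      have hRne : (R : Subgroup G) ≠ ⊥ := fun hb => hne (by
        rw [← Subgroup.card_eq_one, Nat.card_congr (P.equiv R).toEquiv, Subgroup.card_eq_one]
        exact hb)
      obtain ⟨B, hB, hRB⟩ := exists_member_ge hA hZ R hRne hR'
      exact ⟨B, hB, fun a ha => hRB (Subgroup.mem_map_of_mem (MulAut.conj g).toMonoidHom ha)⟩
    set w := g * z0 * g⁻¹ with hw
    have hwB : w ∈ B := hBA _ hz0
    have hw1 : w ≠ 1 := fun h => hz01 (conj_eq_one_iff.1 h)
    obtain ⟨k, hk⟩ := P.isPGroup' ⟨z0, hz0⟩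
    have hk' : z0 ^ p ^ k = 1 := congrArg Subtype.val hk
    have hwk : w ^ p ^ k = 1 := by rw [hw, conj_pow, hk', mul_one, mul_inv_cancel]
    have hBC : ∀ b ∈ B, b * w = w * b := fun b hb =>
      pElem_central P (hA.nilpotent B hB) hwB hwk hb
    have hAB : A = B := by
      refine eq_of_le_proper hA hA1 hB hM hAM fun b hb => ?_
      have h1 : g⁻¹ * b * g ∈ A := by
        rw [← centralizer_elem_eq hA hZ P h hA1 hPA hz0 hz01,
          Subgroup.mem_centralizer_singleton_iff]
        calc g⁻¹ * b * g * z0 = g⁻¹ * (b * w) * g := by rw [hw]; group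
          _ = g⁻¹ * (w * b) * g := by rw [hBC b hb]
          _ = z0 * (g⁻¹ * b * g) := by rw [hw]; group
      have := M.mul_mem (M.mul_mem hg (hAM h1)) (M.inv_mem hg)
      simpa [mul_assoc] using this
    subst hAB
    refine hTI g w hw1 (hpart _ hwB ⟨k, hwk⟩) ?_
    rw [hw]
    simpa [mul_assoc] using hz0
  have hNtop : N ≠ ⊤ := fun h1 => hnn (Subgroup.normalizer_eq_top_iff.1 h1)
  refine ⟨A, hA1, hPA, ?_, ⟨hNtop, fun M hlt => ?_⟩, ?_, hC, hmax⟩
  · exact fun hd => P.not_dvd_index (hd.trans (Subgroup.relIndex_dvd_index_of_le hPA))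
  · by_contra hM
    exact hlt.not_ge (hmax M hM ((hC.symm.le.trans (Subgroup.centralizer_le_normalizer _)).trans hlt.le))
  · intro g hg hd
    obtain ⟨x, hx⟩ := exists_prime_orderOf_dvd_card' p hd
    obtain ⟨x, hxN, y, hy, hyx⟩ := x
    simp only [MulEquiv.coe_toMonoidHom, MulAut.conj_apply] at hyx
    rw [← Subgroup.orderOf_coe] at hx
    simp only at hx
    have hmem : ∀ w ∈ N, orderOf w = p → w ∈ (P : Subgroup G) := by
      intro w hw hwp
      have hz : IsPGroup p (Subgroup.zpowers w) :=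
        IsPGroup.of_card (n := 1) (by rw [Nat.card_zpowers, hwp, pow_one])
      have hsup := P.isPGroup'.to_sup_of_normal_left' hz (Subgroup.zpowers_le.2 hw)
      exact P.3 hsup le_sup_left ▸ Subgroup.mem_sup_right (Subgroup.mem_zpowers w)
    have hy' : orderOf y = p := by
      rw [← hx, ← hyx]
      exact ((MulAut.conj g).orderOf_eq y).symm
    have hx1 : x ≠ 1 := fun h1 => hp.out.one_lt.ne (by rw [← hx, h1, orderOf_one])
    refine hg (hTI g x hx1 (hmem x hxN hx) ?_)
    rw [← hyx]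
    simpa [mul_assoc] using hmem y hy hy'

end CfsgLib.Solv.NilpotentCover
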