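import Cfsg.Agent.Solv.TransferTools
import Mathlib.Algebra.Group.Conj
import Mathlib.Data.Nat.Factorization.Basic

/-!
Counting conjugacy classes of `p`-elements and of `π`-elements.
-/

set_option autoImplicit false
set_option linter.style.haveILetI false
set_option linter.deprecated false
set_option linter.unusedSectionVars false

open scoped commutatorElement Pointwise

namespace CfsgLib.Solv

variable {G : Type*} [Group G] {p : ℕ}

theorem exists_sylow_conj [Finite G] [hp : Fact p.Prime] (P : Sylow p G) {x : G}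
    (hx : ∃ k : ℕ, orderOf x = p ^ k) : ∃ a : G, a * x * a⁻¹ ∈ P := by
  obtain ⟨k, hk⟩ := hx
  have h : IsPGroup p (Subgroup.zpowers x) := IsPGroup.of_card (by rw [Nat.card_zpowers, hk])
  obtain ⟨R, hR⟩ := h.exists_le_sylow
  obtain ⟨a, ha⟩ := MulAction.exists_smul_eq G R P
  refine ⟨a, ?_⟩
  show a * x * a⁻¹ ∈ (P : Subgroup G)
  rw [← ha, Sylow.coe_subgroup_smul, mem_conj_smul_iff]
  simpa [mul_assoc] using hR (Subgroup.mem_zpowers x)

/-- Classes of `p`-elements against the fixed points of `N(P)` on `P`. -/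
theorem two_mul_classes_le [Finite G] [Fact p.Prime] (P : Sylow p G) :
    2 * Nat.card {c : ConjClasses G // ∀ x ∈ c.carrier, ∃ k : ℕ, orderOf x = p ^ k} ≤
      Nat.card (P : Subgroup G) + Nat.card ((P : Subgroup G) ⊓
        Subgroup.centralizer (Subgroup.normalizer ((P : Subgroup G) : Set G) : Set G) : Subgroup G) := by
  classical
  set K := {c : ConjClasses G // ∀ x ∈ c.carrier, ∃ k : ℕ, orderOf x = p ^ k}
  set F : Subgroup G := (P : Subgroup G) ⊓
    Subgroup.centralizer (Subgroup.normalizer ((P : Subgroup G) : Set G) : Set G) with hF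
  have hrep : ∀ c : K, ∃ x : (P : Subgroup G), ConjClasses.mk (x : G) = c.1 := by
    rintro ⟨c, hc⟩
    obtain ⟨g, rfl⟩ := ConjClasses.exists_rep c
    · obtain ⟨a, ha⟩ := exists_sylow_conj P (hc g (ConjClasses.mem_carrier_iff_mk_eq.2 rfl))
      exact ⟨⟨_, ha⟩, ConjClasses.mk_eq_mk_iff_isConj.2 (isConj_iff.2 ⟨a⁻¹, by group⟩)⟩
  choose rep hrep using hrep
  have hpel : ∀ x : (P : Subgroup G), ∀ y ∈ (ConjClasses.mk (x : G)).carrier,
      ∃ k : ℕ, orderOf y = p ^ k := by
    intro x y hy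
    obtain ⟨a, rfl⟩ := isConj_iff.1 (ConjClasses.mk_eq_mk_iff_isConj.1 (ConjClasses.mem_carrier_iff_mk_eq.1 hy)).symm
    have h1 : orderOf (a * (x : G) * a⁻¹) = orderOf (x : G) := MulEquiv.orderOf_eq (MulAut.conj a) (x : G)
    rw [h1, Subgroup.orderOf_coe]
    exact (IsPGroup.iff_orderOf.1 P.2) x
  -- elements of `P` outside the image of `rep`, or in `F`, cover each class once more
  let f : ↥(P : Subgroup G) → K := fun x => ⟨ConjClasses.mk (x : G), hpel x⟩
  have hfrep : ∀ c, f (rep c) = c := fun c => Subtype.ext (hrep c)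
  have hsecond : ∀ c : K, (rep c : G) ∈ F ∨ ∃ y : (P : Subgroup G), y ≠ rep c ∧ f y = c := by
    intro c
    by_cases hfix : ∀ n ∈ Subgroup.normalizer ((P : Subgroup G) : Set G), n * (rep c : G) = rep c * n
    · exact Or.inl (Subgroup.mem_inf.2 ⟨(rep c).2, Subgroup.mem_centralizer_iff.2 hfix⟩)
    · push Not at hfix
      obtain ⟨n, hn, hne⟩ := hfix
      refine Or.inr ⟨⟨n * (rep c : G) * n⁻¹, (Subgroup.mem_normalizer_iff.1 hn _).1 (rep c).2⟩, fun e => ?_, ?_⟩
      · exact hne (mul_inv_eq_iff_eq_mul.1 (congrArg Subtype.val e))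
      · refine Subtype.ext (Eq.trans ?_ (hrep c))
        exact ConjClasses.mk_eq_mk_iff_isConj.2 (isConj_iff.2 ⟨n⁻¹, by group⟩)
  let T := {c : K // (rep c : G) ∉ F}
  have hsec' : ∀ c : T, ∃ y : (P : Subgroup G), y ≠ rep c.1 ∧ f y = c.1 :=
    fun c => (hsecond c.1).resolve_left c.2
  choose sec hsec using hsec'
  have h1 : Nat.card K + Nat.card T ≤ Nat.card (P : Subgroup G) := by
    rw [← Nat.card_sum]
    refine Nat.card_le_card_of_injective (Sum.elim rep sec) ?_
    rintro (a | a) (b | b) e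
    · exact congrArg Sum.inl (by rw [← hfrep a, ← hfrep b]; exact congrArg f e)
    · exfalso
      have e2 : a = b.1 := by rw [← hfrep a, ← (hsec b).2]; exact congrArg f e
      exact (hsec b).1 (e.symm.trans (congrArg rep e2))
    · exfalso
      have e2 : b = a.1 := by rw [← hfrep b, ← (hsec a).2]; exact congrArg f e.symm
      exact (hsec a).1 (e.trans (congrArg rep e2))
    · refine congrArg Sum.inr (Subtype.ext ?_)
      rw [← (hsec a).2, ← (hsec b).2]; exact congrArg f e
  have h2 : Nat.card K ≤ Nat.card T + Nat.card F := by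
    rw [← Nat.card_sum]
    refine Nat.card_le_card_of_injective
      (fun c => if h : (rep c : G) ∈ F then Sum.inr ⟨_, h⟩ else Sum.inl (⟨c, h⟩ : T)) ?_
    intro a b e
    by_cases ha : (rep a : G) ∈ F <;> by_cases hb : (rep b : G) ∈ F <;>
      simp only [ha, hb, dite_true, dite_false] at e
    · have e2 : rep a = rep b := Subtype.ext (congrArg Subtype.val (Sum.inr_injective e) :)
      rw [← hfrep a, ← hfrep b, e2]
    · exact absurd e Sum.inr_ne_inl
    · exact absurd e Sum.inl_ne_inr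
    · exact congrArg Subtype.val (Sum.inl_injective e)
  omega

/-- Many classes of `p`-elements force a normal `p`-complement and an abelian Sylow subgroup. -/
theorem hnpc_of_many_classes [Finite G] [hp : Fact p.Prime] (P : Sylow p G)
    (h : (p + 1) * Nat.card (P : Subgroup G) <
      2 * p * Nat.card {c : ConjClasses G // ∀ x ∈ c.carrier, ∃ k : ℕ, orderOf x = p ^ k}) :
    Cfsg.HasNormalPComplement p G ∧ IsMulCommutative (P : Subgroup G) := by
  have hle := two_mul_classes_le P
  set F : Subgroup G := (P : Subgroup G) ⊓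
    Subgroup.centralizer (Subgroup.normalizer ((P : Subgroup G) : Set G) : Set G) with hF
  have hFP : F = (P : Subgroup G) := by
    by_contra hne
    have hlt : p * Nat.card F ≤ Nat.card (P : Subgroup G) := by
      obtain ⟨k, hk⟩ := IsPGroup.iff_card.1 P.2
      obtain ⟨j, hj⟩ := IsPGroup.iff_card.1 (P.2.to_le (inf_le_left : F ≤ P))
      have hlt := lt_of_le_of_ne (Subgroup.card_le_of_le (inf_le_left : F ≤ P))
        (fun e => hne (Subgroup.eq_of_le_of_card_ge inf_le_left e.ge))
      rw [hj, hk] at hlt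
      have hjk := (Nat.pow_lt_pow_iff_right hp.out.one_lt).1 hlt
      rw [hj, hk, ← pow_succ']
      exact Nat.pow_le_pow_right hp.out.pos hjk
    nlinarith
  have hC : Subgroup.normalizer ((P : Subgroup G) : Set G) ≤
      Subgroup.centralizer ((P : Subgroup G) : Set G) := fun n hn => Subgroup.mem_centralizer_iff.2
    fun y hy => (Subgroup.mem_centralizer_iff.1 (Subgroup.mem_inf.1 (hFP.ge hy)).2 n hn).symm
  exact ⟨hnpc_of_normalizer_le_centralizer P hC, ⟨⟨fun a b => Subtype.ext
    (Subgroup.mem_centralizer_iff.1 (hC (Subgroup.le_normalizer a.2)) b b.2).symm⟩⟩⟩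

/-- Number of conjugacy classes of `p`-elements in a `p`-nilpotent group with abelian Sylow. -/
theorem classes_eq_of_hnpc [Finite G] [hp : Fact p.Prime] (P : Sylow p G)
    (h : Cfsg.HasNormalPComplement p G) (hc : IsMulCommutative (P : Subgroup G)) :
    Nat.card (P : Subgroup G) ≤
      Nat.card {c : ConjClasses G // ∀ x ∈ c.carrier, ∃ k : ℕ, orderOf x = p ^ k} := by
  refine Nat.card_le_card_of_injective (fun x => ⟨ConjClasses.mk (x : G), fun y hy => ?_⟩) ?_
  · obtain ⟨a, rfl⟩ := isConj_iff.1 (ConjClasses.mk_eq_mk_iff_isConj.1 (ConjClasses.mem_carrier_iff_mk_eq.1 hy)).symm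
    have h1 : orderOf (a * (x : G) * a⁻¹) = orderOf (x : G) := MulEquiv.orderOf_eq (MulAut.conj a) (x : G)
    rw [h1, Subgroup.orderOf_coe]
    exact (IsPGroup.iff_orderOf.1 P.2) x
  · intro x y e
    have e' : IsConj (x : G) y := ConjClasses.mk_eq_mk_iff_isConj.1 (congrArg Subtype.val e)
    obtain ⟨a, ha⟩ := isConj_iff.1 e'
    obtain ⟨s, hs, hse⟩ := fusion_of_frobCond (hnpc_iff_frobCond.1 h) P x.2 (g := a) (ha ▸ y.2)
    apply Subtype.ext
    rw [← ha, ← hse, commute_of_isMulCommutative (A := (P : Subgroup G)) hs x.2, mul_inv_cancel_right]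

/-- `x` is an element all of whose order's prime divisors lie in `S`. -/
def SElt (S : Finset ℕ) (x : G) : Prop := ∀ r : ℕ, r.Prime → r ∣ orderOf x → r ∈ S

theorem SElt.conj {S : Finset ℕ} {x : G} (h : SElt S x) (a : G) : SElt S (a * x * a⁻¹) := by
  intro r hr hd
  have h1 : orderOf (a * x * a⁻¹) = orderOf x := MulEquiv.orderOf_eq (MulAut.conj a) x
  exact h r hr (h1 ▸ hd)

theorem SElt.of_empty [Finite G] {x : G} (h : SElt (∅ : Finset ℕ) x) : x = 1 := by
  rw [← orderOf_eq_one_iff]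
  by_contra hne
  obtain ⟨r, hr, hd⟩ := Nat.exists_prime_and_dvd hne
  exact absurd (h r hr hd) (Finset.notMem_empty r)

/-- Splitting off the `r`-part of an element. -/
theorem exists_rpart_mul [Finite G] {r : ℕ} (hr : r.Prime) {S : Finset ℕ} (hrS : r ∉ S) {g : G}
    (hg : SElt (insert r S) g) :
    ∃ x y : G, (∃ k : ℕ, orderOf x = r ^ k) ∧ SElt S y ∧ Commute x y ∧ x * y = g := by
  obtain ⟨a, m, hm, he⟩ := Nat.exists_eq_pow_mul_and_not_dvd (orderOf_pos g).ne' r hr.ne_one
  have hco : IsCoprime ((m : ℤ)) (((r ^ a : ℕ)) : ℤ) :=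
    Nat.isCoprime_iff_coprime.2 (Nat.Coprime.symm ((hr.coprime_iff_not_dvd.2 hm).pow_left a))
  obtain ⟨s, t, hst⟩ := hco
  refine ⟨g ^ (s * m), g ^ (t * (r ^ a : ℕ)), ?_, ?_, Commute.zpow_zpow_self g _ _,
    by rw [← zpow_add, hst, zpow_one]⟩
  · have h1 : (g ^ (s * (m : ℤ))) ^ (r ^ a) = 1 := by
      rw [← zpow_natCast, ← zpow_mul, mul_assoc, mul_comm s, zpow_mul, ← Nat.cast_mul, zpow_natCast,
        mul_comm m, ← he, pow_orderOf_eq_one, one_zpow]
    obtain ⟨j, -, hj⟩ := (Nat.dvd_prime_pow hr).1 (orderOf_dvd_of_pow_eq_one h1)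
    exact ⟨j, hj⟩
  · intro q hq hqd
    have h1 : (g ^ (t * ((r ^ a : ℕ) : ℤ))) ^ m = 1 := by
      rw [← zpow_natCast, ← zpow_mul, mul_assoc, mul_comm t, zpow_mul, ← Nat.cast_mul, zpow_natCast,
        ← he, pow_orderOf_eq_one, one_zpow]
    have hqm : q ∣ m := hqd.trans (orderOf_dvd_of_pow_eq_one h1)
    rcases Finset.mem_insert.1 (hg q hq (he ▸ hqm.mul_left _)) with h | h
    · exact absurd (h ▸ hqm) hm
    · exact h

theorem classes_insert_le [Finite G] {r : ℕ} (hr : r.Prime) {S : Finset ℕ} (hrS : r ∉ S) (B : ℕ)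
    (hB : ∀ H : Subgroup G, Nat.card {c : ConjClasses H // ∀ x ∈ c.carrier, SElt S x} ≤ B) :
    Nat.card {c : ConjClasses G // ∀ x ∈ c.carrier, SElt (insert r S) x} ≤
      Nat.card {c : ConjClasses G // ∀ x ∈ c.carrier, ∃ k : ℕ, orderOf x = r ^ k} * B := by
  classical
  haveI := Fintype.ofFinite {c : ConjClasses G // ∀ x ∈ c.carrier, ∃ k : ℕ, orderOf x = r ^ k}
  set R := {c : ConjClasses G // ∀ x ∈ c.carrier, ∃ k : ℕ, orderOf x = r ^ k}
  let C : R → Subgroup G := fun c => Subgroup.centralizer ({c.1.out} : Set G)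
  let D : R → Type _ := fun c => {d : ConjClasses (C c) // ∀ x ∈ d.carrier, SElt S x}
  have hout : ∀ c : ConjClasses G, ConjClasses.mk c.out = c := fun c => Quotient.out_eq c
  have hout' : ∀ (c : R) (d : ConjClasses (C c)), ConjClasses.mk d.out = d := fun c d => Quotient.out_eq d
  let f : (Σ c : R, D c) → {c : ConjClasses G // ∀ x ∈ c.carrier, SElt (insert r S) x} := fun cd =>
    ⟨ConjClasses.mk (cd.1.1.out * (cd.2.1.out : G)), fun y hy => by
      obtain ⟨a, rfl⟩ := isConj_iff.1 (ConjClasses.mk_eq_mk_iff_isConj.1 (ConjClasses.mem_carrier_iff_mk_eq.1 hy)).symm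
      refine SElt.conj ?_ a
      intro q hq hqd
      have hc : Commute cd.1.1.out (cd.2.1.out : G) :=
        (Subgroup.mem_centralizer_singleton_iff.1 cd.2.1.out.2).symm
      rcases hq.dvd_mul.1 (hqd.trans (hc.orderOf_mul_dvd_lcm.trans (Nat.lcm_dvd_mul _ _))) with h | h
      · obtain ⟨k, hk⟩ := cd.1.2 cd.1.1.out (ConjClasses.mem_carrier_iff_mk_eq.2 (hout _))
        rw [hk] at h
        exact Finset.mem_insert.2 (Or.inl ((Nat.prime_dvd_prime_iff_eq hq hr).1 (hq.dvd_of_dvd_pow h)))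
      · refine Finset.mem_insert_of_mem ?_
        rw [Subgroup.orderOf_coe] at h
        exact cd.2.2 _ (ConjClasses.mem_carrier_iff_mk_eq.2 (hout' cd.1 _)) q hq h⟩
  have hf : Function.Surjective f := by
    rintro ⟨c, hc⟩
    obtain ⟨g, rfl⟩ := ConjClasses.exists_rep c
    · obtain ⟨x, y, hx, hy, hxy, rfl⟩ := exists_rpart_mul hr hrS (hc g (ConjClasses.mem_carrier_iff_mk_eq.2 rfl))
      let cR : R := ⟨ConjClasses.mk x, fun z hz => by
        obtain ⟨a, rfl⟩ := isConj_iff.1 (ConjClasses.mk_eq_mk_iff_isConj.1 (ConjClasses.mem_carrier_iff_mk_eq.1 hz)).symm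
        have h1 : orderOf (a * x * a⁻¹) = orderOf x := MulEquiv.orderOf_eq (MulAut.conj a) x
        rw [h1]; exact hx⟩
      obtain ⟨a, ha⟩ := isConj_iff.1 (ConjClasses.mk_eq_mk_iff_isConj.1 (hout cR.1).symm)
      have hyC : a * y * a⁻¹ ∈ C cR := by
        refine Subgroup.mem_centralizer_singleton_iff.2 ?_
        rw [← ha]
        calc a * y * a⁻¹ * (a * x * a⁻¹) = a * (y * x) * a⁻¹ := by group
          _ = a * (x * y) * a⁻¹ := by rw [hxy.eq]
          _ = _ := by group
      let d : D cR := ⟨ConjClasses.mk ⟨_, hyC⟩, fun z hz => by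
        obtain ⟨b, rfl⟩ := isConj_iff.1 (ConjClasses.mk_eq_mk_iff_isConj.1 (ConjClasses.mem_carrier_iff_mk_eq.1 hz)).symm
        refine SElt.conj (fun q hq hqd => ?_) b
        rw [← Subgroup.orderOf_coe] at hqd
        exact hy.conj a q hq hqd⟩
      obtain ⟨b, hb⟩ := isConj_iff.1 (ConjClasses.mk_eq_mk_iff_isConj.1 (hout' cR d.1).symm)
      refine ⟨⟨cR, d⟩, Subtype.ext ?_⟩
      show ConjClasses.mk (cR.1.out * ((d.1.out : C cR) : G)) = ConjClasses.mk (x * y)
      refine (ConjClasses.mk_eq_mk_iff_isConj.2 (isConj_iff.2 ⟨(b : G) * a, ?_⟩)).symm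
      have hbc := Subgroup.mem_centralizer_singleton_iff.1 b.2
      rw [← hb]
      simp only [Subgroup.coe_mul, Subgroup.coe_inv, mul_inv_rev]
      have e : (b : G) * cR.1.out = cR.1.out * b := hbc
      calc (b : G) * a * (x * y) * (a⁻¹ * (b : G)⁻¹)
          = (b : G) * (a * x * a⁻¹) * (a * y * a⁻¹) * (b : G)⁻¹ := by group
        _ = (b : G) * cR.1.out * (a * y * a⁻¹) * (b : G)⁻¹ := by rw [ha]
        _ = _ := by rw [e]; group
  refine le_trans (Nat.card_le_card_of_surjective f hf) ?_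
  rw [Nat.card_sigma, Nat.card_eq_fintype_card]
  exact (Finset.sum_le_card_nsmul _ _ B fun c _ => hB (C c)).trans (by simp)

theorem pow_factorization_le_of_dvd {a b : ℕ} (hb : b ≠ 0) (h : a ∣ b) {r : ℕ} (hr : r.Prime) :
    r ^ a.factorization r ≤ r ^ b.factorization r :=
  Nat.pow_le_pow_right hr.pos ((Nat.factorization_le_iff_dvd (fun e => hb (by simpa [e] using h)) hb).2 h r)

/-- The number of classes of `S`-elements is at most the `S`-part of `|G|`. -/
theorem classes_le_piPart : ∀ (S : Finset ℕ), (∀ r ∈ S, r.Prime) →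
    ∀ (G : Type*) [Group G] [Finite G],
    Nat.card {c : ConjClasses G // ∀ x ∈ c.carrier, SElt S x} ≤
      S.prod (fun r => r ^ (Nat.card G).factorization r) := by
  intro S
  induction S using Finset.induction with
  | empty =>
    intro _ G _ _
    rw [Finset.prod_empty, Finite.card_le_one_iff_subsingleton]
    refine ⟨fun a b => Subtype.ext ?_⟩
    obtain ⟨a, ha⟩ := a
    obtain ⟨b, hb⟩ := b
    obtain ⟨x, rfl⟩ := ConjClasses.exists_rep a
    obtain ⟨y, rfl⟩ := ConjClasses.exists_rep b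
    show ConjClasses.mk x = ConjClasses.mk y
    rw [(ha x (ConjClasses.mem_carrier_iff_mk_eq.2 rfl)).of_empty,
      (hb y (ConjClasses.mem_carrier_iff_mk_eq.2 rfl)).of_empty]
  | @insert r S hrS ih =>
    intro hprime G _ _
    have hr : r.Prime := hprime r (Finset.mem_insert_self r S)
    haveI := Fact.mk hr
    have hS : ∀ q ∈ S, q.Prime := fun q hq => hprime q (Finset.mem_insert_of_mem hq)
    refine (classes_insert_le hr hrS (S.prod fun q => q ^ (Nat.card G).factorization q) fun H => ?_).trans ?_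
    · exact (ih hS H).trans (Finset.prod_le_prod (fun q _ => Nat.zero_le _) fun q hq =>
        pow_factorization_le_of_dvd Nat.card_pos.ne' (Subgroup.card_subgroup_dvd_card H) (hS q hq))
    · rw [Finset.prod_insert hrS]
      refine Nat.mul_le_mul_right _ ?_
      obtain ⟨P⟩ := (inferInstance : Nonempty (Sylow r G))
      rw [← Sylow.card_eq_multiplicity P]
      have h1 := two_mul_classes_le P
      have h2 := Subgroup.card_le_of_le (inf_le_left : (P : Subgroup G) ⊓
        Subgroup.centralizer (Subgroup.normalizer ((P : Subgroup G) : Set G) : Set G) ≤ P)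
      omega

end CfsgLib.Solv
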