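import Cfsg.Agent.Solv.SubnormalJoin
import Cfsg.Agent.Solv.Basic

/-!
A generalization of the zipper lemma: if the normal closure of a proper subgroup `A` is the whole group then either
the proper subgroups generated by their conjugates of `A` generate, or `A` lies in a unique maximal subgroup.
-/

set_option autoImplicit false
set_option linter.style.haveILetI false
set_option linter.deprecated false

open scoped Pointwise

namespace CfsgLib.Solv.Flavell

universe u

variable {G : Type u} [Group G]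

/-- `H` is the normal closure of `A` in `H`. -/
def Cl (A H : Subgroup G) : Prop := Subgroup.normalClosure ((A.subgroupOf H : Subgroup ↥H) : Set ↥H) = ⊤

/-- The family of proper such subgroups. -/
def Mem (A : Subgroup G) : Set (Subgroup G) := {H | A ≤ H ∧ H ≠ ⊤ ∧ Cl A H}

theorem cl_self (A : Subgroup G) : Cl A A := by
  rw [Cl, Subgroup.subgroupOf_self, Subgroup.coe_top]
  exact top_unique fun x _ => Subgroup.subset_normalClosure (Set.mem_univ x)

theorem cl_trans {A R H : Subgroup G} (hRH : R ≤ H) (h : Cl A R) (h' : Cl R H) : Cl A H := by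
  unfold Cl at *
  set N := Subgroup.normalClosure ((A.subgroupOf H : Subgroup ↥H) : Set ↥H)
  have h1 : Subgroup.normalClosure ((A.subgroupOf R : Subgroup ↥R) : Set ↥R) ≤ N.comap (Subgroup.inclusion hRH) :=
    Subgroup.normalClosure_le_normal fun x hx => Subgroup.subset_normalClosure hx
  rw [h] at h1
  refine top_unique (h'.ge.trans (Subgroup.normalClosure_le_normal ?_))
  intro x hx
  exact h1 (Subgroup.mem_top (⟨(x : G), hx⟩ : R))

theorem cl_sSup (A : Subgroup G) (hA : A ≠ ⊤) : Cl A (sSup (Mem A)) := by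
  have hAW : A ≤ sSup (Mem A) := le_sSup ⟨le_rfl, hA, cl_self A⟩
  set W := sSup (Mem A)
  unfold Cl
  set N := Subgroup.normalClosure ((A.subgroupOf W : Subgroup ↥W) : Set ↥W)
  have h : W ≤ N.map W.subtype := by
    refine sSup_le fun H hH => ?_
    have hle : H ≤ W := le_sSup hH
    have h1 : Subgroup.normalClosure ((A.subgroupOf H : Subgroup ↥H) : Set ↥H) ≤ N.comap (Subgroup.inclusion hle) :=
      Subgroup.normalClosure_le_normal fun x hx => Subgroup.subset_normalClosure hx
    rw [hH.2.2] at h1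
    exact fun x hx => ⟨_, h1 (Subgroup.mem_top ⟨x, hx⟩), rfl⟩
  refine top_unique fun x _ => ?_
  obtain ⟨y, hy, e⟩ := h x.2
  rwa [← Subtype.ext e]

theorem mem_conj {g : G} {A : Subgroup G} {x : G} : x ∈ MulAut.conj g • A ↔ g⁻¹ * x * g ∈ A := by
  simp [mem_conj_smul_iff]

theorem conj_le_conj {g : G} {A B : Subgroup G} : MulAut.conj g • A ≤ MulAut.conj g • B ↔ A ≤ B :=
  Subgroup.pointwise_smul_le_pointwise_smul_iff

theorem conj_inv_conj (g : G) (A : Subgroup G) : MulAut.conj g • MulAut.conj g⁻¹ • A = A := by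
  rw [map_inv, smul_inv_smul]

theorem conj_conj (g h : G) (A : Subgroup G) : MulAut.conj g • MulAut.conj h • A = MulAut.conj (g * h) • A := by
  rw [map_mul, mul_smul]

theorem conj_ne_top {g : G} {A : Subgroup G} (h : A ≠ ⊤) : MulAut.conj g • A ≠ ⊤ := fun e => h <| top_unique fun x _ => by
  have : g * x * g⁻¹ ∈ MulAut.conj g • A := e ▸ Subgroup.mem_top _
  rwa [mem_conj, show g⁻¹ * (g * x * g⁻¹) * g = x by group] at this

theorem cl_conj (g : G) {A H : Subgroup G} (h : Cl A H) : Cl (MulAut.conj g • A) (MulAut.conj g • H) := by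
  unfold Cl at *
  set N := Subgroup.normalClosure (((MulAut.conj g • A).subgroupOf (MulAut.conj g • H) :
    Subgroup ↥(MulAut.conj g • H)) : Set ↥(MulAut.conj g • H))
  let e : ↥H →* ↥(MulAut.conj g • H) :=
    MonoidHom.codRestrict ((MulAut.conj g).toMonoidHom.comp H.subtype) _ fun y => by
      show g * (y : G) * g⁻¹ ∈ _
      rw [mem_conj, show g⁻¹ * (g * (y : G) * g⁻¹) * g = y by group]
      exact y.2
  have h1 : Subgroup.normalClosure ((A.subgroupOf H : Subgroup ↥H) : Set ↥H) ≤ N.comap e :=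
    Subgroup.normalClosure_le_normal fun y hy => Subgroup.subset_normalClosure (by
      show g * (y : G) * g⁻¹ ∈ MulAut.conj g • A
      rw [mem_conj, show g⁻¹ * (g * (y : G) * g⁻¹) * g = y by group]
      exact hy)
  rw [h] at h1
  refine top_unique fun x _ => ?_
  have h2 := h1 (Subgroup.mem_top ⟨g⁻¹ * x * g, mem_conj.1 x.2⟩)
  have h3 : e ⟨g⁻¹ * x * g, mem_conj.1 x.2⟩ = x := Subtype.ext (show g * (g⁻¹ * (x : G) * g) * g⁻¹ = x by group)
  rwa [Subgroup.mem_comap, h3] at h2

theorem le_of_cl_subnormal {A H : Subgroup G} (hs : (A.subgroupOf H).IsSubnormal) (h : Cl A H) : H ≤ A := by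
  rcases hs.lt_normal with e | ⟨N, hN, hle, hlt⟩
  · exact Subgroup.subgroupOf_eq_top.1 e
  · haveI := hN
    have : (⊤ : Subgroup ↥H) ≤ N := h.ge.trans (Subgroup.normalClosure_le_normal hle)
    exact absurd (top_unique this) hlt.ne

theorem subnormal_mono {A H K : Subgroup G} (h : (A.subgroupOf K).IsSubnormal) (hHK : H ≤ K) :
    (A.subgroupOf H).IsSubnormal := by
  have e : A.subgroupOf H = (A.subgroupOf K).comap (Subgroup.inclusion hHK) := rfl
  rw [e]; exact h.comap _

theorem exists_core [Finite G] (A : Subgroup G) : ∀ (n : ℕ) (H : Subgroup G), Nat.card H = n → A ≤ H →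
    ∃ R, A ≤ R ∧ R ≤ H ∧ Cl A R ∧ (R.subgroupOf H).IsSubnormal := by
  intro n
  induction n using Nat.strong_induction_on with
  | _ n IH =>
    intro H hn hAH
    by_cases hc : Cl A H
    · refine ⟨H, hAH, le_rfl, hc, ?_⟩
      rw [Subgroup.subgroupOf_self]; exact Subgroup.IsSubnormal.top
    set N := Subgroup.normalClosure ((A.subgroupOf H : Subgroup ↥H) : Set ↥H) with hN
    set V := N.map H.subtype
    have hlt : Nat.card V < n := by
      rw [Subgroup.card_map_of_injective H.subtype_injective, ← hn]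
      exact lt_of_le_of_ne (Subgroup.card_le_card_group N) fun e => hc (Subgroup.eq_top_of_card_eq N e)
    obtain ⟨R, hAR, hRV, hcl, hsn⟩ := IH _ hlt V rfl fun x hx =>
      ⟨⟨x, hAH hx⟩, Subgroup.subset_normalClosure (show (⟨x, hAH hx⟩ : H) ∈ A.subgroupOf H from hx), rfl⟩
    refine ⟨R, hAR, hRV.trans (Subgroup.map_subtype_le N), hcl, ?_⟩
    let f : ↥N →* ↥V := MonoidHom.codRestrict (H.subtype.comp N.subtype) V fun y => ⟨y, y.2, rfl⟩
    have h1 : ((R.subgroupOf H).subgroupOf N).IsSubnormal := by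
      have e : (R.subgroupOf H).subgroupOf N = (R.subgroupOf V).comap f := rfl
      rw [e]; exact hsn.comap f
    refine Subgroup.IsSubnormal.trans ?_ h1 (Subgroup.normalClosure_normal).isSubnormal
    intro x hx
    obtain ⟨y, hy, e⟩ := hRV hx
    rwa [← Subtype.ext e]

/-- Some element outside `D` normalizes the largest subnormal subgroup of `Γ` inside `D`. -/
theorem exists_mover [Finite G] {Γ D : Subgroup G} (hD : D ≤ Γ) (hne : ¬ Γ ≤ D) :
    ∃ (K : Subgroup G) (v : G), K ≤ D ∧ v ∈ Γ ∧ v ∉ D ∧ MulAut.conj v • K = K ∧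
      ∀ X : Subgroup G, X ≤ D → (X.subgroupOf Γ).IsSubnormal → X ≤ K := by
  set S : Set (Subgroup ↥Γ) := {X | X ≤ D.subgroupOf Γ ∧ X.IsSubnormal}
  set K0 := sSup S with hK0
  have hK0D : K0 ≤ D.subgroupOf Γ := sSup_le fun X hX => hX.1
  have hK0s : K0.IsSubnormal := isSubnormal_sSup fun X hX => hX.2
  have htop : K0 ≠ ⊤ := fun e => hne fun x hx => by
    have : (⟨x, hx⟩ : Γ) ∈ D.subgroupOf Γ := hK0D (e ▸ Subgroup.mem_top _)
    exact this
  obtain ⟨T, hT, hlt, hTn⟩ : ∃ T : Subgroup ↥Γ, T.IsSubnormal ∧ K0 < T ∧ T ≤ Subgroup.normalizer (K0 : Set ↥Γ) := by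
    suffices h : ∀ X : Subgroup ↥Γ, X.IsSubnormal → X = K0 → ∃ T : Subgroup ↥Γ, T.IsSubnormal ∧ K0 < T ∧
        T ≤ Subgroup.normalizer (K0 : Set ↥Γ) from h K0 hK0s rfl
    intro X hX
    induction hX with
    | top => exact fun e => absurd e.symm htop
    | step H K hle hK hN IH =>
      intro e
      by_cases hHK : H = K
      · exact IH (hHK ▸ e)
      · refine ⟨K, hK, e ▸ lt_of_le_of_ne hle hHK, ?_⟩
        rw [← e]
        exact (Subgroup.normal_subgroupOf_iff_le_normalizer hle).1 hN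
  obtain ⟨v, hvT, hvD⟩ : ∃ v ∈ T, v ∉ D.subgroupOf Γ := by
    by_contra h
    push Not at h
    have hTS : T ∈ S := ⟨h, hT⟩
    exact absurd (le_sSup hTS) (not_le_of_gt hlt)
  refine ⟨K0.map Γ.subtype, (v : G), ?_, v.2, hvD, ?_, fun X hXD hXs x hx => ?_⟩
  · rintro _ ⟨y, hy, rfl⟩; exact hK0D hy
  · refine conj_smul_eq_self_of_mem_normalizer ?_
    exact Subgroup.le_normalizer_map Γ.subtype ⟨v, hTn hvT, rfl⟩
  · have hXS : X.subgroupOf Γ ∈ S := ⟨fun y hy => hXD hy, hXs⟩
    exact ⟨⟨x, hD (hXD hx)⟩, le_sSup hXS (show (⟨x, hD (hXD hx)⟩ : Γ) ∈ X.subgroupOf Γ from hx), rfl⟩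

/-- `g` normalizing the intersection of the normalizers of a set of subgroups it permutes. -/
theorem conj_inf_iInf_normalizer {g : G} {Q : Subgroup G} {S : Set (Subgroup G)} (hg : g ∈ Q)
    (hS : ∀ X ∈ S, MulAut.conj g⁻¹ • X ∈ S) {z : G} (hz : z ∈ Q ∧ ∀ X ∈ S, MulAut.conj z • X = X) :
    g * z * g⁻¹ ∈ Q ∧ ∀ X ∈ S, MulAut.conj (g * z * g⁻¹) • X = X := by
  refine ⟨mul_mem (mul_mem hg hz.1) (inv_mem hg), fun X hX => ?_⟩
  rw [← conj_conj, ← conj_conj, hz.2 _ (hS X hX), conj_inv_conj]

theorem main [Finite G] : ∀ (n : ℕ) (A : Subgroup G), Nat.card G - Nat.card A = n →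
    Subgroup.normalClosure (A : Set G) = ⊤ → A ≠ ⊤ →
    sSup (Mem A) = ⊤ ∨ ∃ M : Subgroup G, (IsCoatom M ∧ A ≤ M) ∧ ∀ K : Subgroup G, IsCoatom K ∧ A ≤ K → K = M := by
  intro n
  induction n using Nat.strong_induction_on with
  | _ n IH =>
    intro A hn hA hAtop
    classical
    by_cases hW : sSup (Mem A) = ⊤
    · exact Or.inl hW
    right
    have hnormal : ∀ N : Subgroup G, N.Normal → A ≤ N → N = ⊤ := fun N hN hle =>
      top_unique (hA.ge.trans (Subgroup.normalClosure_le_normal hle))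
    have IHX : ∀ X : Subgroup G, A < X → X ≠ ⊤ →
        sSup (Mem X) = ⊤ ∨ ∃ M : Subgroup G, (IsCoatom M ∧ X ≤ M) ∧ ∀ K : Subgroup G, IsCoatom K ∧ X ≤ K → K = M := by
      intro X hX hXt
      have hlt : Nat.card A < Nat.card X := by
        refine lt_of_le_of_ne (Subgroup.card_le_of_le hX.le) fun e => hX.ne ?_
        exact Subgroup.eq_of_le_of_card_ge hX.le e.ge
      refine IH _ ?_ X rfl (top_unique (hA.ge.trans (Subgroup.normalClosure_mono hX.le))) hXt
      have := Subgroup.card_le_card_group X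
      omega
    set W := sSup (Mem A) with hWdef
    have hAW : A ≤ W := le_sSup ⟨le_rfl, hAtop, cl_self A⟩
    have hNAW : Subgroup.normalizer (A : Set G) ≤ Subgroup.normalizer (W : Set G) := by
      have key : ∀ g ∈ Subgroup.normalizer (A : Set G), MulAut.conj g • W ≤ W := by
        intro g hg x hx
        rw [mem_conj] at hx
        have hle : W ≤ MulAut.conj g⁻¹ • W := by
          refine sSup_le fun H hH => ?_
          have hm : MulAut.conj g • H ∈ Mem A := by
            rw [← conj_smul_eq_self_of_mem_normalizer hg]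
            exact ⟨conj_le_conj.2 hH.1, conj_ne_top hH.2.1, by
              rw [conj_smul_eq_self_of_mem_normalizer hg]
              have := cl_conj g hH.2.2
              rwa [conj_smul_eq_self_of_mem_normalizer hg] at this⟩
          have := (conj_le_conj (g := g⁻¹)).2 (le_sSup hm)
          rwa [conj_conj, inv_mul_cancel, map_one, one_smul] at this
        have := hle hx
        rw [mem_conj, inv_inv] at this
        simpa [mul_assoc] using this
      intro g hg
      exact mem_normalizer_of_conj_smul_eq (le_antisymm (key g hg) (by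
        have := (conj_le_conj (g := g)).2 (key g⁻¹ (inv_mem hg))
        rwa [conj_inv_conj] at this))
    have hNW : Subgroup.normalizer (W : Set G) ≠ ⊤ := fun e =>
      hW (hnormal W (Subgroup.normalizer_eq_top_iff.1 e) hAW)
    obtain ⟨P, hP, hNP⟩ := (eq_top_or_exists_le_coatom _).resolve_left hNW
    have hWP : W ≤ P := Subgroup.le_normalizer.trans hNP
    have hAP : A ≤ P := hAW.trans hWP
    have hNAP : Subgroup.normalizer (A : Set G) ≤ P := hNAW.trans hNP
    have hPnn : ¬ P.Normal := fun h => hP.1 (hnormal P h hAP)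
    have hPself : ∀ g : G, MulAut.conj g • P = P → g ∈ P := by
      intro g hg
      by_contra hgP
      have hlt : P < Subgroup.normalizer (P : Set G) := lt_of_le_of_ne Subgroup.le_normalizer fun e =>
        hgP (e.symm ▸ mem_normalizer_of_conj_smul_eq hg)
      exact hPnn (Subgroup.normalizer_eq_top_iff.1 (hP.2 _ hlt))
    -- `A` is subnormal in the proper subgroups outside `P`
    have hsn : ∀ H : Subgroup G, A ≤ H → H ≠ ⊤ → ¬ H ≤ P → (A.subgroupOf H).IsSubnormal := by
      intro H hAH hH hHP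
      obtain ⟨R, hAR, hRH, hcl, hs⟩ := exists_core A _ H rfl hAH
      rcases eq_or_lt_of_le hAR with e | hlt
      · rwa [← e] at hs
      exfalso
      have hRt : R ≠ ⊤ := fun e => hH (top_unique (e ▸ hRH))
      rcases IHX R hlt hRt with h | ⟨P0, -, hu⟩
      · refine hW (top_unique (h.ge.trans (sSup_le fun H' hH' => le_sSup ?_)))
        exact ⟨hAR.trans hH'.1, hH'.2.1, cl_trans hH'.1 hcl hH'.2.2⟩
      · obtain ⟨K, hK, hHK⟩ := (eq_top_or_exists_le_coatom H).resolve_left hH
        have hRW : R ≤ W := le_sSup ⟨hAR, hRt, hcl⟩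
        have e1 := hu K ⟨hK, hRH.trans hHK⟩
        have e2 := hu P ⟨hP, hRW.trans hWP⟩
        exact hHP (e2.symm ▸ e1 ▸ hHK)
    have hsn' : ∀ (g : G) (H : Subgroup G), MulAut.conj g • A ≤ H → H ≠ ⊤ → ¬ H ≤ MulAut.conj g • P →
        ((MulAut.conj g • A).subgroupOf H).IsSubnormal := by
      intro g H hle hH hHP
      have h := isSubnormal_subgroupOf_conj g (hsn (MulAut.conj g⁻¹ • H) ?_ (conj_ne_top hH) ?_)
      · rwa [conj_inv_conj] at h
      · rw [← conj_le_conj (g := g), conj_inv_conj]; exact hle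
      · intro h
        exact hHP (by rw [← conj_inv_conj g H]; exact conj_le_conj.2 h)
    -- members outside `P` for larger subgroups in two maximal subgroups
    have hbig : ∀ X : Subgroup G, A < X → X ≠ ⊤ → ∀ M : Subgroup G, IsCoatom M → M ≠ P → X ≤ M → X ≤ P →
        ∃ H ∈ Mem X, ¬ H ≤ P := by
      intro X hX hXt M hM hMP hXM hXP
      rcases IHX X hX hXt with h | ⟨P0, -, hu⟩
      · by_contra hno
        push Not at hno
        exact hP.1 (top_unique (h.ge.trans (sSup_le hno)))
      · exact absurd ((hu M ⟨hM, hXM⟩).trans (hu P ⟨hP, hXP⟩).symm) hMP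
    -- conjugates by elements of `P`
    have hL1 : ∀ M : Subgroup G, IsCoatom M → M ≠ P → A ≤ M → ∀ d ∈ P, MulAut.conj d • A ≤ M →
        MulAut.conj d • A = A := by
      intro M hM hMP hAM d hd hdM
      by_contra hne
      have hdP : MulAut.conj d • A ≤ P := by
        rw [← conj_smul_eq_self_of_mem_normalizer (Subgroup.le_normalizer hd)]
        exact conj_le_conj.2 hAP
      have hlt : A < A ⊔ MulAut.conj d • A := lt_of_le_of_ne le_sup_left fun e =>
        hne (Subgroup.eq_of_le_of_card_ge (le_sup_right.trans e.ge) (card_conj_smul _ _).ge)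
      have hJP : A ⊔ MulAut.conj d • A ≤ P := sup_le hAP hdP
      obtain ⟨H, hHm, hHP⟩ := hbig _ hlt (fun e => hP.1 (top_unique (e ▸ hJP))) M hM hMP (sup_le hAM hdM) hJP
      have h1 := hsn H (le_sup_left.trans hHm.1) hHm.2.1 hHP
      have h2 := hsn' d H (le_sup_right.trans hHm.1) hHm.2.1 (by
        rwa [conj_smul_eq_self_of_mem_normalizer (Subgroup.le_normalizer hd)])
      have h3 : ((A ⊔ MulAut.conj d • A).subgroupOf H).IsSubnormal := by
        rw [Subgroup.subgroupOf_sup (le_sup_left.trans hHm.1) (le_sup_right.trans hHm.1)]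
        exact isSubnormal_sup h1 h2
      exact hHP ((le_of_cl_subnormal h3 hHm.2.2).trans hJP)
    have hL1' : ∀ (w : G) (M : Subgroup G), IsCoatom M → M ≠ MulAut.conj w • P → MulAut.conj w • A ≤ M →
        ∀ d ∈ MulAut.conj w • P, MulAut.conj d • MulAut.conj w • A ≤ M →
          MulAut.conj d • MulAut.conj w • A = MulAut.conj w • A := by
      intro w M hM hMP hAM d hd hdM
      rw [mem_conj] at hd
      have hM' : IsCoatom (MulAut.conj w⁻¹ • M) := by
        refine ⟨conj_ne_top hM.1, fun b hb => ?_⟩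
        have hb' : M < MulAut.conj w • b := by
          refine lt_of_le_of_ne ?_ fun e => hb.ne ?_
          · rw [← conj_inv_conj w M]; exact conj_le_conj.2 hb.le
          · rw [e, conj_conj, inv_mul_cancel, map_one, one_smul]
        by_contra hbt
        exact conj_ne_top hbt (hM.2 _ hb')
      have h := hL1 (MulAut.conj w⁻¹ • M) hM' (fun e => hMP (by rw [← e, conj_inv_conj]))
        (by rw [← conj_le_conj (g := w), conj_inv_conj]; exact hAM) (w⁻¹ * d * w) hd (by
          rw [← conj_le_conj (g := w), conj_inv_conj, conj_conj, show w * (w⁻¹ * d * w) = d * w by group, ← conj_conj]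
          exact hdM)
      have h' := congrArg (fun X => MulAut.conj w • X) h
      simp only [conj_conj] at h'
      rw [show w * (w⁻¹ * d * w) = d * w by group] at h'
      rw [conj_conj]; exact h'
    refine ⟨P, ⟨hP, hAP⟩, ?_⟩
    by_contra hex
    push Not at hex
    obtain ⟨M0, ⟨hM0, hAM0⟩, hM0P⟩ := hex
    obtain ⟨M, ⟨hM, hMP, hAM⟩, hmax⟩ : ∃ M : Subgroup G, (IsCoatom M ∧ M ≠ P ∧ A ≤ M) ∧
        ∀ M' : Subgroup G, IsCoatom M' → M' ≠ P → A ≤ M' → Nat.card ↥(M' ⊓ P) ≤ Nat.card ↥(M ⊓ P) := by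
      obtain ⟨M, hM, hmax⟩ := (Set.toFinite {M : Subgroup G | IsCoatom M ∧ M ≠ P ∧ A ≤ M}).toFinset.exists_max_image
        (fun M => Nat.card ↥(M ⊓ P)) ⟨M0, by simp [hM0, hM0P, hAM0]⟩
      rw [Set.Finite.mem_toFinset] at hM
      exact ⟨M, hM, fun M' h1 h2 h3 => hmax M' (by simp [h1, h2, h3])⟩
    set D := M ⊓ P with hDdef
    have hAD : A ≤ D := le_inf hAM hAP
    have hnotMP : ¬ M ≤ P := fun h => hMP (((hM.le_iff.1 h).resolve_left hP.1).symm)
    have hDN : D ≤ Subgroup.normalizer (A : Set G) := fun d hd => by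
      refine mem_normalizer_of_conj_smul_eq (hL1 M hM hMP hAM d hd.2 ?_)
      rw [← conj_smul_eq_self_of_mem_normalizer (Subgroup.le_normalizer hd.1)]
      exact conj_le_conj.2 hAM
    have hgrow : ∀ (L : Subgroup G) (v z : G), L ≠ ⊤ → D ≤ L → v ∈ L → v ∉ P → z ∈ L → z ∈ P → z ∉ D → False := by
      intro L v z hL hDL hvL hvP hzL hzP hzD
      obtain ⟨M', hM', hLM'⟩ := (eq_top_or_exists_le_coatom L).resolve_left hL
      have h1 := hmax M' hM' (fun e => hvP (e ▸ hLM' hvL)) ((hAD.trans hDL).trans hLM')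
      have hle : D ≤ M' ⊓ P := le_inf (hDL.trans hLM') inf_le_right
      exact hzD ((Subgroup.eq_of_le_of_card_ge hle h1).ge ⟨hLM' hzL, hzP⟩)
    set Y : Set (Subgroup G) := {X | (∃ w : G, X = MulAut.conj w • A) ∧ X ≤ D} with hY
    have hAY : A ∈ Y := ⟨⟨1, by rw [map_one, one_smul]⟩, hAD⟩
    have hYconj : ∀ (K : Subgroup G) (g : G), K ≤ D → MulAut.conj g • K = K → ∀ X ∈ Y, X ≤ K →
        MulAut.conj g • X ∈ Y ∧ MulAut.conj g • X ≤ K := by
      rintro K g hK hg X ⟨⟨w, rfl⟩, -⟩ hXK
      have h : MulAut.conj g • MulAut.conj w • A ≤ K := hg ▸ conj_le_conj.2 hXK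
      exact ⟨⟨⟨g * w, conj_conj _ _ _⟩, h.trans hK⟩, h⟩
    have hYD : ∀ d ∈ D, ∀ X ∈ Y, MulAut.conj d • X ∈ Y := fun d hd X hX =>
      (hYconj D d le_rfl (conj_smul_eq_self_of_mem_normalizer (Subgroup.le_normalizer hd)) X hX hX.2).1
    have hsnP : ∀ X ∈ Y, X ≠ A → (X.subgroupOf P).IsSubnormal := by
      rintro X ⟨⟨w, rfl⟩, hXD⟩ hne
      have hwP : w ∉ P := fun hw => hne (hL1 M hM hMP hAM w hw (hXD.trans inf_le_left))
      refine hsn' w P (hXD.trans inf_le_right) hP.1 fun h => hwP (hPself w ?_)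
      exact ((hP.le_iff.1 h).resolve_left (conj_ne_top hP.1))
    have hcase : ∀ X ∈ Y, (X.subgroupOf M).IsSubnormal ∨
        ∃ w : G, X = MulAut.conj w • A ∧ M = MulAut.conj w • P := by
      rintro X ⟨⟨w, rfl⟩, hXD⟩
      by_cases h : M ≤ MulAut.conj w • P
      · exact Or.inr ⟨w, rfl, ((hM.le_iff.1 h).resolve_left (conj_ne_top hP.1)).symm⟩
      · exact Or.inl (hsn' w M (hXD.trans inf_le_left) hM.1 h)
    have hDnorm : ∀ w : G, MulAut.conj w • A ≤ D → M = MulAut.conj w • P → ∀ d ∈ D,
        MulAut.conj d • MulAut.conj w • A = MulAut.conj w • A := by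
      intro w hwD hwM d hd
      refine hL1' w P hP (fun e => hMP (hwM.trans e.symm)) (hwD.trans inf_le_right) d (hwM ▸ hd.1) ?_
      rw [← conj_smul_eq_self_of_mem_normalizer (Subgroup.le_normalizer hd.2)]
      exact conj_le_conj.2 (hwD.trans inf_le_right)
    obtain ⟨K, u, hKD, huM, huD, huK, hKmax⟩ := exists_mover (Γ := M) (D := D) inf_le_left
      (fun h => hnotMP (h.trans inf_le_right))
    have huP : u ∉ P := fun h => huD ⟨huM, h⟩
    have hAK : A ≤ K := hKmax A hAD (hsn M hAM hM.1 hnotMP)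
    obtain ⟨hBY, -⟩ := hYconj K u hKD huK A hAY hAK
    have hBA : MulAut.conj u • A ≠ A := fun e => huP (hNAP (mem_normalizer_of_conj_smul_eq e))
    obtain ⟨K', z, hK'D, hzP, hzD, hzK, hK'max⟩ := exists_mover (Γ := P) (D := D) inf_le_right fun h =>
      hMP ((hP.le_iff.1 (h.trans inf_le_left)).resolve_left hM.1)
    have hNconj : ∀ (w g : G), MulAut.conj g • MulAut.conj w • A = MulAut.conj w • A → g ∈ MulAut.conj w • P := by
      intro w g h
      rw [mem_conj]
      refine hNAP (mem_normalizer_of_conj_smul_eq ?_)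
      rw [← conj_conj, ← conj_conj, h, conj_conj, inv_mul_cancel, map_one, one_smul]
    -- in the case without exceptional conjugate the normalizer of `A` is inside `M`
    have hPM : ∀ g ∈ P, (∀ X ∈ Y, X ≠ A → MulAut.conj g • X = X) → g ∈ M := by
      intro g hg hgX
      by_cases hC : ∃ w : G, MulAut.conj w • A ≤ D ∧ M = MulAut.conj w • P
      · obtain ⟨w, hwD, hwM⟩ := hC
        have hne : MulAut.conj w • A ≠ A := fun e => hMP (by
          rw [hwM, conj_smul_eq_self_of_mem_normalizer (Subgroup.le_normalizer (hNAP (mem_normalizer_of_conj_smul_eq e)))])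
        rw [hwM]
        exact hNconj w g (hgX _ ⟨⟨w, rfl⟩, hwD⟩ hne)
      push Not at hC
      have hallK : ∀ X ∈ Y, X ≤ K := by
        intro X hX
        rcases hcase X hX with h | ⟨w, rfl, hwM⟩
        · exact hKmax X hX.2 h
        · exact absurd hwM (hC w hX.2)
      have hNA : Subgroup.normalizer (A : Set G) ≤ D := by
        by_contra hnle
        obtain ⟨K'', y, hK''D, hyN, hyD, hyK, hK''max⟩ := exists_mover (Γ := Subgroup.normalizer (A : Set G)) hDN hnle
        have hallK'' : ∀ X ∈ Y, X ≤ K'' := by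
          intro X hX
          refine hK''max X hX.2 ?_
          by_cases hXA : X = A
          · rw [hXA]
            exact (Subgroup.normal_subgroupOf_iff_le_normalizer Subgroup.le_normalizer).2 le_rfl |>.isSubnormal
          · exact subnormal_mono (hsnP X hX hXA) hNAP
        set T := sSup Y with hT
        have hfix : ∀ v : G, (∀ X ∈ Y, MulAut.conj v • X ∈ Y) → v ∈ Subgroup.normalizer (T : Set G) := by
          intro v hv
          refine mem_normalizer_of_conj_smul_eq (Subgroup.eq_of_le_of_card_ge ?_ (card_conj_smul _ _).ge)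
          rw [← conj_le_conj (g := v⁻¹), conj_conj, inv_mul_cancel, map_one, one_smul]
          refine sSup_le fun X hX => ?_
          rw [← conj_le_conj (g := v), conj_inv_conj]
          exact le_sSup (hv X hX)
        have hTD : T ≤ D := sSup_le fun X hX => hX.2
        refine hgrow (Subgroup.normalizer (T : Set G)) u y ?_ (fun d hd => hfix d fun X hX => hYD d hd X hX)
          (hfix u fun X hX => (hYconj K u hKD huK X hX (hallK X hX)).1) huP
          (hfix y fun X hX => (hYconj K'' y hK''D hyK X hX (hallK'' X hX)).1) (hNAP hyN) hyD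
        intro e
        exact hP.1 (top_unique ((hnormal T (Subgroup.normalizer_eq_top_iff.1 e) (le_sSup hAY)).ge.trans
          (hTD.trans inf_le_right)))
      have h1 : u⁻¹ * g * u ∈ M := (hNA.trans inf_le_left) (mem_normalizer_of_conj_smul_eq (by
        rw [← conj_conj, ← conj_conj, hgX _ hBY hBA, conj_conj, inv_mul_cancel, map_one, one_smul]))
      have h2 := mul_mem (mul_mem huM h1) (inv_mem huM)
      rwa [show u * (u⁻¹ * g * u) * u⁻¹ = g by group] at h2
    let Z : Subgroup G :=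
      { carrier := {g | g ∈ D ∧ ∀ X ∈ Y, MulAut.conj g • X = X}
        one_mem' := ⟨one_mem D, fun X _ => by rw [map_one, one_smul]⟩
        mul_mem' := fun {a b} ha hb => ⟨mul_mem ha.1 hb.1, fun X hX => by rw [← conj_conj, hb.2 X hX, ha.2 X hX]⟩
        inv_mem' := fun {a} ha => ⟨inv_mem ha.1, fun X hX => by
          conv_lhs => rw [← ha.2 X hX, conj_conj, inv_mul_cancel, map_one, one_smul]⟩ }
    have hZu : ∀ g : G, g ∈ Z ↔ g ∈ M ∧ ∀ X ∈ {X | X ∈ Y ∧ X ≤ K}, MulAut.conj g • X = X := by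
      intro g
      constructor
      · exact fun h => ⟨h.1.1, fun X hX => h.2 X hX.1⟩
      · rintro ⟨hgM, hgX⟩
        have hgA := hgX A ⟨hAY, hAK⟩
        have hgD : g ∈ D := ⟨hgM, hNAP (mem_normalizer_of_conj_smul_eq hgA)⟩
        refine ⟨hgD, fun X hX => ?_⟩
        rcases hcase X hX with h | ⟨w, rfl, hwM⟩
        · exact hgX X ⟨hX, hKmax X hX.2 h⟩
        · exact hDnorm w hX.2 hwM g hgD
    have hZz : ∀ g : G, g ∈ Z ↔ g ∈ P ∧ ∀ X ∈ {X | X ∈ Y ∧ X ≤ K'}, MulAut.conj g • X = X := by
      intro g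
      constructor
      · exact fun h => ⟨h.1.2, fun X hX => h.2 X hX.1⟩
      · rintro ⟨hgP, hgX⟩
        have hrest : ∀ X ∈ Y, X ≠ A → MulAut.conj g • X = X := fun X hX hXA =>
          hgX X ⟨hX, hK'max X hX.2 (hsnP X hX hXA)⟩
        have hgD : g ∈ D := ⟨hPM g hgP hrest, hgP⟩
        refine ⟨hgD, fun X hX => ?_⟩
        by_cases hXA : X = A
        · rw [hXA]; exact conj_smul_eq_self_of_mem_normalizer (hDN hgD)
        · exact hrest X hX hXA
    have hnormZ : ∀ (v : G), (∀ g ∈ Z, v * g * v⁻¹ ∈ Z) → v ∈ Subgroup.normalizer (Z : Set G) := fun v hv =>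
      Subgroup.mem_normalizer_fintype hv
    have hperm : ∀ (L : Subgroup G) (v : G), L ≤ D → MulAut.conj v • L = L → ∀ X ∈ {X | X ∈ Y ∧ X ≤ L},
        MulAut.conj v⁻¹ • X ∈ {X | X ∈ Y ∧ X ≤ L} := fun L v hL hv X hX =>
      hYconj L v⁻¹ hL (by conv_lhs => rw [← hv, conj_conj, inv_mul_cancel, map_one, one_smul]) X hX.1 hX.2
    have hZn : Subgroup.normalizer (Z : Set G) = ⊤ := by
      by_contra hne
      refine hgrow (Subgroup.normalizer (Z : Set G)) u z hne (fun d hd => hnormZ d fun g hg =>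
        ⟨mul_mem (mul_mem hd hg.1) (inv_mem hd), fun X hX => ?_⟩)
        (hnormZ u fun g hg => (hZu _).2 (conj_inf_iInf_normalizer huM (hperm K u hKD huK) ((hZu g).1 hg))) huP
        (hnormZ z fun g hg => (hZz _).2 (conj_inf_iInf_normalizer hzP (hperm K' z hK'D hzK) ((hZz g).1 hg))) hzP hzD
      rw [← conj_conj, ← conj_conj, hg.2 _ (hYD d⁻¹ (inv_mem hd) X hX), conj_inv_conj]
    haveI hZnormal : Z.Normal := Subgroup.normalizer_eq_top_iff.1 hZn
    have hZD : Z ≤ D := fun g hg => hg.1
    have hZA : Z ≤ A := by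
      by_contra hne
      have hlt : A < A ⊔ Z := lt_of_le_of_ne le_sup_left fun e => hne (le_sup_right.trans e.ge)
      have hJD : A ⊔ Z ≤ D := sup_le hAD hZD
      obtain ⟨H, hHm, hHP⟩ := hbig _ hlt (fun e => hP.1 (top_unique (e ▸ hJD.trans inf_le_right))) M hM hMP
        (hJD.trans inf_le_left) (hJD.trans inf_le_right)
      have h3 : ((A ⊔ Z).subgroupOf H).IsSubnormal := by
        rw [Subgroup.subgroupOf_sup (le_sup_left.trans hHm.1) (le_sup_right.trans hHm.1)]
        exact isSubnormal_sup (hsn H (le_sup_left.trans hHm.1) hHm.2.1 hHP) (hZnormal.subgroupOf H).isSubnormal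
      exact hHP ((le_of_cl_subnormal h3 hHm.2.2).trans (hJD.trans inf_le_right))
    -- a larger normal subgroup of `D` normalizes all the conjugates in `D`
    set π := QuotientGroup.mk' (Z.subgroupOf D) with hπ
    have hπs : Function.Surjective π := QuotientGroup.mk'_surjective _
    haveI : Nontrivial (↥D ⧸ Z.subgroupOf D) := by
      rw [QuotientGroup.nontrivial_iff, ne_eq, Subgroup.subgroupOf_eq_top]
      intro h
      exact hAtop (hnormal A ((le_antisymm hZA (hAD.trans h)) ▸ hZnormal) le_rfl)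
    obtain ⟨L, hL⟩ := exists_isMinimalNormal (G := ↥D ⧸ Z.subgroupOf D)
    haveI := hL.1
    have hLZ : ∀ d : ↥D, π d ∈ L → (d : G) ∈ Z := by
      intro d hd
      refine ⟨d.2, fun X hX => ?_⟩
      have hXs : (X.subgroupOf D).IsSubnormal := by
        by_cases hXA : X = A
        · rw [hXA]
          exact ((Subgroup.normal_subgroupOf_iff_le_normalizer hAD).2 hDN).isSubnormal
        · exact subnormal_mono (hsnP X hX hXA) inf_le_right
      have hn' := minimalNormal_le_normalizer_subnormal (hXs.map hπs) hL hd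
      have hker : Z.subgroupOf D ≤ X.subgroupOf D := by
        obtain ⟨w, rfl⟩ := hX.1
        intro y hy
        show (y : G) ∈ MulAut.conj w • A
        rw [mem_conj]
        refine hZA ?_
        have := hZnormal.conj_mem _ (show (y : G) ∈ Z from hy) w⁻¹
        simpa [mul_assoc] using this
      have he : ((X.subgroupOf D).map π).comap π = X.subgroupOf D :=
        Subgroup.comap_map_eq_self (by rw [hπ, QuotientGroup.ker_mk']; exact hker)
      refine conj_smul_eq_self_of_mem_normalizer (Subgroup.mem_normalizer_fintype fun x hx => ?_)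
      have h1 := (Subgroup.mem_normalizer_iff.1 hn' (π ⟨x, hX.2 hx⟩)).1 ⟨_, hx, rfl⟩
      rw [← map_inv, ← map_mul, ← map_mul, ← Subgroup.mem_comap, he] at h1
      exact h1
    refine hL.2.1 ((Subgroup.eq_bot_iff_forall _).2 fun x hx => ?_)
    obtain ⟨d, rfl⟩ := hπs x
    exact (QuotientGroup.eq_one_iff d).2 (hLZ d hx)

end CfsgLib.Solv.Flavell
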