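import Mathlib
import Cfsg.Prelude.Def_KGroupFacts

/-!
The Schur multiplier of a finite group through the universal central extension of a free presentation.
-/

set_option autoImplicit false
set_option linter.style.haveILetI false
set_option linter.unusedSectionVars false

universe u v w

open scoped commutatorElement

namespace CfsgLib.Solv.Mult

/-! ### Generalities on abelian groups -/

/-- A homomorphism on a commutative subgroup with free image has a complement to its kernel. -/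
theorem exists_complement_free {ι : Type v} [Finite ι] {G : Type u} [Group G]
    (j : G →* Multiplicative (ι →₀ ℤ)) (N : Subgroup G) (hN : IsMulCommutative N) :
    ∃ L : Subgroup G, L ≤ N ∧ L ⊓ j.ker = ⊥ ∧ N ≤ L ⊔ (N ⊓ j.ker) := by
  classical
  open scoped IsMulCommutative in
  let f : Additive N →+ (ι →₀ ℤ) := (j.comp N.subtype).toAdditiveLeft
  let S : Submodule ℤ (ι →₀ ℤ) := LinearMap.range f.toIntLinearMap
  haveI : Module.Free ℤ S := Module.free_of_finite_type_torsion_free'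
  open scoped IsMulCommutative in
  obtain ⟨s, hs⟩ := Module.projective_lifting_property f.toIntLinearMap.rangeRestrict LinearMap.id
    f.toIntLinearMap.surjective_rangeRestrict
  let T : S → G := fun z => ((Additive.toMul (s z) : N) : G)
  have hjT : ∀ z : S, j (T z) = Multiplicative.ofAdd (z : ι →₀ ℤ) := fun z => by
    have h := congrArg Subtype.val (LinearMap.congr_fun hs z)
    exact congrArg Multiplicative.ofAdd h
  have hTadd : ∀ z w : S, T (z + w) = T z * T w := fun z w => by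
    show ((Additive.toMul (s (z + w)) : N) : G) = _
    rw [map_add]
    rfl
  have hT0 : T 0 = 1 := by
    have h := hTadd 0 0
    rw [add_zero] at h
    exact left_eq_mul.1 h
  let L : Subgroup G :=
    { carrier := Set.range T
      one_mem' := ⟨0, hT0⟩
      mul_mem' := by
        rintro _ _ ⟨z, rfl⟩ ⟨w, rfl⟩
        exact ⟨z + w, hTadd z w⟩
      inv_mem' := by
        rintro _ ⟨z, rfl⟩
        refine ⟨-z, eq_inv_of_mul_eq_one_left ?_⟩
        rw [← hTadd, neg_add_cancel, hT0] }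
  refine ⟨L, ?_, ?_, ?_⟩
  · rintro _ ⟨z, rfl⟩; exact (Additive.toMul (s z) : N).2
  · rw [eq_bot_iff]
    rintro _ ⟨⟨z, rfl⟩, hz⟩
    have h : (z : ι →₀ ℤ) = 0 := congrArg Multiplicative.toAdd ((hjT z).symm.trans hz)
    rw [Submodule.coe_eq_zero] at h
    rw [Subgroup.mem_bot, h, hT0]
  · intro n hn
    let z : S := ⟨f (Additive.ofMul ⟨n, hn⟩), ⟨Additive.ofMul ⟨n, hn⟩, rfl⟩⟩
    have h1 : (T z)⁻¹ * n ∈ N ⊓ j.ker := by
      refine Subgroup.mem_inf.2 ⟨N.mul_mem (N.inv_mem (Additive.toMul (s z) : N).2) hn, ?_⟩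
      show j ((T z)⁻¹ * n) = 1
      rw [map_mul, map_inv, hjT, inv_mul_eq_one]
      rfl
    have h2 := Subgroup.mul_mem_sup (show T z ∈ L from ⟨z, rfl⟩) h1
    rwa [mul_inv_cancel_left] at h2

/-- `ℂˣ` is divisible. -/
theorem exists_units_pow_eq (x : ℂˣ) {n : ℕ} (hn : 0 < n) : ∃ y : ℂˣ, y ^ n = x := by
  obtain ⟨y, hy⟩ := IsAlgClosed.exists_pow_nat_eq (x : ℂ) hn
  have hy0 : y ≠ 0 := fun h => x.ne_zero (by rw [← hy, h, zero_pow hn.ne'])
  exact ⟨Units.mk0 y hy0, Units.ext (by simpa using hy)⟩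

/-- Characters with values in `ℂˣ` extend from subgroups of commutative groups. -/
theorem exists_extend_char {A : Type u} [CommGroup A] (B : Subgroup A) (χ : B →* ℂˣ) :
    ∃ ψ : A →* ℂˣ, ∀ b : B, ψ (b : A) = χ b := by
  classical
  letI : DivisibleBy (Additive ℂˣ) ℤ :=
    divisibleByOfSMulRightSurj (Additive ℂˣ) ℤ fun {n} hn x => by
      obtain ⟨y, hy⟩ := exists_units_pow_eq (Additive.toMul x) (Int.natAbs_pos.2 hn)
      rcases Int.natAbs_eq n with h | h
      · refine ⟨Additive.ofMul y, ?_⟩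
        show n • Additive.ofMul y = x
        rw [h, natCast_zsmul, ← ofMul_pow, hy]; rfl
      · refine ⟨-Additive.ofMul y, ?_⟩
        show n • -Additive.ofMul y = x
        rw [h, neg_zsmul, zsmul_neg, neg_neg, natCast_zsmul, ← ofMul_pow, hy]; rfl
  obtain ⟨ψ, hψ⟩ := (Module.Baer.of_divisible (Additive ℂˣ)).extension_property_addMonoidHom
    (MonoidHom.toAdditive B.subtype) B.subtype_injective (MonoidHom.toAdditive χ)
  exact ⟨MonoidHom.toAdditive.symm ψ, fun b => congrArg Additive.toMul (DFunLike.congr_fun hψ (Additive.ofMul b))⟩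

/-- Mutual surjections between finite groups are isomorphisms. -/
theorem nonempty_mulEquiv_of_surjective {A : Type v} {B : Type w} [Group A] [Group B] [Finite B]
    (f : A →* B) (g : B →* A) (hf : Function.Surjective f) (hg : Function.Surjective g) :
    Nonempty (A ≃* B) := by
  haveI : Finite A := Finite.of_surjective g hg
  have h1 := Nat.card_le_card_of_surjective g hg
  exact ⟨MulEquiv.ofBijective f (hf.bijective_of_nat_card_le h1)⟩

/-! ### The universal central extension over `Q` -/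

variable (Q : Type u) [Group Q]

/-- The presentation by all elements. -/
def proj : FreeGroup Q →* Q := FreeGroup.lift id

theorem proj_surjective : Function.Surjective (proj Q) := fun q => ⟨FreeGroup.of q, by simp [proj]⟩

/-- The relators made central. -/
def relSub : Subgroup (FreeGroup Q) := ⁅(⊤ : Subgroup (FreeGroup Q)), (proj Q).ker⁆

instance relSub_normal : (relSub Q).Normal := Subgroup.commutator_normal _ _

theorem relSub_le : relSub Q ≤ (proj Q).ker := Subgroup.commutator_le_right _ _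

/-- The universal central extension `F/[F,R]`. -/
abbrev E : Type u := FreeGroup Q ⧸ relSub Q

/-- Its projection. -/
def eproj : E Q →* Q := QuotientGroup.lift (relSub Q) (proj Q) (relSub_le Q)

theorem eproj_mk (x : FreeGroup Q) : eproj Q (QuotientGroup.mk x) = proj Q x := rfl

theorem eproj_surjective : Function.Surjective (eproj Q) := fun q => by
  obtain ⟨x, hx⟩ := proj_surjective Q q
  exact ⟨QuotientGroup.mk x, hx⟩

theorem ker_le_center : (eproj Q).ker ≤ Subgroup.center (E Q) := by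
  intro k hk
  obtain ⟨r, rfl⟩ := QuotientGroup.mk'_surjective (relSub Q) k
  rw [Subgroup.mem_center_iff]
  intro g
  obtain ⟨x, rfl⟩ := QuotientGroup.mk'_surjective (relSub Q) g
  rw [← commutatorElement_eq_one_iff_mul_comm, ← map_commutatorElement]
  exact (QuotientGroup.eq_one_iff _).2 (Subgroup.commutator_mem_commutator (Subgroup.mem_top x) hk)

theorem ker_comm : IsMulCommutative (eproj Q).ker :=
  ⟨⟨fun a b => Subtype.ext (Subgroup.mem_center_iff.1 (ker_le_center Q b.2) a)⟩⟩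

/-- The multiplier `R ∩ F' / [F,R]`. -/
def M : Subgroup (E Q) := (eproj Q).ker ⊓ commutator (E Q)

theorem M_le_ker : M Q ≤ (eproj Q).ker := inf_le_left

theorem M_le_commutator : M Q ≤ commutator (E Q) := inf_le_right

theorem M_le_center : M Q ≤ Subgroup.center (E Q) := (M_le_ker Q).trans (ker_le_center Q)

instance M_commGroup : CommGroup (M Q) :=
  { (inferInstance : Group (M Q)) with
    mul_comm := fun a b => Subtype.ext (Subgroup.mem_center_iff.1 (M_le_center Q b.2) a) }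

variable {Q}

/-- The universal property: central extensions receive `E Q`. -/
theorem exists_lift {Γ : Type v} {P : Type w} [Group Γ] [Group P] (σ : Γ →* P)
    (hσ : Function.Surjective σ) (hc : σ.ker ≤ Subgroup.center Γ) (γ : Q →* P) :
    ∃ φ : E Q →* Γ, σ.comp φ = γ.comp (eproj Q) := by
  choose s hs using fun q => hσ (γ q)
  let ψ : FreeGroup Q →* Γ := FreeGroup.lift s
  have hψ : σ.comp ψ = γ.comp (proj Q) := FreeGroup.ext_hom _ _ fun q => by simp [ψ, proj, hs]
  have hker : relSub Q ≤ ψ.ker := by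
    refine Subgroup.commutator_le.2 fun x _ r hr => ?_
    rw [MonoidHom.mem_ker, map_commutatorElement, commutatorElement_eq_one_iff_mul_comm]
    refine Subgroup.mem_center_iff.1 (hc ?_) _
    have h := DFunLike.congr_fun hψ r
    simp only [MonoidHom.comp_apply] at h
    rw [MonoidHom.mem_ker, h, show proj Q r = 1 from hr, map_one]
  refine ⟨QuotientGroup.lift (relSub Q) ψ hker, MonoidHom.ext fun e => ?_⟩
  obtain ⟨x, rfl⟩ := QuotientGroup.mk'_surjective (relSub Q) e
  exact DFunLike.congr_fun hψ x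

/-- Two lifts differ by a character. -/
theorem lift_div {Γ : Type v} {P : Type w} [Group Γ] [Group P] {σ : Γ →* P}
    (hc : σ.ker ≤ Subgroup.center Γ) {H : Type*} [Group H] {φ ψ : H →* Γ} (h : σ.comp φ = σ.comp ψ) :
    ∃ χ : H →* Γ, (∀ e, χ e ∈ σ.ker) ∧ (∀ e, φ e = χ e * ψ e) ∧ ∀ e ∈ commutator H, φ e = ψ e := by
  have hmem : ∀ e, φ e * (ψ e)⁻¹ ∈ σ.ker := fun e => by
    have := DFunLike.congr_fun h e
    simp only [MonoidHom.comp_apply] at this
    rw [MonoidHom.mem_ker, map_mul, map_inv, this, mul_inv_cancel]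
  let χ : H →* Γ :=
    { toFun := fun e => φ e * (ψ e)⁻¹
      map_one' := by simp
      map_mul' := fun a b => by
        simp only [map_mul, mul_inv_rev]
        have hb := Subgroup.mem_center_iff.1 (hc (hmem b)) (ψ a)⁻¹
        calc φ a * φ b * ((ψ b)⁻¹ * (ψ a)⁻¹) = φ a * (φ b * (ψ b)⁻¹ * (ψ a)⁻¹) := by group
          _ = φ a * ((ψ a)⁻¹ * (φ b * (ψ b)⁻¹)) := by rw [hb]
          _ = _ := by group }
  refine ⟨χ, hmem, fun e => by simp [χ], fun e he => ?_⟩
  have hle : commutator H ≤ χ.ker := by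
    rw [commutator_def, Subgroup.commutator_le]
    intro a _ b _
    rw [MonoidHom.mem_ker, map_commutatorElement, commutatorElement_eq_one_iff_mul_comm]
    exact Subgroup.mem_center_iff.1 (hc (hmem b)) (χ a)
  exact mul_inv_eq_one.1 (hle he)

theorem map_commutator_le {G H : Type*} [Group G] [Group H] (f : G →* H) :
    (commutator G).map f ≤ commutator H := by
  rw [commutator_def, commutator_def, Subgroup.map_commutator]
  exact Subgroup.commutator_mono le_top le_top

/-- A homomorphism onto a quotient of a stem extension is onto, and `M` covers the kernel. -/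
theorem surjective_of_stem {Γ : Type v} {P : Type w} [Group Γ] [Group P] {σ : Γ →* P}
    (hσ : Cfsg.IsStemExtension σ) {H : Type*} [Group H] (φ : H →* Γ)
    (h : Function.Surjective (σ.comp φ)) :
    Function.Surjective φ ∧ ∀ k ∈ σ.ker, ∃ m ∈ (σ.comp φ).ker ⊓ commutator H, φ m = k := by
  have hdec : ∀ g, ∃ e, φ e⁻¹ * g ∈ σ.ker := fun g => by
    obtain ⟨e, he⟩ := h (σ g)
    refine ⟨e, ?_⟩
    have he' : σ (φ e) = σ g := he
    rw [MonoidHom.mem_ker, map_mul, map_inv, map_inv, he', inv_mul_cancel]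
  have hcom : commutator Γ ≤ (commutator H).map φ := by
    rw [commutator_def, Subgroup.commutator_le]
    intro a _ b _
    obtain ⟨x, hx⟩ := hdec a
    obtain ⟨y, hy⟩ := hdec b
    rw [map_inv] at hx hy
    refine ⟨⁅x, y⁆, ?_, ?_⟩
    · rw [commutator_def]; exact Subgroup.commutator_mem_commutator (Subgroup.mem_top _) (Subgroup.mem_top _)
    · rw [map_commutatorElement]
      obtain ⟨ca, hca, rfl⟩ : ∃ c ∈ Subgroup.center Γ, a = φ x * c := ⟨_, hσ.2.1 hx, by group⟩
      obtain ⟨cb, hcb, rfl⟩ : ∃ c ∈ Subgroup.center Γ, b = φ y * c := ⟨_, hσ.2.1 hy, by group⟩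
      simp only [commutatorElement_def]
      have h1 := Subgroup.mem_center_iff.1 hca
      have h2 := Subgroup.mem_center_iff.1 hcb
      symm
      calc φ x * ca * (φ y * cb) * (φ x * ca)⁻¹ * (φ y * cb)⁻¹
          = φ x * (ca * (φ y * cb)) * (ca⁻¹ * (φ x)⁻¹) * (cb⁻¹ * (φ y)⁻¹) := by group
        _ = φ x * ((φ y * cb) * ca) * (ca⁻¹ * (φ x)⁻¹) * (cb⁻¹ * (φ y)⁻¹) := by rw [h1 (φ y * cb)]
        _ = φ x * φ y * (cb * (φ x)⁻¹) * (cb⁻¹ * (φ y)⁻¹) := by group
        _ = φ x * φ y * ((φ x)⁻¹ * cb) * (cb⁻¹ * (φ y)⁻¹) := by rw [h2 (φ x)⁻¹]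
        _ = _ := by group
  refine ⟨fun g => ?_, fun k hk => ?_⟩
  · obtain ⟨e, he⟩ := hdec g
    obtain ⟨e', -, he'⟩ := hcom (hσ.2.2 he)
    exact ⟨e * e', by rw [map_mul, he', map_inv, mul_inv_cancel_left]⟩
  · obtain ⟨e, he, rfl⟩ := hcom (hσ.2.2 hk)
    exact ⟨e, ⟨hk, he⟩, rfl⟩

variable [Finite Q]

instance index_center_finite : (Subgroup.center (E Q)).FiniteIndex := by
  haveI : (eproj Q).ker.FiniteIndex := ⟨by
    rw [Subgroup.index_ker]; exact Nat.card_pos.ne'⟩
  exact Subgroup.finiteIndex_of_le (ker_le_center Q)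

instance finite_commutatorSet : Finite (commutatorSet (E Q)) := by
  classical
  let T := E Q ⧸ Subgroup.center (E Q)
  haveI : Finite T := Subgroup.finite_quotient_of_finiteIndex
  let r : T → E Q := Quotient.out
  have hsub : commutatorSet (E Q) ⊆ Set.range (fun p : T × T => ⁅r p.1, r p.2⁆) := by
    rintro _ ⟨a, b, rfl⟩
    refine ⟨((a : T), (b : T)), ?_⟩
    obtain ⟨⟨ca, hca⟩, ha⟩ := QuotientGroup.mk_out_eq_mul (Subgroup.center (E Q)) a
    obtain ⟨⟨cb, hcb⟩, hb⟩ := QuotientGroup.mk_out_eq_mul (Subgroup.center (E Q)) b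
    show ⁅r (a : T), r (b : T)⁆ = _
    simp only [r, ha, hb, commutatorElement_def]
    have h1 := Subgroup.mem_center_iff.1 hca
    have h2 := Subgroup.mem_center_iff.1 hcb
    calc a * ca * (b * cb) * (a * ca)⁻¹ * (b * cb)⁻¹
        = a * (ca * (b * cb)) * (ca⁻¹ * a⁻¹) * (cb⁻¹ * b⁻¹) := by group
      _ = a * ((b * cb) * ca) * (ca⁻¹ * a⁻¹) * (cb⁻¹ * b⁻¹) := by rw [h1 (b * cb)]
      _ = a * b * (cb * a⁻¹) * (cb⁻¹ * b⁻¹) := by group
      _ = a * b * (a⁻¹ * cb) * (cb⁻¹ * b⁻¹) := by rw [h2 a⁻¹]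
      _ = _ := by group
  exact ((Set.finite_range _).subset hsub).to_subtype

instance finite_M : Finite (M Q) :=
  Finite.of_injective _ (Subgroup.inclusion_injective (M_le_commutator Q))

/-- The exponent-sum map. -/
noncomputable def expSum (Q : Type u) [Group Q] : E Q →* Multiplicative (Q →₀ ℤ) :=
  QuotientGroup.lift (relSub Q) (FreeGroup.lift fun q => Multiplicative.ofAdd (Finsupp.single q (1 : ℤ)))
    (Subgroup.commutator_le.2 fun x _ r _ => by
      rw [MonoidHom.mem_ker, map_commutatorElement, commutatorElement_eq_one_iff_mul_comm, mul_comm])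

theorem expSum_ker : (expSum Q).ker = commutator (E Q) := by
  refine le_antisymm (fun e he => ?_) ?_
  · let b : (Q →₀ ℤ) →+ Additive (Abelianization (E Q)) := Finsupp.liftAddHom fun q =>
      zmultiplesHom _ (Additive.ofMul (Abelianization.of (QuotientGroup.mk (FreeGroup.of q) : E Q)))
    have hb : (AddMonoidHom.toMultiplicativeLeft b).comp (expSum Q) = Abelianization.of := by
      refine QuotientGroup.monoidHom_ext _ (FreeGroup.ext_hom _ _ fun q => ?_)
      show Additive.toMul (b (Multiplicative.toAdd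
        (FreeGroup.lift (fun q => Multiplicative.ofAdd (Finsupp.single q (1 : ℤ))) (FreeGroup.of q)))) = _
      simp [b]
    rw [← Abelianization.ker_of, MonoidHom.mem_ker, ← hb, MonoidHom.comp_apply, he, map_one]
  · rw [commutator_def, Subgroup.commutator_le]
    intro x _ y _
    rw [MonoidHom.mem_ker, map_commutatorElement, commutatorElement_eq_one_iff_mul_comm, mul_comm]

/-- Complements of `M` inside a prescribed supplement. -/
theorem exists_complement (N : Subgroup (E Q)) (hN : N ≤ (eproj Q).ker) (hsup : (eproj Q).ker ≤ N ⊔ M Q) :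
    ∃ L : Subgroup (E Q), L ≤ N ∧ L ⊓ M Q = ⊥ ∧ (eproj Q).ker ≤ L ⊔ M Q := by
  obtain ⟨L, hLN, hL, hle⟩ := exists_complement_free (expSum Q) N
    ⟨⟨fun a b => Subtype.ext (Subgroup.mem_center_iff.1 (ker_le_center Q (hN b.2)) a)⟩⟩
  refine ⟨L, hLN, ?_, hsup.trans (sup_le (hle.trans (sup_le_sup_left ?_ L)) le_sup_right)⟩
  · rw [eq_bot_iff, ← hL, expSum_ker]
    exact inf_le_inf_left L (M_le_commutator Q)
  · rw [expSum_ker]
    exact inf_le_inf_right _ hN

/-- The extension attached to a complement of `M`. -/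
theorem cover_of_complement (L : Subgroup (E Q)) [L.Normal] (hL : L ≤ (eproj Q).ker) (hLM : L ⊓ M Q = ⊥)
    (hsup : (eproj Q).ker ≤ L ⊔ M Q) :
    Cfsg.IsStemExtension (QuotientGroup.lift L (eproj Q) hL) ∧ Finite (E Q ⧸ L) ∧
      ∃ e : M Q ≃* (QuotientGroup.lift L (eproj Q) hL).ker,
        ∀ m : M Q, ((e m : _) : E Q ⧸ L) = QuotientGroup.mk (m : E Q) := by
  set σ := QuotientGroup.lift L (eproj Q) hL with hσ
  have hkm : ∀ k ∈ σ.ker, ∃ m ∈ M Q, (QuotientGroup.mk m : E Q ⧸ L) = k := by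
    intro k hk
    obtain ⟨x, rfl⟩ := QuotientGroup.mk'_surjective L k
    obtain ⟨l, hl, m, hm, rfl⟩ := (Subgroup.mem_sup_of_normal_left).1 (hsup (show x ∈ (eproj Q).ker from hk))
    refine ⟨m, hm, QuotientGroup.eq.2 ?_⟩
    rw [← mul_assoc]
    simpa using Subgroup.Normal.conj_mem ‹L.Normal› l hl m⁻¹
  let f : M Q →* σ.ker :=
    ((QuotientGroup.mk' L).comp (M Q).subtype).codRestrict σ.ker fun m => M_le_ker Q m.2
  have hf : Function.Bijective f := by
    refine ⟨?_, fun k => ?_⟩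
    · rw [← MonoidHom.ker_eq_bot_iff, eq_bot_iff]
      intro m hm
      have h1 : (m : E Q) ∈ L ⊓ M Q := ⟨(QuotientGroup.eq_one_iff _).1 (congrArg Subtype.val hm), m.2⟩
      rw [hLM, Subgroup.mem_bot] at h1
      exact Subgroup.mem_bot.2 (Subtype.ext h1)
    · obtain ⟨m, hm, e⟩ := hkm k k.2
      exact ⟨⟨m, hm⟩, Subtype.ext e⟩
  refine ⟨⟨fun q => ?_, fun k hk => ?_, fun k hk => ?_⟩, ?_, MulEquiv.ofBijective f hf, fun m => rfl⟩
  · obtain ⟨e, he⟩ := eproj_surjective Q q
    exact ⟨QuotientGroup.mk e, he⟩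
  · obtain ⟨m, hm, rfl⟩ := hkm k hk
    rw [Subgroup.mem_center_iff]
    intro g
    obtain ⟨x, rfl⟩ := QuotientGroup.mk'_surjective L g
    exact congrArg (QuotientGroup.mk' L) (Subgroup.mem_center_iff.1 (M_le_center Q hm) x)
  · obtain ⟨m, hm, rfl⟩ := hkm k hk
    exact map_commutator_le (QuotientGroup.mk' L) ⟨m, M_le_commutator Q hm, rfl⟩
  · haveI : Finite σ.ker := Finite.of_equiv _ (MulEquiv.ofBijective f hf).toEquiv
    haveI : Finite ((E Q ⧸ L) ⧸ σ.ker) := Finite.of_equiv _ (QuotientGroup.quotientKerEquivRange σ).symm.toEquiv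
    exact Finite.of_subgroup_quotient σ.ker

theorem normal_of_le_ker {L : Subgroup (E Q)} (hL : L ≤ (eproj Q).ker) : L.Normal :=
  ⟨fun n hn g => by rwa [Subgroup.mem_center_iff.1 (ker_le_center Q (hL hn)) g, mul_inv_cancel_right]⟩

/-- Some finite stem extension has kernel `M`. -/
theorem exists_cover (Q : Type u) [Group Q] [Finite Q] :
    ∃ (Γ : Type u) (_ : Group Γ) (_ : Finite Γ) (σ : Γ →* Q),
      Cfsg.IsStemExtension σ ∧ Nonempty (σ.ker ≃* M Q) := by
  obtain ⟨L, hL, hLM, hsup⟩ := exists_complement (eproj Q).ker le_rfl le_sup_left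
  haveI := normal_of_le_ker hL
  obtain ⟨h1, h2, e, -⟩ := cover_of_complement L hL hLM hsup
  exact ⟨_, inferInstance, h2, _, h1, ⟨e.symm⟩⟩

/-- `M` maps onto the kernel of every stem extension. -/
theorem exists_surjective {Γ : Type v} [Group Γ] (σ : Γ →* Q) (hσ : Cfsg.IsStemExtension σ) :
    ∃ φ : E Q →* Γ, σ.comp φ = eproj Q ∧ Function.Surjective φ ∧
      ∃ π : M Q →* σ.ker, Function.Surjective π ∧ ∀ m : M Q, (π m : Γ) = φ (m : E Q) := by
  obtain ⟨φ, hφ⟩ := exists_lift σ hσ.1 hσ.2.1 (MonoidHom.id Q)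
  rw [MonoidHom.id_comp] at hφ
  obtain ⟨h1, h2⟩ := surjective_of_stem hσ φ (hφ ▸ eproj_surjective Q)
  refine ⟨φ, hφ, h1, (φ.comp (M Q).subtype).codRestrict σ.ker fun m => ?_, fun k => ?_, fun m => rfl⟩
  · have := DFunLike.congr_fun hφ (m : E Q)
    exact this.trans (M_le_ker Q m.2)
  · obtain ⟨m, hm, e⟩ := h2 k k.2
    rw [hφ] at hm
    exact ⟨⟨m, hm⟩, Subtype.ext e⟩

/-- `M` is the Schur multiplier. -/
theorem hasSchurMultiplier (Q : Type u) [Group Q] [Finite Q] : Cfsg.HasSchurMultiplier Q (M Q) := by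
  refine ⟨exists_cover Q, ?_⟩
  intro Γ _ _ σ hσ
  obtain ⟨φ, -, -, π, hπ, -⟩ := exists_surjective σ hσ
  exact ⟨π, hπ⟩

/-- Any multiplier is `M`. -/
theorem equiv_M {A : Type v} [CommGroup A] (hA : Cfsg.HasSchurMultiplier Q A) : Nonempty (A ≃* M Q) := by
  obtain ⟨⟨Γ, _, _, σ, hσ, ⟨e⟩⟩, hall⟩ := hA
  obtain ⟨Γ', _, _, τ, hτ, ⟨e'⟩⟩ := exists_cover Q
  obtain ⟨φ, -, -, π, hπ, -⟩ := exists_surjective σ hσ
  obtain ⟨π', hπ'⟩ := hall Γ' τ hτ
  exact nonempty_mulEquiv_of_surjective (e'.toMonoidHom.comp π') (e.toMonoidHom.comp π)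
    (e'.surjective.comp hπ') (e.surjective.comp hπ)

theorem finite_of_hasSchurMultiplier {A : Type v} [CommGroup A] (hA : Cfsg.HasSchurMultiplier Q A) : Finite A :=
  (equiv_M hA).elim fun e => Finite.of_equiv _ e.symm.toEquiv

theorem hasSchurMultiplier_of_equiv {A : Type v} [CommGroup A] (e : A ≃* M Q) : Cfsg.HasSchurMultiplier Q A := by
  obtain ⟨⟨Γ, i1, i2, σ, hσ, ⟨e'⟩⟩, hall⟩ := hasSchurMultiplier Q
  refine ⟨⟨Γ, i1, i2, σ, hσ, ⟨e'.trans e.symm⟩⟩, ?_⟩
  intro Δ _ _ τ hτ
  obtain ⟨π, hπ⟩ := hall Δ τ hτ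
  exact ⟨π.comp e.toMonoidHom, hπ.comp e.surjective⟩

theorem hasSchurMultiplier_iff {A : Type v} [CommGroup A] :
    Cfsg.HasSchurMultiplier Q A ↔ Nonempty (A ≃* M Q) :=
  ⟨equiv_M, fun ⟨e⟩ => hasSchurMultiplier_of_equiv e⟩

/-- Trivial multiplier. -/
theorem hasCyclic_one_iff : Cfsg.HasCyclicSchurMultiplier Q 1 ↔ M Q = ⊥ := by
  constructor
  · intro h
    obtain ⟨e⟩ := equiv_M h
    haveI : Subsingleton (M Q) := e.symm.injective.subsingleton
    exact Subgroup.eq_bot_of_subsingleton _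
  · intro h
    haveI : Subsingleton (M Q) := by rw [h]; infer_instance
    exact hasSchurMultiplier_of_equiv
      { toFun := fun _ => 1, invFun := fun _ => 1, left_inv := fun _ => Subsingleton.elim _ _,
        right_inv := fun _ => Subsingleton.elim _ _, map_mul' := fun _ _ => by simp }

/-- A multiplier is trivial as soon as all stem extensions have trivial kernel. -/
theorem M_eq_bot_of_forall
    (h : ∀ (Γ : Type u) [Group Γ] [Finite Γ] (σ : Γ →* Q), Cfsg.IsStemExtension σ → σ.ker = ⊥) : M Q = ⊥ := by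
  obtain ⟨Γ, _, _, σ, hσ, ⟨e⟩⟩ := exists_cover Q
  haveI : Subsingleton σ.ker := by rw [h Γ σ hσ]; infer_instance
  haveI : Subsingleton (M Q) := e.symm.injective.subsingleton
  exact Subgroup.eq_bot_of_subsingleton _

theorem ker_eq_bot_of_M {Γ : Type v} [Group Γ] {σ : Γ →* Q} (hσ : Cfsg.IsStemExtension σ) (hM : M Q = ⊥) :
    σ.ker = ⊥ := by
  obtain ⟨φ, -, -, π, hπ, hπ'⟩ := exists_surjective σ hσ
  rw [eq_bot_iff]
  intro k hk
  obtain ⟨⟨m, hm⟩, e⟩ := hπ ⟨k, hk⟩
  have : k = φ m := by rw [← hπ' ⟨m, hm⟩, e]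
  rw [hM, Subgroup.mem_bot] at hm
  rw [Subgroup.mem_bot, this, hm, map_one]

end CfsgLib.Solv.Mult
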