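import Cfsg.Agent.Solv.MultiplierLift

/-!
Bilinear central extensions, transport and restriction of Schur multipliers.
-/

set_option autoImplicit false
set_option linter.style.haveILetI false
set_option linter.unusedSectionVars false

universe u v w

open scoped commutatorElement

namespace CfsgLib.Solv.Mult

/-- The central extension of `G` by `T` attached to a biadditive pairing. -/
structure Cext {G : Type u} [Group G] {T : Type v} [AddCommGroup T] (β : G → G → T)
    (hl : ∀ a b c, β (a * b) c = β a c + β b c) (hr : ∀ a b c, β a (b * c) = β a b + β a c) where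
  /-- the group component -/
  g : G
  /-- the kernel component -/
  t : T

section Cext

variable {G : Type u} [Group G] {T : Type v} [AddCommGroup T] {β : G → G → T}
  {hl : ∀ a b c, β (a * b) c = β a c + β b c} {hr : ∀ a b c, β a (b * c) = β a b + β a c}

theorem Cext.ext' {x y : Cext β hl hr} (h1 : x.g = y.g) (h2 : x.t = y.t) : x = y := by
  cases x; cases y; cases h1; cases h2; rfl

include hl in
theorem beta_one_left (c : G) : β 1 c = 0 := by
  have := hl 1 1 c
  rwa [one_mul, left_eq_add] at this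

include hr in
theorem beta_one_right (c : G) : β c 1 = 0 := by
  have := hr c 1 1
  rwa [one_mul, left_eq_add] at this

include hl in
theorem beta_inv_left (a c : G) : β a⁻¹ c = -β a c := by
  have := hl a⁻¹ a c
  rw [inv_mul_cancel, beta_one_left (hl := hl)] at this
  exact eq_neg_of_add_eq_zero_left this.symm

instance : Mul (Cext β hl hr) := ⟨fun x y => ⟨x.g * y.g, x.t + y.t + β x.g y.g⟩⟩

instance : One (Cext β hl hr) := ⟨⟨1, 0⟩⟩

instance : Inv (Cext β hl hr) := ⟨fun x => ⟨x.g⁻¹, -x.t + β x.g x.g⟩⟩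

instance : Group (Cext β hl hr) :=
  Group.ofLeftAxioms
    (fun x y z => Cext.ext' (mul_assoc _ _ _) (by
      show x.t + y.t + β x.g y.g + z.t + β (x.g * y.g) z.g = x.t + (y.t + z.t + β y.g z.g) + β x.g (y.g * z.g)
      rw [hl, hr]; abel))
    (fun x => Cext.ext' (one_mul _) (by
      show (0 : T) + x.t + β 1 x.g = x.t
      rw [beta_one_left (hl := hl)]; abel))
    (fun x => Cext.ext' (inv_mul_cancel _) (by
      show -x.t + β x.g x.g + x.t + β x.g⁻¹ x.g = 0
      rw [beta_inv_left (hl := hl)]; abel))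

theorem Cext.mul_g (x y : Cext β hl hr) : (x * y).g = x.g * y.g := rfl

theorem Cext.mul_t (x y : Cext β hl hr) : (x * y).t = x.t + y.t + β x.g y.g := rfl

/-- Projection to the group component. -/
def Cext.proj (β : G → G → T) (hl : ∀ a b c, β (a * b) c = β a c + β b c)
    (hr : ∀ a b c, β a (b * c) = β a b + β a c) : Cext β hl hr →* G where
  toFun x := x.g
  map_one' := rfl
  map_mul' _ _ := rfl

/-- The kernel component embedded. -/
def Cext.emb (β : G → G → T) (hl : ∀ a b c, β (a * b) c = β a c + β b c)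
    (hr : ∀ a b c, β a (b * c) = β a b + β a c) : Multiplicative T →* Cext β hl hr where
  toFun t := ⟨1, Multiplicative.toAdd t⟩
  map_one' := rfl
  map_mul' s t := Cext.ext' (one_mul _).symm (by
    show _ = Multiplicative.toAdd s + Multiplicative.toAdd t + β 1 1
    rw [beta_one_left (hl := hl), add_zero]; rfl)

instance [Finite G] [Finite T] : Finite (Cext β hl hr) :=
  Finite.of_injective (fun x => (x.g, x.t)) fun _ _ h => Cext.ext' (congrArg Prod.fst h) (congrArg Prod.snd h)

theorem Cext.commutator_eq (a b : G) (h : Commute a b) :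
    ⁅(⟨a, 0⟩ : Cext β hl hr), (⟨b, 0⟩ : Cext β hl hr)⁆ = (⟨1, β a b - β b a⟩ : Cext β hl hr) := by
  rw [commutatorElement_def, mul_inv_eq_iff_eq_mul, mul_inv_eq_iff_eq_mul]
  refine Cext.ext' ?_ ?_
  · show a * b = 1 * b * a
    rw [one_mul, h.eq]
  · show 0 + 0 + β a b = β a b - β b a + 0 + β 1 b + 0 + β (1 * b) a
    rw [beta_one_left (hl := hl), one_mul]; abel

end Cext

/-- Stem extensions transport along isomorphisms. -/
theorem stem_comp_equiv {Γ : Type w} [Group Γ] {Q : Type u} {Q' : Type v} [Group Q] [Group Q'] {σ : Γ →* Q}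
    (hσ : Cfsg.IsStemExtension σ) (e : Q ≃* Q') :
    Cfsg.IsStemExtension (e.toMonoidHom.comp σ) ∧ (e.toMonoidHom.comp σ).ker = σ.ker := by
  have hker : (e.toMonoidHom.comp σ).ker = σ.ker := by
    ext x
    simp [MonoidHom.mem_ker]
  exact ⟨⟨e.surjective.comp hσ.1, hker ▸ hσ.2.1, hker ▸ hσ.2.2⟩, hker⟩

/-- The multiplier is an isomorphism invariant. -/
theorem hasSchurMultiplier_of_mulEquiv {Q Q' : Type u} [Group Q] [Group Q'] (e : Q ≃* Q') {A : Type v}
    [CommGroup A] (h : Cfsg.HasSchurMultiplier Q A) : Cfsg.HasSchurMultiplier Q' A := by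
  obtain ⟨⟨Γ, i1, i2, σ, hσ, ⟨f⟩⟩, hall⟩ := h
  refine ⟨⟨Γ, i1, i2, _, (stem_comp_equiv hσ e).1,
    ⟨(MulEquiv.subgroupCongr (stem_comp_equiv hσ e).2).trans f⟩⟩, ?_⟩
  intro Δ _ _ τ hτ
  obtain ⟨π, hπ⟩ := hall Δ _ (stem_comp_equiv hτ e.symm).1
  exact ⟨(MulEquiv.subgroupCongr (stem_comp_equiv hτ e.symm).2).toMonoidHom.comp π,
    (MulEquiv.subgroupCongr (stem_comp_equiv hτ e.symm).2).surjective.comp hπ⟩

/-- The commutator subgroup is covered by a lift. -/
theorem commutator_le_map {H Γ : Type*} [Group H] [Group Γ] {P : Type*} [Group P] {σ : Γ →* P}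
    (hc : σ.ker ≤ Subgroup.center Γ) (φ : H →* Γ) (h : Function.Surjective (σ.comp φ)) :
    commutator Γ ≤ (commutator H).map φ := by
  have hdec : ∀ g, ∃ e, ∃ c ∈ Subgroup.center Γ, g = φ e * c := fun g => by
    obtain ⟨e, he⟩ := h (σ g)
    refine ⟨e, (φ e)⁻¹ * g, hc ?_, by group⟩
    have he' : σ (φ e) = σ g := he
    rw [MonoidHom.mem_ker, map_mul, map_inv, he', inv_mul_cancel]
  rw [commutator_def, Subgroup.commutator_le]
  intro a _ b _
  obtain ⟨x, ca, hca, rfl⟩ := hdec a
  obtain ⟨y, cb, hcb, rfl⟩ := hdec b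
  refine ⟨⁅x, y⁆, ?_, ?_⟩
  · rw [commutator_def]; exact Subgroup.commutator_mem_commutator (Subgroup.mem_top _) (Subgroup.mem_top _)
  · rw [map_commutatorElement]
    simp only [commutatorElement_def]
    have h1 := Subgroup.mem_center_iff.1 hca
    have h2 := Subgroup.mem_center_iff.1 hcb
    symm
    calc φ x * ca * (φ y * cb) * (φ x * ca)⁻¹ * (φ y * cb)⁻¹
        = φ x * (ca * (φ y * cb)) * (ca⁻¹ * (φ x)⁻¹) * (cb⁻¹ * (φ y)⁻¹) := by group
      _ = φ x * ((φ y * cb) * ca) * (ca⁻¹ * (φ x)⁻¹) * (cb⁻¹ * (φ y)⁻¹) := by rw [h1 (φ y * cb)]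
      _ = φ x * φ y * (cb * (φ x)⁻¹) * (cb⁻¹ * (φ y)⁻¹) := by group
      _ = φ x * φ y * ((φ x)⁻¹ * cb) * (cb⁻¹ * (φ y)⁻¹) := by rw [h2 (φ x)⁻¹]
      _ = _ := by group

/-- A subgroup of a quotient of a finite abelian group is isomorphic to a subgroup. -/
theorem exists_subgroup_equiv {B : Type v} {C : Type w} [CommGroup B] [Finite B] [Group C]
    (f : B →* C) (D : Subgroup C) (hD : D ≤ f.range) : ∃ S : Subgroup B, Nonempty (D ≃* S) := by
  haveI : Finite f.range := Finite.of_surjective _ f.rangeRestrict_surjective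
  letI : CommGroup f.range :=
    { (inferInstance : Group f.range) with
      mul_comm := fun a b => by
        obtain ⟨_, x, rfl⟩ := a
        obtain ⟨_, y, rfl⟩ := b
        exact Subtype.ext (by show f x * f y = f y * f x; rw [← map_mul, mul_comm, map_mul]) }
  obtain ⟨e1⟩ := CommGroup.monoidHom_mulEquiv_of_hasEnoughRootsOfUnity f.range ℂ
  obtain ⟨e2⟩ := CommGroup.monoidHom_mulEquiv_of_hasEnoughRootsOfUnity B ℂ
  let r : (f.range →* ℂˣ) →* (B →* ℂˣ) :=
    { toFun := fun χ => χ.comp f.rangeRestrict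
      map_one' := rfl
      map_mul' := fun _ _ => rfl }
  let ι : D →* B := (e2.toMonoidHom.comp (r.comp e1.symm.toMonoidHom)).comp (Subgroup.inclusion hD)
  have hr : Function.Injective r := fun χ χ' h => MonoidHom.ext fun x => by
    obtain ⟨b, rfl⟩ := f.rangeRestrict_surjective x
    exact DFunLike.congr_fun h b
  exact ⟨ι.range, ⟨MonoidHom.ofInjective
    ((e2.injective.comp (hr.comp e1.symm.injective)).comp (Subgroup.inclusion_injective hD))⟩⟩

/-- `exp`-th powers of the multiplier live in the multiplier of a subgroup of that index. -/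
theorem exists_pow_embedding {G : Type u} [Group G] [Finite G] (U : Subgroup G) {A : Type v} {B : Type w}
    [CommGroup A] [CommGroup B] (hA : Cfsg.HasSchurMultiplier G A) (hB : Cfsg.HasSchurMultiplier U B) :
    ∃ C : Subgroup B, Nonempty ((powMonoidHom U.index : A →* A).range ≃* C) := by
  classical
  haveI := finite_of_hasSchurMultiplier hB
  obtain ⟨eB⟩ := equiv_M hB
  obtain ⟨⟨Γ, _, _, σ, hσ, ⟨e⟩⟩, -⟩ := hA
  set Ut := U.comap σ with hUt
  let σU : Ut →* U := (σ.comp Ut.subtype).codRestrict U fun x => x.2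
  have hσU : Function.Surjective σU := fun u => by
    obtain ⟨g, hg⟩ := hσ.1 u
    exact ⟨⟨g, show σ g ∈ U by rw [hg]; exact u.2⟩, Subtype.ext hg⟩
  have hσUc : σU.ker ≤ Subgroup.center Ut := fun x hx => Subgroup.mem_center_iff.2 fun y =>
    Subtype.ext (Subgroup.mem_center_iff.1 (hσ.2.1 (congrArg Subtype.val hx : σ x = 1)) y)
  obtain ⟨φ, hφ⟩ := exists_lift (Q := U) σU hσU hσUc (MonoidHom.id U)
  rw [MonoidHom.id_comp] at hφ
  let f : B →* Γ := (Ut.subtype.comp φ).comp ((M U).subtype.comp eB.toMonoidHom)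
  let D : Subgroup Γ := ((powMonoidHom U.index : A →* A).range).map (σ.ker.subtype.comp e.symm.toMonoidHom)
  have hinj : Function.Injective (σ.ker.subtype.comp e.symm.toMonoidHom) :=
    σ.ker.subtype_injective.comp e.symm.injective
  have hD : D ≤ f.range := by
    rintro _ ⟨_, ⟨a, rfl⟩, rfl⟩
    set k : σ.ker := e.symm a with hk
    have hkc : (k : Γ) ∈ Subgroup.center Γ := hσ.2.1 k.2
    have key : ∀ (j : ℕ) (g₀ : Γ), g₀⁻¹ * (k : Γ) ^ j * g₀ ∈ Ut → g₀⁻¹ * (k : Γ) ^ j * g₀ = (k : Γ) ^ j :=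
      fun j g₀ _ => by
        rw [mul_assoc, ← Subgroup.mem_center_iff.1 (pow_mem hkc j) g₀, inv_mul_cancel_left]
    have ht := MonoidHom.transfer_eq_pow (Abelianization.of : Ut →* Abelianization Ut) (k : Γ) key
    have hidx : Ut.index = U.index := U.index_comap_of_surjective hσ.1
    have h0 : MonoidHom.transfer (Abelianization.of : Ut →* Abelianization Ut) (k : Γ) = 1 :=
      Abelianization.commutator_subset_ker _ (hσ.2.2 k.2)
    rw [ht, ← MonoidHom.mem_ker, Abelianization.ker_of] at h0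
    obtain ⟨x, hx, hxk⟩ := commutator_le_map hσUc φ (hφ ▸ eproj_surjective U) h0
    have hxM : x ∈ M U := by
      refine ⟨?_, hx⟩
      show eproj U x = 1
      rw [← hφ, MonoidHom.comp_apply, hxk]
      refine Subtype.ext ?_
      show σ ((k : Γ) ^ Ut.index) = 1
      rw [map_pow, show σ (k : Γ) = 1 from k.2, one_pow]
    refine ⟨eB.symm ⟨x, hxM⟩, ?_⟩
    simp only [f, MonoidHom.comp_apply, MulEquiv.coe_toMonoidHom, MulEquiv.apply_symm_apply, Subgroup.coe_subtype,
      hxk, powMonoidHom_apply, map_pow, hidx, ← hk, SubmonoidClass.coe_pow]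
  obtain ⟨S, ⟨eS⟩⟩ := exists_subgroup_equiv f D hD
  exact ⟨S, ⟨(Subgroup.equivMapOfInjective _ _ hinj).trans eS⟩⟩

end CfsgLib.Solv.Mult
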