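import Cfsg.Agent.Solv.MultiplierExt
import Mathlib.RingTheory.TensorProduct.Finite

/-!
The Schur multiplier of a direct product.
-/

set_option autoImplicit false
set_option linter.style.haveILetI false
set_option linter.unusedSectionVars false

universe u v w

open scoped commutatorElement TensorProduct

namespace CfsgLib.Solv.Mult

theorem mul_of_mem_sup {G : Type*} [Group G] {X Y : Subgroup G} (h : X ≤ Subgroup.normalizer (Y : Set G))
    {g : G} (hg : g ∈ X ⊔ Y) : ∃ y ∈ Y, ∃ x ∈ X, g = y * x := by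
  rw [← SetLike.mem_coe, Subgroup.coe_mul_of_left_le_normalizer_right X Y h] at hg
  obtain ⟨x, hx, y, hy, rfl⟩ := hg
  exact ⟨x * y * x⁻¹, (Subgroup.mem_normalizer_iff.1 (h hx) y).1 hy, x, hx, by simp⟩

variable (Q₁ : Type u) (Q₂ : Type v) [Group Q₁] [Group Q₂]

/-- The mixed part of the multiplier of a product. -/
abbrev Mixed : Type (max u v) := Additive (Abelianization Q₁) ⊗[ℤ] Additive (Abelianization Q₂)

variable [Finite Q₁] [Finite Q₂]

theorem finite_mixed : Finite (Mixed Q₁ Q₂) := by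
  haveI : Finite (Abelianization Q₁) := Quotient.finite _
  haveI : Finite (Abelianization Q₂) := Quotient.finite _
  haveI : Finite (Additive (Abelianization Q₁)) := inferInstanceAs (Finite (Abelianization Q₁))
  haveI : Finite (Additive (Abelianization Q₂)) := inferInstanceAs (Finite (Abelianization Q₂))
  haveI : Module.Finite ℤ (Additive (Abelianization Q₁)) := Module.Finite.of_finite
  haveI : Module.Finite ℤ (Additive (Abelianization Q₂)) := Module.Finite.of_finite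
  haveI : Module.Finite ℤ (Mixed Q₁ Q₂) :=
    Module.Finite.tensorProduct ℤ (Additive (Abelianization Q₁)) (Additive (Abelianization Q₂))
  refine Module.finite_of_fg_torsion _ fun {x} => ⟨⟨(Nat.card (Additive (Abelianization Q₁)) : ℤ),
    mem_nonZeroDivisors_of_ne_zero (Int.natCast_ne_zero.2 Nat.card_pos.ne')⟩, ?_⟩
  show (Nat.card (Additive (Abelianization Q₁)) : ℤ) • x = 0
  induction x using TensorProduct.induction_on with
  | zero => simp
  | add a b ha hb => rw [smul_add, ha, hb, add_zero]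
  | tmul a b => rw [TensorProduct.smul_tmul', natCast_zsmul, card_nsmul_eq_zero', TensorProduct.zero_tmul]

theorem hasSchurMultiplier_prod {A B : Type w} [CommGroup A] [CommGroup B]
    (hA : Cfsg.HasSchurMultiplier Q₁ A) (hB : Cfsg.HasSchurMultiplier Q₂ B) :
    Cfsg.HasSchurMultiplier (Q₁ × Q₂) (A × B × Multiplicative (Mixed Q₁ Q₂)) := by
  classical
  haveI := finite_mixed Q₁ Q₂
  obtain ⟨eA⟩ := equiv_M hA
  obtain ⟨eB⟩ := equiv_M hB
  constructor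
  · obtain ⟨⟨Γ₁, _, _, σ₁, hσ₁, ⟨e₁⟩⟩, -⟩ := hA
    obtain ⟨⟨Γ₂, _, _, σ₂, hσ₂, ⟨e₂⟩⟩, -⟩ := hB
    let a₁ : Γ₁ → Additive (Abelianization Q₁) := fun x => Additive.ofMul (Abelianization.of (σ₁ x))
    let a₂ : Γ₂ → Additive (Abelianization Q₂) := fun y => Additive.ofMul (Abelianization.of (σ₂ y))
    have ha₁ : ∀ x x', a₁ (x * x') = a₁ x + a₁ x' := fun x x' => by simp [a₁]
    have ha₂ : ∀ y y', a₂ (y * y') = a₂ y + a₂ y' := fun y y' => by simp [a₂]
    let β : Γ₁ × Γ₂ → Γ₁ × Γ₂ → Mixed Q₁ Q₂ := fun p q => a₁ q.1 ⊗ₜ[ℤ] a₂ p.2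
    have hl : ∀ a b c, β (a * b) c = β a c + β b c := fun a b c => by
      simp only [β, Prod.snd_mul, ha₂, TensorProduct.tmul_add]
    have hr : ∀ a b c, β a (b * c) = β a b + β a c := fun a b c => by
      simp only [β, Prod.fst_mul, ha₁, TensorProduct.add_tmul]
    let σ : Cext β hl hr →* Q₁ × Q₂ :=
      (MonoidHom.prodMap σ₁ σ₂).comp (Cext.proj β hl hr)
    have hβ1 : ∀ (p : Γ₁ × Γ₂) x, β p (x, 1) = a₁ x ⊗ₜ a₂ p.2 := fun p x => rfl
    have hz₁ : ∀ x, σ₁ x = 1 → a₁ x = 0 := fun x hx => by simp [a₁, hx]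
    have hz₂ : ∀ y, σ₂ y = 1 → a₂ y = 0 := fun y hy => by simp [a₂, hy]
    let i₁ : Γ₁ →* Cext β hl hr :=
      { toFun := fun x => ⟨(x, 1), 0⟩
        map_one' := rfl
        map_mul' := fun x x' => Cext.ext' (Prod.ext rfl (one_mul _).symm) (by
          show (0 : Mixed Q₁ Q₂) = 0 + 0 + a₁ x' ⊗ₜ a₂ 1
          rw [show a₂ 1 = 0 by simp [a₂], TensorProduct.tmul_zero]; simp) }
    let i₂ : Γ₂ →* Cext β hl hr :=
      { toFun := fun y => ⟨(1, y), 0⟩
        map_one' := rfl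
        map_mul' := fun y y' => Cext.ext' (Prod.ext (one_mul _).symm rfl) (by
          show (0 : Mixed Q₁ Q₂) = 0 + 0 + a₁ 1 ⊗ₜ a₂ y
          rw [show a₁ 1 = 0 by simp [a₁], TensorProduct.zero_tmul]; simp) }
    have hdec : ∀ z : Cext β hl hr, z = i₁ z.g.1 * i₂ z.g.2 * Cext.emb β hl hr (Multiplicative.ofAdd z.t) := by
      intro z
      refine Cext.ext' ?_ ?_
      · show z.g = (z.g.1, (1 : Γ₂)) * ((1 : Γ₁), z.g.2) * 1
        simp
      · show z.t = (0 + 0 + β (z.g.1, 1) (1, z.g.2)) + z.t + β ((z.g.1, 1) * (1, z.g.2)) 1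
        simp [β, a₁, a₂]
    have hemb : ∀ t, Cext.emb β hl hr t ∈ commutator (Cext β hl hr) := by
      intro t
      obtain ⟨t, rfl⟩ : ∃ t' : Mixed Q₁ Q₂, Multiplicative.ofAdd t' = t := ⟨Multiplicative.toAdd t, rfl⟩
      induction t using TensorProduct.induction_on with
      | zero => rw [ofAdd_zero, map_one]; exact one_mem _
      | add a b ha hb => rw [ofAdd_add, map_mul]; exact mul_mem ha hb
      | tmul a b =>
        obtain ⟨q₁, hq₁⟩ := QuotientGroup.mk_surjective (Additive.toMul a)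
        obtain ⟨q₂, hq₂⟩ := QuotientGroup.mk_surjective (Additive.toMul b)
        obtain ⟨x, rfl⟩ := hσ₁.1 q₁
        obtain ⟨y, rfl⟩ := hσ₂.1 q₂
        have h1 : ⁅i₂ y, i₁ x⁆ = Cext.emb β hl hr (Multiplicative.ofAdd (a₁ x ⊗ₜ a₂ y)) := by
          refine (Cext.commutator_eq (β := β) (hl := hl) (hr := hr) ((1 : Γ₁), y) (x, (1 : Γ₂))
            (by simp [Commute, SemiconjBy])).trans (Cext.ext' rfl ?_)
          show β (1, y) (x, 1) - β (x, 1) (1, y) = a₁ x ⊗ₜ a₂ y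
          simp [β, a₁, a₂]
        rw [show a = a₁ x from congrArg Additive.ofMul hq₁.symm, show b = a₂ y from congrArg Additive.ofMul hq₂.symm,
          ← h1, commutator_def]
        exact Subgroup.commutator_mem_commutator (Subgroup.mem_top _) (Subgroup.mem_top _)
    have hker : ∀ z : Cext β hl hr, z ∈ σ.ker ↔ σ₁ z.g.1 = 1 ∧ σ₂ z.g.2 = 1 := fun z => Prod.mk_eq_one
    refine ⟨Cext β hl hr, inferInstance, inferInstance, σ, ⟨?_, fun z hz => ?_, fun z hz => ?_⟩, ⟨?_⟩⟩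
    · rintro ⟨q₁, q₂⟩
      obtain ⟨x, rfl⟩ := hσ₁.1 q₁
      obtain ⟨y, rfl⟩ := hσ₂.1 q₂
      exact ⟨⟨(x, y), 0⟩, rfl⟩
    · obtain ⟨h1, h2⟩ := (hker z).1 hz
      rw [Subgroup.mem_center_iff]
      intro w
      refine Cext.ext' (Prod.ext (Subgroup.mem_center_iff.1 (hσ₁.2.1 h1) w.g.1)
        (Subgroup.mem_center_iff.1 (hσ₂.2.1 h2) w.g.2)) ?_
      show w.t + z.t + a₁ z.g.1 ⊗ₜ a₂ w.g.2 = z.t + w.t + a₁ w.g.1 ⊗ₜ a₂ z.g.2
      rw [hz₁ _ h1, hz₂ _ h2, TensorProduct.zero_tmul, TensorProduct.tmul_zero, add_comm w.t]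
    · obtain ⟨h1, h2⟩ := (hker z).1 hz
      rw [hdec z]
      exact mul_mem (mul_mem (map_commutator_le i₁ ⟨_, hσ₁.2.2 h1, rfl⟩)
        (map_commutator_le i₂ ⟨_, hσ₂.2.2 h2, rfl⟩)) (hemb _)
    · exact
        { toFun := fun z => (e₁ ⟨z.1.g.1, ((hker z.1).1 z.2).1⟩, e₂ ⟨z.1.g.2, ((hker z.1).1 z.2).2⟩,
            Multiplicative.ofAdd z.1.t)
          invFun := fun p => ⟨⟨((e₁.symm p.1 : Γ₁), (e₂.symm p.2.1 : Γ₂)), Multiplicative.toAdd p.2.2⟩,
            (hker _).2 ⟨(e₁.symm p.1).2, (e₂.symm p.2.1).2⟩⟩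
          left_inv := fun z => Subtype.ext (Cext.ext' (Prod.ext
            (congrArg Subtype.val (e₁.symm_apply_apply _)) (congrArg Subtype.val (e₂.symm_apply_apply _))) rfl)
          right_inv := fun p => Prod.ext (e₁.apply_symm_apply p.1) (Prod.ext (e₂.apply_symm_apply p.2.1) rfl)
          map_mul' := fun z z' => by
            refine Prod.ext ?_ (Prod.ext ?_ ?_)
            · exact (congrArg e₁ (Subtype.ext rfl)).trans
                (map_mul e₁ ⟨_, ((hker z.1).1 z.2).1⟩ ⟨_, ((hker z'.1).1 z'.2).1⟩)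
            · exact (congrArg e₂ (Subtype.ext rfl)).trans
                (map_mul e₂ ⟨_, ((hker z.1).1 z.2).2⟩ ⟨_, ((hker z'.1).1 z'.2).2⟩)
            · show Multiplicative.ofAdd (z.1.t + z'.1.t + a₁ z'.1.g.1 ⊗ₜ a₂ z.1.g.2) = _
              rw [hz₂ _ ((hker z.1).1 z.2).2, TensorProduct.tmul_zero, add_zero]
              rfl }
  · intro Δ _ _ τ hτ
    haveI hKc : IsMulCommutative τ.ker :=
      ⟨⟨fun a b => Subtype.ext (Subgroup.mem_center_iff.1 (hτ.2.1 b.2) a)⟩⟩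
    obtain ⟨φ₁, hφ₁⟩ := exists_lift τ hτ.1 hτ.2.1 (MonoidHom.inl Q₁ Q₂)
    obtain ⟨φ₂, hφ₂⟩ := exists_lift τ hτ.1 hτ.2.1 (MonoidHom.inr Q₁ Q₂)
    have h₁ : ∀ e, τ (φ₁ e) = (eproj Q₁ e, 1) := fun e => DFunLike.congr_fun hφ₁ e
    have h₂ : ∀ e, τ (φ₂ e) = (1, eproj Q₂ e) := fun e => DFunLike.congr_fun hφ₂ e
    have hc : ∀ {z : Δ}, z ∈ τ.ker → ∀ x, x * z = z * x := fun hz => Subgroup.mem_center_iff.1 (hτ.2.1 hz)
    have hz : ∀ e e', ⁅φ₁ e, φ₂ e'⁆ ∈ τ.ker := fun e e' => by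
      rw [MonoidHom.mem_ker, map_commutatorElement, h₁, h₂, commutatorElement_eq_one_iff_mul_comm]
      simp
    -- the pairing on the universal extensions
    open scoped IsMulCommutative in
    let p : E Q₁ →* (E Q₂ →* τ.ker) :=
      { toFun := fun e =>
          { toFun := fun e' => ⟨⁅φ₁ e, φ₂ e'⁆, hz e e'⟩
            map_one' := Subtype.ext (by simp)
            map_mul' := fun a b => Subtype.ext (by
              show ⁅φ₁ e, φ₂ (a * b)⁆ = ⁅φ₁ e, φ₂ a⁆ * ⁅φ₁ e, φ₂ b⁆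
              rw [map_mul]
              calc ⁅φ₁ e, φ₂ a * φ₂ b⁆ = ⁅φ₁ e, φ₂ a⁆ * (φ₂ a * ⁅φ₁ e, φ₂ b⁆ * (φ₂ a)⁻¹) := by
                    simp only [commutatorElement_def]; group
                _ = _ := by rw [hc (hz e b), mul_inv_cancel_right]) }
        map_one' := MonoidHom.ext fun e' => Subtype.ext (by simp)
        map_mul' := fun a b => MonoidHom.ext fun e' => Subtype.ext (by
          show ⁅φ₁ (a * b), φ₂ e'⁆ = ⁅φ₁ a, φ₂ e'⁆ * ⁅φ₁ b, φ₂ e'⁆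
          rw [map_mul]
          calc ⁅φ₁ a * φ₁ b, φ₂ e'⁆ = φ₁ a * ⁅φ₁ b, φ₂ e'⁆ * (φ₁ a)⁻¹ * ⁅φ₁ a, φ₂ e'⁆ := by
                simp only [commutatorElement_def]; group
            _ = _ := by rw [hc (hz b e'), mul_inv_cancel_right, ← hc (hz b e')]) }
    have hp₁ : ∀ k ∈ (eproj Q₁).ker, p k = 1 := fun k hk => MonoidHom.ext fun e' => Subtype.ext (by
      show ⁅φ₁ k, φ₂ e'⁆ = 1
      rw [commutatorElement_eq_one_iff_mul_comm]
      exact (hc (show φ₁ k ∈ τ.ker by rw [MonoidHom.mem_ker, h₁, show eproj Q₁ k = 1 from hk]; rfl) _).symm)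
    open scoped IsMulCommutative in
    obtain ⟨p₁, hp₁'⟩ := exists_descend (eproj Q₁) (eproj_surjective Q₁) p hp₁
    open scoped IsMulCommutative in
    let p₂ : Abelianization Q₁ →* (E Q₂ →* τ.ker) := Abelianization.lift p₁
    open scoped IsMulCommutative in
    let p₃ : E Q₂ →* (Abelianization Q₁ →* τ.ker) :=
      { toFun := fun e' =>
          { toFun := fun a => p₂ a e'
            map_one' := by simp
            map_mul' := fun a b => by simp }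
        map_one' := MonoidHom.ext fun a => map_one (p₂ a)
        map_mul' := fun x y => MonoidHom.ext fun a => map_mul (p₂ a) x y }
    have hp₂ : ∀ k ∈ (eproj Q₂).ker, p₃ k = 1 := fun k hk => MonoidHom.ext fun a => by
      obtain ⟨q, rfl⟩ := QuotientGroup.mk_surjective a
      obtain ⟨e, rfl⟩ := eproj_surjective Q₁ q
      show p₁ (eproj Q₁ e) k = 1
      rw [← MonoidHom.comp_apply p₁, hp₁']
      refine Subtype.ext ?_
      show ⁅φ₁ e, φ₂ k⁆ = 1
      rw [commutatorElement_eq_one_iff_mul_comm]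
      exact hc (show φ₂ k ∈ τ.ker by rw [MonoidHom.mem_ker, h₂, show eproj Q₂ k = 1 from hk]; rfl) _
    open scoped IsMulCommutative in
    obtain ⟨p₄, hp₄⟩ := exists_descend (eproj Q₂) (eproj_surjective Q₂) p₃ hp₂
    open scoped IsMulCommutative in
    let P : Abelianization Q₂ →* (Abelianization Q₁ →* τ.ker) := Abelianization.lift p₄
    open scoped IsMulCommutative in
    let f : Additive (Abelianization Q₁) →+ Additive (Abelianization Q₂) →+ Additive τ.ker :=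
      AddMonoidHom.mk' (fun a => AddMonoidHom.mk' (fun b => Additive.ofMul (P b.toMul a.toMul))
        (fun b b' => by simp)) (fun a a' => AddMonoidHom.ext fun b => by simp)
    open scoped IsMulCommutative in
    let θ : Mixed Q₁ Q₂ →+ Additive τ.ker := TensorProduct.liftAddHom f (fun r a b => by
      rw [map_zsmul f, AddMonoidHom.smul_apply, map_zsmul (f a)])
    have hθ : ∀ e e', ((Additive.toMul (θ (Additive.ofMul (Abelianization.of (eproj Q₁ e)) ⊗ₜ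
        Additive.ofMul (Abelianization.of (eproj Q₂ e')))) : τ.ker) : Δ) = ⁅φ₁ e, φ₂ e'⁆ := fun e e' => by
      show ((p₄ (eproj Q₂ e') (Abelianization.of (eproj Q₁ e)) : τ.ker) : Δ) = _
      rw [← MonoidHom.comp_apply p₄, hp₄]
      show ((p₁ (eproj Q₁ e) e' : τ.ker) : Δ) = _
      rw [← MonoidHom.comp_apply p₁, hp₁']
      rfl
    open scoped IsMulCommutative in
    let ψ₁ : M Q₁ →* τ.ker := (φ₁.comp (M Q₁).subtype).codRestrict τ.ker fun m => by
      rw [MonoidHom.mem_ker, MonoidHom.comp_apply, Subgroup.coe_subtype, h₁,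
        show eproj Q₁ m = 1 from M_le_ker Q₁ m.2]; rfl
    open scoped IsMulCommutative in
    let ψ₂ : M Q₂ →* τ.ker := (φ₂.comp (M Q₂).subtype).codRestrict τ.ker fun m => by
      rw [MonoidHom.mem_ker, MonoidHom.comp_apply, Subgroup.coe_subtype, h₂,
        show eproj Q₂ m = 1 from M_le_ker Q₂ m.2]; rfl
    open scoped IsMulCommutative in
    let π : A × B × Multiplicative (Mixed Q₁ Q₂) →* τ.ker :=
      (ψ₁.comp eA.toMonoidHom).coprod ((ψ₂.comp eB.toMonoidHom).coprod (AddMonoidHom.toMultiplicativeLeft θ))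
    refine ⟨π, fun k => ?_⟩
    -- the subgroup covered by the three parts
    let Z : Subgroup Δ := ((AddMonoidHom.toMultiplicativeLeft θ).range).map τ.ker.subtype
    have hZc : Z ≤ Subgroup.center Δ := by
      rintro _ ⟨z, -, rfl⟩; exact hτ.2.1 z.2
    have hZ : ∀ e e', ⁅φ₁ e, φ₂ e'⁆ ∈ Z := fun e e' =>
      ⟨_, ⟨Multiplicative.ofAdd _, rfl⟩, hθ e e'⟩
    have hc1 : ∀ e, ∀ c ∈ commutator (E Q₂), Commute (φ₁ e) (φ₂ c) := by
      intro e c hc'
      have hle : commutator (E Q₂) ≤ (p e).ker := by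
        rw [commutator_def, Subgroup.commutator_le]
        intro a _ b _
        rw [MonoidHom.mem_ker, map_commutatorElement, commutatorElement_eq_one_iff_mul_comm]
        exact hKc.is_comm.comm _ _
      exact commutatorElement_eq_one_iff_commute.1 (congrArg Subtype.val (hle hc'))
    let S : Subgroup Δ := ((commutator (E Q₁)).map φ₁ ⊔ (commutator (E Q₂)).map φ₂) ⊔ Z
    have hS : commutator Δ ≤ S := by
      have hdec : ∀ g : Δ, ∃ e e', ∃ c ∈ Subgroup.center Δ, g = φ₁ e * φ₂ e' * c := fun g => by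
        obtain ⟨e, he⟩ := eproj_surjective Q₁ (τ g).1
        obtain ⟨e', he'⟩ := eproj_surjective Q₂ (τ g).2
        refine ⟨e, e', (φ₁ e * φ₂ e')⁻¹ * g, hτ.2.1 ?_, by group⟩
        rw [MonoidHom.mem_ker, map_mul, map_inv, map_mul, h₁, h₂, he, he']
        simp
      rw [commutator_def, Subgroup.commutator_le]
      intro a _ b _
      obtain ⟨x, x', ca, hca, rfl⟩ := hdec a
      obtain ⟨y, y', cb, hcb, rfl⟩ := hdec b
      have h1 := Subgroup.mem_center_iff.1 hca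
      have h2 := Subgroup.mem_center_iff.1 hcb
      have e0 : ⁅φ₁ x * φ₂ x' * ca, φ₁ y * φ₂ y' * cb⁆ = ⁅φ₁ x * φ₂ x', φ₁ y * φ₂ y'⁆ := by
        simp only [commutatorElement_def]
        calc φ₁ x * φ₂ x' * ca * (φ₁ y * φ₂ y' * cb) * (φ₁ x * φ₂ x' * ca)⁻¹ * (φ₁ y * φ₂ y' * cb)⁻¹
            = (φ₁ x * φ₂ x') * (ca * (φ₁ y * φ₂ y' * cb)) * (ca⁻¹ * (φ₁ x * φ₂ x')⁻¹) * (cb⁻¹ * (φ₁ y * φ₂ y')⁻¹) := by group
          _ = (φ₁ x * φ₂ x') * ((φ₁ y * φ₂ y' * cb) * ca) * (ca⁻¹ * (φ₁ x * φ₂ x')⁻¹) * (cb⁻¹ * (φ₁ y * φ₂ y')⁻¹) := by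
              rw [h1 (φ₁ y * φ₂ y' * cb)]
          _ = (φ₁ x * φ₂ x') * (φ₁ y * φ₂ y') * (cb * (φ₁ x * φ₂ x')⁻¹) * (cb⁻¹ * (φ₁ y * φ₂ y')⁻¹) := by group
          _ = (φ₁ x * φ₂ x') * (φ₁ y * φ₂ y') * ((φ₁ x * φ₂ x')⁻¹ * cb) * (cb⁻¹ * (φ₁ y * φ₂ y')⁻¹) := by
              rw [h2 (φ₁ x * φ₂ x')⁻¹]
          _ = _ := by group
      rw [e0]
      set z₁ := ⁅φ₁ y, φ₂ x'⁆ with hz₁def
      set z₂ := ⁅φ₁ x⁻¹, φ₂ y'⁆ with hz₂def
      set c₂ := ⁅φ₂ x', φ₂ y'⁆ with hc₂def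
      have hc₂ : c₂ ∈ (commutator (E Q₂)).map φ₂ := ⟨⁅x', y'⁆,
        by rw [commutator_def]; exact Subgroup.commutator_mem_commutator (Subgroup.mem_top _) (Subgroup.mem_top _),
        map_commutatorElement φ₂ x' y'⟩
      have hcomm : (φ₁ x)⁻¹ * c₂ = c₂ * (φ₁ x)⁻¹ := by
        rw [← map_inv φ₁]
        obtain ⟨c, hc', hce⟩ := hc₂
        rw [← hce]
        exact hc1 _ c hc'
      have e : ⁅φ₁ x * φ₂ x', φ₁ y * φ₂ y'⁆ = z₁⁻¹ * z₂⁻¹ * (⁅φ₁ x, φ₁ y⁆ * c₂) := by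
        have i1 := hc (inv_mem (hz y x'))
        have i2 := hc (inv_mem (hz x⁻¹ y'))
        calc ⁅φ₁ x * φ₂ x', φ₁ y * φ₂ y'⁆
            = φ₁ x * z₁⁻¹ * φ₁ y * c₂ * (φ₂ y' * (φ₁ x)⁻¹ * (φ₂ y')⁻¹) * (φ₁ y)⁻¹ := by
              rw [hz₁def, hc₂def]; simp only [commutatorElement_def]; group
          _ = z₁⁻¹ * φ₁ x * φ₁ y * c₂ * (φ₂ y' * (φ₁ x)⁻¹ * (φ₂ y')⁻¹) * (φ₁ y)⁻¹ := by rw [i1 (φ₁ x)]
          _ = z₁⁻¹ * φ₁ x * φ₁ y * c₂ * (z₂⁻¹ * (φ₁ x)⁻¹) * (φ₁ y)⁻¹ := by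
              rw [hz₂def, map_inv]; simp only [commutatorElement_def]; group
          _ = z₁⁻¹ * (φ₁ x * φ₁ y * c₂ * z₂⁻¹) * (φ₁ x)⁻¹ * (φ₁ y)⁻¹ := by group
          _ = z₁⁻¹ * (z₂⁻¹ * (φ₁ x * φ₁ y * c₂)) * (φ₁ x)⁻¹ * (φ₁ y)⁻¹ := by rw [i2 (φ₁ x * φ₁ y * c₂)]
          _ = z₁⁻¹ * z₂⁻¹ * (φ₁ x * φ₁ y * (c₂ * (φ₁ x)⁻¹) * (φ₁ y)⁻¹) := by group
          _ = z₁⁻¹ * z₂⁻¹ * (φ₁ x * φ₁ y * (φ₁ x)⁻¹ * (c₂ * (φ₁ y)⁻¹)) := by rw [← hcomm]; group
          _ = z₁⁻¹ * z₂⁻¹ * (φ₁ x * φ₁ y * (φ₁ x)⁻¹ * ((φ₁ y)⁻¹ * c₂)) := by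
              rw [← map_inv φ₁ y]
              obtain ⟨c, hc', hce⟩ := hc₂
              rw [← hce, (hc1 y⁻¹ c hc').eq]
          _ = _ := by simp only [commutatorElement_def]; group
      rw [e]
      refine mul_mem (mul_mem (inv_mem (Subgroup.mem_sup_right (hZ _ _))) (inv_mem (Subgroup.mem_sup_right (hZ _ _))))
        (mul_mem (Subgroup.mem_sup_left (Subgroup.mem_sup_left ⟨⁅x, y⁆, ?_, map_commutatorElement φ₁ x y⟩))
          (Subgroup.mem_sup_left (Subgroup.mem_sup_right hc₂)))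
      rw [commutator_def]; exact Subgroup.commutator_mem_commutator (Subgroup.mem_top _) (Subgroup.mem_top _)
    haveI : Z.Normal :=
      ⟨fun n hn g => by rwa [Subgroup.mem_center_iff.1 (hZc hn) g, mul_inv_cancel_right]⟩
    obtain ⟨s, hs, z, hzZ, hk⟩ := Subgroup.mem_sup_of_normal_right.1 (hS (hτ.2.2 k.2))
    have hnorm : (commutator (E Q₁)).map φ₁ ≤
        Subgroup.normalizer (((commutator (E Q₂)).map φ₂ : Subgroup Δ) : Set Δ) := by
      rintro _ ⟨e, he, rfl⟩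
      refine Subgroup.mem_normalizer_iff.2 fun c => ⟨?_, fun hc' => ?_⟩
      · rintro ⟨c, hc', rfl⟩
        rw [(hc1 e c hc').eq, mul_inv_cancel_right]
        exact ⟨c, hc', rfl⟩
      · obtain ⟨d, hd, hde⟩ := hc'
        refine ⟨d, hd, ?_⟩
        have h3 : φ₁ e⁻¹ * φ₂ d * φ₁ e = c := by rw [hde, map_inv]; group
        rwa [(hc1 e⁻¹ d hd).eq, mul_assoc, ← map_mul, inv_mul_cancel, map_one, mul_one] at h3
    obtain ⟨c₂, ⟨d₂, hd₂, rfl⟩, c₁, ⟨d₁, hd₁, rfl⟩, rfl⟩ := CfsgLib.Solv.Mult.mul_of_mem_sup hnorm hs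
    obtain ⟨w, ⟨t, rfl⟩, rfl⟩ := hzZ
    have hτk : τ (φ₂ d₂ * φ₁ d₁) = 1 := by
      have h := k.2
      rw [MonoidHom.mem_ker, ← hk, map_mul] at h
      rwa [show τ (τ.ker.subtype ((AddMonoidHom.toMultiplicativeLeft θ) t)) = 1 from
        (AddMonoidHom.toMultiplicativeLeft θ t : τ.ker).2, mul_one] at h
    rw [map_mul, h₁, h₂, Prod.mk_mul_mk, one_mul, mul_one, Prod.mk_eq_one] at hτk
    refine ⟨(eA.symm ⟨d₁, hτk.1, hd₁⟩, eB.symm ⟨d₂, hτk.2, hd₂⟩, t), Subtype.ext ?_⟩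
    rw [← hk]
    simp only [π, MonoidHom.coprod_apply, MonoidHom.comp_apply, MulEquiv.coe_toMonoidHom,
      MulEquiv.apply_symm_apply, Subgroup.coe_mul]
    show φ₁ d₁ * (φ₂ d₂ * _) = _
    rw [← mul_assoc, (hc1 d₁ d₂ hd₂).eq]
    rfl

/-- Coprime abelianizations: no mixed part. -/
theorem subsingleton_mixed (hcop : Nat.Coprime (Nat.card (Abelianization Q₁)) (Nat.card (Abelianization Q₂))) :
    Subsingleton (Mixed Q₁ Q₂) := by
  refine ⟨fun x y => ?_⟩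
  suffices h : ∀ z : Mixed Q₁ Q₂, z = 0 by rw [h x, h y]
  intro z
  induction z using TensorProduct.induction_on with
  | zero => rfl
  | add a b ha hb => rw [ha, hb, add_zero]
  | tmul a b =>
    obtain ⟨u, v, huv⟩ : ∃ u v : ℤ, u * Nat.card (Abelianization Q₁) + v * Nat.card (Abelianization Q₂) = 1 :=
      Int.isCoprime_iff_gcd_eq_one.2 (by simpa [Int.gcd] using hcop)
    have h1 : (Nat.card (Abelianization Q₁) : ℤ) • a = 0 := by
      rw [natCast_zsmul]; exact card_nsmul_eq_zero'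
    have h2 : (Nat.card (Abelianization Q₂) : ℤ) • b = 0 := by
      rw [natCast_zsmul]; exact card_nsmul_eq_zero'
    have h3 : (Nat.card (Abelianization Q₁) : ℤ) • (a ⊗ₜ[ℤ] b) = 0 := by
      rw [TensorProduct.smul_tmul', h1, TensorProduct.zero_tmul]
    have h4 : (Nat.card (Abelianization Q₂) : ℤ) • (a ⊗ₜ[ℤ] b) = 0 := by
      rw [← TensorProduct.tmul_smul, h2, TensorProduct.tmul_zero]
    rw [← one_smul ℤ (a ⊗ₜ[ℤ] b), ← huv, add_smul, mul_smul, mul_smul, h3, h4, smul_zero, smul_zero, add_zero]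

end CfsgLib.Solv.Mult
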