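import Cfsg.Agent.Solv.Multiplier
import Mathlib.RingTheory.SimpleModule.IsAlgClosed
import Mathlib.RepresentationTheory.Maschke
import Mathlib.LinearAlgebra.Matrix.Trace

/-!
Schur: the square of the exponent of the multiplier divides the group order.
-/

set_option autoImplicit false
set_option linter.style.haveILetI false

open scoped commutatorElement

namespace CfsgLib.Solv.Mult

/-- Twisted group algebra count: a character of a central subgroup inside the commutator subgroup has order whose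
square divides the index. -/
theorem sq_dvd_of_stem {Γ Q : Type*} [Group Γ] [Finite Γ] [Group Q] (σ : Γ →* Q) (hσ : Cfsg.IsStemExtension σ)
    (χ : σ.ker →* ℂˣ) (a : σ.ker) : orderOf (χ a) ^ 2 ∣ Nat.card Q := by
  classical
  haveI := Fintype.ofFinite Γ
  haveI := Fintype.ofFinite σ.ker
  haveI : NeZero (Nat.card Γ : ℂ) := ⟨Nat.cast_ne_zero.2 Nat.card_pos.ne'⟩
  haveI : IsSemisimpleRing (MonoidAlgebra ℂ Γ) := inferInstance
  haveI : FiniteDimensional ℂ (MonoidAlgebra ℂ Γ) := Module.Basis.finiteDimensional_of_finite (MonoidAlgebra.basis Γ ℂ)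
  obtain ⟨n, d, hd, ⟨Φ⟩⟩ := IsSemisimpleRing.exists_algEquiv_pi_matrix_of_isAlgClosed ℂ (MonoidAlgebra ℂ Γ)
  let of : Γ →* MonoidAlgebra ℂ Γ := MonoidAlgebra.of ℂ Γ
  let N : ℂ := (Fintype.card σ.ker : ℂ)
  have hN : N ≠ 0 := Nat.cast_ne_zero.2 Fintype.card_ne_zero
  let el : MonoidAlgebra ℂ Γ := N⁻¹ • ∑ b : σ.ker, ((χ b⁻¹ : ℂˣ) : ℂ) • of (b : Γ)
  have hmul : ∀ b : σ.ker, of (b : Γ) * el = ((χ b : ℂˣ) : ℂ) • el := fun b => by
    rw [mul_smul_comm, smul_comm, Finset.mul_sum]
    refine congrArg (N⁻¹ • ·) ?_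
    rw [Finset.smul_sum]
    refine Fintype.sum_equiv (Equiv.mulLeft b) _ _ fun c => ?_
    rw [mul_smul_comm, ← map_mul, smul_smul, Equiv.coe_mulLeft, ← Subgroup.coe_mul, ← Units.val_mul, ← map_mul,
      show b * (b * c)⁻¹ = c⁻¹ by
        rw [mul_inv_rev, ← mul_assoc,
          show b * c⁻¹ = c⁻¹ * b from Subtype.ext (Subgroup.mem_center_iff.1 (hσ.2.1 b.2) _).symm,
          mul_inv_cancel_right]]
  have hidem : el * el = el := by
    rw [show el * el = (N⁻¹ • ∑ b : σ.ker, ((χ b⁻¹ : ℂˣ) : ℂ) • of (b : Γ)) * el from rfl,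
      smul_mul_assoc, Finset.sum_mul]
    simp only [smul_mul_assoc, hmul, smul_smul, ← Units.val_mul, ← map_mul, inv_mul_cancel, map_one,
      Units.val_one, one_smul, Finset.sum_const, Finset.card_univ, ← Nat.cast_smul_eq_nsmul ℂ]
    rw [inv_mul_cancel₀ hN, one_smul]
  have hcentral : ∀ x, Commute el x := by
    intro x
    refine Commute.smul_left ?_ _
    refine Commute.sum_left _ _ _ fun b _ => Commute.smul_left ?_ _
    induction x using MonoidAlgebra.induction_on with
    | of g => exact (show Commute (b : Γ) g from (Subgroup.mem_center_iff.1 (hσ.2.1 b.2) g).symm).map of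
    | add x y hx hy => exact hx.add_right hy
    | smul r x hx => exact hx.smul_right r
  -- the blocks
  have hscalar : ∀ i, ∃ c : ℂ, Φ el i = c • (1 : Matrix (Fin (d i)) (Fin (d i)) ℂ) := fun i => by
    obtain ⟨c, hc⟩ := Matrix.mem_range_scalar_of_commute_single (M := Φ el i) (fun j k _ => by
      obtain ⟨x, hx⟩ := Φ.surjective (Pi.single i (Matrix.single j k 1))
      have h := congrFun ((hcentral x).map Φ).eq i
      rw [Pi.mul_apply, Pi.mul_apply, hx, Pi.single_eq_same] at h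
      exact h.symm)
    exact ⟨c, by rw [← hc, Matrix.smul_one_eq_diagonal]; rfl⟩
  choose c hc using hscalar
  have hc01 : ∀ i, c i = 0 ∨ c i = 1 := fun i => by
    have h := congrFun ((map_mul Φ el el).symm.trans (congrArg Φ hidem)) i
    rw [Pi.mul_apply, hc i, smul_mul_smul_comm, one_mul] at h
    haveI := hd i
    have h' := congrFun (congrFun h 0) 0
    simp only [Matrix.smul_apply, Matrix.one_apply_eq, smul_eq_mul, mul_one] at h'
    exact IsIdempotentElem.iff_eq_zero_or_one.1 h'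
  have hdvd : ∀ i, c i = 1 → orderOf (χ a) ∣ d i := fun i hi => by
    haveI := hd i
    let ev : MonoidAlgebra ℂ Γ →* Matrix (Fin (d i)) (Fin (d i)) ℂ :=
      (Pi.evalMonoidHom (fun j => Matrix (Fin (d j)) (Fin (d j)) ℂ) i).comp
        (Φ : MonoidAlgebra ℂ Γ →* Π j, Matrix (Fin (d j)) (Fin (d j)) ℂ)
    have h1 : ev (of (a : Γ)) = ((χ a : ℂˣ) : ℂ) • 1 := by
      have h := congrFun (congrArg Φ (hmul a)) i
      rw [map_mul, map_smul Φ ((χ a : ℂˣ) : ℂ) el, Pi.mul_apply, Pi.smul_apply, hc i, hi, one_smul, mul_one] at h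
      exact h
    let f : Γ →* ℂˣ := MonoidHom.toHomUnits ((Matrix.detMonoidHom).comp (ev.comp of))
    have h2 : f (a : Γ) = 1 := Abelianization.commutator_subset_ker f (hσ.2.2 a.2)
    have h3 : Matrix.det (ev (of (a : Γ))) = 1 := congrArg Units.val h2
    rw [h1, Matrix.det_smul, Matrix.det_one, mul_one, Fintype.card_fin] at h3
    exact orderOf_dvd_of_pow_eq_one (Units.ext (by rw [Units.val_pow_eq_pow_val]; exact h3))
  -- two computations of the trace
  have htr1 : LinearMap.trace ℂ _ (LinearMap.mulLeft ℂ el) = (Nat.card Q : ℂ) := by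
    rw [LinearMap.trace_eq_matrix_trace ℂ (MonoidAlgebra.basis Γ ℂ)]
    have hdiag : ∀ g : Γ, LinearMap.toMatrix (MonoidAlgebra.basis Γ ℂ) (MonoidAlgebra.basis Γ ℂ)
        (LinearMap.mulLeft ℂ el) g g = N⁻¹ := fun g => by
      rw [LinearMap.toMatrix_apply]
      simp only [LinearMap.mulLeft_apply, el, smul_mul_assoc, Finset.sum_mul, of, MonoidAlgebra.of_apply,
        MonoidAlgebra.basis_apply, MonoidAlgebra.single_mul_single, map_smul, map_sum, MonoidAlgebra.smul_single]
      have hrep : ∀ (h : Γ) (r : ℂ), (MonoidAlgebra.basis Γ ℂ).repr (MonoidAlgebra.single h r) g =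
          if h = g then r else 0 := fun h r => by
        rw [show MonoidAlgebra.single h r = r • MonoidAlgebra.basis Γ ℂ h by simp, map_smul,
          Module.Basis.repr_self, Finsupp.smul_apply, Finsupp.single_apply]
        simp
      simp [hrep]
    simp only [Matrix.trace, Matrix.diag, hdiag, Finset.sum_const, Finset.card_univ, nsmul_eq_mul]
    have h := Subgroup.card_eq_card_quotient_mul_card_subgroup σ.ker
    rw [Nat.card_congr (QuotientGroup.quotientKerEquivOfSurjective σ hσ.1).toEquiv,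
      Nat.card_eq_fintype_card, Nat.card_eq_fintype_card (α := σ.ker)] at h
    rw [h, Nat.cast_mul, mul_assoc, mul_inv_cancel₀ hN, mul_one]
  have htr2 : LinearMap.trace ℂ _ (LinearMap.mulLeft ℂ el) = ∑ i, c i * ((d i : ℂ) * d i) := by
    have hconj : Φ.toLinearEquiv.conj (LinearMap.mulLeft ℂ el) = LinearMap.mulLeft ℂ (Φ el) := by
      refine LinearMap.ext fun y => ?_
      show Φ (el * Φ.symm y) = Φ el * y
      rw [map_mul, AlgEquiv.apply_symm_apply]
    rw [← LinearMap.trace_conj' (LinearMap.mulLeft ℂ el) Φ.toLinearEquiv, hconj]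
    let B := Pi.basis fun i => Matrix.stdBasis ℂ (Fin (d i)) (Fin (d i))
    rw [LinearMap.trace_eq_matrix_trace ℂ B, Matrix.trace, Fintype.sum_sigma]
    refine Finset.sum_congr rfl fun i _ => ?_
    have hB : ∀ jk, Matrix.diag (LinearMap.toMatrix B B (LinearMap.mulLeft ℂ (Φ el))) ⟨i, jk⟩ = c i := fun jk => by
      rw [Matrix.diag_apply, LinearMap.toMatrix_apply]
      simp [B, Pi.basis_repr, hc i, Pi.basis_apply]
    simp only [hB, Finset.sum_const, Finset.card_univ, Fintype.card_prod, Fintype.card_fin, nsmul_eq_mul,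
      Nat.cast_mul]
    ring
  have key : (Nat.card Q : ℂ) = ((∑ i ∈ Finset.univ.filter (fun i => c i = 1), d i * d i : ℕ) : ℂ) := by
    rw [← htr1, htr2, Nat.cast_sum, Finset.sum_filter]
    refine Finset.sum_congr rfl fun i _ => ?_
    rcases hc01 i with h | h <;> simp [h]
  rw [Nat.cast_injective key, pow_two]
  exact Finset.dvd_sum fun i hi => mul_dvd_mul (hdvd i (Finset.mem_filter.1 hi).2) (hdvd i (Finset.mem_filter.1 hi).2)

theorem exponent_sq_dvd {Q : Type*} [Group Q] [Finite Q] {A : Type*} [CommGroup A]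
    (hA : Cfsg.HasSchurMultiplier Q A) : Monoid.exponent A ^ 2 ∣ Nat.card Q := by
  classical
  haveI := finite_of_hasSchurMultiplier hA
  obtain ⟨⟨Γ, _, _, σ, hσ, ⟨e⟩⟩, -⟩ := hA
  obtain ⟨a, ha⟩ := Monoid.exists_orderOf_eq_exponent (Monoid.ExponentExists.of_finite (G := A))
  have hm : orderOf a ≠ 0 := (orderOf_pos a).ne'
  obtain ⟨ζ, hζ⟩ : ∃ ζ : ℂˣ, orderOf ζ = orderOf a := by
    have h := Complex.isPrimitiveRoot_exp (orderOf a) hm
    refine ⟨Units.mk0 _ (h.ne_zero hm), ?_⟩
    rw [← orderOf_units, Units.val_mk0, ← h.eq_orderOf]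
  have hg : ∀ x : Subgroup.zpowers a, x ∈ Subgroup.zpowers (⟨a, Subgroup.mem_zpowers a⟩ : Subgroup.zpowers a) := by
    rintro ⟨_, k, rfl⟩
    exact ⟨k, Subtype.ext (by simp)⟩
  let χ₀ : Subgroup.zpowers a →* ℂˣ := monoidHomOfForallMemZpowers (g' := ζ) hg
    (by rw [hζ, Subgroup.orderOf_mk])
  obtain ⟨χ, hχ⟩ := exists_extend_char (Subgroup.zpowers a) χ₀
  have h := sq_dvd_of_stem σ hσ (χ.comp e.toMonoidHom) (e.symm a)
  have e1 : (χ.comp e.toMonoidHom) (e.symm a) = ζ := by
    show χ (e (e.symm a)) = ζ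
    rw [e.apply_symm_apply]
    exact (hχ ⟨a, Subgroup.mem_zpowers a⟩).trans (monoidHomOfForallMemZpowers_apply_gen _ _)
  rwa [e1, hζ, ha] at h

end CfsgLib.Solv.Mult
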