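import Cfsg.Agent.Solv.MultiplierLift

/-!
Restriction and corestriction between the multiplier of a group and that of a subgroup; the primary parts of the
multiplier are direct factors of the multipliers of the Sylow subgroups.
-/

set_option autoImplicit false
set_option linter.style.haveILetI false

universe u v w

open scoped commutatorElement Pointwise

namespace CfsgLib.Solv.Mult

theorem exists_res_cores {G : Type u} [Group G] [Finite G] (U : Subgroup G) :
    ∃ (f : M U →* M G) (g : M G →* M U), ∀ x, f (g x) = x ^ U.index := by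
  classical
  let S : Subgroup (FreeGroup G) := U.comap (proj G)
  haveI : S.FiniteIndex := ⟨by rw [Subgroup.index_comap_of_surjective U (proj_surjective G)]; exact Subgroup.index_ne_zero_of_finite⟩
  letI : Fintype ((FreeGroup G) ⧸ S) := S.fintypeQuotientOfFiniteIndex
  -- a lift of `S → U` to the universal extension of `U`
  let πS : S →* U := ((proj G).comp S.subtype).codRestrict U fun x => x.2
  choose l hl using fun i => eproj_surjective U (πS (IsFreeGroup.of (G := S) i))
  let ψ : S →* E U := IsFreeGroup.lift l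
  have hψ : (eproj U).comp ψ = πS := IsFreeGroup.ext_hom fun i => by
    show eproj U (IsFreeGroup.lift l (IsFreeGroup.of i)) = _
    rw [IsFreeGroup.lift_of]; exact hl i
  letI : CommGroup (eproj U).ker :=
    { (inferInstance : Group (eproj U).ker) with mul_comm := (ker_comm U).is_comm.comm }
  let t : (FreeGroup G) ⧸ S → (FreeGroup G) := Quotient.out
  have hR : ∀ (r : (proj G).ker) (x : (FreeGroup G)), x⁻¹ * r * x ∈ S := fun r x => by
    show proj G (x⁻¹ * r * x) ∈ U
    rw [map_mul, map_mul, show proj G r = 1 from r.2, mul_one, ← map_mul, inv_mul_cancel, map_one]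
    exact one_mem _
  have hker : ∀ (r : (proj G).ker) (x : (FreeGroup G)), ψ ⟨x⁻¹ * r * x, hR r x⟩ ∈ (eproj U).ker := fun r x => by
    rw [MonoidHom.mem_ker, ← MonoidHom.comp_apply, hψ]
    refine Subtype.ext ?_
    show proj G (x⁻¹ * r * x) = 1
    rw [map_mul, map_mul, show proj G r = 1 from r.2, mul_one, ← map_mul, inv_mul_cancel, map_one]
  let w : (proj G).ker → (FreeGroup G) → (eproj U).ker := fun r x => ⟨ψ ⟨x⁻¹ * r * x, hR r x⟩, hker r x⟩
  let res : (proj G).ker →* (eproj U).ker :=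
    { toFun := fun r => ∏ q : (FreeGroup G) ⧸ S, w r (t q)
      map_one' := Finset.prod_eq_one fun q _ => Subtype.ext (by
        show ψ ⟨(t q)⁻¹ * (1 : (FreeGroup G)) * t q, _⟩ = 1
        rw [← map_one ψ]; exact congrArg ψ (Subtype.ext (show (t q)⁻¹ * 1 * t q = (1 : (FreeGroup G)) by group)))
      map_mul' := fun r r' => by
        rw [← Finset.prod_mul_distrib]
        refine Finset.prod_congr rfl fun q _ => Subtype.ext ?_
        show ψ _ = ψ _ * ψ _
        rw [← map_mul]
        exact congrArg ψ (Subtype.ext (show (t q)⁻¹ * ((r : (FreeGroup G)) * r') * t q = (t q)⁻¹ * r * t q * ((t q)⁻¹ * r' * t q) by group)) }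
  have hinv : ∀ (r : (proj G).ker) (x : (FreeGroup G)),
      res ⟨x⁻¹ * r * x, by simpa using (proj G).normal_ker.conj_mem r.1 r.2 x⁻¹⟩ = res r := by
    intro r x
    refine Fintype.prod_equiv (MulAction.toPerm x) _ _ fun q => Subtype.ext ?_
    show ψ _ = ψ _
    have hmem : (t (x • q))⁻¹ * (x * t q) ∈ S := by
      rw [← QuotientGroup.eq, show ((t (x • q) : (FreeGroup G)) : (FreeGroup G) ⧸ S) = x • q from QuotientGroup.out_eq' _]
      conv_lhs => rw [← QuotientGroup.out_eq' q]
      rfl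
    have key : ψ ⟨(t (x • q))⁻¹ * r * t (x • q), hR r _⟩ =
        ψ (⟨_, hmem⟩⁻¹ * ⟨(t (x • q))⁻¹ * r * t (x • q), hR r _⟩ * ⟨_, hmem⟩) := by
      rw [map_mul, map_mul, map_inv]
      have hcent : ∀ z y : E U, z ∈ Subgroup.center (E U) → z = y⁻¹ * z * y := fun z y hz => by
        rw [mul_assoc, ← Subgroup.mem_center_iff.1 hz y, inv_mul_cancel_left]
      exact hcent _ _ (ker_le_center U (hker r (t (x • q))))
    refine Eq.trans ?_ key.symm
    refine congrArg ψ (Subtype.ext ?_)
    show (t q)⁻¹ * (x⁻¹ * r * x) * t q =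
      ((t (x • q))⁻¹ * (x * t q))⁻¹ * ((t (x • q))⁻¹ * r * t (x • q)) * ((t (x • q))⁻¹ * (x * t q))
    group
  have hkill : relSub G ≤ res.ker.map (proj G).ker.subtype := by
    refine Subgroup.commutator_le.2 fun x _ r hr => ?_
    have hc : x * r * x⁻¹ ∈ (proj G).ker := (proj G).normal_ker.conj_mem r hr x
    refine ⟨⟨x * r * x⁻¹, hc⟩ * ⟨r, hr⟩⁻¹, ?_, ?_⟩
    · rw [SetLike.mem_coe, MonoidHom.mem_ker, map_mul, map_inv, mul_inv_eq_one]
      rw [← hinv ⟨r, hr⟩ x⁻¹]
      exact congrArg res (Subtype.ext (by simp))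
    · rw [commutatorElement_def]; rfl
  let C : Subgroup (FreeGroup G) := (proj G).ker ⊓ commutator (FreeGroup G)
  let π : C →* M G := ((QuotientGroup.mk' (relSub G)).comp C.subtype).codRestrict (M G) fun c =>
    ⟨c.2.1, map_commutator_le (QuotientGroup.mk' (relSub G)) ⟨_, c.2.2, rfl⟩⟩
  have hπ : Function.Surjective π := by
    rintro ⟨m, hm1, hm2⟩
    rw [commutator_def, ← Subgroup.map_top_of_surjective _ (QuotientGroup.mk'_surjective (relSub G)),
      ← Subgroup.map_commutator] at hm2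
    obtain ⟨c, hc, rfl⟩ := hm2
    exact ⟨⟨c, hm1, hc⟩, rfl⟩
  -- the transfer of a character of `S` on elements of the kernel
  have htr : ∀ {A : Type u} [CommGroup A] (χ : S →* A) (r : (proj G).ker), (r : (FreeGroup G)) ∈ commutator (FreeGroup G) →
      ∏ q : (FreeGroup G) ⧸ S, χ ⟨(t q)⁻¹ * r * t q, hR r (t q)⟩ = 1 := by
    intro A _ χ r hr
    have h0 : MonoidHom.transfer χ (r : (FreeGroup G)) = 1 := Abelianization.commutator_subset_ker _ hr
    let T : S.LeftTransversal := ⟨Set.range t, Subgroup.isComplement_range_left QuotientGroup.out_eq'⟩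
    rw [MonoidHom.transfer_def χ T, Subgroup.leftTransversals.diff] at h0
    refine Eq.trans ?_ h0
    refine Finset.prod_congr (by ext; simp) fun q _ => congrArg χ (Subtype.ext ?_)
    have hq : ((r : (FreeGroup G)))⁻¹ • q = q := by
      obtain ⟨y, rfl⟩ := QuotientGroup.mk_surjective q
      rw [MulAction.Quotient.smul_mk, QuotientGroup.eq]
      simpa [mul_assoc] using hR r y
    show (t q)⁻¹ * r * t q = (T.2.leftQuotientEquiv q : FreeGroup G)⁻¹ *
      (((r : FreeGroup G) • T).2.leftQuotientEquiv q : FreeGroup G)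
    rw [Subgroup.smul_apply_eq_smul_apply_inv_smul, hq,
      Subgroup.IsComplement.leftQuotientEquiv_apply QuotientGroup.out_eq' q, smul_eq_mul, mul_assoc]
  have hres : ∀ c : C, ((res ⟨c, c.2.1⟩ : (eproj U).ker) : E U) ∈ M U := fun c => by
    refine ⟨SetLike.coe_mem _, (QuotientGroup.eq_one_iff _).1 ?_⟩
    let ab : (eproj U).ker →* Abelianization (E U) := Abelianization.of.comp (eproj U).ker.subtype
    show ab (∏ q : (FreeGroup G) ⧸ S, w ⟨c, c.2.1⟩ (t q)) = 1
    rw [map_prod]
    exact htr (Abelianization.of.comp ψ) ⟨c, c.2.1⟩ c.2.2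
  let resC : C →* M U :=
    { toFun := fun c => ⟨_, hres c⟩
      map_one' := Subtype.ext (by
        show ((res ⟨(1 : C), _⟩ : (eproj U).ker) : E U) = 1
        rw [show (⟨((1 : C) : (FreeGroup G)), (1 : C).2.1⟩ : (proj G).ker) = 1 from rfl, map_one]; rfl)
      map_mul' := fun a b => Subtype.ext (by
        show ((res ⟨(a * b : C), _⟩ : (eproj U).ker) : E U) = (res ⟨a, _⟩ : E U) * (res ⟨b, _⟩ : E U)
        rw [show (⟨((a * b : C) : (FreeGroup G)), (a * b).2.1⟩ : (proj G).ker) = ⟨a, a.2.1⟩ * ⟨b, b.2.1⟩ from rfl, map_mul]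
        rfl) }
  obtain ⟨g, hg⟩ := exists_descend π hπ resC (fun c hc => by
    obtain ⟨r, hr, hrc⟩ := hkill ((QuotientGroup.eq_one_iff (c : (FreeGroup G))).1 (congrArg Subtype.val hc))
    refine Subtype.ext ?_
    show ((res ⟨c, c.2.1⟩ : (eproj U).ker) : E U) = 1
    rw [show (⟨(c : (FreeGroup G)), c.2.1⟩ : (proj G).ker) = r from Subtype.ext hrc.symm, show res r = 1 from hr]
    rfl)
  obtain ⟨φ, hφ⟩ := exists_lift (eproj G) (eproj_surjective G) (ker_le_center G) U.subtype
  let f : M U →* M G := (φ.comp (M U).subtype).codRestrict (M G) fun m => by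
    refine ⟨?_, map_commutator_le φ ⟨_, m.2.2, rfl⟩⟩
    show eproj G (φ m) = 1
    rw [← MonoidHom.comp_apply, hφ, MonoidHom.comp_apply, show eproj U m = 1 from m.2.1, map_one]
  refine ⟨f, g, fun m => ?_⟩
  obtain ⟨c, rfl⟩ := hπ m
  refine Subtype.ext ?_
  show φ ((g.comp π c : M U) : E U) = ((π c ^ U.index : M G) : E G)
  rw [hg, SubmonoidClass.coe_pow]
  show φ ((res ⟨c, c.2.1⟩ : (eproj U).ker) : E U) = (QuotientGroup.mk (c : (FreeGroup G)) : E G) ^ U.index
  -- the two lifts of `S → G` differ by a character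
  have hlift : (eproj G).comp (φ.comp ψ) = (eproj G).comp ((QuotientGroup.mk' (relSub G)).comp S.subtype) := by
    rw [← MonoidHom.comp_assoc, hφ, MonoidHom.comp_assoc, hψ]
    rfl
  obtain ⟨χ, hχker, hχ, -⟩ := lift_div (ker_le_center G) hlift
  letI : CommGroup (eproj G).ker :=
    { (inferInstance : Group (eproj G).ker) with mul_comm := (ker_comm G).is_comm.comm }
  let χ' : S →* (eproj G).ker := χ.codRestrict _ hχker
  have hcen : (QuotientGroup.mk (c : (FreeGroup G)) : E G) ∈ Subgroup.center (E G) := ker_le_center G c.2.1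
  let c' : (eproj G).ker := ⟨QuotientGroup.mk (c : (FreeGroup G)), c.2.1⟩
  have hterm : ∀ q : (FreeGroup G) ⧸ S, φ ((w ⟨c, c.2.1⟩ (t q) : (eproj U).ker) : E U) =
      ((χ' ⟨(t q)⁻¹ * (c : (FreeGroup G)) * t q, hR ⟨c, c.2.1⟩ (t q)⟩ * c' : (eproj G).ker) : E G) := fun q => by
    refine (hχ _).trans ?_
    show _ * (QuotientGroup.mk ((t q)⁻¹ * (c : (FreeGroup G)) * t q) : E G) = _ * (QuotientGroup.mk (c : (FreeGroup G)) : E G)
    congr 1
    rw [QuotientGroup.mk_mul, QuotientGroup.mk_mul, QuotientGroup.mk_inv, mul_assoc,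
      ← Subgroup.mem_center_iff.1 hcen (QuotientGroup.mk (t q)), inv_mul_cancel_left]
  let φK : (eproj U).ker →* (eproj G).ker := (φ.comp (eproj U).ker.subtype).codRestrict _ fun z => by
    rw [MonoidHom.mem_ker]
    show eproj G (φ z) = 1
    rw [← MonoidHom.comp_apply, hφ, MonoidHom.comp_apply, show eproj U z = 1 from z.2, map_one]
  have hprod : φK (res ⟨c, c.2.1⟩) = c' ^ Fintype.card ((FreeGroup G) ⧸ S) := by
    show φK (∏ q : (FreeGroup G) ⧸ S, w ⟨c, c.2.1⟩ (t q)) = _
    rw [map_prod, Finset.prod_congr rfl (fun q _ => (Subtype.ext (hterm q) :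
      φK (w ⟨c, c.2.1⟩ (t q)) = χ' ⟨(t q)⁻¹ * (c : (FreeGroup G)) * t q, hR ⟨c, c.2.1⟩ (t q)⟩ * c')),
      Finset.prod_mul_distrib, htr χ' ⟨c, c.2.1⟩ c.2.2, one_mul, Finset.prod_const, Finset.card_univ]
  have := congrArg Subtype.val hprod
  rw [SubmonoidClass.coe_pow, ← Nat.card_eq_fintype_card] at this
  rwa [show Nat.card ((FreeGroup G) ⧸ S) = U.index from Subgroup.index_comap_of_surjective U (proj_surjective G)] at this

/-- The primary component of the multiplier is a direct factor of the multiplier of a Sylow subgroup. -/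
theorem exists_primary_factor {G : Type u} [Group G] [Finite G] (p : ℕ) [Fact p.Prime] (P : Sylow p G)
    {A : Type v} {B : Type w} [CommGroup A] [CommGroup B] (hA : Cfsg.HasSchurMultiplier G A)
    (hB : Cfsg.HasSchurMultiplier P B) :
    ∃ C D : Subgroup B, C ⊓ D = ⊥ ∧ C ⊔ D = ⊤ ∧ Nonempty (CommGroup.primaryComponent A p ≃* C) := by
  classical
  haveI := finite_of_hasSchurMultiplier hA
  obtain ⟨eA⟩ := equiv_M hA
  obtain ⟨eB⟩ := equiv_M hB
  obtain ⟨f, g, hfg⟩ := exists_res_cores (P : Subgroup G)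
  let F' : B →* A := eA.symm.toMonoidHom.comp (f.comp eB.toMonoidHom)
  let G' : A →* B := eB.symm.toMonoidHom.comp (g.comp eA.toMonoidHom)
  have hFG : ∀ a, F' (G' a) = a ^ (P : Subgroup G).index := fun a => by
    simp only [F', G', MonoidHom.comp_apply, MulEquiv.coe_toMonoidHom, MulEquiv.apply_symm_apply, hfg, map_pow,
      MulEquiv.symm_apply_apply]
  have hp : p.Prime := Fact.out
  obtain ⟨k, m, hm, hcard⟩ := Nat.exists_eq_pow_mul_and_not_dvd Nat.card_pos.ne' p hp.ne_one (n := Nat.card A)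
  let Ap := CommGroup.primaryComponent A p
  have hAp : ∀ a : A, a ∈ Ap ↔ a ^ p ^ k = 1 := fun a => by
    refine ⟨fun ⟨j, hj⟩ => ?_, fun h => ⟨k, h⟩⟩
    have h1 : orderOf a ∣ p ^ j := orderOf_dvd_of_pow_eq_one hj
    have h2 : orderOf a ∣ p ^ k * m := hcard ▸ orderOf_dvd_natCard a
    exact orderOf_dvd_iff_pow_eq_one.1 (((Nat.Coprime.pow_left j ((Nat.Prime.coprime_iff_not_dvd hp).2 hm)).coprime_dvd_left h1).dvd_of_dvd_mul_right h2)
  let j := (P : Subgroup G).index * m
  have hj : Nat.Coprime (p ^ k) j := Nat.Coprime.pow_left k ((Nat.Prime.coprime_iff_not_dvd hp).2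
    (fun h => (hp.dvd_mul.1 h).elim P.not_dvd_index hm))
  let h : B →* A := (powMonoidHom m : A →* A).comp F'
  have hh : ∀ a, h (G' a) = a ^ j := fun a => by
    show F' (G' a) ^ m = _
    rw [hFG, ← pow_mul]
  have hhAp : ∀ b, h b ∈ Ap := fun b => by
    rw [hAp]
    show (F' b ^ m) ^ p ^ k = 1
    rw [← pow_mul, mul_comm, ← hcard, pow_card_eq_one']
  have hinj : ∀ a ∈ Ap, a ^ j = 1 → a = 1 := fun a ha he =>
    orderOf_eq_one_iff.1 (Nat.dvd_one.1 (hj ▸
      Nat.dvd_gcd (orderOf_dvd_of_pow_eq_one ((hAp a).1 ha)) (orderOf_dvd_of_pow_eq_one he)))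
  let q : Ap →* Ap := powMonoidHom j
  have hq : Function.Surjective q := Finite.injective_iff_surjective.1 ((injective_iff_map_eq_one q).2 fun a ha =>
    Subtype.ext (hinj a a.2 (congrArg Subtype.val ha)))
  refine ⟨Ap.map G', h.ker, eq_bot_iff.2 ?_, eq_top_iff.2 fun b _ => ?_, ⟨?_⟩⟩
  · rintro _ ⟨⟨a, ha, rfl⟩, hb⟩
    rw [Subgroup.mem_bot, hinj a ha ((hh a).symm.trans hb), map_one]
  · obtain ⟨a, ha⟩ := hq ⟨h b, hhAp b⟩
    rw [← mul_inv_cancel_left (G' a) b]
    refine Subgroup.mul_mem_sup ⟨a, a.2, rfl⟩ ?_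
    rw [MonoidHom.mem_ker, map_mul, map_inv, hh]
    rw [show (a : A) ^ j = h b from congrArg Subtype.val ha, inv_mul_cancel]
  · refine (MonoidHom.ofInjective (f := G'.comp Ap.subtype) ((injective_iff_map_eq_one _).2 fun a ha => ?_)).trans
      (MulEquiv.subgroupCongr ?_)
    · exact Subtype.ext (hinj a a.2 (by rw [← hh, show G' (a : A) = 1 from ha, map_one]))
    · rw [MonoidHom.range_comp, Subgroup.range_subtype]

end CfsgLib.Solv.Mult
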