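import Cfsg.Agent.Solv.Multiplier

/-!
Projective representations, representation groups and perfect groups.
-/

set_option autoImplicit false
set_option linter.style.haveILetI false
set_option linter.unusedSectionVars false

universe u v w

open scoped commutatorElement

namespace CfsgLib.Solv.Mult

variable {Q : Type u} [Group Q] [Finite Q]

/-- Descend a homomorphism along a surjection. -/
theorem exists_descend {G H K : Type*} [Group G] [Group H] [Group K] (f : G →* H)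
    (hf : Function.Surjective f) (g : G →* K) (h : f.ker ≤ g.ker) : ∃ φ : H →* K, φ.comp f = g :=
  ⟨f.liftOfSurjective hf ⟨g, h⟩, MonoidHom.ext fun x => f.liftOfRightInverse_comp_apply _ (Function.rightInverse_surjInv hf) ⟨g, h⟩ x⟩

/-- Central homomorphisms extend to a twist. -/
theorem exists_twist {G : Type*} [Group G] (ψ : E Q →* G) {C : Type*} [CommGroup C] (c : C →* G)
    (hc : ∀ z g, Commute (c z) g) (χ : E Q →* C) :
    ∃ φ : E Q →* G, ∀ e, φ e = c (χ e) * ψ e :=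
  ⟨{ toFun := fun e => c (χ e) * ψ e
     map_one' := by simp
     map_mul' := fun a b => by
      simp only [map_mul]
      calc c (χ a) * c (χ b) * (ψ a * ψ b) = c (χ a) * (c (χ b) * ψ a) * ψ b := by group
        _ = c (χ a) * (ψ a * c (χ b)) * ψ b := by rw [(hc (χ b) (ψ a)).eq]
        _ = _ := by group }, fun _ => rfl⟩

/-- A representation group lifts every projective representation. -/
theorem exists_lift_of_equiv {Γ : Type v} [Group Γ] (σ : Γ →* Q) (hσ : Cfsg.IsStemExtension σ)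
    (hk : Nonempty (σ.ker ≃* M Q)) (n : ℕ)
    (γ : Q →* (GL (Fin n) ℂ ⧸ Subgroup.center (GL (Fin n) ℂ))) :
    ∃ ρ : Γ →* GL (Fin n) ℂ, (QuotientGroup.mk' (Subgroup.center (GL (Fin n) ℂ))).comp ρ = γ.comp σ := by
  classical
  obtain ⟨e⟩ := hk
  haveI : Finite σ.ker := Finite.of_equiv _ e.symm.toEquiv
  obtain ⟨φ, hφσ, hφ, π, hπ, hπ'⟩ := exists_surjective σ hσ
  have hπi : Function.Injective π :=
    (hπ.bijective_of_nat_card_le (Nat.card_congr e.toEquiv).ge).1
  set Z := Subgroup.center (GL (Fin n) ℂ) with hZ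
  obtain ⟨ψ, hψ⟩ := exists_lift (QuotientGroup.mk' Z) (QuotientGroup.mk'_surjective Z)
    (by rw [QuotientGroup.ker_mk']) γ
  rcases Nat.eq_zero_or_pos n with rfl | hn
  · exact ⟨1, MonoidHom.ext fun x => Subsingleton.elim _ _⟩
  haveI : Nonempty (Fin n) := ⟨⟨0, hn⟩⟩
  let c : ℂˣ →* GL (Fin n) ℂ := Matrix.GeneralLinearGroup.scalar (Fin n)
  have hcZ : Z = c.range := Matrix.GeneralLinearGroup.center_eq_range_scalar
  have hcc : ∀ z g, Commute (c z) g := fun z g =>
    (Subgroup.mem_center_iff.1 (hcZ.ge ⟨z, rfl⟩) g).symm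
  have hci : Function.Injective c := fun a b h => by
    have := congrArg (fun g : GL (Fin n) ℂ => g.val ⟨0, hn⟩ ⟨0, hn⟩) h
    simp [c] at this
    exact Units.ext this
  have hL : φ.ker ≤ (eproj Q).ker := fun x hx => by
    rw [MonoidHom.mem_ker, ← hφσ, MonoidHom.comp_apply, hx, map_one]
  have hLZ : ∀ l ∈ φ.ker, ψ l ∈ c.range := fun l hl => by
    rw [← hcZ, ← QuotientGroup.eq_one_iff]
    have := DFunLike.congr_fun hψ l
    simp only [MonoidHom.comp_apply] at this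
    rw [show eproj Q l = 1 from hL hl, map_one] at this
    exact this
  let χ₀ : φ.ker →* ℂˣ := (MonoidHom.ofInjective hci).symm.toMonoidHom.comp
    ((ψ.comp φ.ker.subtype).codRestrict c.range fun l => hLZ l l.2)
  have hχ₀ : ∀ l : φ.ker, c (χ₀ l) = ψ l := fun l =>
    MonoidHom.apply_ofInjective_symm hci _
  let a : φ.ker →* Abelianization (E Q) := Abelianization.of.comp φ.ker.subtype
  have ha : Function.Injective a := by
    rw [← MonoidHom.ker_eq_bot_iff, eq_bot_iff]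
    intro l hl
    have h1 : (l : E Q) ∈ commutator (E Q) := Abelianization.ker_of (E Q) ▸ hl
    have h2 : π ⟨l, hL l.2, h1⟩ = π 1 := Subtype.ext (by rw [map_one, hπ']; exact l.2)
    exact Subgroup.mem_bot.2 (Subtype.ext (congrArg (fun t : M Q => (t : E Q)) (hπi h2)))
  obtain ⟨Ψ, hΨ⟩ := exists_extend_char a.range (χ₀.comp (MonoidHom.ofInjective ha).symm.toMonoidHom)
  obtain ⟨ψ', hψ'⟩ := exists_twist ψ c hcc (Ψ.comp Abelianization.of)⁻¹
  have hker : φ.ker ≤ ψ'.ker := by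
    intro l hl
    have h := hΨ ⟨a ⟨l, hl⟩, ⟨_, rfl⟩⟩
    simp only [MonoidHom.comp_apply, MulEquiv.coe_toMonoidHom] at h
    rw [show (⟨a ⟨l, hl⟩, ⟨⟨l, hl⟩, rfl⟩⟩ : a.range) = MonoidHom.ofInjective ha ⟨l, hl⟩ from rfl,
      MulEquiv.symm_apply_apply] at h
    rw [MonoidHom.mem_ker, hψ', MonoidHom.inv_apply, MonoidHom.comp_apply, map_inv, inv_mul_eq_one]
    exact (congrArg c h).trans (hχ₀ ⟨l, hl⟩)
  obtain ⟨ρ, hρ⟩ := exists_descend φ hφ ψ' hker
  refine ⟨ρ, MonoidHom.ext fun x => ?_⟩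
  obtain ⟨y, rfl⟩ := hφ x
  show QuotientGroup.mk' Z (ρ (φ y)) = γ (σ (φ y))
  rw [← MonoidHom.comp_apply σ φ, hφσ, ← MonoidHom.comp_apply γ, ← hψ, ← MonoidHom.comp_apply ρ φ, hρ, hψ',
    map_mul, show QuotientGroup.mk' Z (c _) = 1 from (QuotientGroup.eq_one_iff _).2 (hcZ.ge ⟨_, rfl⟩), one_mul]
  rfl

/-- The monomial representation induced from a character of a central kernel. -/
theorem exists_monomial {Δ : Type v} [Group Δ] (τ : Δ →* Q) (hτ : Function.Surjective τ)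
    (hc : τ.ker ≤ Subgroup.center Δ) (θ : τ.ker →* ℂˣ) :
    ∃ (n : ℕ) (ρ : Δ →* GL (Fin n) ℂ), 0 < n ∧
      ∀ z : τ.ker, ρ z = Matrix.GeneralLinearGroup.scalar (Fin n) (θ z) := by
  classical
  obtain ⟨n, ⟨e⟩⟩ := Finite.exists_equiv_fin Q
  choose s hs using fun q => hτ q
  have hmem : ∀ d q, (s (τ d * q))⁻¹ * d * s q ∈ τ.ker := fun d q => by
    rw [MonoidHom.mem_ker, map_mul, map_mul, map_inv, hs, hs]; group
  let cc : Δ → Q → ℂˣ := fun d q => θ ⟨_, hmem d q⟩
  have hmul : ∀ d d' q, cc (d * d') q = cc d (τ d' * q) * cc d' q := by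
    intro d d' q
    show θ _ = θ _ * θ _
    rw [← map_mul]
    refine congrArg θ (Subtype.ext ?_)
    show (s (τ (d * d') * q))⁻¹ * (d * d') * s q =
      ((s (τ d * (τ d' * q)))⁻¹ * d * s (τ d' * q)) * ((s (τ d' * q))⁻¹ * d' * s q)
    rw [map_mul, mul_assoc (τ d)]
    group
  let mat : Δ → Matrix (Fin n) (Fin n) ℂ := fun d =>
    Matrix.of fun i j => if i = e (τ d * e.symm j) then (cc d (e.symm j) : ℂ) else 0
  let ρ₀ : Δ →* Matrix (Fin n) (Fin n) ℂ :=
    { toFun := mat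
      map_one' := by
        ext i j
        have h1 : cc 1 (e.symm j) = 1 := by
          show θ _ = 1
          rw [← map_one θ]
          exact congrArg θ (Subtype.ext (by simp))
        simp [mat, Matrix.one_apply, h1]
      map_mul' := fun d d' => by
        ext i j
        simp only [mat, Matrix.mul_apply, Matrix.of_apply]
        rw [Finset.sum_eq_single (e (τ d' * e.symm j)) (fun b _ hb => by rw [if_neg hb, mul_zero])
          (fun h => absurd (Finset.mem_univ _) h), if_pos rfl, e.symm_apply_apply, hmul, τ.map_mul, mul_assoc (τ d)]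
        split_ifs
        · rw [Units.val_mul]
        · rw [zero_mul] }
  refine ⟨n, ρ₀.toHomUnits, (e 1).pos, fun z => Units.ext ?_⟩
  ext i j
  have h1 : cc z (e.symm j) = θ z := by
    refine congrArg θ (Subtype.ext ?_)
    show (s (τ z * e.symm j))⁻¹ * z * s (e.symm j) = (z : Δ)
    rw [z.2, one_mul, mul_assoc, ← Subgroup.mem_center_iff.1 (hc z.2) (s (e.symm j))]
    group
  show mat z i j = _
  simp [mat, h1, show τ (z : Δ) = 1 from z.2, Matrix.diagonal_apply]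

/-- Lifting all projective representations forces a representation group. -/
theorem surjective_of_lifts {Γ : Type v} [Group Γ] (σ : Γ →* Q) (hσ : Cfsg.IsStemExtension σ)
    (hlift : ∀ (n : ℕ) (γ : Q →* (GL (Fin n) ℂ ⧸ Subgroup.center (GL (Fin n) ℂ))),
      ∃ ρ : Γ →* GL (Fin n) ℂ, (QuotientGroup.mk' (Subgroup.center (GL (Fin n) ℂ))).comp ρ = γ.comp σ)
    {Δ : Type w} [Group Δ] [Finite Δ] (τ : Δ →* Q) (hτ : Cfsg.IsStemExtension τ) :
    ∃ π : σ.ker →* τ.ker, Function.Surjective π := by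
  classical
  obtain ⟨φσ, hσ1, hσ2, πσ, hπσ, hπσ'⟩ := exists_surjective σ hσ
  obtain ⟨φτ, hτ1, hτ2, πτ, hπτ, hπτ'⟩ := exists_surjective τ hτ
  suffices h : πσ.ker ≤ πτ.ker by
    obtain ⟨π, hπ⟩ := exists_descend πσ hπσ πτ h
    refine ⟨π, fun k => ?_⟩
    obtain ⟨m, rfl⟩ := hπτ k
    exact ⟨πσ m, DFunLike.congr_fun hπ m⟩
  intro m hm
  rw [MonoidHom.mem_ker]
  by_contra hne
  haveI hcomm : IsMulCommutative τ.ker :=
    ⟨⟨fun a b => Subtype.ext (Subgroup.mem_center_iff.1 (hτ.2.1 b.2) a)⟩⟩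
  obtain ⟨θ, hθ⟩ : ∃ θ : τ.ker →* ℂˣ, θ (πτ m) ≠ 1 := by
    open scoped IsMulCommutative in
    exact CommGroup.exists_apply_ne_one_of_hasEnoughRootsOfUnity τ.ker ℂ hne
  obtain ⟨n, ρ, hn, hρ⟩ := exists_monomial τ hτ.1 hτ.2.1 θ
  set Z := Subgroup.center (GL (Fin n) ℂ) with hZ
  obtain ⟨γ, hγ⟩ := exists_descend τ hτ.1 ((QuotientGroup.mk' Z).comp ρ) fun z hz => by
    rw [MonoidHom.mem_ker, MonoidHom.comp_apply, QuotientGroup.mk'_apply, QuotientGroup.eq_one_iff,
      show ρ z = _ from hρ ⟨z, hz⟩, hZ, Matrix.GeneralLinearGroup.center_eq_range_scalar]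
    exact ⟨_, rfl⟩
  obtain ⟨ρ', hρ'⟩ := hlift n γ
  obtain ⟨-, -, -, hagree⟩ := lift_div (σ := QuotientGroup.mk' Z) (by rw [QuotientGroup.ker_mk'])
    (φ := ρ'.comp φσ) (ψ := ρ.comp φτ) (by
      rw [← MonoidHom.comp_assoc, hρ', MonoidHom.comp_assoc, hσ1, ← MonoidHom.comp_assoc, ← hγ,
        MonoidHom.comp_assoc, hτ1])
  have h := hagree (m : E Q) (M_le_commutator Q m.2)
  have h1 : (πσ m : Γ) = 1 := by rw [hm]; rfl
  rw [MonoidHom.comp_apply, MonoidHom.comp_apply, ← hπσ', ← hπτ', h1, map_one, hρ] at h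
  refine hθ (Units.ext ?_)
  have h2 := congrArg (fun g : GL (Fin n) ℂ => g.val ⟨0, hn⟩ ⟨0, hn⟩) h
  simpa using h2.symm

/-- A dominating representation group. -/
theorem exists_cover_above {Δ : Type u} [Group Δ] [Finite Δ] (τ : Δ →* Q) (hτ : Cfsg.IsStemExtension τ) :
    ∃ (Γ : Type u) (_ : Group Γ) (_ : Finite Γ) (σ : Γ →* Q), Cfsg.IsStemExtension σ ∧
      Nonempty (σ.ker ≃* M Q) ∧ ∃ β : Γ →* Δ, Function.Surjective β ∧ τ.comp β = σ := by
  obtain ⟨φ, hφτ, hφ, π, hπ, hπ'⟩ := exists_surjective τ hτ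
  have hN : φ.ker ≤ (eproj Q).ker := fun x hx => by
    rw [MonoidHom.mem_ker, ← hφτ, MonoidHom.comp_apply, hx, map_one]
  have hsup : (eproj Q).ker ≤ φ.ker ⊔ M Q := by
    intro k hk
    obtain ⟨m, hm⟩ := hπ ⟨φ k, (DFunLike.congr_fun hφτ k).trans hk⟩
    have h1 : k * (m : E Q)⁻¹ ∈ φ.ker := by
      rw [MonoidHom.mem_ker, map_mul, map_inv, ← hπ', hm, mul_inv_cancel]
    have := Subgroup.mul_mem_sup h1 m.2
    rwa [inv_mul_cancel_right] at this
  obtain ⟨L, hLN, hLM, hLsup⟩ := exists_complement φ.ker hN hsup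
  haveI := normal_of_le_ker (hLN.trans hN)
  obtain ⟨h1, h2, e, -⟩ := cover_of_complement L (hLN.trans hN) hLM hLsup
  refine ⟨_, inferInstance, h2, _, h1, ⟨e.symm⟩, QuotientGroup.lift L φ hLN, fun d => ?_, ?_⟩
  · obtain ⟨x, rfl⟩ := hφ d
    exact ⟨QuotientGroup.mk x, rfl⟩
  · refine MonoidHom.ext fun x => ?_
    obtain ⟨y, rfl⟩ := QuotientGroup.mk'_surjective L x
    exact DFunLike.congr_fun hφτ y

/-- A finite stem extension with trivial multiplier is a representation group. -/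
theorem equiv_of_trivial_multiplier {Γ : Type v} [Group Γ] [Finite Γ] (σ : Γ →* Q)
    (hσ : Cfsg.IsStemExtension σ) (hΓ : M Γ = ⊥) : Nonempty (σ.ker ≃* M Q) := by
  obtain ⟨φ, hφσ, hφ, π, hπ, hπ'⟩ := exists_surjective σ hσ
  have hN : φ.ker ≤ (eproj Q).ker := fun x hx => by
    rw [MonoidHom.mem_ker, ← hφσ, MonoidHom.comp_apply, hx, map_one]
  have hsup : (eproj Q).ker ≤ φ.ker ⊔ M Q := by
    intro k hk
    obtain ⟨m, hm⟩ := hπ ⟨φ k, (DFunLike.congr_fun hφσ k).trans hk⟩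
    have h1 : k * (m : E Q)⁻¹ ∈ φ.ker := by
      rw [MonoidHom.mem_ker, map_mul, map_inv, ← hπ', hm, mul_inv_cancel]
    have := Subgroup.mul_mem_sup h1 m.2
    rwa [inv_mul_cancel_right] at this
  obtain ⟨L, hLN, hLM, hLsup⟩ := exists_complement φ.ker hN hsup
  haveI := normal_of_le_ker (hLN.trans hN)
  obtain ⟨h1, h2, e, he⟩ := cover_of_complement L (hLN.trans hN) hLM hLsup
  set β : E Q ⧸ L →* Γ := QuotientGroup.lift L φ hLN
  have hβσ : σ.comp β = QuotientGroup.lift L (eproj Q) (hLN.trans hN) := MonoidHom.ext fun x => by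
    obtain ⟨y, rfl⟩ := QuotientGroup.mk'_surjective L x
    exact DFunLike.congr_fun hφσ y
  have hβker : β.ker ≤ (QuotientGroup.lift L (eproj Q) (hLN.trans hN)).ker := fun x hx => by
    rw [MonoidHom.mem_ker, ← hβσ, MonoidHom.comp_apply, hx, map_one]
  have hβ : Cfsg.IsStemExtension β :=
    ⟨fun d => by obtain ⟨x, rfl⟩ := hφ d; exact ⟨QuotientGroup.mk x, rfl⟩, hβker.trans h1.2.1, hβker.trans h1.2.2⟩
  have hbot := ker_eq_bot_of_M hβ hΓ
  refine ⟨(MulEquiv.ofBijective π ⟨?_, hπ⟩).symm⟩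
  rw [← MonoidHom.ker_eq_bot_iff, eq_bot_iff]
  intro m hm
  have h3 : (QuotientGroup.mk (m : E Q) : E Q ⧸ L) ∈ β.ker := by
    show φ (m : E Q) = 1
    rw [← hπ', hm]; rfl
  rw [hbot, Subgroup.mem_bot, ← he] at h3
  exact Subgroup.mem_bot.2 (e.injective (Subtype.ext (h3.trans (by simp))))

/-! ### Perfect groups -/

theorem eq_of_perfect {G X P : Type*} [Group G] [Group X] [Group P] (hG : commutator G = ⊤) {ξ : X →* P}
    (hc : ξ.ker ≤ Subgroup.center X) {η η' : G →* X} (h : ξ.comp η = ξ.comp η') : η = η' := by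
  obtain ⟨-, -, -, ha⟩ := lift_div hc h
  exact MonoidHom.ext fun g => ha g (hG ▸ Subgroup.mem_top g)

/-- The commutator subgroup of `E Q` is perfect when `Q` is. -/
theorem commutator_E_perfect (hQ : commutator Q = ⊤) :
    (⊤ : Subgroup (E Q)) ≤ commutator (E Q) ⊔ (eproj Q).ker ∧
      ⁅commutator (E Q), commutator (E Q)⁆ = commutator (E Q) := by
  have h1 : (⊤ : Subgroup (E Q)) ≤ commutator (E Q) ⊔ (eproj Q).ker := by
    intro e _
    have he : eproj Q e ∈ (commutator (E Q)).map (eproj Q) := by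
      rw [commutator_def, Subgroup.map_commutator, Subgroup.map_top_of_surjective _ (eproj_surjective Q),
        ← commutator_def, hQ]
      exact Subgroup.mem_top _
    obtain ⟨c, hc, e'⟩ := he
    have h2 : c⁻¹ * e ∈ (eproj Q).ker := by rw [MonoidHom.mem_ker, map_mul, map_inv, e', inv_mul_cancel]
    have := Subgroup.mul_mem_sup hc h2
    rwa [mul_inv_cancel_left] at this
  refine ⟨h1, le_antisymm (Subgroup.commutator_le_right _ _) ?_⟩
  rw [commutator_def, Subgroup.commutator_le]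
  intro a _ b _
  obtain ⟨c, hc, k, hk, rfl⟩ := Subgroup.mem_sup_of_normal_left.1 (h1 (Subgroup.mem_top a))
  obtain ⟨c', hc', k', hk', rfl⟩ := Subgroup.mem_sup_of_normal_left.1 (h1 (Subgroup.mem_top b))
  have hk1 := Subgroup.mem_center_iff.1 (ker_le_center Q hk)
  have hk2 := Subgroup.mem_center_iff.1 (ker_le_center Q hk')
  have : ⁅c * k, c' * k'⁆ = ⁅c, c'⁆ := by
    simp only [commutatorElement_def]
    calc c * k * (c' * k') * (c * k)⁻¹ * (c' * k')⁻¹
        = c * (k * (c' * k')) * (k⁻¹ * c⁻¹) * (k'⁻¹ * c'⁻¹) := by group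
      _ = c * ((c' * k') * k) * (k⁻¹ * c⁻¹) * (k'⁻¹ * c'⁻¹) := by rw [hk1 (c' * k')]
      _ = c * c' * (k' * c⁻¹) * (k'⁻¹ * c'⁻¹) := by group
      _ = c * c' * (c⁻¹ * k') * (k'⁻¹ * c'⁻¹) := by rw [hk2 c⁻¹]
      _ = _ := by group
  rw [this]
  exact Subgroup.commutator_mem_commutator hc hc'

end CfsgLib.Solv.Mult
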