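import Cfsg.Agent.Solv.Multiplier

/-!
Central extensions of groups generated by an element and an element inverting it.
-/

set_option autoImplicit false
set_option linter.style.haveILetI false

open scoped commutatorElement

namespace CfsgLib.Solv.Mult

theorem inverting_core {Q : Type*} [Group Q] {Γ : Type*} [Group Γ] (σ : Γ →* Q) (hσ : Function.Surjective σ)
    (hc : σ.ker ≤ Subgroup.center Γ) {x y : Q} (hxy : y * x * y⁻¹ = x⁻¹) (hgen : Subgroup.closure {x, y} = ⊤)
    (N : ℕ) (hN : x ^ N = 1 ∨ y ^ 2 = x ^ N) :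
    ∃ c : Γ, c ^ N = 1 ∧ commutator Γ ≤ Subgroup.zpowers c ∧ σ c = (x ^ 2)⁻¹ := by
  obtain ⟨a, ha⟩ := hσ x
  obtain ⟨b, hb⟩ := hσ y
  have hcen : ∀ {z : Γ}, z ∈ σ.ker → ∀ g, g * z = z * g := fun hz => Subgroup.mem_center_iff.1 (hc hz)
  set c := ⁅b, a⁆ with hcdef
  have hσc : σ c = (x ^ 2)⁻¹ := by
    rw [hcdef, map_commutatorElement, hb, ha, commutatorElement_def, hxy]; group
  have hk : a ^ 2 * c ∈ σ.ker := by
    rw [MonoidHom.mem_ker, map_mul, map_pow, ha, hσc, mul_inv_cancel]
  have hca : Commute c a := by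
    have h1 : Commute (a ^ 2 * c) a := (hcen hk a).symm
    have h2 : Commute ((a ^ 2)⁻¹ * (a ^ 2 * c)) a :=
      ((Commute.refl a).pow_left 2).inv_left.mul_left h1
    rwa [inv_mul_cancel_left] at h2
  have hba : b * a * b⁻¹ = c * a := by rw [hcdef, commutatorElement_def]; group
  have hbc : b * c * b⁻¹ = c⁻¹ := by
    have h1 : b * (a ^ 2 * c) * b⁻¹ = a ^ 2 * c := by rw [hcen hk b, mul_inv_cancel_right]
    have h2 : b * (a ^ 2 * c) * b⁻¹ = (b * a * b⁻¹) ^ 2 * (b * c * b⁻¹) := by rw [conj_pow]; group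
    rw [h2, hba, hca.mul_pow] at h1
    have h3 : c ^ 2 * a ^ 2 * (b * c * b⁻¹) = a ^ 2 * c := h1
    rw [((hca.pow_pow 2 2)).eq, mul_assoc, mul_right_inj] at h3
    rw [← mul_right_inj (c ^ 2), h3]
    group
  have hpow : ∀ m : ℕ, b * a ^ m * b⁻¹ = c ^ m * a ^ m := fun m => by
    rw [← conj_pow, hba, hca.mul_pow]
  have hN' : b * a ^ N * b⁻¹ = a ^ N := by
    rcases hN with h | h
    · have : a ^ N ∈ σ.ker := by rw [MonoidHom.mem_ker, map_pow, ha, h]
      rw [hcen this b, mul_inv_cancel_right]
    · have hk' : (b ^ 2)⁻¹ * a ^ N ∈ σ.ker := by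
        rw [MonoidHom.mem_ker, map_mul, map_inv, map_pow, map_pow, ha, hb, h, inv_mul_cancel]
      have h1 : Commute b (b ^ 2 * ((b ^ 2)⁻¹ * a ^ N)) :=
        ((Commute.refl b).pow_right 2).mul_right (hcen hk' b)
      rw [mul_inv_cancel_left] at h1
      rw [h1.eq, mul_inv_cancel_right]
  refine ⟨c, ?_, ?_, hσc⟩
  · have := hpow N
    rw [hN'] at this
    exact right_eq_mul.1 this
  · have htop : Subgroup.closure {a, b} ⊔ Subgroup.center Γ = ⊤ := by
      refine eq_top_iff.2 fun g _ => ?_
      have h1 : σ g ∈ (Subgroup.closure {a, b}).map σ := by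
        rw [MonoidHom.map_closure, Set.image_pair, ha, hb, hgen]
        exact Subgroup.mem_top _
      obtain ⟨u, hu, hug⟩ := h1
      have h2 : u⁻¹ * g ∈ σ.ker := by rw [MonoidHom.mem_ker, map_mul, map_inv, hug, inv_mul_cancel]
      rw [← mul_inv_cancel_left u g]
      exact Subgroup.mul_mem_sup hu (hc h2)
    let H : Subgroup Γ := Subgroup.normalizer ((Subgroup.zpowers c : Subgroup Γ) : Set Γ)
    have hH : ∀ g : Γ, g * c * g⁻¹ = c ∨ g * c * g⁻¹ = c⁻¹ → g ∈ H := by
      intro g hg
      refine Subgroup.mem_normalizer_iff.2 fun z => ?_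
      have hmap : (Subgroup.zpowers c).map (MulAut.conj g).toMonoidHom = Subgroup.zpowers c := by
        rw [MonoidHom.map_zpowers]
        show Subgroup.zpowers (g * c * g⁻¹) = _
        rcases hg with h | h <;> rw [h]
        exact Subgroup.zpowers_inv
      constructor
      · intro hz; rw [← hmap]; exact ⟨z, hz, rfl⟩
      · intro hz; rw [← hmap] at hz
        obtain ⟨w, hw, hwe⟩ := hz
        have : w = z := (MulAut.conj g).injective hwe
        exact this ▸ hw
    have hnorm : (Subgroup.zpowers c).Normal := by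
      rw [← Subgroup.normalizer_eq_top_iff, eq_top_iff, ← htop, sup_le_iff, Subgroup.closure_le]
      refine ⟨?_, fun z hz => hH z (Or.inl ?_)⟩
      · rintro _ (rfl | rfl)
        · exact hH _ (Or.inl (by rw [hca.symm.eq, mul_inv_cancel_right]))
        · exact hH _ (Or.inr hbc)
      · rw [← Subgroup.mem_center_iff.1 hz c, mul_inv_cancel_right]
    have hcomm : ∀ g h : Γ, ⁅g, h⁆ ∈ Subgroup.zpowers c := by
      let π := QuotientGroup.mk' (Subgroup.zpowers c)
      have hab : Commute (π b) (π a) := commutatorElement_eq_one_iff_commute.1 (by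
        rw [← map_commutatorElement, ← hcdef]
        exact (QuotientGroup.eq_one_iff c).2 (Subgroup.mem_zpowers c))
      have hone : ∀ s, (∀ t ∈ ({a, b} : Set Γ), Commute (π s) (π t)) → ∀ h, Commute (π s) (π h) := by
        intro s hs h
        have hle : (⊤ : Subgroup Γ) ≤ (Subgroup.centralizer {π s}).comap π := by
          rw [← htop, sup_le_iff, Subgroup.closure_le]
          refine ⟨fun t ht => Subgroup.mem_centralizer_singleton_iff.2 (hs t ht).eq.symm, fun z hz => ?_⟩
          refine Subgroup.mem_centralizer_singleton_iff.2 ?_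
          rw [← map_mul, ← map_mul, Subgroup.mem_center_iff.1 hz s]
        exact (Subgroup.mem_centralizer_singleton_iff.1 (hle (Subgroup.mem_top h))).symm
      intro g h
      have hA := hone a (by rintro _ (rfl | rfl) <;> [exact Commute.refl _; exact hab.symm]) g
      have hB := hone b (by rintro _ (rfl | rfl) <;> [exact hab; exact Commute.refl _]) g
      have hgh := hone g (by rintro _ (rfl | rfl) <;> [exact hA.symm; exact hB.symm]) h
      rw [← QuotientGroup.eq_one_iff ⁅g, h⁆]
      show π ⁅g, h⁆ = 1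
      rw [map_commutatorElement, commutatorElement_eq_one_iff_commute]
      exact hgh
    rw [commutator_def, Subgroup.commutator_le]
    exact fun g _ h _ => hcomm g h

end CfsgLib.Solv.Mult
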