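import Cfsg.Agent.Perm.CyclicSylow
import Mathlib.GroupTheory.Nilpotent
import Mathlib.GroupTheory.Schreier
import Mathlib.GroupTheory.Rank
import Mathlib.GroupTheory.QuotientGroup.Finite

/-!
Schur: abelian Sylow subgroups with few generators and normal `p`-complements.
-/

set_option autoImplicit false
set_option linter.style.haveILetI false

universe u

namespace CfsgLib.Solv

open scoped IsMulCommutative in
/-- The elements killed by `p` in an abelian `p`-group number at most `p ^ rank`. -/
theorem card_pow_ker_le {A : Type*} [CommGroup A] [Finite A] {p : ℕ} (hp : 0 < p) :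
    Nat.card (powMonoidHom p : A →* A).ker ≤ p ^ Group.rank A := by
  let R : Subgroup A := (powMonoidHom p : A →* A).range
  have h1 := Subgroup.card_eq_card_quotient_mul_card_subgroup (powMonoidHom p : A →* A).ker
  have h2 := Subgroup.card_eq_card_quotient_mul_card_subgroup R
  rw [Nat.card_congr (QuotientGroup.quotientKerEquivRange (powMonoidHom p : A →* A)).toEquiv] at h1
  have h3 : Nat.card (powMonoidHom p : A →* A).ker = Nat.card (A ⧸ R) := by
    refine Nat.eq_of_mul_eq_mul_left (Nat.card_pos (α := R)) ?_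
    rw [mul_comm _ (Nat.card (A ⧸ R))]
    exact h1.symm.trans h2
  have h4 : Nat.card (A ⧸ R) ∣ p ^ Group.rank (A ⧸ R) := card_dvd_exponent_pow_rank' _ fun g => by
    obtain ⟨a, rfl⟩ := QuotientGroup.mk'_surjective R g
    rw [← map_pow]
    exact (QuotientGroup.eq_one_iff _).2 ⟨a, rfl⟩
  rw [h3]
  exact (Nat.le_of_dvd (pow_pos hp _) h4).trans
    (Nat.pow_le_pow_right hp (Group.rank_le_of_surjective (QuotientGroup.mk' R) (QuotientGroup.mk'_surjective R)))

/-- An automorphism of order prime to `p` of an abelian `p`-group is trivial if no prime factor of it divides any of the `p ^ i - 1` in range. -/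
theorem aut_eq_one {A : Type*} [CommGroup A] [Finite A] {p : ℕ} [hp : Fact p.Prime] (hA : IsPGroup p A)
    (σ : MulAut A) {q k : ℕ} [hq : Fact q.Prime] (hqp : q ≠ p) (hσ : σ ^ q ^ k = 1)
    (hnd : ∀ i, 1 ≤ i → i ≤ Group.rank A → ¬ q ∣ p ^ i - 1) : σ = 1 := by
  classical
  have hcop : ∀ {a : A}, a ^ q ^ k = 1 → a = 1 := fun {a} ha => by
    obtain ⟨j, hj⟩ := hA a
    exact orderOf_eq_one_iff.1 (Nat.eq_one_of_dvd_coprimes
      ((Nat.coprime_primes hq.out hp.out).2 hqp |>.pow k j) (orderOf_dvd_of_pow_eq_one ha) (orderOf_dvd_of_pow_eq_one hj))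
  let K := (powMonoidHom p : A →* A).ker
  -- fixed points on `K`
  have hK : ∀ x ∈ K, σ x = x := by
    let W : Subgroup A := K ⊓ (MonoidHom.eqLocus σ.toMonoidHom (MonoidHom.id A))
    by_contra hno
    push Not at hno
    obtain ⟨x₀, hx₀, hx₀'⟩ := hno
    let Wk := W.subgroupOf K
    let f : K ⧸ Wk → K ⧸ Wk := fun z => Quotient.liftOn' z
      (fun x => (QuotientGroup.mk (⟨σ x, by
        show (σ (x : A)) ^ p = 1
        rw [← map_pow, show (x : A) ^ p = 1 from x.2, map_one]⟩ : K) : K ⧸ Wk)) (by
      intro a b hab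
      rw [QuotientGroup.leftRel_apply, Subgroup.mem_subgroupOf] at hab
      refine QuotientGroup.eq.2 (Subgroup.mem_subgroupOf.2 ?_)
      show (σ (a : A))⁻¹ * σ (b : A) ∈ W
      have h2 : σ ((a⁻¹ * b : K) : A) = ((a⁻¹ * b : K) : A) := hab.2
      rw [← map_inv, ← map_mul, show ((a : A))⁻¹ * b = ((a⁻¹ * b : K) : A) from rfl, h2]
      exact hab)
    have hfi : ∀ (n : ℕ) (x : K) , f^[n] (QuotientGroup.mk x) = QuotientGroup.mk (⟨(σ ^ n) (x : A), by
        show ((σ ^ n) (x : A)) ^ p = 1
        rw [← map_pow, show (x : A) ^ p = 1 from x.2, map_one]⟩ : K) := by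
      intro n
      induction n with
      | zero => intro x; rfl
      | succ n ih =>
        intro x
        rw [Function.iterate_succ_apply', ih]
        refine congrArg QuotientGroup.mk (Subtype.ext ?_)
        show σ ((σ ^ n) (x : A)) = (σ ^ (n + 1)) (x : A)
        rw [pow_succ']; rfl
    have hper : ∀ z, f^[q ^ k] z = z := fun z => by
      obtain ⟨x, rfl⟩ := QuotientGroup.mk_surjective z
      rw [hfi]
      refine congrArg QuotientGroup.mk (Subtype.ext ?_)
      show (σ ^ q ^ k) (x : A) = x
      rw [hσ]; rfl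
    obtain ⟨m, hm⟩ : ∃ m, q ^ k = m + 1 := ⟨q ^ k - 1, (Nat.sub_add_cancel (Nat.one_le_pow _ _ hq.out.pos)).symm⟩
    let perm : Equiv.Perm (K ⧸ Wk) :=
      { toFun := f, invFun := f^[m],
        left_inv := fun z => by
          rw [← Function.iterate_succ_apply f m z, show m.succ = q ^ k from hm.symm]; exact hper z
        right_inv := fun z => by
          rw [← Function.iterate_succ_apply' f m z, show m.succ = q ^ k from hm.symm]; exact hper z }
    have hperm : perm ^ q ^ k = 1 := Equiv.ext fun z => by
      rw [Equiv.Perm.coe_pow]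
      exact hper z
    haveI := Fintype.ofFinite (K ⧸ Wk)
    haveI : Nontrivial (K ⧸ Wk) := ⟨⟨QuotientGroup.mk (⟨x₀, hx₀⟩ : K), 1, fun h => hx₀' (Subgroup.mem_subgroupOf.1 ((QuotientGroup.eq_one_iff _).1 h)).2⟩⟩
    have hKp : IsPGroup p (K ⧸ Wk) := (hA.to_subgroup K).to_quotient Wk
    obtain ⟨j, hj⟩ := hKp.exists_card_eq
    have hj1 : 1 ≤ j := Nat.one_le_iff_ne_zero.2 fun h => by
      have := Finite.one_lt_card (α := K ⧸ Wk)
      rw [hj, h, pow_zero] at this; omega
    have hjd : j ≤ Group.rank A := by
      have h1 : p ^ j ≤ p ^ Group.rank A := by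
        rw [← hj]
        exact (Nat.le_of_dvd Nat.card_pos (Subgroup.card_quotient_dvd_card Wk)).trans (card_pow_ker_le hp.out.pos)
      exact (Nat.pow_le_pow_iff_right hp.out.one_lt).1 h1
    -- a second fixed point
    have hfix1 : perm 1 = 1 := congrArg QuotientGroup.mk (Subtype.ext (map_one σ))
    have hne : ∃ z, perm z = z ∧ z ≠ 1 := by
      by_contra hno
      push Not at hno
      apply hnd j hj1 hjd
      let S : Finset (K ⧸ Wk) := Finset.univ.erase 1
      let perm' : Equiv.Perm {z : K ⧸ Wk // z ≠ 1} := perm.subtypePerm (fun z =>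
        ⟨fun h e => h (by rw [← hfix1, ← e]), fun h e => h (perm.injective (e.trans hfix1.symm))⟩)
      have hp' : perm' ^ q ^ k = 1 := by
        refine Equiv.ext fun z => Subtype.ext ?_
        rw [Equiv.Perm.subtypePerm_pow]
        show (perm ^ q ^ k) z.1 = z.1
        rw [hperm]; rfl
      by_contra hq'
      obtain ⟨z, hz⟩ := Equiv.Perm.exists_fixed_point_of_prime (p := q) (n := k) (by
        rw [Fintype.card_subtype_compl, Fintype.card_subtype_eq, ← Nat.card_eq_fintype_card, hj]
        exact hq') hp'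
      exact z.2 (hno z.1 (congrArg Subtype.val hz))
    obtain ⟨z, hz, hz1⟩ := hne
    obtain ⟨x, rfl⟩ := QuotientGroup.mk_surjective z
    have h := QuotientGroup.eq.1 (show (QuotientGroup.mk x : K ⧸ Wk) = perm (QuotientGroup.mk x) from hz.symm)
    rw [Subgroup.mem_subgroupOf] at h
    set w : A := (x : A)⁻¹ * σ x with hw
    have hww : σ w = w := h.2
    have hpow : ∀ n : ℕ, (σ ^ n) (x : A) = (x : A) * w ^ n := by
      intro n
      induction n with
      | zero => simp
      | succ n ih =>
        rw [pow_succ' σ]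
        show σ ((σ ^ n) (x : A)) = _
        rw [ih, map_mul, map_pow, hww, pow_succ', ← mul_assoc, hw, mul_inv_cancel_left]
    have h1 := hpow (q ^ k)
    rw [hσ] at h1
    have hw1 : w = 1 := hcop (left_eq_mul.1 h1)
    apply hz1
    refine (QuotientGroup.eq_one_iff x).2 (Subgroup.mem_subgroupOf.2 ⟨x.2, ?_⟩)
    exact (inv_mul_eq_one.1 hw1).symm
  -- all of `A`
  have hall : ∀ n, ∀ x : A, x ^ p ^ n = 1 → σ x = x := by
    intro n
    induction n with
    | zero => intro x hx; rw [pow_zero, pow_one] at hx; rw [hx, map_one]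
    | succ n ih =>
      intro x hx
      have hxp : σ (x ^ p) = x ^ p := ih _ (by rw [← pow_mul, ← pow_succ']; exact hx)
      set w : A := x⁻¹ * σ x with hw
      have hww : σ w = w := hK w (show (x⁻¹ * σ x) ^ p = 1 by rw [mul_pow, ← map_pow, hxp, inv_pow, inv_mul_cancel])
      have hpow : ∀ n : ℕ, (σ ^ n) x = x * w ^ n := by
        intro n
        induction n with
        | zero => simp
        | succ n ih =>
          rw [pow_succ' σ]
          show σ ((σ ^ n) x) = _
          rw [ih, map_mul, map_pow, hww, pow_succ', ← mul_assoc, hw, mul_inv_cancel_left]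
      have h1 := hpow (q ^ k)
      rw [hσ] at h1
      exact (inv_mul_eq_one.1 (hcop (left_eq_mul.1 h1))).symm
  refine MulEquiv.ext fun x => ?_
  obtain ⟨n, hn⟩ := hA x
  exact hall n x hn

/-- Schur's transfer criterion. -/
theorem hasNormalPComplement_of_rank {G : Type*} [Group G] [Finite G] {p : ℕ} [hp : Fact p.Prime] (P : Sylow p G)
    (hab : IsMulCommutative (P : Subgroup G))
    (hcop : ∀ q : ℕ, q.Prime → q ∣ Nat.card G → ∀ i, 1 ≤ i → i ≤ Group.rank (P : Subgroup G) → ¬ q ∣ p ^ i - 1) :
    Cfsg.HasNormalPComplement p G := by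
  classical
  letI : CommGroup (P : Subgroup G) :=
    { (inferInstance : Group (P : Subgroup G)) with mul_comm := hab.is_comm.comm }
  refine CfsgLib.Perm.hasNormalPComplement_of_ctrl P hab fun z hz hzp => ?_
  let φ := Subgroup.normalizerMonoidHom (P : Subgroup G)
  have hker : φ ⟨z, hz⟩ = 1 := by
    have hord : orderOf (φ ⟨z, hz⟩) ∣ orderOf z := by
      have := orderOf_map_dvd φ ⟨z, hz⟩
      rwa [Subgroup.orderOf_mk] at this
    by_contra hne
    obtain ⟨q, hq, hqd⟩ := Nat.exists_prime_and_dvd (show orderOf (φ ⟨z, hz⟩) ≠ 1 from fun h => hne (orderOf_eq_one_iff.1 h))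
    haveI := Fact.mk hq
    have hqp : q ≠ p := by
      rintro rfl
      exact hq.ne_one (Nat.eq_one_of_dvd_coprimes hzp (hqd.trans hord) dvd_rfl)
    have hqG : q ∣ Nat.card G := (hqd.trans hord).trans (orderOf_dvd_natCard z)
    set s := φ ⟨z, hz⟩ ^ (orderOf (φ ⟨z, hz⟩) / q) with hs
    have hso : orderOf s = q := by rw [hs, orderOf_pow_orderOf_div (orderOf_pos _).ne' hqd]
    have := aut_eq_one P.2 s (q := q) (k := 1) hqp (by rw [pow_one]; exact orderOf_dvd_iff_pow_eq_one.1 (dvd_of_eq hso))
      (fun i hi hi' => hcop q hq hqG i hi hi')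
    rw [this, orderOf_one] at hso
    exact hq.ne_one hso.symm
  have : (⟨z, hz⟩ : Subgroup.normalizer ((P : Subgroup G) : Set G)) ∈ φ.ker := hker
  rw [Subgroup.normalizerMonoidHom_ker] at this
  exact this

theorem isSolvable_schur_aux : ∀ (n : ℕ) (G : Type u) [Group G] [Finite G], Nat.card G = n →
    (∀ p : ℕ, p.Prime → p ∣ Nat.card G → (∃ q : ℕ, q.Prime ∧ q ∣ Nat.card G ∧ p < q) →
      ∀ P : Sylow p G, IsMulCommutative (P : Subgroup G) ∧ Group.rank (P : Subgroup G) ≤ 2) →
    ¬ 12 ∣ Nat.card G → Group.IsSolvable G := by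
  intro n
  induction n using Nat.strong_induction_on with
  | _ n ih =>
  intro G _ _ hn h h12
  by_cases h1 : Nat.card G = 1
  · haveI := (Nat.card_eq_one_iff_unique.1 h1).1
    infer_instance
  set p := (Nat.card G).minFac with hpdef
  have hp : p.Prime := Nat.minFac_prime h1
  haveI := Fact.mk hp
  have hpG : p ∣ Nat.card G := Nat.minFac_dvd _
  by_cases hbig : ∃ q : ℕ, q.Prime ∧ q ∣ Nat.card G ∧ p < q
  swap
  · push Not at hbig
    obtain ⟨j, hj⟩ : ∃ j, Nat.card G = p ^ j :=
      ⟨_, Nat.eq_prime_pow_of_unique_prime_dvd Nat.card_pos.ne' (fun hd hd' =>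
        le_antisymm (hbig _ hd hd') (Nat.minFac_le_of_dvd hd.two_le hd'))⟩
    haveI := (IsPGroup.of_card (G := G) hj).isNilpotent
    infer_instance
  obtain ⟨P⟩ : Nonempty (Sylow p G) := inferInstance
  obtain ⟨hab, hrk⟩ := h p hp hpG hbig P
  have hnpc : Cfsg.HasNormalPComplement p G := by
    refine hasNormalPComplement_of_rank P hab fun q hq hqG i hi hi' hdvd => ?_
    have hqp : p ≤ q := Nat.minFac_le_of_dvd hq.two_le hqG
    have hi2 : i ≤ 2 := hi'.trans hrk
    have htwo := hp.two_le
    interval_cases i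
    · rw [pow_one] at hdvd
      have := Nat.le_of_dvd (by have := hp.two_le; omega) hdvd
      omega
    · have hfac : p ^ 2 - 1 = (p - 1) * (p + 1) := by
        rw [← one_pow 2, Nat.sq_sub_sq, one_pow, mul_comm]
      rw [hfac] at hdvd
      rcases hq.dvd_mul.1 hdvd with hd | hd
      · have := Nat.le_of_dvd (by have := hp.two_le; omega) hd
        omega
      · have hqle := Nat.le_of_dvd (by omega) hd
        rcases Nat.lt_or_ge q (p + 1) with hlt | hge
        · have : q = p := by omega
          subst this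
          exact hp.not_dvd_one ((Nat.dvd_add_right dvd_rfl).1 hd)
        · have hq1 : q = p + 1 := by omega
          subst hq1
          have hp2 : p = 2 := by
            rcases hp.eq_two_or_odd' with h2 | h2
            · exact h2
            · have := hq.eq_two_or_odd'.resolve_left (by have := hp.two_le; omega)
              obtain ⟨a, ha⟩ := h2
              obtain ⟨b, hb⟩ := this
              omega
          rw [hp2] at hqG hpG
          -- `12 ∤ |G|` forces a Sylow `2`-subgroup of order at most two
          have h4 : ¬ 4 ∣ Nat.card G := fun h4 => h12 (by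
            exact Nat.Coprime.mul_dvd_of_dvd_of_dvd (by norm_num) h4 hqG : 4 * 3 ∣ Nat.card G)
          have hPc : Nat.card (P : Subgroup G) ≤ 2 := by
            obtain ⟨j, hj⟩ := IsPGroup.iff_card.1 P.2
            have hdP := Subgroup.card_subgroup_dvd_card (P : Subgroup G)
            rw [hj, hp2] at hdP ⊢
            by_contra hc
            apply h4
            refine ((pow_dvd_pow 2 (?_ : 2 ≤ j)) : 2 ^ 2 ∣ 2 ^ j).trans hdP
            by_contra hj2
            interval_cases j <;> simp at hc
          have hr1 : Group.rank (P : Subgroup G) ≤ 1 := by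
            haveI hcy : IsCyclic (P : Subgroup G) := by
              rcases Nat.lt_or_ge (Nat.card (P : Subgroup G)) 2 with h2 | h2
              · haveI : Subsingleton (P : Subgroup G) := (Nat.card_eq_one_iff_unique.1 (by
                  have := Nat.card_pos (α := (P : Subgroup G)); omega)).1
                infer_instance
              · haveI : Fact (Nat.Prime 2) := ⟨Nat.prime_two⟩
                exact isCyclic_of_prime_card (p := 2) (by omega)
            obtain ⟨g, hg⟩ := hcy.exists_generator
            refine (Group.rank_le (S := {g}) (eq_top_iff.2 fun x _ => ?_)).trans_eq (Finset.card_singleton g)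
            rw [Finset.coe_singleton, ← Subgroup.zpowers_eq_closure]
            exact hg x
          omega
  obtain ⟨N, hN, hNp, m, hNi⟩ := CfsgLib.Perm.exists_of_hasNormalPComplement hnpc
  haveI := hN
  have hlt : Nat.card N < n := by
    rw [← hn]
    refine lt_of_le_of_ne (Subgroup.card_le_card_group N) fun he => hNp (he ▸ hpG)
  have hsolN : Group.IsSolvable N := by
    refine ih _ hlt N rfl (fun r hr hrN hex R => ?_) (fun hd => h12 (hd.trans (Subgroup.card_subgroup_dvd_card N)))
    haveI := Fact.mk hr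
    have hRc : ¬ r ∣ ((R : Subgroup N).map N.subtype).index := by
      rw [Subgroup.index_map_subtype, hNi]
      intro hd
      rcases hr.dvd_mul.1 hd with hd | hd
      · exact R.not_dvd_index hd
      · exact hNp ((Nat.prime_dvd_prime_iff_eq hr hp).1 (hr.dvd_of_dvd_pow hd) ▸ hrN)
    let S : Sylow r G := (R.2.map N.subtype).toSylow hRc
    have hS : (S : Subgroup G) = (R : Subgroup N).map N.subtype := IsPGroup.toSylow_coe _ _
    obtain ⟨q, hq, hqN, hrq⟩ := hex
    obtain ⟨hab', hrk'⟩ := h r hr (hrN.trans (Subgroup.card_subgroup_dvd_card N))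
      ⟨q, hq, hqN.trans (Subgroup.card_subgroup_dvd_card N), hrq⟩ S
    let e : (S : Subgroup G) ≃* (R : Subgroup N) :=
      (MulEquiv.subgroupCongr hS).trans ((Subgroup.equivMapOfInjective _ N.subtype N.subtype_injective).symm)
    refine ⟨⟨⟨fun a b => e.symm.injective (by rw [map_mul, map_mul]; exact hab'.is_comm.comm _ _)⟩⟩, ?_⟩
    exact (Group.rank_le_of_surjective e.toMonoidHom e.surjective).trans hrk'
  haveI : Group.IsSolvable (G ⧸ N) := by
    haveI := (IsPGroup.of_card (G := G ⧸ N) hNi).isNilpotent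
    infer_instance
  haveI := hsolN
  exact solvable_of_ker_le_range N.subtype (QuotientGroup.mk' N) (by simp)

end CfsgLib.Solv
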