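import Cfsg.Agent.Solv.MultiplierExt

/-!
The rank of the Schur multiplier against a finite presentation.
-/

set_option autoImplicit false
set_option linter.style.haveILetI false

open scoped commutatorElement

namespace CfsgLib.Solv.Mult

theorem rank_le_presentation (n : ℕ) (rels : Finset (FreeGroup (Fin n)))
    [Finite (PresentedGroup (rels : Set (FreeGroup (Fin n))))] {A : Type*} [CommGroup A] [Finite A]
    (hA : Cfsg.HasSchurMultiplier (PresentedGroup (rels : Set (FreeGroup (Fin n)))) A) :
    Group.rank A ≤ rels.card - n := by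
  classical
  let P := PresentedGroup (rels : Set (FreeGroup (Fin n)))
  let π : FreeGroup (Fin n) →* P := PresentedGroup.mk _
  obtain ⟨e⟩ := equiv_M hA
  choose s hs using fun i => eproj_surjective P (π (FreeGroup.of i))
  let θ : FreeGroup (Fin n) →* E P := FreeGroup.lift s
  have hθ : (eproj P).comp θ = π := FreeGroup.ext_hom _ _ fun i => by
    show eproj P (FreeGroup.lift s (FreeGroup.of i)) = _
    rw [FreeGroup.lift_apply_of]
    exact hs i
  let vec : FreeGroup (Fin n) →* Multiplicative (Fin n → ℤ) :=
    FreeGroup.lift fun i => Multiplicative.ofAdd (Pi.single i 1)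
  have hrel : ∀ r : rels, θ r.1 ∈ (eproj P).ker := fun r => by
    rw [MonoidHom.mem_ker, ← MonoidHom.comp_apply, hθ]
    exact (QuotientGroup.eq_one_iff _).2 (Subgroup.subset_normalClosure r.2)
  letI : CommGroup (eproj P).ker :=
    { (inferInstance : Group (eproj P).ker) with mul_comm := (ker_comm P).is_comm.comm }
  let Φ : (rels → ℤ) →ₗ[ℤ] Additive (eproj P).ker :=
    Fintype.linearCombination ℤ fun r => Additive.ofMul (⟨θ r.1, hrel r⟩ : (eproj P).ker)
  let φ : (rels → ℤ) →ₗ[ℤ] (Fin n → ℤ) :=
    Fintype.linearCombination ℤ fun r => Multiplicative.toAdd (vec r.1)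
  let α : Additive (eproj P).ker →ₗ[ℤ] Additive (Abelianization (E P)) :=
    (MonoidHom.toAdditive ((Abelianization.of).comp (eproj P).ker.subtype)).toIntLinearMap
  let L : (Fin n → ℤ) →ₗ[ℤ] Additive (Abelianization (E P)) :=
    Fintype.linearCombination ℤ fun i => Additive.ofMul (Abelianization.of (s i))
  have hL : ∀ x, L (Multiplicative.toAdd (vec x)) = Additive.ofMul (Abelianization.of (θ x)) := by
    have : (L.toAddMonoidHom.toMultiplicative).comp vec =
        (MulEquiv.toMultiplicative_toAdditive (G := Abelianization (E P))).symm.toMonoidHom.comp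
          (Abelianization.of.comp θ) := FreeGroup.ext_hom _ _ fun i => by
      show Multiplicative.ofAdd (L (Multiplicative.toAdd (vec (FreeGroup.of i)))) =
        Multiplicative.ofAdd (Additive.ofMul (Abelianization.of (θ (FreeGroup.of i))))
      simp [vec, θ, L, Fintype.linearCombination_apply_single]
    exact fun x => congrArg Multiplicative.toAdd (DFunLike.congr_fun this x)
  have hcomp : α.comp Φ = L.comp φ := by
    refine LinearMap.pi_ext fun r k => ?_
    show α (Φ (Pi.single r k)) = L (φ (Pi.single r k))
    simp only [Φ, φ, Fintype.linearCombination_apply_single, map_zsmul]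
    rw [hL]
    rfl
  have hmem : ∀ z ∈ LinearMap.ker φ, ((Additive.toMul (Φ z) : (eproj P).ker) : E P) ∈ M P := fun z hz => by
    refine ⟨(Additive.toMul (Φ z)).2, ?_⟩
    have h1 : α (Φ z) = 0 := by
      rw [← LinearMap.comp_apply, hcomp, LinearMap.comp_apply, LinearMap.mem_ker.1 hz, map_zero]
    exact (QuotientGroup.eq_one_iff _).1 (congrArg Additive.toMul h1)
  -- every element of the multiplier comes from the kernel of `φ`
  let W : (rels → ℤ) →+ Additive (eproj P).ker × (Fin n → ℤ) := (Φ.prod φ).toAddMonoidHom
  let Θ : FreeGroup (Fin n) →* E P × Multiplicative (Fin n → ℤ) := θ.prod vec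
  let V : Subgroup (E P × Multiplicative (Fin n → ℤ)) :=
    ((MonoidHom.prodMap (eproj P).ker.subtype (MonoidHom.id (Multiplicative (Fin n → ℤ)))).comp
      { toFun := fun z => (Additive.toMul (W (Multiplicative.toAdd z)).1, Multiplicative.ofAdd (W (Multiplicative.toAdd z)).2)
        map_one' := by simp
        map_mul' := fun a b => by simp : Multiplicative (rels → ℤ) →* _ }).range
  have hVmem : ∀ z : rels → ℤ,
      (((Additive.toMul (Φ z) : (eproj P).ker) : E P), Multiplicative.ofAdd (φ z)) ∈ V := fun z =>
    ⟨Multiplicative.ofAdd z, rfl⟩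
  have hVc : V.Normal := ⟨by
    rintro _ ⟨z, rfl⟩ g
    refine ⟨z, Prod.ext ?_ ?_⟩
    · show _ = g.1 * ((Additive.toMul (W (Multiplicative.toAdd z)).1 : (eproj P).ker) : E P) * g.1⁻¹
      rw [Subgroup.mem_center_iff.1 (ker_le_center P (Subtype.prop _)) g.1, mul_inv_cancel_right]
      rfl
    · show _ = g.2 * Multiplicative.ofAdd (W (Multiplicative.toAdd z)).2 * g.2⁻¹
      rw [mul_comm g.2, mul_inv_cancel_right]
      rfl⟩
  have hsub : Subgroup.normalClosure (rels : Set (FreeGroup (Fin n))) ≤ V.comap Θ := by
    haveI := hVc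
    refine Subgroup.normalClosure_le_normal fun r hr => ?_
    have := hVmem (Pi.single ⟨r, hr⟩ 1)
    simp only [Φ, φ, Fintype.linearCombination_apply_single, one_smul] at this
    exact this
  have hsurj : ∀ m ∈ M P, ∃ z ∈ LinearMap.ker φ, ((Additive.toMul (Φ z) : (eproj P).ker) : E P) = m := by
    intro m hm
    obtain ⟨c, hc, rfl⟩ := commutator_le_map (ker_le_center P) θ
      (hθ.symm ▸ PresentedGroup.mk_surjective _) hm.2
    have hc1 : π c = 1 := by rw [← hθ]; exact hm.1
    obtain ⟨z, hz⟩ := hsub ((QuotientGroup.eq_one_iff c).1 hc1)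
    refine ⟨Multiplicative.toAdd z, ?_, congrArg Prod.fst hz⟩
    have h2 : vec c = 1 := Abelianization.commutator_subset_ker vec hc
    exact congrArg Multiplicative.toAdd ((congrArg Prod.snd hz).trans h2)
  -- the rank of the kernel
  have hfinrank : Module.finrank ℤ (LinearMap.ker φ) = rels.card - n := by
    have h1 := (LinearMap.ker φ).finrank_quotient_add_finrank
    rw [φ.quotKerEquivRange.finrank_eq, Module.finrank_pi, Fintype.card_coe] at h1
    have h2 := (LinearMap.range φ).finrank_quotient_add_finrank
    rw [Module.finrank_pi, Fintype.card_fin] at h2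
    haveI : Finite ((Fin n → ℤ) ⧸ LinearMap.range φ) := by
      let f : FreeGroup (Fin n) →* Multiplicative ((Fin n → ℤ) ⧸ LinearMap.range φ) :=
        ((LinearMap.range φ).mkQ.toAddMonoidHom.toMultiplicative).comp vec
      have hf : ∀ r ∈ (rels : Set (FreeGroup (Fin n))), f r = 1 := fun r hr => by
        show Multiplicative.ofAdd ((LinearMap.range φ).mkQ (Multiplicative.toAdd (vec r))) = 1
        rw [Submodule.mkQ_apply, (Submodule.Quotient.mk_eq_zero _).2 ?_, ofAdd_zero]
        exact ⟨Pi.single ⟨r, hr⟩ 1, by simp [φ, Fintype.linearCombination_apply_single]⟩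
      have hfs : Function.Surjective f := by
        refine fun y => ?_
        obtain ⟨v, hv⟩ := (LinearMap.range φ).mkQ_surjective (Multiplicative.toAdd y)
        have hvec : ∀ i, Multiplicative.ofAdd (Pi.single i (v i) : Fin n → ℤ) ∈ vec.range := fun i => by
          refine ⟨FreeGroup.of i ^ v i, ?_⟩
          rw [map_zpow, show vec (FreeGroup.of i) = Multiplicative.ofAdd (Pi.single i 1) from FreeGroup.lift_apply_of,
            ← ofAdd_zsmul, ← Pi.single_smul, smul_eq_mul, mul_one]
        have hv' : Multiplicative.ofAdd v ∈ vec.range := by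
          have := Subgroup.prod_mem vec.range (t := Finset.univ) (fun i _ => hvec i)
          rwa [← ofAdd_sum, Finset.univ_sum_single] at this
        obtain ⟨x, hx⟩ := hv'
        exact ⟨x, by show Multiplicative.ofAdd _ = y; rw [hx]; exact congrArg Multiplicative.ofAdd hv⟩
      have hle : Subgroup.normalClosure (rels : Set (FreeGroup (Fin n))) ≤ f.ker :=
        Subgroup.normalClosure_le_normal hf
      have hg : Function.Surjective (QuotientGroup.lift (Subgroup.normalClosure _) f hle : P →* _) := fun y => by
        obtain ⟨x, rfl⟩ := hfs y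
        exact ⟨π x, rfl⟩
      haveI : Finite (FreeGroup (Fin n) ⧸ Subgroup.normalClosure (rels : Set (FreeGroup (Fin n)))) :=
        inferInstanceAs (Finite (PresentedGroup (rels : Set (FreeGroup (Fin n)))))
      exact Finite.of_surjective (fun p => Multiplicative.toAdd (QuotientGroup.lift _ f hle p : Multiplicative _))
        (Multiplicative.toAdd.surjective.comp hg)
    have h3 : Module.finrank ℤ ((Fin n → ℤ) ⧸ LinearMap.range φ) = 0 := by
      rw [Module.finrank_eq_zero_iff_isTorsion]
      exact fun {x} => ⟨⟨(Nat.card ((Fin n → ℤ) ⧸ LinearMap.range φ) : ℤ),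
        mem_nonZeroDivisors_of_ne_zero (Int.natCast_ne_zero.2 Nat.card_pos.ne')⟩,
        (natCast_zsmul x _).trans card_nsmul_eq_zero'⟩
    omega
  let b := Module.finBasis ℤ (LinearMap.ker φ)
  let f : LinearMap.ker φ →+ Additive A :=
    { toFun := fun z => Additive.ofMul (e.symm ⟨_, hmem z.1 z.2⟩)
      map_zero' := by
        apply Additive.toMul.injective
        rw [toMul_ofMul, toMul_zero]
        conv_rhs => rw [← map_one e.symm]
        exact congrArg e.symm (Subtype.ext (by simp))
      map_add' := fun z w => by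
        apply Additive.toMul.injective
        rw [toMul_add, toMul_ofMul, toMul_ofMul, toMul_ofMul, ← map_mul e.symm]
        exact congrArg e.symm (Subtype.ext (by simp)) }
  have hgen : Subgroup.closure ((Finset.univ.image fun i => Additive.toMul (f (b i)) : Finset A) : Set A) = ⊤ := by
    refine eq_top_iff.2 fun a _ => ?_
    obtain ⟨z, hz, hza⟩ := hsurj (e a : E P) (e a).2
    have hfa : Additive.toMul (f ⟨z, hz⟩) = a := e.symm_apply_eq.2 (Subtype.ext hza)
    rw [← hfa, ← b.sum_repr ⟨z, hz⟩, map_sum, toMul_sum]
    refine Subgroup.prod_mem _ fun i _ => ?_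
    rw [map_zsmul, toMul_zsmul]
    exact Subgroup.zpow_mem _ (Subgroup.subset_closure (by simp)) _
  refine (Group.rank_le hgen).trans (Finset.card_image_le.trans ?_)
  rw [Finset.card_univ, Fintype.card_fin, hfinrank]

end CfsgLib.Solv.Mult
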