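import Cfsg.Agent.Solv.MultiplierLift

/-!
Uniqueness of covering groups over the base.
-/

set_option autoImplicit false
set_option linter.style.haveILetI false

universe u v w

open scoped commutatorElement

namespace CfsgLib.Solv.Mult

variable {Q : Type u} [Group Q] [Finite Q]

omit [Finite Q] in
/-- The preimage of the commutator subgroup of `Q`. -/
theorem mem_sup_of_abelianization {L : Subgroup (E Q)} (hsup : (eproj Q).ker ≤ L ⊔ M Q) {x : E Q}
    (hx : Abelianization.of (eproj Q x) = 1) : x ∈ L ⊔ commutator (E Q) := by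
  have h1 : eproj Q x ∈ commutator Q := (QuotientGroup.eq_one_iff _).1 hx
  rw [commutator_def, ← Subgroup.map_top_of_surjective _ (eproj_surjective Q), ← Subgroup.map_commutator,
    ← commutator_def] at h1
  obtain ⟨d, hd, hdx⟩ := h1
  have h2 : x * d⁻¹ ∈ (eproj Q).ker := by rw [MonoidHom.mem_ker, map_mul, map_inv, hdx, mul_inv_cancel]
  rw [← inv_mul_cancel_right x d]
  exact mul_mem (sup_le_sup_left (M_le_commutator Q) L (hsup h2)) (Subgroup.mem_sup_right hd)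

theorem cover_unique (hcop : Nat.Coprime (Nat.card (Abelianization Q)) (Nat.card (M Q)))
    {Γ₁ : Type v} [Group Γ₁] [Finite Γ₁] {Γ₂ : Type w} [Group Γ₂] [Finite Γ₂] (σ₁ : Γ₁ →* Q) (σ₂ : Γ₂ →* Q)
    (h₁ : Cfsg.IsStemExtension σ₁) (h₂ : Cfsg.IsStemExtension σ₂) (e₁ : Nat.card σ₁.ker = Nat.card (M Q))
    (e₂ : Nat.card σ₂.ker = Nat.card (M Q)) : ∃ e : Γ₁ ≃* Γ₂, σ₂.comp e.toMonoidHom = σ₁ := by
  classical
  obtain ⟨φ₁, hφ₁, hs₁, π₁, hπ₁, hπ₁'⟩ := exists_surjective σ₁ h₁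
  obtain ⟨φ₂, hφ₂, -, -⟩ := exists_surjective σ₂ h₂
  have hbij : Function.Bijective π₁ :=
    (Nat.bijective_iff_surjective_and_card π₁).2 ⟨hπ₁, e₁.symm⟩
  let L := φ₁.ker
  have hLK : L ≤ (eproj Q).ker := fun l hl => by
    rw [MonoidHom.mem_ker, ← hφ₁, MonoidHom.comp_apply, show φ₁ l = 1 from hl, map_one]
  have hLM : L ⊓ M Q = ⊥ := eq_bot_iff.2 fun m hm => by
    have : π₁ ⟨m, hm.2⟩ = π₁ 1 := Subtype.ext (by rw [hπ₁', map_one π₁]; exact hm.1)
    exact Subgroup.mem_bot.2 (congrArg Subtype.val (hbij.1 this))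
  have hsup : (eproj Q).ker ≤ L ⊔ M Q := fun k hk => by
    obtain ⟨m, hm⟩ := hπ₁ ⟨φ₁ k, by rw [MonoidHom.mem_ker, ← MonoidHom.comp_apply, hφ₁]; exact hk⟩
    rw [← inv_mul_cancel_right k (m : E Q)]
    refine mul_mem (Subgroup.mem_sup_left ?_) (Subgroup.mem_sup_right m.2)
    show φ₁ (k * (m : E Q)⁻¹) = 1
    rw [map_mul, map_inv, ← hπ₁' m, hm, mul_inv_cancel]
  letI : CommGroup σ₂.ker :=
    { (inferInstance : Group σ₂.ker) with
      mul_comm := fun a b => Subtype.ext (Subgroup.mem_center_iff.1 (h₂.2.1 b.2) a) }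
  let ι : L →* Abelianization (E Q) := Abelianization.of.comp L.subtype
  have hι : Function.Injective ι := (injective_iff_map_eq_one ι).2 fun l hl => Subtype.ext (by
    have h : (l : E Q) ∈ L ⊓ M Q := ⟨l.2, hLK l.2, (QuotientGroup.eq_one_iff _).1 hl⟩
    rw [hLM, Subgroup.mem_bot] at h
    exact h)
  set n := Nat.card (Abelianization Q)
  let u : E Q →* ι.range := ((powMonoidHom n).comp Abelianization.of).codRestrict ι.range fun x => by
    have hxn : x ^ n ∈ L ⊔ commutator (E Q) := mem_sup_of_abelianization hsup (by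
      rw [map_pow, map_pow, pow_card_eq_one'])
    obtain ⟨l, hl, d, hd, hld⟩ := Subgroup.mem_sup_of_normal_right.1 hxn
    refine ⟨⟨l, hl⟩, ?_⟩
    show Abelianization.of l = Abelianization.of x ^ n
    rw [← map_pow, ← hld, map_mul, show Abelianization.of d = 1 from (QuotientGroup.eq_one_iff _).2 hd, mul_one]
  let hh : L →* σ₂.ker := ((φ₂.comp L.subtype).codRestrict σ₂.ker fun l => by
    rw [MonoidHom.mem_ker]
    show (σ₂.comp φ₂) l = 1
    rw [hφ₂]; exact hLK l.2)⁻¹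
  obtain ⟨a, b, hab⟩ : ∃ a b : ℤ, a * n + b * (Nat.card σ₂.ker : ℤ) = 1 :=
    Int.isCoprime_iff_gcd_eq_one.2 (by rw [e₂]; exact hcop)
  let c : E Q →* σ₂.ker := (zpowGroupHom a).comp (hh.comp ((MonoidHom.ofInjective hι).symm.toMonoidHom.comp u))
  obtain ⟨φ, hφ⟩ := exists_twist φ₂ σ₂.ker.subtype (fun z g => (Subgroup.mem_center_iff.1 (h₂.2.1 z.2) g).symm) c
  have hc : ∀ l : L, c l = hh l := fun l => by
    have h1 : (MonoidHom.ofInjective hι).symm (u l) = l ^ n := by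
      rw [MulEquiv.symm_apply_eq]
      exact Subtype.ext (map_pow ι l n).symm
    show hh ((MonoidHom.ofInjective hι).symm (u l)) ^ a = hh l
    rw [h1, map_pow, ← zpow_natCast, ← zpow_mul]
    conv_rhs => rw [← zpow_one (hh l), ← hab, zpow_add, mul_comm b, zpow_mul _ (Nat.card σ₂.ker : ℤ), zpow_natCast,
      pow_card_eq_one', one_zpow, mul_one, mul_comm a]
  have hφker : φ₁.ker ≤ φ.ker := fun l hl => by
    rw [MonoidHom.mem_ker, hφ, hc ⟨l, hl⟩]
    exact inv_mul_cancel (φ₂ l)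
  obtain ⟨e, he⟩ := exists_descend φ₁ hs₁ φ hφker
  have hcomp : σ₂.comp e = σ₁ := MonoidHom.ext fun g => by
    obtain ⟨x, rfl⟩ := hs₁ g
    show σ₂ ((e.comp φ₁) x) = (σ₁.comp φ₁) x
    rw [he, hφ, hφ₁, map_mul, show σ₂ (σ₂.ker.subtype (c x)) = 1 from (c x).2, one_mul]
    exact DFunLike.congr_fun hφ₂ x
  have hes : Function.Surjective e := (surjective_of_stem h₂ e (hcomp ▸ h₁.1)).1
  have hcard : Nat.card Γ₁ = Nat.card Γ₂ := by
    have f₁ := Subgroup.card_eq_card_quotient_mul_card_subgroup σ₁.ker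
    have f₂ := Subgroup.card_eq_card_quotient_mul_card_subgroup σ₂.ker
    rw [Nat.card_congr (QuotientGroup.quotientKerEquivOfSurjective σ₁ h₁.1).toEquiv, e₁] at f₁
    rw [Nat.card_congr (QuotientGroup.quotientKerEquivOfSurjective σ₂ h₂.1).toEquiv, e₂] at f₂
    rw [f₁, f₂]
  exact ⟨MulEquiv.ofBijective e ((Nat.bijective_iff_surjective_and_card e).2 ⟨hes, hcard⟩), hcomp⟩

theorem coprime_of_cover_unique
    (huniq : ∀ (Γ₁ Γ₂ : Type u) [Group Γ₁] [Finite Γ₁] [Group Γ₂] [Finite Γ₂] (σ₁ : Γ₁ →* Q) (σ₂ : Γ₂ →* Q),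
      Cfsg.IsStemExtension σ₁ → Cfsg.IsStemExtension σ₂ → Nonempty (σ₁.ker ≃* M Q) → Nonempty (σ₂.ker ≃* M Q) →
        ∃ e : Γ₁ ≃* Γ₂, σ₂.comp e.toMonoidHom = σ₁) :
    Nat.Coprime (Nat.card (Abelianization Q)) (Nat.card (M Q)) := by
  classical
  by_contra hcop
  obtain ⟨q, hq, hqQ, hqM⟩ := Nat.Prime.not_coprime_iff_dvd.1 hcop
  haveI : Fact q.Prime := ⟨hq⟩
  haveI : Finite (Abelianization Q) := Quotient.finite _
  obtain ⟨L, hL, hLM, hsup⟩ := exists_complement (eproj Q).ker le_rfl le_sup_left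
  haveI := normal_of_le_ker hL
  obtain ⟨y, hy⟩ := exists_prime_orderOf_dvd_card' q hqQ
  obtain ⟨y', hy'⟩ := QuotientGroup.mk_surjective y
  obtain ⟨x, rfl⟩ := eproj_surjective Q y'
  have hxq : x ^ q ∈ L ⊔ commutator (E Q) := mem_sup_of_abelianization hsup (by
    rw [map_pow, map_pow, show Abelianization.of (eproj Q x) = y from hy', ← hy, pow_orderOf_eq_one])
  have hxn : x ∉ L ⊔ commutator (E Q) := fun h => by
    obtain ⟨l, hl, d, hd, hld⟩ := Subgroup.mem_sup_of_normal_right.1 h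
    have : y = 1 := by
      rw [← hy', ← hld, map_mul, show eproj Q l = 1 from hL hl, one_mul]
      exact (QuotientGroup.eq_one_iff _).2 (map_commutator_le (eproj Q) ⟨d, hd, rfl⟩)
    rw [this, orderOf_one] at hy
    exact hq.ne_one hy.symm
  obtain ⟨l, hl, d, hd, hld⟩ := Subgroup.mem_sup_of_normal_right.1 hxq
  -- the lattice of `L`
  let ι : Additive L →+ (Q →₀ ℤ) :=
    { toFun := fun z => Multiplicative.toAdd (expSum Q ((Additive.toMul z : L) : E Q))
      map_zero' := by simp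
      map_add' := fun a b => by simp }
  let Λ : Submodule ℤ (Q →₀ ℤ) := AddSubgroup.toIntSubmodule ι.range
  obtain ⟨k, B⟩ := Submodule.basisOfPid (Finsupp.basisSingleOne (R := ℤ) (ι := Q)) Λ
  let toΛ : Additive L →+ Λ := ι.codRestrict Λ fun z => ⟨z, rfl⟩
  obtain ⟨i, hi⟩ : ∃ i, ¬ (q : ℤ) ∣ B.repr (toΛ (Additive.ofMul ⟨l, hl⟩)) i := by
    by_contra hno
    push Not at hno
    choose c hc using hno
    let z : Λ := ∑ j, c j • B j
    have hz : (q : ℤ) • z = toΛ (Additive.ofMul ⟨l, hl⟩) := by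
      rw [← B.sum_repr (toΛ (Additive.ofMul ⟨l, hl⟩)), Finset.smul_sum]
      exact Finset.sum_congr rfl fun j _ => by rw [smul_smul, ← hc j]
    obtain ⟨w, hw⟩ := z.2
    have h1 : (q : ℤ) • (z : Q →₀ ℤ) = (q : ℤ) • Multiplicative.toAdd (expSum Q x) := by
      have h2 : Multiplicative.toAdd (expSum Q (x ^ q)) = Multiplicative.toAdd (expSum Q l) := by
        rw [← hld, map_mul, show expSum Q d = 1 from MonoidHom.mem_ker.1 (by rw [expSum_ker]; exact hd), mul_one]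
      rw [map_pow, toAdd_pow, ← natCast_zsmul] at h2
      rw [h2, ← Submodule.coe_smul, hz]
      rfl
    have h3 : expSum Q ((Additive.toMul w : L) : E Q) = expSum Q x :=
      hw.trans (smul_right_injective (Q →₀ ℤ) (Int.natCast_ne_zero.2 hq.ne_zero) h1)
    apply hxn
    rw [← mul_inv_cancel_left ((Additive.toMul w : L) : E Q) x]
    refine Subgroup.mul_mem_sup (Additive.toMul w).2 ?_
    rw [← expSum_ker, MonoidHom.mem_ker, map_mul, map_inv, h3, inv_mul_cancel]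
  -- an element which is no `q`-th power
  obtain ⟨a, ha⟩ : ∃ a : M Q, ∀ z : M Q, z ^ q ≠ a := by
    by_contra hno
    push Not at hno
    have hbij : Function.Bijective (fun z : M Q => z ^ q) := Finite.surjective_iff_bijective.1 hno
    obtain ⟨b, hb⟩ := exists_prime_orderOf_dvd_card' q hqM
    have : b = 1 := hbij.1 (by show b ^ q = (1 : M Q) ^ q; rw [one_pow, ← hb, pow_orderOf_eq_one])
    rw [this, orderOf_one] at hb
    exact hq.ne_one hb.symm
  let h : L →* M Q := (zpowersHom (M Q) a).comp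
    (AddMonoidHom.toMultiplicative ((Finsupp.applyAddHom i).comp (B.repr.toAddEquiv.toAddMonoidHom.comp toΛ)) |>.comp
      (MulEquiv.multiplicativeAdditive L).symm.toMonoidHom)
  have hha : h ⟨l, hl⟩ = a ^ (B.repr (toΛ (Additive.ofMul ⟨l, hl⟩)) i) := rfl
  have hnopow : ∀ z : M Q, z ^ q ≠ h ⟨l, hl⟩ := by
    intro z hz
    rw [hha] at hz
    obtain ⟨s, t, hst⟩ := (Int.prime_iff_natAbs_prime.2 (by simpa using hq)).coprime_iff_not_dvd.2 hi
    apply ha (a ^ s * z ^ t)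
    rw [mul_pow, ← zpow_natCast (z ^ t), zpow_comm z, zpow_natCast z q, hz, ← zpow_natCast (a ^ s), ← zpow_mul,
      ← zpow_mul, ← zpow_add]
    conv_rhs => rw [← zpow_one a]
    rw [← hst]; ring_nf
  let j : L →* E Q :=
    { toFun := fun z => (z : E Q) * (h z : E Q)
      map_one' := by simp
      map_mul' := fun z z' => by
        simp only [map_mul, Subgroup.coe_mul]
        calc (z : E Q) * z' * ((h z : E Q) * h z') = z * ((z' : E Q) * h z) * h z' := by group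
          _ = z * ((h z : E Q) * z') * h z' := by rw [Subgroup.mem_center_iff.1 (M_le_center Q (h z).2) (z' : E Q)]
          _ = _ := by group }
  have hL₂ : j.range ≤ (eproj Q).ker := by
    rintro _ ⟨z, rfl⟩
    exact mul_mem (hL z.2) (M_le_ker Q (h z).2)
  have hL₂M : j.range ⊓ M Q = ⊥ := eq_bot_iff.2 fun _ hm => by
    obtain ⟨⟨z, rfl⟩, hz⟩ := hm
    have h1 : (z : E Q) ∈ L ⊓ M Q := ⟨z.2, by
      rw [← mul_inv_cancel_right (z : E Q) (h z : E Q)]
      exact (M Q).mul_mem hz ((M Q).inv_mem (h z).2)⟩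
    rw [hLM, Subgroup.mem_bot] at h1
    have hz1 : z = 1 := Subtype.ext h1
    rw [hz1, map_one]
    exact one_mem _
  have hsup₂ : (eproj Q).ker ≤ j.range ⊔ M Q := hsup.trans (sup_le (fun z hz => by
    rw [← mul_inv_cancel_right z (h ⟨z, hz⟩ : E Q)]
    exact Subgroup.mul_mem_sup ⟨⟨z, hz⟩, rfl⟩ (inv_mem (h ⟨z, hz⟩).2)) le_sup_right)
  haveI := normal_of_le_ker hL₂
  obtain ⟨hs₁, hf₁, e₁, -⟩ := cover_of_complement L hL hLM hsup
  obtain ⟨hs₂, hf₂, e₂, he₂⟩ := cover_of_complement j.range hL₂ hL₂M hsup₂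
  haveI := hf₁
  haveI := hf₂
  obtain ⟨e, he⟩ := huniq _ _ _ _ hs₁ hs₂ ⟨e₁.symm⟩ ⟨e₂.symm⟩
  let σ₂ := QuotientGroup.lift j.range (eproj Q) hL₂
  have hlift : σ₂.comp (QuotientGroup.mk' j.range) = σ₂.comp (e.toMonoidHom.comp (QuotientGroup.mk' L)) := by
    rw [← MonoidHom.comp_assoc _ e.toMonoidHom, he]
    rfl
  obtain ⟨χ, hχker, hχ, hχcom⟩ := lift_div hs₂.2.1 hlift
  have hl2 : χ l = (QuotientGroup.mk (l : E Q) : E Q ⧸ j.range) := by
    have h1 := hχ l
    rw [MonoidHom.comp_apply, show QuotientGroup.mk' L l = 1 from (QuotientGroup.eq_one_iff _).2 hl, map_one,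
      mul_one] at h1
    exact h1.symm
  have hd1 : χ d = 1 := by
    have h1 := hχ d
    rwa [← hχcom d hd, right_eq_mul] at h1
  have hx : χ x ^ q = χ l := by rw [← map_pow, ← hld, map_mul, hd1, mul_one]
  let m₀ := e₂.symm ⟨χ x, hχker x⟩
  apply hnopow m₀⁻¹
  have hm₀ : e₂ (m₀ ^ q * h ⟨l, hl⟩) = e₂ 1 := by
    refine Subtype.ext ?_
    rw [map_mul e₂, map_pow e₂, map_one e₂, e₂.apply_symm_apply, Subgroup.coe_mul, SubmonoidClass.coe_pow,
      OneMemClass.coe_one, he₂]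
    show χ x ^ q * _ = 1
    rw [hx, hl2, ← QuotientGroup.mk_mul]
    exact (QuotientGroup.eq_one_iff _).2 ⟨⟨l, hl⟩, rfl⟩
  rw [inv_pow, inv_eq_of_mul_eq_one_right (e₂.injective hm₀)]

end CfsgLib.Solv.Mult
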