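import Cfsg.Agent.Solv.Basic
import Mathlib.GroupTheory.SpecificGroups.Cyclic
import Mathlib.Data.ZMod.Basic
import Mathlib.GroupTheory.Sylow

/-!
The number of subgroups of a given prime power order is `1` modulo the prime.
-/

set_option autoImplicit false
set_option linter.style.haveILetI false
set_option linter.deprecated false
set_option linter.unusedSectionVars false

open scoped Pointwise

namespace CfsgLib.Solv

universe u

section
variable {G : Type u} [Group G] [Finite G]

theorem stabilizer_card_dvd_of_subset {X : Set G} {S : Subgroup G} (hX : ∀ s ∈ S, s • X = X) :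
    Nat.card S ∣ Nat.card X := by
  classical
  haveI := Fintype.ofFinite G
  let act : MulAction S X :=
    { smul := fun s x => ⟨(s : G) * x, by
        have h : (s : G) • (x : G) ∈ (s : G) • X := Set.smul_mem_smul_set x.2
        rwa [hX s s.2] at h⟩
      one_smul := fun x => Subtype.ext (one_mul _)
      mul_smul := fun a b x => Subtype.ext (mul_assoc _ _ _) }
  letI := act
  haveI : Fintype (MulAction.orbitRel.Quotient S X) := Fintype.ofFinite _
  rw [Nat.card_congr (MulAction.selfEquivSigmaOrbits S X), Nat.card_sigma]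
  refine Finset.dvd_sum fun ω _ => ?_
  have : MulAction.stabilizer S ω.out = ⊥ := by
    rw [eq_bot_iff]
    intro s hs
    have h : (s : G) * (ω.out : G) = ω.out := Subtype.ext_iff.1 (MulAction.mem_stabilizer_iff.1 hs)
    exact Subgroup.mem_bot.2 (Subtype.ext (mul_eq_right.1 h))
  rw [Nat.card_coe_set_eq, ← MulAction.index_stabilizer, this, Subgroup.index_bot]

theorem choose_modEq_card_subgroups {p β : ℕ} (hp : p.Prime) (hdiv : p ^ β ∣ Nat.card G) :
    (Nat.card G).choose (p ^ β) ≡ Nat.card {H : Subgroup G // Nat.card H = p ^ β} *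
      (Nat.card G / p ^ β) [MOD p * (Nat.card G / p ^ β)] := by
  classical
  cases nonempty_fintype G
  set N := Nat.card G with hN
  obtain ⟨m, hm⟩ := hdiv
  have hq : 0 < p ^ β := Nat.pow_pos hp.pos
  have hdivm : N / p ^ β = m := by rw [hm, Nat.mul_div_cancel_left _ hq]
  rw [hdivm]
  let Ω := {X : Set G // Nat.card X = p ^ β}
  letI : MulAction G Ω :=
    { smul := fun g X => ⟨g • X.1, by
        have h := Nat.card_image_of_injective (f := fun x : G => g * x) (mul_right_injective g) X.1
        rw [show (g • X.1 : Set G) = (fun x : G => g * x) '' X.1 from rfl, h]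
        exact X.2⟩
      one_smul := fun X => Subtype.ext (one_smul _ _)
      mul_smul := fun a b X => Subtype.ext (mul_smul _ _ _) }
  have hΩ : Nat.card Ω = N.choose (p ^ β) := by
    rw [hN, Nat.card_eq_fintype_card, Nat.card_eq_fintype_card, ← Finset.card_univ (α := G),
      ← Finset.card_powersetCard, ← Fintype.card_coe]
    refine Fintype.card_congr
      { toFun := fun X => ⟨X.1.toFinset, Finset.mem_powersetCard.2 ⟨Finset.subset_univ _, by
          rw [Set.toFinset_card, ← Nat.card_eq_fintype_card]; exact X.2⟩⟩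
        invFun := fun s => ⟨(s.1 : Set G), by
          rw [Nat.card_eq_fintype_card]
          simpa using (Finset.mem_powersetCard.1 s.2).2⟩
        left_inv := fun X => Subtype.ext (by simp)
        right_inv := fun s => Subtype.ext (by simp) }
  let St : Ω → Subgroup G := fun X => MulAction.stabilizer G X
  have hgood : Nat.card {X : Ω // Nat.card (St X) = p ^ β} =
      Nat.card {H : Subgroup G // Nat.card H = p ^ β} * m := by
    rw [Nat.card_congr (Equiv.sigmaFiberEquiv
      (fun X : {X : Ω // Nat.card (St X) = p ^ β} =>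
        (⟨St X.1, X.2⟩ : {H : Subgroup G // Nat.card H = p ^ β}))).symm, Nat.card_sigma,
      Finset.sum_congr rfl (g := fun _ => m) (fun H _ => ?_), Finset.sum_const,
      Finset.card_univ, Nat.card_eq_fintype_card, smul_eq_mul]
    -- the fibre over `H` is the set of right cosets
    obtain ⟨H, hH⟩ := H
    have hcard : ∀ x : G, Nat.card ((fun h => h * x) '' (H : Set G)) = p ^ β := fun x => by
      rw [Nat.card_image_of_injective (mul_left_injective x)]; exact hH
    have hstab : ∀ x : G, St ⟨_, hcard x⟩ = H := fun x => by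
      ext g
      constructor
      · intro hg
        have e : g • ((fun h => h * x) '' (H : Set G)) = (fun h => h * x) '' (H : Set G) :=
          congrArg Subtype.val hg
        obtain ⟨h, hh, e'⟩ := e.subset (Set.smul_mem_smul_set ⟨1, H.one_mem, rfl⟩)
        have : h = g := mul_right_cancel (b := x) (e'.trans (by simp [smul_eq_mul]))
        exact this ▸ hh
      · intro hg
        refine Subtype.ext ?_
        show g • ((fun h => h * x) '' (H : Set G)) = _
        ext y
        constructor
        · rintro ⟨_, ⟨h, hh, rfl⟩, rfl⟩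
          exact ⟨g * h, mul_mem hg hh, by simp [smul_eq_mul, mul_assoc]⟩
        · rintro ⟨h, hh, rfl⟩
          exact ⟨(g⁻¹ * h) * x, ⟨g⁻¹ * h, mul_mem (inv_mem hg) hh, rfl⟩,
            by simp [smul_eq_mul, mul_assoc]⟩
    have hidx : Nat.card (Quotient (QuotientGroup.rightRel H)) = m := by
      rw [Nat.card_congr (QuotientGroup.quotientRightRelEquivQuotientLeftRel H),
        ← Subgroup.index_eq_card]
      have := Subgroup.card_mul_index H
      rw [hH] at this
      exact Nat.eq_of_mul_eq_mul_left hq (this.trans hm)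
    rw [← hidx]
    refine Nat.card_congr (Equiv.ofBijective (fun c => Quotient.liftOn c
      (fun x => (⟨⟨⟨_, hcard x⟩, (congrArg (Nat.card ∘ fun K : Subgroup G => ↥K) (hstab x)).trans hH⟩,
        Subtype.ext (hstab x)⟩ : {X : {X : Ω // Nat.card (St X) = p ^ β} //
          (⟨St X.1, X.2⟩ : {H : Subgroup G // Nat.card H = p ^ β}) = ⟨H, hH⟩}))
      (fun x y hxy => ?_)) ⟨?_, ?_⟩).symm
    · have hxy' : y * x⁻¹ ∈ H := QuotientGroup.rightRel_apply.1 hxy
      refine Subtype.ext (Subtype.ext (Subtype.ext ?_))
      ext z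
      constructor
      · rintro ⟨h, hh, rfl⟩
        exact ⟨h * (y * x⁻¹)⁻¹, mul_mem hh (inv_mem hxy'), by group⟩
      · rintro ⟨h, hh, rfl⟩
        exact ⟨h * (y * x⁻¹), mul_mem hh hxy', by group⟩
    · intro c d
      induction c using Quotient.inductionOn with
      | _ x =>
        induction d using Quotient.inductionOn with
        | _ y =>
          intro e
          have e' : (fun h => h * x) '' (H : Set G) = (fun h => h * y) '' (H : Set G) :=
            congrArg (fun X => X.1.1.1) e
          obtain ⟨h, hh, e''⟩ := e'.subset ⟨1, H.one_mem, rfl⟩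
          refine Quotient.sound (QuotientGroup.rightRel_apply.2 ?_)
          have : y * x⁻¹ = h⁻¹ := by
            have e2 : h * y = x := by simpa using e''
            rw [← e2]; group
          rw [this]; exact inv_mem hh
    · rintro ⟨⟨⟨X, hX⟩, hXs⟩, hXH⟩
      have hXH' : St ⟨X, hX⟩ = H := congrArg Subtype.val hXH
      have hne : X.Nonempty := by
        rw [← Set.nonempty_coe_sort, ← not_isEmpty_iff]
        intro he
        rw [Nat.card_of_isEmpty] at hX
        omega
      obtain ⟨x, hx⟩ := hne
      refine ⟨Quotient.mk _ x, Subtype.ext (Subtype.ext (Subtype.ext ?_))⟩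
      show (fun h => h * x) '' (H : Set G) = X
      refine Set.eq_of_subset_of_ncard_le ?_ ?_ (Set.toFinite _)
      · rintro _ ⟨h, hh, rfl⟩
        have : h • X = X := congrArg Subtype.val (MulAction.mem_stabilizer_iff.1 (hXH'.ge hh))
        rw [← this]
        exact Set.smul_mem_smul_set hx
      · rw [← Nat.card_coe_set_eq, ← Nat.card_coe_set_eq, hcard x, hX]
  have hbad : p * m ∣ Nat.card {X : Ω // ¬ Nat.card (St X) = p ^ β} := by
    letI : MulAction G {X : Ω // ¬ Nat.card (St X) = p ^ β} :=
      { smul := fun g X => ⟨g • X.1, fun e => X.2 (by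
          rw [show St (g • X.1) = MulAut.conj g • St X.1 from
            MulAction.stabilizer_smul_eq_stabilizer_map_conj g X.1, card_conj_smul] at e
          exact e)⟩
        one_smul := fun X => Subtype.ext (one_smul _ _)
        mul_smul := fun a b X => Subtype.ext (mul_smul _ _ _) }
    rw [Nat.card_congr (MulAction.selfEquivSigmaOrbits G {X : Ω // ¬ Nat.card (St X) = p ^ β}),
      Nat.card_sigma]
    refine Finset.dvd_sum fun ω _ => ?_
    set Y := ω.out
    rw [Nat.card_coe_set_eq, ← MulAction.index_stabilizer]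
    have e : MulAction.stabilizer G Y = St Y.1 := by
      ext g
      exact ⟨fun h => congrArg Subtype.val h, fun h => Subtype.ext h⟩
    rw [e]
    have h1 := stabilizer_card_dvd_of_subset (X := Y.1.1) (S := St Y.1)
      fun s hs => congrArg Subtype.val (MulAction.mem_stabilizer_iff.1 hs)
    rw [Y.1.2] at h1
    obtain ⟨j, hj, hje⟩ := (Nat.dvd_prime_pow hp).1 h1
    have hjlt : j < β := lt_of_le_of_ne hj fun e => Y.2 (e ▸ hje)
    obtain ⟨i, rfl⟩ : ∃ i, β = j + 1 + i := ⟨β - (j + 1), by omega⟩
    have h2 : Nat.card (St Y.1) * (St Y.1).index = N := Subgroup.card_mul_index _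
    rw [hje, hm] at h2
    have h3 : (St Y.1).index = p ^ i * (p * m) := by
      refine Nat.eq_of_mul_eq_mul_left (Nat.pow_pos hp.pos : 0 < p ^ j) (h2.trans ?_)
      ring
    exact h3 ▸ dvd_mul_left _ _
  rw [← hΩ, ← Nat.card_congr (Equiv.sumCompl fun X : Ω => Nat.card (St X) = p ^ β), Nat.card_sum,
    hgood]
  exact (Nat.modEq_zero_iff_dvd.2 hbad).add_left _ |>.trans (by rw [add_zero])

/-- The number of subgroups of order `p ^ β` is `1` modulo `p`. -/
theorem card_subgroups_modEq_one {p β : ℕ} (hp : p.Prime) (hdiv : p ^ β ∣ Nat.card G) :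
    Nat.card {H : Subgroup G // Nat.card H = p ^ β} ≡ 1 [MOD p] := by
  classical
  haveI : NeZero (Nat.card G) := ⟨Nat.card_pos.ne'⟩
  have hc : Nat.card (Multiplicative (ZMod (Nat.card G))) = Nat.card G := by
    rw [Nat.card_congr Multiplicative.toAdd, Nat.card_zmod]
  have h1 := choose_modEq_card_subgroups (G := G) hp hdiv
  have h2 := choose_modEq_card_subgroups (G := Multiplicative (ZMod (Nat.card G))) hp (hc.symm ▸ hdiv)
  rw [hc] at h2
  haveI : Fintype (Multiplicative (ZMod (Nat.card G))) := Fintype.ofFinite _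
  have huq : ∀ (K : Subgroup (Multiplicative (ZMod (Nat.card G)))), Nat.card K = p ^ β →
      (Finset.univ.filter fun x => x ∈ K) = Finset.univ.filter fun x => x ^ p ^ β = 1 := by
    intro K hK
    refine Finset.eq_of_subset_of_card_le (fun x hx => ?_) ?_
    · refine Finset.mem_filter.2 ⟨Finset.mem_univ _, ?_⟩
      have := pow_card_eq_one' (x := (⟨x, (Finset.mem_filter.1 hx).2⟩ : K))
      rw [hK] at this
      simpa using congrArg Subtype.val this
    · refine (IsCyclic.card_pow_eq_one_le (Nat.pow_pos hp.pos)).trans ?_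
      rw [← Fintype.card_subtype, ← Nat.card_eq_fintype_card]
      exact hK.ge
  have hone : Nat.card {H : Subgroup (Multiplicative (ZMod (Nat.card G))) // Nat.card H = p ^ β} = 1 := by
    haveI : Fact p.Prime := ⟨hp⟩
    obtain ⟨H, hH⟩ := Sylow.exists_subgroup_card_pow_prime (G := Multiplicative (ZMod (Nat.card G))) p
      (n := β) (hc.symm ▸ hdiv)
    rw [Nat.card_eq_one_iff_unique]
    exact ⟨⟨fun a b => Subtype.ext (SetLike.ext fun x => by
      simpa using Finset.ext_iff.1 ((huq a.1 a.2).trans (huq b.1 b.2).symm) x)⟩,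
      ⟨⟨H, hH⟩⟩⟩
  rw [hone] at h2
  have h3 := h1.symm.trans h2
  have hm : 0 < Nat.card G / p ^ β :=
    Nat.div_pos (Nat.le_of_dvd Nat.card_pos hdiv) (Nat.pow_pos hp.pos)
  exact Nat.ModEq.mul_right_cancel' hm.ne' h3

end

end CfsgLib.Solv
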