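import Cfsg.Agent.Solv.Basic
import Mathlib.GroupTheory.ClassEquation

/-!
Frobenius' theorem on the number of solutions of `g ^ m = 1`.
-/

set_option autoImplicit false
set_option linter.style.haveILetI false
set_option linter.deprecated false
set_option linter.unusedSectionVars false

open scoped Pointwise

namespace CfsgLib.Solv

universe u

/-- A divisibility criterion for sums of conjugation invariant functions. -/
theorem dvd_sum_of_conj_invariant {G : Type u} [Group G] [Fintype G] (F : G → ℕ) (d : ℕ)
    (hinv : ∀ g a : G, F (g * a * g⁻¹) = F a)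
    (hd : ∀ a : G, d ∣ (Subgroup.centralizer ({a} : Set G)).index * F a) : d ∣ ∑ a : G, F a := by
  classical
  rw [← Finset.sum_fiberwise Finset.univ ConjClasses.mk F]
  refine Finset.dvd_sum fun c _ => ?_
  obtain ⟨a, rfl⟩ := ConjClasses.exists_rep c
  have e : ∀ x ∈ Finset.univ.filter (fun x => ConjClasses.mk x = ConjClasses.mk a), F x = F a := by
    intro x hx
    obtain ⟨g, rfl⟩ := isConj_iff.1 (ConjClasses.mk_eq_mk_iff_isConj.1 (Finset.mem_filter.1 hx).2).symm
    exact hinv g a
  rw [Finset.sum_congr rfl e, Finset.sum_const, smul_eq_mul]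
  have h2 : Nat.card {x : G // ConjClasses.mk x = ConjClasses.mk a} =
      Nat.card (MulAction.orbit (ConjAct G) a) := by
    refine Nat.card_congr (Equiv.subtypeEquivRight fun x => ?_)
    rw [ConjClasses.mk_eq_mk_iff_isConj, ConjAct.mem_orbit_conjAct]
  have h1 : (Finset.univ.filter (fun x => ConjClasses.mk x = ConjClasses.mk a)).card =
      (Subgroup.centralizer ({a} : Set G)).index := by
    rw [← Fintype.card_subtype, ← Nat.card_eq_fintype_card, h2, Nat.card_coe_set_eq]
    rw [← MulAction.index_stabilizer (ConjAct G) a, Subgroup.centralizer_eq_comap_stabilizer]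
    exact (Subgroup.index_comap_of_surjective (MulAction.stabilizer (ConjAct G) a)
      (f := (ConjAct.toConjAct : G ≃* ConjAct G).toMonoidHom) ConjAct.toConjAct.surjective).symm
  exact h1 ▸ hd a

/-- Splitting an element into commuting parts of coprime orders. -/
theorem exists_crt {N1 N2 : ℕ} (hco : N1.Coprime N2) :
    ∃ u v : ℕ, u ≡ 1 [MOD N1] ∧ u ≡ 0 [MOD N2] ∧ v ≡ 0 [MOD N1] ∧ v ≡ 1 [MOD N2] :=
  ⟨(Nat.chineseRemainder hco 1 0 : ℕ), (Nat.chineseRemainder hco 0 1 : ℕ),
    (Nat.chineseRemainder hco 1 0).2.1, (Nat.chineseRemainder hco 1 0).2.2,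
    (Nat.chineseRemainder hco 0 1).2.1, (Nat.chineseRemainder hco 0 1).2.2⟩

theorem pow_eq_self_of_modEq {M : Type u} [Monoid M] {a : M} {N u : ℕ} (ha : a ^ N = 1)
    (hu : u ≡ 1 [MOD N]) : a ^ u = a := by
  rw [pow_eq_pow_mod u ha, hu, ← pow_eq_pow_mod 1 ha, pow_one]

theorem pow_eq_one_of_modEq {M : Type u} [Monoid M] {a : M} {N u : ℕ} (ha : a ^ N = 1)
    (hu : u ≡ 0 [MOD N]) : a ^ u = 1 := by
  rw [pow_eq_pow_mod u ha, hu, Nat.zero_mod, pow_zero]

/-- Counting elements through their decomposition into parts of coprime orders. -/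
theorem card_decomp {G : Type u} [Group G] [Fintype G] {N1 N2 : ℕ} (hco : N1.Coprime N2)
    (hN : ∀ g : G, g ^ (N1 * N2) = 1) (P : G → Prop) (A B : G → Prop)
    (hA : ∀ a, A a → a ^ N1 = 1) (hB : ∀ b, B b → b ^ N2 = 1)
    (hP : ∀ a b, a ^ N1 = 1 → b ^ N2 = 1 → a * b = b * a → (P (a * b) ↔ A a ∧ B b)) :
    Nat.card {x : G // P x} = ∑ a : G, Nat.card {b : G // A a ∧ B b ∧ a * b = b * a} := by
  classical
  obtain ⟨u, v, hu1, hu0, hv0, hv1⟩ := exists_crt hco
  rw [← Nat.card_sigma]
  have hsplit : ∀ x : G, x ^ u * x ^ v = x ∧ (x ^ u) ^ N1 = 1 ∧ (x ^ v) ^ N2 = 1 ∧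
      x ^ u * x ^ v = x ^ v * x ^ u := by
    intro x
    refine ⟨?_, ?_, ?_, (Commute.refl x).pow_pow u v⟩
    · rw [← pow_add]
      refine pow_eq_self_of_modEq (hN x) ((Nat.modEq_and_modEq_iff_modEq_mul hco).1
        ⟨?_, ?_⟩)
      · simpa using hu1.add hv0
      · simpa using hu0.add hv1
    · rw [← pow_mul]
      refine pow_eq_one_of_modEq (hN x) ((Nat.modEq_and_modEq_iff_modEq_mul hco).1
        ⟨(Nat.modEq_zero_iff_dvd).2 (dvd_mul_left _ _), ?_⟩)
      simpa using hu0.mul_right N1
    · rw [← pow_mul]
      refine pow_eq_one_of_modEq (hN x) ((Nat.modEq_and_modEq_iff_modEq_mul hco).1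
        ⟨?_, (Nat.modEq_zero_iff_dvd).2 (dvd_mul_left _ _)⟩)
      simpa using hv0.mul_right N2
  refine Nat.card_congr
    { toFun := fun x => ⟨x.1 ^ u, x.1 ^ v, ?_⟩
      invFun := fun y => ⟨y.1 * y.2.1, (hP _ _ (hA _ y.2.2.1) (hB _ y.2.2.2.1) y.2.2.2.2).2
        ⟨y.2.2.1, y.2.2.2.1⟩⟩
      left_inv := fun x => Subtype.ext (hsplit x.1).1
      right_inv := fun y => ?_ }
  · obtain ⟨h1, h2, h3, h4⟩ := hsplit x.1
    have := (hP _ _ h2 h3 h4).1 (h1.symm ▸ x.2)
    exact ⟨this.1, this.2, h4⟩
  · obtain ⟨a, b, ha, hb, hc⟩ := y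
    have h1 : (a * b) ^ u = a := by
      rw [Commute.mul_pow hc, pow_eq_self_of_modEq (hA a ha) hu1,
        pow_eq_one_of_modEq (hB b hb) hu0, mul_one]
    have h2 : (a * b) ^ v = b := by
      rw [Commute.mul_pow hc, pow_eq_one_of_modEq (hA a ha) hv0,
        pow_eq_self_of_modEq (hB b hb) hv1, one_mul]
    refine Sigma.subtype_ext h1 ?_
    simpa using h2

theorem card_pow_eq_one_of_gcd {G : Type u} [Group G] [Finite G] (m : ℕ) :
    Nat.card {g : G // g ^ m = 1} = Nat.card {g : G // g ^ Nat.gcd m (Nat.card G) = 1} :=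
  Nat.card_congr (Equiv.subtypeEquivRight fun g => by
    rw [← orderOf_dvd_iff_pow_eq_one, ← orderOf_dvd_iff_pow_eq_one, Nat.dvd_gcd_iff]
    exact ⟨fun h => ⟨h, orderOf_dvd_natCard g⟩, fun h => h.1⟩)

theorem frobenius_count_aux : ∀ (n : ℕ) (G : Type u) [Group G] [Finite G], Nat.card G = n →
    ∀ m, m ∣ n → m ∣ Nat.card {g : G // g ^ m = 1} := by
  intro n
  induction n using Nat.strong_induction_on with
  | _ n IH =>
    intro G _ _ hn m hm
    classical
    cases nonempty_fintype G
    have hn0 : 0 < n := hn ▸ Nat.card_pos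
    induction hk : n - m using Nat.strong_induction_on generalizing m with
    | _ k IH2 =>
      obtain ⟨r, hr⟩ := hm
      by_cases hr1 : r = 1
      · rw [hr1, mul_one] at hr
        have : Nat.card {g : G // g ^ m = 1} = Nat.card G :=
          Nat.card_congr (Equiv.subtypeUnivEquiv fun g => by rw [← hr, ← hn]; exact pow_card_eq_one')
        rw [this, hn, hr]
      obtain ⟨p, hp, hpr⟩ := Nat.exists_prime_and_dvd hr1
      haveI : Fact p.Prime := ⟨hp⟩
      have hm0 : 0 < m := Nat.pos_of_ne_zero fun e => by rw [e, zero_mul] at hr; omega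
      have hmp : m * p ∣ n := hr ▸ Nat.mul_dvd_mul_left m hpr
      have hlt : m < m * p := lt_mul_of_one_lt_right hm0 hp.one_lt
      have hle : m * p ≤ n := Nat.le_of_dvd hn0 hmp
      have hbig := IH2 (n - m * p) (by omega) (m * p) hmp rfl
      -- elements with order dividing `m * p` but not `m`
      have hsum : Nat.card {g : G // g ^ (m * p) = 1} = Nat.card {g : G // g ^ m = 1} +
          Nat.card {g : G // g ^ (m * p) = 1 ∧ ¬ g ^ m = 1} := by
        simp only [Nat.card_eq_fintype_card, Fintype.card_subtype]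
        rw [← Finset.card_filter_add_card_filter_not (s := Finset.univ.filter
          fun g : G => g ^ (m * p) = 1) (p := fun g => g ^ m = 1), Finset.filter_filter,
          Finset.filter_filter]
        congr 2
        ext g
        simp only [Finset.mem_filter, Finset.mem_univ, true_and]
        exact ⟨fun h => h.2, fun h => ⟨by rw [pow_mul, h, one_pow], h⟩⟩
      suffices hdiff : m ∣ Nat.card {g : G // g ^ (m * p) = 1 ∧ ¬ g ^ m = 1} by
        exact (Nat.dvd_add_left hdiff).1 (hsum ▸ (dvd_mul_right m p).trans hbig)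
      -- decompose
      set s := m.factorization p with hsd
      set m' := ordCompl[p] m with hm'd
      have hmeq : p ^ s * m' = m := Nat.ordProj_mul_ordCompl_eq_self m p
      have hpm' : p.Coprime m' := Nat.coprime_ordCompl hp hm0.ne'
      set v := n.factorization p with hvd
      set N2 := ordCompl[p] n with hN2d
      have hneq : p ^ v * N2 = n := Nat.ordProj_mul_ordCompl_eq_self n p
      have hpN2 : p.Coprime N2 := Nat.coprime_ordCompl hp hn0.ne'
      have hsv : s + 1 ≤ v := (hp.pow_dvd_iff_le_factorization hn0.ne').1 (by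
        refine dvd_trans ⟨m', ?_⟩ hmp
        rw [← hmeq]; ring)
      have hm'n : m' ∣ N2 := (Nat.Coprime.pow_right v hpm'.symm).dvd_of_dvd_mul_left
        (hneq.symm ▸ ((hmeq ▸ dvd_mul_left m' (p ^ s)).trans ((dvd_mul_right m p).trans hmp)))
      have hpow : ∀ j, (p ^ j).Coprime m' := fun j => hpm'.pow_left j
      have key : Nat.card {g : G // g ^ (m * p) = 1 ∧ ¬ g ^ m = 1} =
          ∑ a : G, Nat.card {b : G // orderOf a = p ^ (s + 1) ∧ b ^ m' = 1 ∧ a * b = b * a} := by
        refine card_decomp (N1 := p ^ v) (N2 := N2) (hpN2.pow_left v)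
          (fun g => by rw [hneq, ← hn]; exact pow_card_eq_one') _ _ _ ?_ ?_ ?_
        · intro a ha
          exact orderOf_dvd_iff_pow_eq_one.1 (ha ▸ pow_dvd_pow p hsv)
        · intro b hb
          obtain ⟨w, hw⟩ := hm'n
          rw [hw, pow_mul, hb, one_pow]
        · intro a b ha hb hc
          have hoa := orderOf_dvd_of_pow_eq_one ha
          have hob := orderOf_dvd_of_pow_eq_one hb
          obtain ⟨i, -, hi⟩ := (Nat.dvd_prime_pow hp).1 hoa
          have hco : (orderOf a).Coprime (orderOf b) :=
            ((hpN2.pow_left v).coprime_dvd_left hoa).coprime_dvd_right hob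
          have hpb : (p ^ (s + 1)).Coprime (orderOf b) :=
            (hpN2.pow_left _).coprime_dvd_right hob
          rw [← orderOf_dvd_iff_pow_eq_one, ← orderOf_dvd_iff_pow_eq_one,
            (Commute.orderOf_mul_eq_mul_orderOf_of_coprime hc hco), hi,
            ← orderOf_dvd_iff_pow_eq_one]
          have e1 : ∀ j, p ^ i ∣ p ^ j * m' ↔ i ≤ j := fun j =>
            ⟨fun h => (Nat.pow_dvd_pow_iff_le_right hp.one_lt).1
              ((hpow i).dvd_of_dvd_mul_right h), fun h => dvd_mul_of_dvd_left (pow_dvd_pow p h) _⟩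
          have e2 : ∀ j, orderOf b ∣ p ^ j * m' ↔ orderOf b ∣ m' := fun j =>
            ⟨fun h => ((hpN2.pow_left j).symm.coprime_dvd_left hob).dvd_of_dvd_mul_left h,
              fun h => dvd_mul_of_dvd_right h _⟩
          have e3 : ∀ j, p ^ i * orderOf b ∣ p ^ j * m' ↔ i ≤ j ∧ orderOf b ∣ m' := fun j =>
            ⟨fun h => ⟨(e1 j).1 (dvd_of_mul_right_dvd h), (e2 j).1 (dvd_of_mul_left_dvd h)⟩,
              fun h => mul_dvd_mul (pow_dvd_pow p h.1) h.2⟩
          rw [show m * p = p ^ (s + 1) * m' by rw [← hmeq]; ring, e3, ← hmeq, e3,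
            Nat.pow_right_inj hp.two_le]
          omega
      rw [key, ← hmeq]
      refine Nat.Coprime.mul_dvd_of_dvd_of_dvd (hpow s) ?_ ?_
      · -- the function depends only on the cyclic subgroup of `a`
        rw [← Finset.sum_fiberwise Finset.univ (fun a : G => Subgroup.zpowers a)]
        refine Finset.dvd_sum fun Z _ => ?_
        rcases (Finset.univ.filter (fun a : G => Subgroup.zpowers a = Z ∧
          orderOf a = p ^ (s + 1))).eq_empty_or_nonempty with he | ⟨a, ha⟩
        · rw [Finset.sum_eq_zero]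
          · exact dvd_zero _
          intro a ha
          haveI : IsEmpty {b : G // orderOf a = p ^ (s + 1) ∧ b ^ m' = 1 ∧ a * b = b * a} :=
            ⟨fun b => Finset.notMem_empty a (he ▸ Finset.mem_filter.2
              ⟨Finset.mem_univ _, (Finset.mem_filter.1 ha).2, b.2.1⟩)⟩
          exact Nat.card_of_isEmpty
        obtain ⟨rfl, hoa⟩ := (Finset.mem_filter.1 ha).2
        have e : ∀ x ∈ Finset.univ.filter (fun x : G => Subgroup.zpowers x = Subgroup.zpowers a),
            Nat.card {b : G // orderOf x = p ^ (s + 1) ∧ b ^ m' = 1 ∧ x * b = b * x} =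
            Nat.card {b : G // orderOf a = p ^ (s + 1) ∧ b ^ m' = 1 ∧ a * b = b * a} := by
          intro x hx
          have hz := (Finset.mem_filter.1 hx).2
          have ho : orderOf x = orderOf a := by
            rw [← Nat.card_zpowers, ← Nat.card_zpowers, hz]
          refine Nat.card_congr (Equiv.subtypeEquivRight fun b => ?_)
          rw [ho]
          refine and_congr_right fun _ => and_congr_right fun _ => ?_
          constructor
          · intro hb
            obtain ⟨i, hi⟩ := Subgroup.mem_zpowers_iff.1 (hz ▸ Subgroup.mem_zpowers a : a ∈ Subgroup.zpowers x)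
            rw [← hi]
            exact (Commute.zpow_left hb i)
          · intro hb
            obtain ⟨i, hi⟩ := Subgroup.mem_zpowers_iff.1 (hz.symm ▸ Subgroup.mem_zpowers x : x ∈ Subgroup.zpowers a)
            rw [← hi]
            exact (Commute.zpow_left hb i)
        rw [Finset.sum_congr rfl e, Finset.sum_const, smul_eq_mul]
        refine dvd_mul_of_dvd_left ?_ _
        have h1 : (Finset.univ.filter (fun x : G => Subgroup.zpowers x = Subgroup.zpowers a)).card =
            (Finset.univ.filter (fun x : Subgroup.zpowers a => orderOf x = orderOf a)).card := by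
          symm
          refine Finset.card_bij (fun (x : Subgroup.zpowers a) _ => (x : G)) ?_ ?_ ?_
          · intro x hx
            refine Finset.mem_filter.2 ⟨Finset.mem_univ _, Subgroup.eq_of_le_of_card_ge
              (Subgroup.zpowers_le.2 x.2) ?_⟩
            rw [Nat.card_zpowers, Nat.card_zpowers, Subgroup.orderOf_coe,
              (Finset.mem_filter.1 hx).2]
          · intro x _ y _ h; exact Subtype.ext h
          · intro x hx
            have hz := (Finset.mem_filter.1 hx).2
            refine ⟨⟨x, hz ▸ Subgroup.mem_zpowers x⟩, Finset.mem_filter.2 ⟨Finset.mem_univ _, ?_⟩, rfl⟩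
            rw [← Subgroup.orderOf_coe, ← Nat.card_zpowers, ← Nat.card_zpowers a, hz]
        rw [h1, IsCyclic.card_orderOf_eq_totient (by rw [← Nat.card_eq_fintype_card, Nat.card_zpowers]),
          hoa, Nat.totient_prime_pow_succ hp]
        exact dvd_mul_right _ _
      · refine dvd_sum_of_conj_invariant _ m' (fun g a => ?_) (fun a => ?_)
        · refine Nat.card_congr ((MulAut.conj g⁻¹).toEquiv.subtypeEquiv fun b => ?_)
          have h1 : orderOf (g * a * g⁻¹) = orderOf a := (MulEquiv.orderOf_eq (MulAut.conj g) a)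
          simp only [h1, MulEquiv.toEquiv_eq_coe, MulEquiv.coe_toEquiv, ← map_pow, MulEquiv.map_eq_one_iff]
          refine and_congr_right fun _ => and_congr_right fun _ => ?_
          constructor
          · intro h
            have := congrArg (MulAut.conj g⁻¹) h
            simpa [mul_assoc] using this
          · intro h
            have := congrArg (MulAut.conj g) h
            simpa [mul_assoc] using this
        by_cases hoa : orderOf a = p ^ (s + 1)
        swap
        · haveI : IsEmpty {b : G // orderOf a = p ^ (s + 1) ∧ b ^ m' = 1 ∧ a * b = b * a} :=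
            ⟨fun b => hoa b.2.1⟩
          rw [Nat.card_of_isEmpty, mul_zero]; exact dvd_zero _
        set C := Subgroup.centralizer ({a} : Set G) with hC
        set Z := (Subgroup.zpowers a).subgroupOf C with hZ
        have haC : a ∈ C := Subgroup.mem_centralizer_singleton_iff.2 rfl
        have hZc : Z ≤ Subgroup.center C := fun z hz => Subgroup.mem_center_iff.2 fun c => by
          obtain ⟨i, hi⟩ := Subgroup.mem_zpowers_iff.1 (Subgroup.mem_subgroupOf.1 hz)
          refine Subtype.ext ?_
          rw [Subgroup.coe_mul, Subgroup.coe_mul, ← hi]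
          exact (Commute.zpow_right (Subgroup.mem_centralizer_singleton_iff.1 c.2) i)
        haveI : Z.Normal := ⟨fun z hz c => by rwa [(Subgroup.mem_center_iff.1 (hZc hz)) c, mul_inv_cancel_right]⟩
        have hZcard : Nat.card Z = p ^ (s + 1) := by
          rw [hZ, card_subgroupOf (Subgroup.zpowers_le.2 haC), Nat.card_zpowers, hoa]
        have hquot : Nat.card {b : G // orderOf a = p ^ (s + 1) ∧ b ^ m' = 1 ∧ a * b = b * a} =
            Nat.card {y : C ⧸ Z // y ^ m' = 1} := by
          refine Nat.card_congr (Equiv.ofBijective (fun b => ⟨QuotientGroup.mk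
            (⟨b.1, Subgroup.mem_centralizer_singleton_iff.2 b.2.2.2.symm⟩ : C), by
              rw [← QuotientGroup.mk_pow, show (⟨b.1, _⟩ : C) ^ m' = 1 from Subtype.ext (by simpa using b.2.2.1)]
              rfl⟩) ⟨?_, ?_⟩)
          · rintro ⟨b, hb1, hb2, hb3⟩ ⟨c, hc1, hc2, hc3⟩ e
            rw [Subtype.mk.injEq, QuotientGroup.eq] at e
            set z : C := (⟨b, _⟩ : C)⁻¹ * ⟨c, _⟩ with hzd
            have h1 : z ^ Nat.card Z = 1 := by
              have h := congrArg Subtype.val (pow_card_eq_one' (x := (⟨z, e⟩ : Z)))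
              rwa [SubmonoidClass.coe_pow, OneMemClass.coe_one] at h
            have hcomm : Commute b c := by
              obtain ⟨i, hi⟩ := Subgroup.mem_zpowers_iff.1 (Subgroup.mem_subgroupOf.1 e)
              have : c = b * a ^ i := by rw [hi]; simp [hzd]
              rw [this]
              exact (Commute.refl b).mul_right (Commute.zpow_right hb3.symm i)
            have h2 : z ^ m' = 1 := Subtype.ext (by
              simp [hzd, hcomm.inv_left.mul_pow, hb2, hc2])
            have h3 : z = 1 := by
              rw [← orderOf_eq_one_iff]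
              exact Nat.eq_one_of_dvd_coprimes (hpow (s + 1))
                (hZcard ▸ orderOf_dvd_of_pow_eq_one h1) (orderOf_dvd_of_pow_eq_one h2)
            exact Subtype.ext (by simpa [hzd, inv_mul_eq_one] using h3)
          · rintro ⟨y, hy⟩
            obtain ⟨c, rfl⟩ := QuotientGroup.mk_surjective y
            rw [← QuotientGroup.mk_pow, QuotientGroup.eq_one_iff] at hy
            obtain ⟨u, w, hu1, hu0, -, -⟩ := exists_crt (hpow (s + 1)).symm
            refine ⟨⟨(c : G) ^ u, hoa, ?_, ?_⟩, Subtype.ext ?_⟩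
            · rw [← pow_mul]
              have h1 : ((c : G) ^ m') ^ (p ^ (s + 1)) = 1 := by
                have h := congrArg (fun z : Z => ((z : C) : G)) (pow_card_eq_one' (x := (⟨_, hy⟩ : Z)))
                rw [hZcard] at h
                simpa only [SubmonoidClass.coe_pow, OneMemClass.coe_one] using h
              obtain ⟨w', hw'⟩ := (Nat.modEq_zero_iff_dvd).1 hu0
              rw [hw', mul_right_comm, pow_mul, mul_comm, pow_mul, h1, one_pow]
            · exact (Commute.pow_right (Subgroup.mem_centralizer_singleton_iff.1 c.2).symm u)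
            · show (QuotientGroup.mk (⟨(c : G) ^ u, _⟩ : C) : C ⧸ Z) = QuotientGroup.mk c
              rw [show (⟨(c : G) ^ u, _⟩ : C) = c ^ u from Subtype.ext (by simp), QuotientGroup.mk_pow]
              refine pow_eq_self_of_modEq ?_ hu1
              rw [← QuotientGroup.mk_pow, QuotientGroup.eq_one_iff]
              exact hy
        rw [hquot, card_pow_eq_one_of_gcd]
        have hcq : Nat.card (C ⧸ Z) < n := by
          have hd := Subgroup.card_eq_card_quotient_mul_card_subgroup Z
          have h1 : 1 < Nat.card Z := by rw [hZcard]; exact Nat.one_lt_pow (Nat.succ_ne_zero s) hp.one_lt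
          have h2 : Nat.card C ≤ n := hn ▸ Subgroup.card_le_card_group C
          have h3 : 0 < Nat.card (C ⧸ Z) := Nat.card_pos
          nlinarith
        have h1 := IH _ hcq (C ⧸ Z) rfl (Nat.gcd m' (Nat.card (C ⧸ Z))) (Nat.gcd_dvd_right _ _)
        refine dvd_trans ?_ (Nat.mul_dvd_mul_left _ h1)
        have h2 : Nat.gcd m' (Nat.card (C ⧸ Z)) = Nat.gcd m' (Nat.card C) := by
          rw [Subgroup.card_eq_card_quotient_mul_card_subgroup Z, hZcard,
            Nat.Coprime.gcd_mul_right_cancel_right _ (hpow (s + 1))]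
        rw [h2, ← Nat.gcd_mul_left]
        refine Nat.dvd_gcd (dvd_mul_left _ _) ?_
        rw [mul_comm, Subgroup.card_mul_index, hn]
        exact ((hmeq ▸ dvd_mul_left m' (p ^ s)).trans ((dvd_mul_right m p).trans hmp))

/-- Frobenius: `gcd m |G|` divides the number of solutions of `g ^ m = 1`. -/
theorem frobenius_count {G : Type u} [Group G] [Finite G] (m : ℕ) :
    Nat.gcd m (Nat.card G) ∣ Nat.card {g : G // g ^ m = 1} := by
  rw [card_pow_eq_one_of_gcd m]
  exact frobenius_count_aux _ G rfl _ (Nat.gcd_dvd_right _ _)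

end CfsgLib.Solv
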