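import Cfsg.Agent.Solv.ComplementClass
import Cfsg.Agent.Solv.FrobeniusNilp

/-!
Frobenius groups are recognised by their numbers of elements of each order.
-/

set_option autoImplicit false
set_option linter.style.haveILetI false
set_option linter.deprecated false
set_option linter.unusedSectionVars false

open scoped commutatorElement Pointwise

namespace CfsgLib.Solv

universe u v

variable {G : Type*} [Group G]

/-- Elements of a normal Hall subgroup are recognised by their orders. -/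
theorem mem_normal_hall_iff [Finite G] {N : Subgroup G} [N.Normal]
    (hcop : (Nat.card N).Coprime N.index) {g : G} : g ∈ N ↔ orderOf g ∣ Nat.card N := by
  refine ⟨fun hg => by rw [← Subgroup.orderOf_mk g hg]; exact orderOf_dvd_natCard _, fun hg => ?_⟩
  rw [← QuotientGroup.eq_one_iff]
  refine orderOf_eq_one_iff.1 (Nat.eq_one_of_dvd_coprimes hcop ?_ ?_)
  · exact (orderOf_map_dvd (QuotientGroup.mk' N) g).trans hg
  · exact orderOf_dvd_natCard _

/-- The elements of order prime to the kernel lie in conjugates of the complement. -/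
theorem frobenius_card_orderOf [Finite G] {H N : Subgroup G} (hH : Cfsg.IsFrobeniusComplement H)
    (hN : (N : Set G) = Cfsg.frobeniusKernel H) [N.Normal] (hc : Subgroup.IsComplement' N H)
    {m : ℕ} (hm1 : m ≠ 1) (hm : (m : ℕ).Coprime (Nat.card N)) :
    Nat.card {g : G // orderOf g = m} = Nat.card N * Nat.card {x : H // orderOf x = m} := by
  rw [← Nat.card_prod]
  refine (Nat.card_congr (Equiv.ofBijective (fun y : N × {x : H // orderOf x = m} =>
    (⟨(y.1 : G) * (y.2.1 : G) * (y.1 : G)⁻¹, by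
      show orderOf (MulAut.conj (y.1 : G) (y.2.1 : G)) = m
      rw [MulEquiv.orderOf_eq, Subgroup.orderOf_coe, y.2.2]⟩ : {g : G // orderOf g = m})) ⟨?_, ?_⟩)).symm
  · rintro ⟨n, x, hx⟩ ⟨n', x', hx'⟩ h
    have h' : (n : G) * (x : G) * (n : G)⁻¹ = (n' : G) * (x' : G) * (n' : G)⁻¹ := congrArg Subtype.val h
    have hx1 : (x : G) ≠ 1 := fun e => hm1 (by rw [← hx, ← Subgroup.orderOf_coe, e, orderOf_one])
    have e : ((n' : G)⁻¹ * n) * (x : G) * ((n' : G)⁻¹ * n)⁻¹ = x' := by
      calc ((n' : G)⁻¹ * n) * (x : G) * ((n' : G)⁻¹ * n)⁻¹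
          = (n' : G)⁻¹ * ((n : G) * (x : G) * (n : G)⁻¹) * n' := by group
        _ = x' := by rw [h']; group
    have hmem := frobenius_mem_of_conj_mem hH x.2 (e ▸ x'.2) hx1
    have hn1 : (n' : G)⁻¹ * n ∈ N ⊓ H := Subgroup.mem_inf.2 ⟨mul_mem (inv_mem n'.2) n.2, hmem⟩
    rw [hc.disjoint.eq_bot, Subgroup.mem_bot, inv_mul_eq_one] at hn1
    obtain rfl : n' = n := Subtype.ext hn1
    have hxx : (x : G) = x' := mul_left_cancel (mul_right_cancel h')
    obtain rfl : x = x' := Subtype.ext hxx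
    rfl
  · rintro ⟨g, hg⟩
    have hgN : g ∉ N := fun hgN => hm1 (Nat.eq_one_of_dvd_coprimes hm dvd_rfl
      (hg ▸ Subgroup.orderOf_mk g hgN ▸ orderOf_dvd_natCard (⟨g, hgN⟩ : N)))
    rw [← SetLike.mem_coe, hN] at hgN
    simp only [Cfsg.frobeniusKernel, Set.mem_setOf_eq, not_or, not_forall, not_not] at hgN
    obtain ⟨f, hf⟩ := hgN.2
    rw [mem_conj_smul_iff] at hf
    obtain ⟨⟨n, c⟩, hnc⟩ := hc.2 f
    have hnc' : (n : G) * c = f := hnc
    have hx : (c : G) * (f⁻¹ * g * f) * (c : G)⁻¹ ∈ H := mul_mem (mul_mem c.2 hf) (inv_mem c.2)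
    refine ⟨⟨n, ⟨⟨_, hx⟩, ?_⟩⟩, Subtype.ext ?_⟩
    · rw [Subgroup.orderOf_mk]
      show orderOf (MulAut.conj (c : G) (f⁻¹ * g * f)) = m
      rw [MulEquiv.orderOf_eq, show f⁻¹ * g * f = MulAut.conj f⁻¹ g by simp [MulAut.conj_apply],
        MulEquiv.orderOf_eq, hg]
    · show (n : G) * ((c : G) * (f⁻¹ * g * f) * (c : G)⁻¹) * (n : G)⁻¹ = g
      rw [← hnc']; group

/-- In a Frobenius group no element has order `p * q` across the kernel and the complement. -/
theorem frobenius_no_mixed [Finite G] {H N : Subgroup G} (hH : Cfsg.IsFrobeniusComplement H)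
    (hN : (N : Set G) = Cfsg.frobeniusKernel H) [N.Normal] (hc : Subgroup.IsComplement' N H)
    (hcop : (Nat.card N).Coprime N.index) {p q : ℕ} [Fact p.Prime] [Fact q.Prime]
    (hp : p ∣ Nat.card N) (hq : ¬ q ∣ Nat.card N) (g : G) : orderOf g ≠ p * q := by
  intro hg
  have hgp : orderOf (g ^ q) = p := by
    rw [orderOf_pow' g (Fact.out : q.Prime).ne_zero, hg, Nat.gcd_eq_right (dvd_mul_left q p),
      Nat.mul_div_cancel _ (Fact.out : q.Prime).pos]
  have hgq : orderOf (g ^ p) = q := by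
    rw [orderOf_pow' g (Fact.out : p.Prime).ne_zero, hg, Nat.gcd_eq_right (dvd_mul_right p q),
      Nat.mul_div_cancel_left _ (Fact.out : p.Prime).pos]
  have hy : g ^ q ∈ N := (mem_normal_hall_iff hcop).2 (hgp.symm ▸ hp)
  have hx : g ^ p ∉ N := fun h => hq (hgq ▸ (mem_normal_hall_iff hcop).1 h)
  rw [← SetLike.mem_coe, hN] at hx
  simp only [Cfsg.frobeniusKernel, Set.mem_setOf_eq, not_or, not_forall, not_not] at hx
  obtain ⟨f, hf⟩ := hx.2
  rw [mem_conj_smul_iff] at hf
  have hne : f⁻¹ * g ^ p * f ≠ 1 := fun e => hx.1 (by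
    have := congrArg (fun t => f * t * f⁻¹) e
    simpa [mul_assoc] using this)
  have hfix := fpf_of_frobenius (K := N) hH hc.disjoint.eq_bot hf hne
  have hm : f⁻¹ * g ^ q * f ∈ N ⊓ Subgroup.centralizer {f⁻¹ * g ^ p * f} := by
    refine ⟨by simpa using Subgroup.Normal.conj_mem inferInstance _ hy f⁻¹,
      Subgroup.mem_centralizer_iff.2 fun z hz => ?_⟩
    rw [Set.mem_singleton_iff.1 hz]
    calc f⁻¹ * g ^ p * f * (f⁻¹ * g ^ q * f) = f⁻¹ * (g ^ p * g ^ q) * f := by group
      _ = f⁻¹ * (g ^ q * g ^ p) * f := by rw [((Commute.refl g).pow_pow p q).eq]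
      _ = f⁻¹ * g ^ q * f * (f⁻¹ * g ^ p * f) := by group
  rw [hfix, Subgroup.mem_bot] at hm
  have h1 : g ^ q = 1 := by
    have := congrArg (fun t => f * t * f⁻¹) hm
    simpa [mul_assoc] using this
  rw [h1, orderOf_one] at hgp
  exact (Fact.out : p.Prime).ne_one hgp.symm

theorem frobenius_solvable_iff [Finite G] {H N : Subgroup G} (hH : Cfsg.IsFrobeniusComplement H)
    [N.Normal] (hc : Subgroup.IsComplement' N H) : Group.IsSolvable G ↔ Group.IsSolvable H := by
  constructor
  · intro h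
    exact Group.isSolvable_of_isSolvable_injective (f := H.subtype) Subtype.val_injective
  · intro h
    haveI := frobenius_isNilpotent hH hc.disjoint.eq_bot
    exact (Group.isSolvable_iff_subgroup_quotient N).2
      ⟨inferInstance, (isSolvable_quotient_iff_of_isComplement' hc).1 h⟩

/-- A group with the order type of a Frobenius group is one, with the same kernel and complement
orders. -/
theorem frobenius_of_sameOT {F : Type u} {G : Type v} [Group F] [Finite F] [Group G] [Finite G]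
    (hT : SameOT F G) {C N : Subgroup F} (hC : Cfsg.IsFrobeniusComplement C)
    (hN : (N : Set F) = Cfsg.frobeniusKernel C) [N.Normal] (hc : Subgroup.IsComplement' N C) :
    ∃ C' N' : Subgroup G, N'.Normal ∧ Cfsg.IsFrobeniusComplement C' ∧
      (N' : Set G) = Cfsg.frobeniusKernel C' ∧ Subgroup.IsComplement' N' C' ∧
      Nat.card N' = Nat.card N ∧ Nat.card C' = Nat.card C := by
  set k := Nat.card N with hk
  have hidx : N.index = Nat.card C := hc.symm.index_eq_card
  have hcop : k.Coprime N.index := by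
    rw [hidx]
    exact (coprime_of_fpf (A := C) (V := N) (Subgroup.normalizer_eq_top N ▸ le_top)
      fun h hh hh1 => fpf_of_frobenius hC hc.disjoint.eq_bot hh hh1).symm
  haveI hnil := frobenius_isNilpotent hC hc.disjoint.eq_bot
  have hGcard : Nat.card G = k * N.index := by rw [← hT.card_eq, N.card_mul_index]
  have hsyl : ∀ (p : ℕ) [Fact p.Prime], p ∣ k → ∀ P : Sylow p G, (P : Subgroup G).Normal := by
    intro p _ hpk P
    obtain ⟨PF⟩ : Nonempty (Sylow p F) := inferInstance
    have hpi : ¬ p ∣ N.index := fun hd => (Fact.out : p.Prime).ne_one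
      (Nat.eq_one_of_dvd_coprimes hcop hpk hd)
    have hPN : (PF : Subgroup F) ≤ N := fun x hx => by
      rw [← QuotientGroup.eq_one_iff]
      refine orderOf_eq_one_iff.1 ?_
      obtain ⟨i, hi⟩ := IsPGroup.iff_orderOf.1 PF.isPGroup' ⟨x, hx⟩
      rw [Subgroup.orderOf_mk] at hi
      refine Nat.eq_one_of_dvd_coprimes
        (((Fact.out : p.Prime).coprime_iff_not_dvd.2 hpi).pow_left i) ?_ (orderOf_dvd_natCard _)
      exact hi ▸ orderOf_map_dvd (QuotientGroup.mk' N) x
    have hPFn : (PF : Subgroup F).Normal := by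
      haveI := sylow_normal_of_isNilpotent (PF.subtype hPN)
      haveI := Sylow.characteristic_of_normal (PF.subtype hPN) ‹_›
      haveI := normal_map_subtype_of_characteristic ((PF.subtype hPN : Sylow p N) : Subgroup N)
      rw [← Subgroup.map_subgroupOf_eq_of_le hPN]
      assumption
    have hcard : Nat.card (PF : Subgroup F) = Nat.card (P : Subgroup G) := by
      rw [PF.card_eq_multiplicity, P.card_eq_multiplicity, hT.card_eq]
    refine (sylow_normal_iff_count P).2 ?_
    rw [← hT.card_pred (fun m => m ∣ Nat.card (P : Subgroup G)), ← hcard]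
    exact (sylow_normal_iff_count PF).1 hPFn
  set π : Set ℕ := {p | p ∣ k}
  set N' := Cfsg.piCore π G with hN'def
  haveI hN'n : N'.Normal := by
    haveI := piCore_characteristic (π := π) (G := G)
    exact Subgroup.normal_of_characteristic _
  have hd1 : k ∣ Nat.card N' := by
    refine (Nat.dvd_iff_prime_pow_dvd_dvd _ _).2 fun p i hp hi => ?_
    haveI : Fact p.Prime := ⟨hp⟩
    rcases Nat.eq_zero_or_pos i with rfl | hi0
    · rw [pow_zero]; exact one_dvd _
    have hpk : p ∣ k := (dvd_pow_self p hi0.ne').trans hi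
    obtain ⟨P⟩ : Nonempty (Sylow p G) := inferInstance
    haveI := hsyl p hpk P
    have hle : (P : Subgroup G) ≤ N' := le_piCore fun r hr hrd => by
      obtain ⟨j, hj⟩ := P.isPGroup'.exists_card_eq
      rw [hj] at hrd
      rwa [(Nat.prime_dvd_prime_iff_eq hr hp).1 (hr.dvd_of_dvd_pow hrd)]
    refine dvd_trans ?_ (Subgroup.card_dvd_of_le hle)
    rw [P.card_eq_multiplicity]
    refine pow_dvd_pow p ((hp.pow_dvd_iff_le_factorization Nat.card_pos.ne').1 ?_)
    rw [hGcard]; exact hi.trans (dvd_mul_right _ _)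
  have hd2 : Nat.card N' ∣ k := by
    refine Nat.Coprime.dvd_of_dvd_mul_right ?_ (hGcard ▸ N'.card_subgroup_dvd_card)
    refine Nat.coprime_of_dvd fun r hr h1 h2 => hr.ne_one ?_
    exact Nat.eq_one_of_dvd_coprimes hcop (piNat_card_piCore (π := π) (G := G) r hr h1) h2
  have hN'k : Nat.card N' = k := Nat.dvd_antisymm hd2 hd1
  have hN'i : N'.index = N.index := Nat.eq_of_mul_eq_mul_left (Nat.card_pos (α := N'))
    (by rw [N'.card_mul_index, hGcard, hN'k])
  have hcop' : (Nat.card N').Coprime N'.index := by rw [hN'k, hN'i]; exact hcop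
  obtain ⟨C', hC'⟩ := Subgroup.exists_right_complement'_of_coprime hcop'
  have hC'c : Nat.card C' = Nat.card C := by rw [← hC'.symm.index_eq_card, hN'i, hidx]
  have hN'ne : N' ≠ ⊥ := fun hb => by
    rw [hb, Subgroup.card_bot] at hN'k
    have hNb : N = ⊥ := Subgroup.card_eq_one.1 hN'k.symm
    exact hC.2.1 (by rw [← bot_sup_eq C, ← hNb]; exact hc.sup_eq_top)
  have hC'ne : C' ≠ ⊥ := fun hb => by
    rw [hb, Subgroup.card_bot] at hC'c
    exact hC.1 (Subgroup.card_eq_one.1 hC'c.symm)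
  have hfpf : ∀ h ∈ C', h ≠ 1 → N' ⊓ Subgroup.centralizer {h} = ⊥ := by
    intro h hh hh1
    by_contra hne
    obtain ⟨q, hq, hqd⟩ := Nat.exists_prime_and_dvd (n := orderOf h)
      (fun e => hh1 (orderOf_eq_one_iff.1 e))
    set X := N' ⊓ Subgroup.centralizer {h}
    obtain ⟨p, hp, hpd⟩ := Nat.exists_prime_and_dvd (n := Nat.card X)
      (fun e => hne (Subgroup.card_eq_one.1 e))
    haveI : Fact p.Prime := ⟨hp⟩
    haveI : Fact q.Prime := ⟨hq⟩
    obtain ⟨⟨y, hy⟩, hyo⟩ := exists_prime_orderOf_dvd_card' p hpd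
    rw [Subgroup.orderOf_mk] at hyo
    have hx : orderOf (h ^ (orderOf h / q)) = q := orderOf_pow_orderOf_div (orderOf_pos h).ne' hqd
    have hpk : p ∣ k := hN'k ▸ hpd.trans (Subgroup.card_dvd_of_le inf_le_left)
    have hqc : q ∣ Nat.card C := hC'c ▸ hqd.trans (Subgroup.orderOf_mk h hh ▸ orderOf_dvd_natCard _)
    have hqk : ¬ q ∣ k := fun hd => hq.ne_one (Nat.eq_one_of_dvd_coprimes hcop hd (hidx ▸ hqc))
    have hcomm : Commute y (h ^ (orderOf h / q)) :=
      (show Commute y h from (Subgroup.mem_centralizer_iff.1 hy.2 h rfl).symm).pow_right _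
    have hg : orderOf (y * h ^ (orderOf h / q)) = p * q := by
      rw [hcomm.orderOf_mul_eq_mul_orderOf_of_coprime (by
        rw [hyo, hx]; exact (Nat.coprime_primes hp hq).2 fun e => hqk (e ▸ hpk)), hyo, hx]
    obtain ⟨e, he⟩ := hT.symm
    exact frobenius_no_mixed hC hN hc hcop hpk hqk (e (y * h ^ (orderOf h / q))) ((he _).trans hg)
  obtain ⟨hFC, hker⟩ := frobenius_of_fpf hC' hN'ne hC'ne hfpf
  exact ⟨C', N', hN'n, hFC, hker.symm, hC', hN'k, hC'c⟩

/-- The solvability is the same. -/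
theorem frobenius_solvable_of_sameOT {F : Type u} {G : Type v} [Group F] [Finite F] [Group G]
    [Finite G] (hT : SameOT F G) {C : Subgroup F} (hC : Cfsg.IsFrobeniusComplement C) :
    (∃ C' : Subgroup G, Cfsg.IsFrobeniusComplement C') ∧ (Group.IsSolvable G ↔ Group.IsSolvable F) := by
  obtain ⟨N, hN, hNn, hc⟩ := frobenius_theorem hC
  haveI := hNn
  obtain ⟨C', N', hN'n, hC', hN', hc', hk, hcc⟩ := frobenius_of_sameOT hT hC hN hc
  haveI := hN'n
  refine ⟨⟨C', hC'⟩, ?_⟩
  rw [frobenius_solvable_iff hC' hc', frobenius_solvable_iff hC hc]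
  have hcop : (Nat.card C).Coprime (Nat.card N) := coprime_of_fpf (A := C) (V := N)
    (Subgroup.normalizer_eq_top N ▸ le_top) fun h hh hh1 => fpf_of_frobenius hC hc.disjoint.eq_bot hh hh1
  have hne : N ≠ ⊥ := fun hb => hC.2.1 (by rw [← bot_sup_eq C, ← hb]; exact hc.sup_eq_top)
  have hne' : N' ≠ ⊥ := fun hb => hC'.2.1 (by rw [← bot_sup_eq C', ← hb]; exact hc'.sup_eq_top)
  have hOT : SameOT C C' := by
    refine sameOT_of_card fun m => ?_
    by_cases hmC : m ∣ Nat.card C
    · by_cases hm1 : m = 1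
      · subst hm1
        rw [Nat.card_eq_one_iff_unique.2, Nat.card_eq_one_iff_unique.2]
        · exact ⟨⟨fun a b => Subtype.ext ((orderOf_eq_one_iff.1 a.2).trans (orderOf_eq_one_iff.1 b.2).symm)⟩, ⟨⟨1, orderOf_one⟩⟩⟩
        · exact ⟨⟨fun a b => Subtype.ext ((orderOf_eq_one_iff.1 a.2).trans (orderOf_eq_one_iff.1 b.2).symm)⟩, ⟨⟨1, orderOf_one⟩⟩⟩
      have hm : m.Coprime (Nat.card N) := hcop.coprime_dvd_left hmC
      have h := hT.card_pred (fun t => t = m)
      rw [frobenius_card_orderOf hC hN hc hm1 hm, frobenius_card_orderOf hC' hN' hc' hm1 (hk.symm ▸ hm), hk] at h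
      exact Nat.eq_of_mul_eq_mul_left Nat.card_pos h
    · haveI : IsEmpty {a : C // orderOf a = m} := ⟨fun a => hmC (a.2 ▸ orderOf_dvd_natCard a.1)⟩
      haveI : IsEmpty {a : C' // orderOf a = m} := ⟨fun a => hmC (hcc ▸ a.2 ▸ orderOf_dvd_natCard a.1)⟩
      rw [Nat.card_of_isEmpty, Nat.card_of_isEmpty]
  have h1 : FCClass C := fcClass_of_fpf (K := N) hne fun h hh hh1 =>
    fpf_of_frobenius hC hc.disjoint.eq_bot hh hh1
  have h2 : FCClass C' := fcClass_of_fpf (K := N') hne' fun h hh hh1 =>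
    fpf_of_frobenius hC' hc'.disjoint.eq_bot hh hh1
  exact ⟨solvable_of_sameOT _ C' C rfl hOT.symm h2 h1, solvable_of_sameOT _ C C' rfl hOT h1 h2⟩

end CfsgLib.Solv
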