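import Cfsg.Agent.Solv.CoprimeAction

/-!
Averaging over a group normalized without fixed points by an operator of prime order.
-/

set_option autoImplicit false
set_option linter.style.haveILetI false
set_option linter.deprecated false

open scoped commutatorElement

namespace CfsgLib.Solv

variable {G : Type*} [Group G]

theorem conj_pow_fixed_of_prime {p : ℕ} [hp : Fact p.Prime] {c x : G} (hc : c ^ p = 1) {i : ℕ}
    (hi : ¬ p ∣ i) (h : c ^ i * x = x * c ^ i) : c * x = x * c := by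
  have hco : i.Coprime (orderOf c) :=
    (((hp.out.coprime_iff_not_dvd).2 hi).coprime_dvd_left (orderOf_dvd_of_pow_eq_one hc)).symm
  obtain ⟨j, hj⟩ := exists_pow_eq_self_of_coprime hco
  have h' : Commute ((c ^ i) ^ j) x := (show Commute (c ^ i) x from h).pow_left j
  rw [hj] at h'
  exact h'

set_option maxHeartbeats 1000000 in
/-- If `K` and an element `c` of prime order normalize `V` and `M`, `V / M` is abelian, `c` fixes no
nontrivial element of `K` and `K` fixes no nontrivial element of `V / M`, then `V` is generated modulo `M`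
by the `K`-conjugates of the fixed points of `c`. -/
theorem le_of_fpf_average [Finite G] {p : ℕ} [hp : Fact p.Prime] {K V M W : Subgroup G} {c : G}
    (hKV : K ≤ Subgroup.normalizer (V : Set G)) (hcV : c ∈ Subgroup.normalizer (V : Set G))
    (hKM : K ≤ Subgroup.normalizer (M : Set G)) (hcM : c ∈ Subgroup.normalizer (M : Set G))
    (hcK : c ∈ Subgroup.normalizer (K : Set G)) (hc : c ^ p = 1)
    (hfix : ∀ k ∈ K, c * k = k * c → k = 1) (hMV : M ≤ V)
    (hVM : V ≤ Subgroup.normalizer (M : Set G)) (hcomm : ∀ u ∈ V, ∀ w ∈ V, ⁅u, w⁆ ∈ M)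
    (hcop : (Nat.card K).Coprime (Nat.card V)) (hpV : p.Coprime (Nat.card V))
    (hK : ∀ v ∈ V, (∀ k ∈ K, k * v * k⁻¹ * v⁻¹ ∈ M) → v ∈ M) (hMW : M ≤ W)
    (hW : ∀ k ∈ K, ∀ v ∈ V, c * v = v * c → k * v * k⁻¹ ∈ W) : V ≤ W := by
  classical
  haveI hn : (M.subgroupOf V).Normal := Subgroup.normal_subgroupOf_of_le_normalizer hVM
  letI : CommGroup (↥V ⧸ M.subgroupOf V) :=
    { (inferInstance : Group (↥V ⧸ M.subgroupOf V)) with
      mul_comm := fun a b => by
        obtain ⟨a, rfl⟩ := QuotientGroup.mk_surjective a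
        obtain ⟨b, rfl⟩ := QuotientGroup.mk_surjective b
        rw [← QuotientGroup.mk_mul, ← QuotientGroup.mk_mul, QuotientGroup.eq, Subgroup.mem_subgroupOf]
        simpa [commutatorElement_def, mul_assoc] using hcomm _ (inv_mem b.2) _ (inv_mem a.2) }
  let π : ↥V →* ↥V ⧸ M.subgroupOf V := QuotientGroup.mk' _
  have hπ : ∀ v : ↥V, π v = 1 ↔ (v : G) ∈ M := fun v => by
    rw [QuotientGroup.mk'_apply, QuotientGroup.eq_one_iff, Subgroup.mem_subgroupOf]
  set N := Subgroup.normalizer (V : Set G) ⊓ Subgroup.normalizer (M : Set G) with hN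
  let act : ↥N → ↥V →* ↥V := fun g =>
    { toFun := fun v => ⟨(g : G) * v * (g : G)⁻¹,
        (Subgroup.mem_normalizer_iff.1 (Subgroup.mem_inf.1 g.2).1 (v : G)).1 v.2⟩
      map_one' := Subtype.ext (by simp)
      map_mul' := fun x y => Subtype.ext (by simp [mul_assoc]) }
  have hact : ∀ g : ↥N, M.subgroupOf V ≤ (M.subgroupOf V).comap (act g) := fun g v hv =>
    (Subgroup.mem_normalizer_iff.1 (Subgroup.mem_inf.1 g.2).2 (v : G)).1 hv
  obtain ⟨bar, hbar⟩ : ∃ bar : ↥N → (↥V ⧸ M.subgroupOf V) →* (↥V ⧸ M.subgroupOf V),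
      ∀ g v, bar g (π v) = π (act g v) :=
    ⟨fun g => QuotientGroup.map _ _ (act g) (hact g), fun _ _ => rfl⟩
  have hbar_mul : ∀ g h x, bar (g * h) x = bar g (bar h x) := by
    intro g h x
    obtain ⟨v, rfl⟩ := QuotientGroup.mk'_surjective _ x
    rw [hbar, hbar, hbar]
    exact congrArg π (Subtype.ext (by simp [act, mul_assoc]))
  haveI := Fintype.ofFinite ↥K
  have hKN : ∀ k : ↥K, (k : G) ∈ N := fun k => Subgroup.mem_inf.2 ⟨hKV k.2, hKM k.2⟩
  have hcN : c ∈ N := Subgroup.mem_inf.2 ⟨hcV, hcM⟩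
  let κ : ↥K → ↥N := fun k => ⟨k, hKN k⟩
  let γ : ↥N := ⟨c, hcN⟩
  have hbar_one : ∀ x, bar 1 x = x := by
    intro x
    obtain ⟨v, rfl⟩ := QuotientGroup.mk'_surjective _ x
    rw [hbar]; exact congrArg π (Subtype.ext (by simp [act]))
  have hγp : γ ^ p = 1 := Subtype.ext (by simpa using hc)
  -- `K` fixes nothing in the quotient
  have hKfix : ∀ x, (∀ k : ↥K, bar (κ k) x = x) → x = 1 := by
    intro x hx
    obtain ⟨v, rfl⟩ := QuotientGroup.mk'_surjective _ x
    refine (hπ v).2 (hK v v.2 fun k hk => ?_)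
    have h1 : π (act (κ ⟨k, hk⟩) v * v⁻¹) = 1 := by
      rw [map_mul, ← hbar, map_inv, hx ⟨k, hk⟩, mul_inv_cancel]
    exact (hπ _).1 h1
  intro v hv
  set x := π ⟨v, hv⟩ with hx
  set W' : Subgroup (↥V ⧸ M.subgroupOf V) := (W.subgroupOf V).map π with hW'
  let f : ↥K → ℕ → ↥V ⧸ M.subgroupOf V := fun k i => bar (κ k * γ ^ i * (κ k)⁻¹) x
  -- every orbit product lies in the image of the fixed points
  have hrow : ∀ k : ↥K, ∏ i ∈ Finset.range p, f k i ∈ W' := by
    intro k
    set u := bar (κ k)⁻¹ x with hu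
    set w := ∏ i ∈ Finset.range p, bar (γ ^ i) u with hw
    have hf : ∏ i ∈ Finset.range p, f k i = bar (κ k) w := by
      rw [hw, map_prod]
      refine Finset.prod_congr rfl fun i _ => ?_
      rw [← hbar_mul, hu, ← hbar_mul]
    rw [hf]
    have hwfix : bar γ w = w := by
      rw [hw, map_prod]
      have h1 : ∀ i, bar γ (bar (γ ^ i) u) = bar (γ ^ (i + 1)) u := fun i => by
        rw [← hbar_mul, pow_succ']
      rw [Finset.prod_congr rfl fun i _ => h1 i]
      have h2 := (Finset.prod_range_succ' (fun i => bar (γ ^ i) u) p).symm.trans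
        (Finset.prod_range_succ (fun i => bar (γ ^ i) u) p)
      rw [hγp, pow_zero] at h2
      exact mul_right_cancel h2
    obtain ⟨e, he⟩ := QuotientGroup.mk'_surjective _ w
    obtain ⟨d, hd, hed⟩ : ∃ d ∈ M, (e : G) * d ∈ Subgroup.centralizer (Subgroup.zpowers c : Set G) := by
      have hz : Subgroup.zpowers c ≤ Subgroup.normalizer (V : Set G) := Subgroup.zpowers_le.2 hcV
      have hcard : (Nat.card (Subgroup.zpowers c)).Coprime (Nat.card V) := by
        rw [Nat.card_zpowers]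
        exact hpV.coprime_dvd_left (orderOf_dvd_of_pow_eq_one hc)
      refine exists_centralizing_in_coset hz (inf_eq_bot_of_coprime_card hcard) hMV
        (Subgroup.zpowers_le.2 hcM) (hcard.coprime_dvd_right (Subgroup.card_dvd_of_le hMV))
        (Or.inl (Group.isSolvable_of_comm fun a b => Subtype.ext (by
          obtain ⟨i, hi⟩ := Subgroup.mem_zpowers_iff.1 a.2
          obtain ⟨j, hj⟩ := Subgroup.mem_zpowers_iff.1 b.2
          rw [Subgroup.coe_mul, Subgroup.coe_mul, ← hi, ← hj, ← zpow_add, ← zpow_add, add_comm]))) e.2 ?_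
      intro a ha
      obtain ⟨j, rfl⟩ := Subgroup.mem_zpowers_iff.1 ha
      have hj : ∀ j : ℕ, bar (γ ^ j) w = w := fun j => by
        induction j with
        | zero => rw [pow_zero, hbar_one]
        | succ j ih => rw [pow_succ, hbar_mul, hwfix, ih]
      obtain ⟨m, hm⟩ : ∃ m : ℕ, c ^ j = c ^ m :=
        ⟨(j % (p : ℤ)).toNat, by
          rw [← zpow_natCast, Int.toNat_of_nonneg (Int.emod_nonneg _ (by exact_mod_cast hp.out.ne_zero))]
          conv_lhs => rw [← Int.mul_ediv_add_emod j p, zpow_add, zpow_mul, zpow_natCast, hc, one_zpow, one_mul]⟩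
      have hk : π (e⁻¹ * act (γ ^ m) e) = 1 := by
        rw [map_mul, map_inv, ← hbar, he, hj, inv_mul_cancel]
      have := (hπ _).1 hk
      rw [hm]
      simpa [act, mul_assoc, γ] using this
    have hed' : c * ((e : G) * d) = (e : G) * d * c :=
      Subgroup.mem_centralizer_iff.1 hed c (Subgroup.mem_zpowers c)
    refine ⟨act (κ k) ⟨(e : G) * d, mul_mem e.2 (hMV hd)⟩, hW k k.2 _ (mul_mem e.2 (hMV hd)) hed', ?_⟩
    rw [← hbar, ← he]
    refine congrArg (bar (κ k)) ?_
    rw [← mul_inv_eq_one, ← map_inv, ← map_mul]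
    refine (hπ _).2 ?_
    show (e : G) * d * (e : G)⁻¹ ∈ M
    exact (Subgroup.mem_normalizer_iff.1 (hVM e.2) d).1 hd
  -- every column of a nontrivial power vanishes
  have hcol : ∀ i ∈ Finset.range p, i ≠ 0 → ∏ k : ↥K, f k i = 1 := by
    intro i hi hi0
    set u := bar (γ ^ i) x with hu
    let φ : ↥K → ↥K := fun k => ⟨(k : G) * (c ^ i * (k : G)⁻¹ * (c ^ i)⁻¹),
      mul_mem k.2 ((Subgroup.mem_normalizer_iff.1 (pow_mem hcK i) _).1 (inv_mem k.2))⟩
    have hφ : Function.Bijective φ := by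
      rw [Finite.injective_iff_bijective.symm]
      intro k l hkl
      have h1 : (k : G) * (c ^ i * (k : G)⁻¹ * (c ^ i)⁻¹) = (l : G) * (c ^ i * (l : G)⁻¹ * (c ^ i)⁻¹) :=
        congrArg Subtype.val hkl
      have h2 : c ^ i * ((k : G)⁻¹ * l) = ((k : G)⁻¹ * l) * c ^ i := by
        calc c ^ i * ((k : G)⁻¹ * l) = (k : G)⁻¹ * ((k : G) * (c ^ i * (k : G)⁻¹ * (c ^ i)⁻¹)) * c ^ i * l := by
              group
          _ = ((k : G)⁻¹ * l) * c ^ i := by rw [h1]; group
      have hnd : ¬ p ∣ i := fun hd => hi0 (Nat.eq_zero_of_dvd_of_lt hd (Finset.mem_range.1 hi))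
      have h3 := hfix _ (mul_mem (inv_mem k.2) l.2) (conj_pow_fixed_of_prime hc hnd h2)
      exact Subtype.ext (inv_mul_eq_one.1 h3)
    have hf : ∀ k, f k i = bar (κ (φ k)) u := fun k => by
      rw [hu, ← hbar_mul]
      refine congrArg (fun g => bar g x) (Subtype.ext ?_)
      show (k : G) * c ^ i * (k : G)⁻¹ = (k : G) * (c ^ i * (k : G)⁻¹ * (c ^ i)⁻¹) * c ^ i
      group
    rw [Finset.prod_congr rfl fun k _ => hf k,
      Fintype.prod_bijective φ hφ _ (fun k => bar (κ k) u) fun k => rfl]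
    refine hKfix _ fun l => ?_
    rw [map_prod]
    refine Fintype.prod_equiv (Equiv.mulLeft l) _ _ fun k => ?_
    rw [← hbar_mul]
    exact congrArg (fun g => bar g u) (Subtype.ext rfl)
  have hsplit : ∏ i ∈ Finset.range p, ∏ k : ↥K, f k i = x ^ Nat.card ↥K := by
    rw [Finset.prod_eq_single 0 hcol (fun h => absurd (Finset.mem_range.2 hp.out.pos) h)]
    have h0 : ∀ k, f k 0 = x := fun k => by
      show bar (κ k * γ ^ 0 * (κ k)⁻¹) x = x
      rw [pow_zero, mul_one, mul_inv_cancel, hbar_one]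
    simp [h0, Nat.card_eq_fintype_card]
  rw [Finset.prod_comm] at hsplit
  have hxW : x ^ Nat.card ↥K ∈ W' := hsplit ▸ prod_mem fun k _ => hrow k
  have hcop' : (Nat.card ↥K).Coprime (orderOf x) :=
    hcop.coprime_dvd_right ((orderOf_map_dvd π _).trans (orderOf_dvd_natCard _))
  obtain ⟨j, hj⟩ := exists_pow_eq_self_of_coprime hcop'
  have hxW' : x ∈ W' := hj ▸ pow_mem hxW j
  obtain ⟨e, he, hee⟩ := hxW'
  have h1 : π (e⁻¹ * ⟨v, hv⟩) = 1 := by rw [map_mul, map_inv, hee, ← hx, inv_mul_cancel]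
  have := mul_mem (show (e : G) ∈ W from he) (hMW ((hπ _).1 h1))
  simpa using this

end CfsgLib.Solv
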