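import Cfsg.Agent.Solv.UniqueSub
import Cfsg.Agent.Solv.MinimalNormal
import Cfsg.Agent.Solv.FixedPointFree
import Cfsg.Agent.Solv.PGroups
import Cfsg.Agent.Solv.Schur
import Cfsg.Agent.Char.Burnside
import Mathlib.GroupTheory.SchurZassenhaus

/-!
Groups with the Sylow structure of Frobenius complements; their solvability is determined by the
numbers of elements of each order.
-/

set_option autoImplicit false
set_option linter.style.haveILetI false
set_option linter.deprecated false
set_option linter.unusedSectionVars false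

open scoped commutatorElement Pointwise

namespace CfsgLib.Solv

universe u v

/-- Odd `r`-subgroups cyclic, `2`-subgroups two-generated. -/
def FCClass (C : Type*) [Group C] : Prop :=
  (∀ r : ℕ, r.Prime → r ≠ 2 → ∀ R : Subgroup C, IsPGroup r R → IsCyclic R) ∧
    ∀ R : Subgroup C, IsPGroup 2 R → ∃ a b : C, R = Subgroup.closure {a, b}

/-- The same numbers of elements of each order. -/
def SameOT (A B : Type*) [Group A] [Group B] : Prop :=
  ∃ e : A ≃ B, ∀ x, orderOf (e x) = orderOf x

variable {G : Type*} [Group G]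

theorem SameOT.symm {A B : Type*} [Group A] [Group B] (h : SameOT A B) : SameOT B A := by
  obtain ⟨e, he⟩ := h
  exact ⟨e.symm, fun x => by rw [← he, Equiv.apply_symm_apply]⟩

theorem sameOT_of_card {A B : Type*} [Group A] [Finite A] [Group B] [Finite B]
    (h : ∀ m : ℕ, Nat.card {a : A // orderOf a = m} = Nat.card {b : B // orderOf b = m}) :
    SameOT A B :=
  ⟨Equiv.ofFiberEquiv fun m => Classical.choice (Finite.card_eq.1 (h m)),
    fun x => Equiv.ofFiberEquiv_map (fun m => Classical.choice (Finite.card_eq.1 (h m))) x⟩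

theorem SameOT.card_eq {A B : Type*} [Group A] [Group B] (h : SameOT A B) :
    Nat.card A = Nat.card B :=
  Nat.card_congr h.choose

theorem SameOT.card_pred {A B : Type*} [Group A] [Group B] (h : SameOT A B) (P : ℕ → Prop) :
    Nat.card {a : A // P (orderOf a)} = Nat.card {b : B // P (orderOf b)} := by
  obtain ⟨e, he⟩ := h
  exact Nat.card_congr (e.subtypeEquiv fun a => by rw [he])

theorem fcClass_of_injective {H : Type*} [Group H] {f : H →* G} (hf : Function.Injective f)
    (h : FCClass G) : FCClass H := by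
  refine ⟨fun r hr hr2 R hR => ?_, fun R hR => ?_⟩
  · haveI := h.1 r hr hr2 (R.map f) (hR.map f)
    exact isCyclic_of_surjective (R.equivMapOfInjective f hf).symm.toMonoidHom
      (R.equivMapOfInjective f hf).symm.surjective
  · obtain ⟨a, b, hab⟩ := h.2 (R.map f) (hR.map f)
    obtain ⟨a', -, rfl⟩ : a ∈ R.map f := hab ▸ Subgroup.subset_closure (Or.inl rfl)
    obtain ⟨b', -, rfl⟩ : b ∈ R.map f := hab ▸ Subgroup.subset_closure (Or.inr rfl)
    refine ⟨a', b', Subgroup.map_injective hf ?_⟩
    rw [MonoidHom.map_closure, Set.image_pair, hab]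

theorem FCClass.quotient [Finite G] (h : FCClass G) (M : Subgroup G) [M.Normal] :
    FCClass (G ⧸ M) := by
  have lift : ∀ (r : ℕ), r.Prime → ∀ R : Subgroup (G ⧸ M), IsPGroup r R →
      ∃ S : Subgroup G, IsPGroup r S ∧ S.map (QuotientGroup.mk' M) = R := by
    intro r hr R hR
    haveI : Fact r.Prime := ⟨hr⟩
    set f := (QuotientGroup.mk' M).subgroupComap R with hfdef
    have hfs : Function.Surjective f := fun y => by
      obtain ⟨g, hg⟩ := QuotientGroup.mk'_surjective M y
      exact ⟨⟨g, by rw [Subgroup.mem_comap, hg]; exact y.2⟩, Subtype.ext hg⟩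
    obtain ⟨S⟩ : Nonempty (Sylow r (R.comap (QuotientGroup.mk' M))) := inferInstance
    refine ⟨(S : Subgroup _).map (R.comap (QuotientGroup.mk' M)).subtype, S.isPGroup'.map _, ?_⟩
    have htop : ((S.mapSurjective hfs : Sylow r R) : Subgroup R) = ⊤ :=
      ((S.mapSurjective hfs).is_maximal' (hR.of_equiv Subgroup.topEquiv.symm) le_top).symm
    rw [Sylow.coe_mapSurjective] at htop
    have := congrArg (Subgroup.map R.subtype) htop
    rw [Subgroup.map_map, ← MonoidHom.range_eq_map, Subgroup.range_subtype] at this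
    rw [Subgroup.map_map]
    exact this
  refine ⟨fun r hr hr2 R hR => ?_, fun R hR => ?_⟩
  · obtain ⟨S, hS, rfl⟩ := lift r hr R hR
    haveI := h.1 r hr hr2 S hS
    exact isCyclic_of_surjective ((QuotientGroup.mk' M).subgroupMap S)
      ((QuotientGroup.mk' M).subgroupMap_surjective S)
  · obtain ⟨S, hS, rfl⟩ := lift 2 Nat.prime_two R hR
    obtain ⟨a, b, rfl⟩ := h.2 S hS
    exact ⟨QuotientGroup.mk' M a, QuotientGroup.mk' M b, by rw [MonoidHom.map_closure, Set.image_pair]⟩

/-- Groups acting fixed-point-freely have this structure. -/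
theorem fcClass_of_fpf [Finite G] {K H : Subgroup G} [K.Normal] (hK : K ≠ ⊥)
    (hfpf : ∀ h ∈ H, h ≠ 1 → K ⊓ Subgroup.centralizer {h} = ⊥) : FCClass H := by
  have hab : ∀ (r : ℕ) [Fact r.Prime] (R : Subgroup H), IsPGroup r R → ∀ A : Subgroup R,
      IsMulCommutative A → IsCyclic A := by
    intro r _ R _ A hA
    haveI := hA
    set f : R →* G := H.subtype.comp R.subtype
    have hf : Function.Injective f := fun a b e => Subtype.ext (Subtype.ext e)
    haveI : IsMulCommutative (A.map f) := Subgroup.map_isMulCommutative A f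
    have hle : A.map f ≤ H := by rintro _ ⟨a, _, rfl⟩; exact (a : H).2
    haveI := isCyclic_of_fpf_abelian (A := A.map f) hK
      (Subgroup.normalizer_eq_top K ▸ le_top) (fun a ha ha1 => hfpf a (hle ha) ha1)
    exact isCyclic_of_surjective (A.equivMapOfInjective f hf).symm.toMonoidHom
      (A.equivMapOfInjective f hf).symm.surjective
  refine ⟨fun r hr hr2 R hR => ?_, fun R hR => ?_⟩
  · haveI : Fact r.Prime := ⟨hr⟩
    exact (pgroup_unique_sub hR fun x y hx hy =>
      unique_of_abelian_cyclic hR (hab r R hR) x y hx hy).resolve_right fun h => hr2 h.1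
  · haveI : Fact (2 : ℕ).Prime := ⟨Nat.prime_two⟩
    rcases pgroup_unique_sub hR fun x y hx hy =>
      unique_of_abelian_cyclic hR (hab 2 R hR) x y hx hy with hc | ⟨-, n, ⟨e⟩⟩
    · obtain ⟨g, hg⟩ := hc
      refine ⟨g, g, le_antisymm (fun x hx => ?_) ((Subgroup.closure_le _).2 ?_)⟩
      · obtain ⟨i, hi⟩ : ∃ i : ℤ, g ^ i = (⟨x, hx⟩ : R) := hg ⟨x, hx⟩
        rw [show x = (g : H) ^ i by rw [← SubgroupClass.coe_zpow, hi]]
        exact Subgroup.zpow_mem _ (Subgroup.subset_closure (Set.mem_insert _ _)) i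
      · rintro x (rfl | rfl) <;> exact g.2
    · haveI : NeZero (2 ^ (n + 1)) := ⟨pow_ne_zero _ two_ne_zero⟩
      refine ⟨((e.symm (QuaternionGroup.a 1) : R) : H), ((e.symm (QuaternionGroup.xa 0) : R) : H), le_antisymm (fun x hx => ?_) ((Subgroup.closure_le _).2 ?_)⟩
      · set g1 : H := ((e.symm (QuaternionGroup.a 1) : R) : H)
        set g2 : H := ((e.symm (QuaternionGroup.xa 0) : R) : H)
        have key : ∀ q, ((e.symm q : R) : H) ∈ Subgroup.closure {g1, g2} := by
          have ha : ∀ i, ((e.symm (QuaternionGroup.a i) : R) : H) ∈ Subgroup.closure {g1, g2} := by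
            intro i
            obtain ⟨k, rfl⟩ : ∃ k : ℕ, (k : ZMod (2 * 2 ^ (n + 1))) = i := ⟨i.val, ZMod.natCast_zmod_val i⟩
            rw [← QuaternionGroup.a_one_pow, map_pow, SubgroupClass.coe_pow]
            exact Subgroup.pow_mem _ (Subgroup.subset_closure (Set.mem_insert _ _)) k
          rintro (i | i)
          · exact ha i
          · have : (QuaternionGroup.xa i : QuaternionGroup (2 ^ (n + 1))) =
                QuaternionGroup.xa 0 * QuaternionGroup.a i := by
              rw [QuaternionGroup.xa_mul_a, zero_add]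
            rw [this, map_mul, Subgroup.coe_mul]
            exact mul_mem (Subgroup.subset_closure (Or.inr rfl)) (ha i)
        have := key (e ⟨x, hx⟩)
        rwa [MulEquiv.symm_apply_apply] at this
      · rintro x (rfl | rfl) <;> exact SetLike.coe_mem _

/-- In such a solvable group the Sylow subgroup of a largest prime `q ≥ 5` is normal. -/
theorem sylow_normal_of_largest : ∀ (n : ℕ) (G : Type u) [Group G] [Finite G] [Group.IsSolvable G],
    Nat.card G = n → FCClass G → ∀ (q : ℕ) [Fact q.Prime], 5 ≤ q →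
      (∀ r : ℕ, r.Prime → r ∣ Nat.card G → r ≤ q) → ∀ Q : Sylow q G, (Q : Subgroup G).Normal := by
  intro n
  induction n using Nat.strong_induction_on with
  | _ n IH =>
    intro G _ _ _ hn hG q _ hq5 hlarge Q
    rcases subsingleton_or_nontrivial G with hs | hs
    · rw [Subsingleton.elim (Q : Subgroup G) ⊥]; infer_instance
    obtain ⟨M, r, hr, hM, hMc, hMexp, hMp⟩ := exists_minimal_normal_pGroup (G := G)
    haveI : Fact r.Prime := ⟨hr⟩
    haveI : M.Normal := hM.1
    have hMne : M ≠ ⊥ := hM.2.1
    set f := QuotientGroup.mk' M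
    have hQn : ((Q.mapSurjective (QuotientGroup.mk'_surjective M) : Sylow q (G ⧸ M)) :
        Subgroup (G ⧸ M)).Normal :=
      IH _ (hn ▸ card_quotient_lt hMne) (G ⧸ M) rfl (hG.quotient M) q hq5
        (fun s hs hd => hlarge s hs (hd.trans M.card_quotient_dvd_card)) _
    haveI := hQn
    have hHn : ((Q : Subgroup G) ⊔ M).Normal := by
      have e : (Q : Subgroup G) ⊔ M =
          ((Q.mapSurjective (QuotientGroup.mk'_surjective M) : Sylow q (G ⧸ M)) :
            Subgroup (G ⧸ M)).comap (QuotientGroup.mk' M) := by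
        rw [Sylow.coe_mapSurjective, Subgroup.comap_map_eq, QuotientGroup.ker_mk']
      rw [e]; infer_instance
    by_cases hrq : r = q
    · subst hrq
      obtain ⟨R, hR⟩ := hMp.exists_le_sylow
      obtain ⟨g, hg⟩ := MulAction.exists_smul_eq G R Q
      have hMQ : M ≤ Q := by
        rw [← hg, Sylow.coe_subgroup_smul]
        intro x hx
        rw [mem_conj_smul_iff]
        exact hR (by simpa using hM.1.conj_mem x hx g⁻¹)
      rwa [sup_eq_left.2 hMQ] at hHn
    set H := (Q : Subgroup G) ⊔ M with hH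
    set QH : Sylow q H := Q.subtype (le_sup_left : (Q : Subgroup G) ≤ H) with hQH
    have hsmall : Nat.card M ∣ 4 ∨ Nat.card M = r := by
      by_cases hr2 : r = 2
      · subst hr2
        left
        obtain ⟨a, b, hab⟩ := hG.2 M hMp
        have haM : a ∈ M := hab ▸ Subgroup.subset_closure (Or.inl rfl)
        have hbM : b ∈ M := hab ▸ Subgroup.subset_closure (Or.inr rfl)
        have hc : a * b = b * a := congrArg Subtype.val (hMc.is_comm.comm (⟨a, haM⟩ : M) ⟨b, hbM⟩)
        have ha2 : a * a = 1 := by rw [← pow_two]; exact hMexp a haM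
        have hb2 : b * b = 1 := by rw [← pow_two]; exact hMexp b hbM
        have hex : ∀ x ∈ Subgroup.closure {a, b}, ∃ i j : ℤ, x = a ^ i * b ^ j := by
          intro x hx
          induction hx using Subgroup.closure_induction with
          | mem y hy =>
            rcases hy with rfl | rfl
            · exact ⟨1, 0, by simp⟩
            · exact ⟨0, 1, by simp⟩
          | one => exact ⟨0, 0, by simp⟩
          | mul y z _ _ hy hz =>
            obtain ⟨i, j, rfl⟩ := hy
            obtain ⟨k, l, rfl⟩ := hz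
            refine ⟨i + k, j + l, ?_⟩
            have hcc : Commute (b ^ j) (a ^ k) := ((show Commute b a from hc.symm).zpow_zpow j k)
            rw [zpow_add, zpow_add, mul_assoc, ← mul_assoc (b ^ j), hcc.eq]; group
          | inv y _ hy =>
            obtain ⟨i, j, rfl⟩ := hy
            refine ⟨-i, -j, ?_⟩
            have hcc : Commute (b ^ (-j)) (a ^ (-i)) := ((show Commute b a from hc.symm).zpow_zpow _ _)
            rw [mul_inv_rev, ← zpow_neg, ← zpow_neg, hcc.eq]
        have hpow : ∀ c : G, c * c = 1 → ∀ i : ℤ, c ^ i = 1 ∨ c ^ i = c := fun c hc2 i => by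
          rcases Int.even_or_odd i with ⟨t, rfl⟩ | ⟨t, rfl⟩
          · left; rw [← two_mul, zpow_mul, zpow_ofNat, pow_two, hc2, one_zpow]
          · right; rw [zpow_add_one, zpow_mul, zpow_ofNat, pow_two, hc2, one_zpow, one_mul]
        have hsub : (M : Set G) ⊆ {1, a, b, a * b} := by
          intro x hx
          obtain ⟨i, j, rfl⟩ := hex x (hab ▸ hx)
          rcases hpow a ha2 i with h1 | h1 <;> rcases hpow b hb2 j with h2 | h2 <;> simp [h1, h2]
        have hle : Nat.card M ≤ 4 := by
          have h1 := Set.ncard_le_ncard hsub (Set.toFinite _)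
          rw [← Nat.card_coe_set_eq] at h1
          refine le_trans h1 ?_
          refine le_trans (Set.ncard_insert_le _ _) (Nat.succ_le_succ ?_)
          refine le_trans (Set.ncard_insert_le _ _) (Nat.succ_le_succ ?_)
          refine le_trans (Set.ncard_insert_le _ _) (Nat.succ_le_succ ?_)
          rw [Set.ncard_singleton]
        obtain ⟨k, hk⟩ := hMp.exists_card_eq
        rw [hk] at hle ⊢
        exact pow_dvd_pow 2 (by
          by_contra hk3
          have := Nat.pow_le_pow_right (show 0 < 2 by norm_num) (show 3 ≤ k by omega)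
          omega : k ≤ 2)
      · right
        haveI := hG.1 r hr hr2 M hMp
        have he : Monoid.exponent M ∣ r :=
          Monoid.exponent_dvd_of_forall_pow_eq_one fun x => Subtype.ext (hMexp x x.2)
        rw [IsCyclic.exponent_eq_card] at he
        exact ((Nat.dvd_prime hr).1 he).resolve_left fun h => hMne (Subgroup.card_eq_one.1 h)
    have hidx : (QH : Subgroup H).index ∣ Nat.card M := by
      have h1 := card_sup_dvd_mul (Q : Subgroup G) M
      rw [← hH, ← (QH : Subgroup H).card_mul_index, hQH, Sylow.coe_subtype,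
        card_subgroupOf (le_sup_left : (Q : Subgroup G) ≤ H)] at h1
      exact Nat.dvd_of_mul_dvd_mul_left Nat.card_pos h1
    have hone : Nat.card (Sylow q H) = 1 := by
      have hd : Nat.card (Sylow q H) ∣ Nat.card M := (QH.card_dvd_index).trans hidx
      have hm := card_sylow_modEq_one q H
      have hlt : Nat.card M < q ∨ Nat.card (Sylow q H) < q := by
        rcases hsmall with h4 | hr'
        · exact Or.inl (lt_of_le_of_lt (Nat.le_of_dvd (by norm_num) h4) (by omega))
        · refine Or.inl (hr' ▸ lt_of_le_of_ne (hlarge r hr ?_) hrq)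
          rw [← hr']; exact M.card_subgroup_dvd_card
      have hlt' : Nat.card (Sylow q H) < q :=
        hlt.elim (fun h => lt_of_le_of_lt (Nat.le_of_dvd Nat.card_pos hd) h) id
      rw [Nat.ModEq, Nat.mod_eq_of_lt hlt', Nat.one_mod_eq_one.2 (by omega)] at hm
      exact hm
    haveI : Subsingleton (Sylow q H) := (Nat.card_eq_one_iff_unique.1 hone).1
    haveI : (QH : Subgroup H).Normal := Sylow.normal_of_subsingleton QH
    haveI := Sylow.characteristic_of_normal QH ‹_›
    haveI := hHn
    haveI := normal_map_subtype_of_characteristic (QH : Subgroup H)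
    rw [← Subgroup.map_subgroupOf_eq_of_le (le_sup_left : (Q : Subgroup G) ≤ H)]
    assumption

section Count

variable [Finite G] {q : ℕ} [Fact q.Prime] {Q R : Subgroup G} [Q.Normal]

/-- An element centralising a nontrivial element of a cyclic `q`-group centralises all of it, if its
order is prime to `q`. -/
theorem centralizes_of_commute (hq2 : q ≠ 2) (hQp : IsPGroup q Q) (hQc : IsCyclic Q) {r : G}
    (hr : (orderOf r).Coprime q) {u : G} (hu : u ∈ Q) (hu1 : u ≠ 1) (hru : Commute r u) :
    r ∈ Subgroup.centralizer (Q : Set G) := by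
  haveI := hQc
  obtain ⟨k, hk⟩ := IsPGroup.iff_orderOf.1 hQp ⟨u, hu⟩
  obtain ⟨k, rfl⟩ : ∃ k', k = k' + 1 := ⟨k - 1, by
    have : k ≠ 0 := fun h0 => hu1 (congrArg Subtype.val
      (orderOf_eq_one_iff.1 (hk.trans (by rw [h0, pow_zero]))))
    omega⟩
  set w : Q := ⟨u, hu⟩ ^ q ^ k with hw
  have hwo : orderOf w = q := by
    rw [hw, orderOf_pow' _ (pow_ne_zero k (Fact.out : q.Prime).ne_zero), hk,
      Nat.gcd_eq_right (pow_dvd_pow q (Nat.le_succ k)), pow_succ,
      Nat.mul_div_cancel_left _ (pow_pos (Fact.out : q.Prime).pos k)]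
  have hfix : (MulAut.conjNormal r : MulAut Q) = 1 := by
    refine aut_eq_one_of_fix_omega hq2 hQp (hr.coprime_dvd_left (orderOf_map_dvd _ r)) fun x hx => ?_
    classical
    letI := Fintype.ofFinite Q
    have hS : {t : Q | t ^ q = 1}.ncard ≤ q := by
      rw [Set.ncard_eq_toFinset_card', Set.toFinset_ofPred]
      exact IsCyclic.card_pow_eq_one_le (Fact.out : q.Prime).pos
    have heq : (Subgroup.zpowers w : Set Q) = {t : Q | t ^ q = 1} :=
      Set.eq_of_subset_of_ncard_le (fun t ht => by
        obtain ⟨i, rfl⟩ := Subgroup.mem_zpowers_iff.1 ht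
        show (w ^ i) ^ q = 1
        rw [← zpow_natCast, zpow_comm, zpow_natCast, ← hwo, pow_orderOf_eq_one, one_zpow])
        (by
          rw [← Nat.card_coe_set_eq]
          show _ ≤ Nat.card (Subgroup.zpowers w)
          rw [Nat.card_zpowers, hwo, Nat.card_coe_set_eq]
          exact hS) (Set.toFinite _)
    obtain ⟨i, hi⟩ := Subgroup.mem_zpowers_iff.1 (show x ∈ Subgroup.zpowers w by rw [← SetLike.mem_coe, heq]; exact hx)
    apply Subtype.ext
    rw [MulAut.conjNormal_apply, ← hi]
    have hc : Commute r ((w ^ i : Q) : G) := by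
      rw [SubgroupClass.coe_zpow, hw, SubgroupClass.coe_pow]
      exact (hru.pow_right _).zpow_right i
    rw [hc.eq, mul_inv_cancel_right]
  refine Subgroup.mem_centralizer_iff.2 fun y hy => ?_
  have e := congrArg Subtype.val (DFunLike.congr_fun hfix ⟨y, hy⟩)
  rw [MulAut.conjNormal_apply] at e
  exact (mul_inv_eq_iff_eq_mul.1 e).symm

variable (hq2 : q ≠ 2) (hQp : IsPGroup q Q) (hQc : IsCyclic Q) (hQR : Subgroup.IsComplement' Q R)
  (hR : (Nat.card R).Coprime q)

include hq2 hQp hQc hQR hR

theorem orderOf_complement_mul {u : G} (hu : u ∈ Q) {r : G} (hr : r ∈ R) :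
    (r ∈ Subgroup.centralizer (Q : Set G) → orderOf (u * r) = orderOf u * orderOf r) ∧
      (r ∉ Subgroup.centralizer (Q : Set G) → orderOf (u * r) = orderOf r) := by
  have hro : (orderOf r).Coprime q := by
    rw [← Subgroup.orderOf_mk r hr]
    exact hR.coprime_dvd_left (orderOf_dvd_natCard _)
  refine ⟨fun hc => ?_, fun hc => ?_⟩
  · obtain ⟨k, hk⟩ := IsPGroup.iff_orderOf.1 hQp ⟨u, hu⟩
    rw [Subgroup.orderOf_mk] at hk
    exact Commute.orderOf_mul_eq_mul_orderOf_of_coprime
      (Subgroup.mem_centralizer_iff.1 hc u hu) (by rw [hk]; exact (hro.pow_right k).symm)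
  · have hmap : ∀ j : ℕ, (QuotientGroup.mk' Q) ((u * r) ^ j) = (QuotientGroup.mk' Q r) ^ j :=
      fun j => by rw [map_pow, map_mul, QuotientGroup.mk'_apply Q u, (QuotientGroup.eq_one_iff u).2 hu, one_mul]
    have hinj : ∀ j : ℕ, (u * r) ^ j ∈ Q ↔ r ^ j = 1 := fun j => by
      rw [← QuotientGroup.eq_one_iff]
      show QuotientGroup.mk' Q _ = 1 ↔ _
      rw [hmap, ← map_pow, QuotientGroup.mk'_apply, QuotientGroup.eq_one_iff]
      constructor
      · intro h
        have : r ^ j ∈ Q ⊓ R := ⟨h, pow_mem hr j⟩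
        rwa [hQR.disjoint.eq_bot, Subgroup.mem_bot] at this
      · intro h; rw [h]; exact one_mem _
    refine Nat.dvd_antisymm (orderOf_dvd_of_pow_eq_one ?_) (orderOf_dvd_of_pow_eq_one
      ((hinj _).1 (by rw [pow_orderOf_eq_one]; exact one_mem _)))
    by_contra hne
    set v := (u * r) ^ orderOf r with hv
    have hvQ : v ∈ Q := (hinj _).2 (pow_orderOf_eq_one r)
    refine hc (centralizes_of_commute hq2 hQp hQc hro hvQ hne ?_)
    have h1 : Commute (u * r) v := (Commute.refl _).pow_right _
    haveI := hQc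
    have h2 : Commute u v := congrArg Subtype.val
      ((IsCyclic.isMulCommutative (α := Q)).is_comm.comm (⟨u, hu⟩ : Q) ⟨v, hvQ⟩)
    have e : r = u⁻¹ * (u * r) := by group
    rw [e]; exact h2.inv_left.mul_left h1

theorem card_orderOf_complement (m : ℕ) (hm : ¬ q ∣ m) :
    Nat.card {g : G // orderOf g = m} =
      Nat.card {r : R // orderOf r = m ∧ (r : G) ∈ Subgroup.centralizer (Q : Set G)} +
      Nat.card Q * Nat.card {r : R // orderOf r = m ∧ (r : G) ∉ Subgroup.centralizer (Q : Set G)} := by
  classical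
  have key : ∀ x : Q × R, orderOf ((x.1 : G) * x.2) = m ↔
      (x.1 = 1 ∧ orderOf x.2 = m ∧ (x.2 : G) ∈ Subgroup.centralizer (Q : Set G)) ∨
        (orderOf x.2 = m ∧ (x.2 : G) ∉ Subgroup.centralizer (Q : Set G)) := by
    rintro ⟨u, r⟩
    have h := orderOf_complement_mul hq2 hQp hQc hQR hR u.2 r.2
    by_cases hc : (r : G) ∈ Subgroup.centralizer (Q : Set G)
    · simp only [hc, and_true, not_true_eq_false, and_false, or_false, h.1 hc, Subgroup.orderOf_coe]
      constructor
      · intro e
        obtain ⟨k, hk⟩ := IsPGroup.iff_orderOf.1 hQp u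
        have hk0 : k = 0 := by
          by_contra hk0
          exact hm (e ▸ dvd_mul_of_dvd_left (hk ▸ dvd_pow_self q hk0) _)
        rw [hk0, pow_zero] at hk
        refine ⟨orderOf_eq_one_iff.1 hk, ?_⟩
        rwa [hk, one_mul] at e
      · rintro ⟨rfl, e⟩; rw [orderOf_one, one_mul, e]
    · simp only [hc, and_false, not_false_eq_true, and_true, false_or, h.2 hc, Subgroup.orderOf_coe]
  have e1 : Nat.card {g : G // orderOf g = m} =
      Nat.card {x : Q × R // orderOf ((x.1 : G) * x.2) = m} :=
    (Nat.card_congr ((Equiv.ofBijective _ hQR).subtypeEquiv fun x => Iff.rfl)).symm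
  rw [e1, Nat.card_congr (Equiv.subtypeEquivRight key),
    Nat.card_congr (subtypeOrEquiv _ _ (by
      rw [Pi.disjoint_iff]
      exact fun x => Prop.disjoint_iff.2 fun h => h.2.2 h.1.2.2)), Nat.card_sum, ← Nat.card_prod]
  congr 1
  · exact Nat.card_congr
      ⟨fun x => ⟨x.1.2, x.2.2⟩, fun r => ⟨(1, r.1), rfl, r.2⟩,
        fun x => Subtype.ext (Prod.ext x.2.1.symm rfl), fun _ => rfl⟩
  · exact Nat.card_congr
      ⟨fun x => (x.1.1, ⟨x.1.2, x.2⟩), fun r => ⟨(r.1, r.2.1), r.2.2⟩, fun _ => rfl, fun _ => rfl⟩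

theorem card_orderOf_complement_mul (m : ℕ) (hm : ¬ q ∣ m) :
    Nat.card {g : G // orderOf g = m * q} = Nat.card {u : Q // orderOf u = q} *
      Nat.card {r : R // orderOf r = m ∧ (r : G) ∈ Subgroup.centralizer (Q : Set G)} := by
  have key : ∀ x : Q × R, orderOf ((x.1 : G) * x.2) = m * q ↔
      (orderOf x.1 = q ∧ orderOf x.2 = m ∧ (x.2 : G) ∈ Subgroup.centralizer (Q : Set G)) := by
    rintro ⟨u, r⟩
    have h := orderOf_complement_mul hq2 hQp hQc hQR hR u.2 r.2
    have hro : (orderOf r).Coprime q := hR.coprime_dvd_left (orderOf_dvd_natCard r)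
    by_cases hc : (r : G) ∈ Subgroup.centralizer (Q : Set G)
    · simp only [hc, and_true, h.1 hc, Subgroup.orderOf_coe]
      constructor
      · intro e
        obtain ⟨k, hk⟩ := IsPGroup.iff_orderOf.1 hQp u
        have hq := (Fact.out : q.Prime)
        have hmq : m.Coprime q := (hq.coprime_iff_not_dvd.2 hm).symm
        have h1 : orderOf u ∣ q := by
          have : orderOf u ∣ m * q := e ▸ dvd_mul_right _ _
          rw [hk] at this ⊢
          exact ((hmq.symm).pow_left k).dvd_of_dvd_mul_left this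
        rcases (Nat.dvd_prime hq).1 h1 with h2 | h2
        · exfalso
          rw [h2, one_mul] at e
          exact hq.ne_one (Nat.eq_one_of_dvd_coprimes hro (e ▸ dvd_mul_left q m) dvd_rfl)
        · refine ⟨h2, ?_⟩
          rw [h2, mul_comm m q] at e
          exact Nat.eq_of_mul_eq_mul_left hq.pos e
      · rintro ⟨h1, h2⟩; rw [h1, h2, mul_comm]
    · simp only [hc, and_false, h.2 hc, Subgroup.orderOf_coe, iff_false]
      intro e
      exact (Fact.out : q.Prime).ne_one
        (Nat.eq_one_of_dvd_coprimes hro (e ▸ dvd_mul_left q m) dvd_rfl)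
  rw [← Nat.card_prod, ← Nat.card_congr ((Equiv.ofBijective _ hQR).subtypeEquiv
    (p := fun x : Q × R => orderOf ((x.1 : G) * x.2) = m * q) fun x => Iff.rfl),
    Nat.card_congr (Equiv.subtypeEquivRight key)]
  exact Nat.card_congr ⟨fun x => (⟨x.1.1, x.2.1⟩, ⟨x.1.2, x.2.2⟩),
    fun y => ⟨(y.1.1, y.2.1), y.1.2, y.2.2⟩, fun _ => rfl, fun _ => rfl⟩

end Count

/-- A Sylow subgroup is normal exactly as counted by the elements of `p`-power order. -/
theorem sylow_normal_iff_count [Finite G] {p : ℕ} [hp : Fact p.Prime] (P : Sylow p G) :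
    (P : Subgroup G).Normal ↔
      Nat.card {g : G // orderOf g ∣ Nat.card (P : Subgroup G)} = Nat.card (P : Subgroup G) := by
  set S := {g : G | orderOf g ∣ Nat.card (P : Subgroup G)}
  have hsub : ((P : Subgroup G) : Set G) ⊆ S := fun x hx => by
    show orderOf x ∣ _
    rw [← Subgroup.orderOf_mk x hx]; exact orderOf_dvd_natCard _
  have hmem : ∀ g : G, ∀ x ∈ (P : Subgroup G), g * x * g⁻¹ ∈ S := fun g x hx => by
    show orderOf (MulAut.conj g x) ∣ _
    rw [MulEquiv.orderOf_eq]; exact hsub hx
  constructor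
  · intro hn
    haveI := hn
    refine Nat.card_congr (Equiv.subtypeEquivRight fun g => ⟨fun hg => ?_, fun hg => hsub hg⟩)
    obtain ⟨k, hk⟩ := P.isPGroup'.exists_card_eq
    rw [hk] at hg
    obtain ⟨i, -, hi⟩ := (Nat.dvd_prime_pow hp.out).1 hg
    obtain ⟨R, hR⟩ := (IsPGroup.of_card (p := p) (n := i)
      (by rw [Nat.card_zpowers, hi]) : IsPGroup p (Subgroup.zpowers g)).exists_le_sylow
    obtain ⟨x, hx⟩ := MulAction.exists_smul_eq G P R
    rw [← hx, Sylow.smul_eq_of_normal] at hR
    exact hR (Subgroup.mem_zpowers g)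
  · intro hc
    have heq : ((P : Subgroup G) : Set G) = S :=
      Set.eq_of_subset_of_ncard_le hsub (by
        rw [← Nat.card_coe_set_eq, ← Nat.card_coe_set_eq]
        exact hc.le) (Set.toFinite _)
    refine ⟨fun x hx g => ?_⟩
    have := hmem g x hx
    rw [← heq] at this
    exact this

/-- Solvability of these groups depends only on the order type. -/
theorem solvable_of_sameOT : ∀ (n : ℕ) (C : Type u) [Group C] [Finite C] (C' : Type v) [Group C']
    [Finite C'], Nat.card C = n → SameOT C C' → FCClass C → FCClass C' → Group.IsSolvable C →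
      Group.IsSolvable C' := by
  intro n
  induction n using Nat.strong_induction_on with
  | _ n IH =>
    intro C _ _ C' _ _ hn hT hC hC' hs
    by_cases hbig : ∃ r : ℕ, r.Prime ∧ 5 ≤ r ∧ r ∣ Nat.card C
    swap
    · push Not at hbig
      have h23 : ∀ r : ℕ, r.Prime → r ∣ Nat.card C' → r = 2 ∨ r = 3 := fun r hr hd => by
        have h5 : ¬ 5 ≤ r := fun h => hbig r hr h (hT.card_eq ▸ hd)
        have := hr.two_le
        have : r ≠ 4 := fun h => by subst h; norm_num at hr
        omega
      obtain ⟨a, b, hab⟩ : ∃ a b, Nat.card C' = 2 ^ a * 3 ^ b := by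
        obtain ⟨a, m, hm2, hm⟩ := Nat.exists_eq_pow_mul_and_not_dvd (Nat.card_pos (α := C')).ne' 2 (by norm_num)
        have hm0 : m ≠ 0 := fun h => by rw [h, mul_zero] at hm; exact Nat.card_pos.ne' hm
        refine ⟨a, m.primeFactorsList.length, ?_⟩
        rw [hm, ← Nat.eq_prime_pow_of_unique_prime_dvd (p := 3) hm0 fun {d} hd hdm =>
          (h23 d hd (hm ▸ dvd_mul_of_dvd_right hdm _)).resolve_left fun h => hm2 (h ▸ hdm)]
      exact CfsgLib.Char.solvable_of_card_two_primes 2 3 a b Nat.prime_two Nat.prime_three hab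
    obtain ⟨q, ⟨hqp, hq5, hqd⟩, hmax⟩ := Set.exists_max_image
      {r : ℕ | r.Prime ∧ 5 ≤ r ∧ r ∣ Nat.card C} id
      ((Set.finite_Iic (Nat.card C)).subset fun r hr => Nat.le_of_dvd Nat.card_pos hr.2.2) hbig
    haveI : Fact q.Prime := ⟨hqp⟩
    have hq2 : q ≠ 2 := by omega
    have hlarge : ∀ r : ℕ, r.Prime → r ∣ Nat.card C → r ≤ q := fun r hr hd => by
      by_cases h5 : 5 ≤ r
      · exact hmax r ⟨hr, h5, hd⟩
      · omega
    obtain ⟨Q⟩ : Nonempty (Sylow q C) := inferInstance
    obtain ⟨Q'⟩ : Nonempty (Sylow q C') := inferInstance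
    have hQn := sylow_normal_of_largest _ C rfl hC q hq5 hlarge Q
    have hcardQ : Nat.card (Q : Subgroup C) = Nat.card (Q' : Subgroup C') := by
      rw [Q.card_eq_multiplicity, Q'.card_eq_multiplicity, hT.card_eq]
    have hQ'n : (Q' : Subgroup C').Normal := (sylow_normal_iff_count Q').2 (by
      rw [← hT.card_pred (fun k => k ∣ Nat.card (Q' : Subgroup C')), ← hcardQ]
      exact (sylow_normal_iff_count Q).1 hQn)
    haveI := hQn
    haveI := hQ'n
    haveI hQc := hC.1 q hqp hq2 (Q : Subgroup C) Q.isPGroup'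
    haveI hQ'c := hC'.1 q hqp hq2 (Q' : Subgroup C') Q'.isPGroup'
    obtain ⟨R, hR⟩ := Subgroup.exists_right_complement'_of_coprime Q.card_coprime_index
    obtain ⟨R', hR'⟩ := Subgroup.exists_right_complement'_of_coprime Q'.card_coprime_index
    have hRq : (Nat.card R).Coprime q := by
      rw [← hR.symm.index_eq_card]
      exact (hqp.coprime_iff_not_dvd.2 Q.not_dvd_index).symm
    have hR'q : (Nat.card R').Coprime q := by
      rw [← hR'.symm.index_eq_card]
      exact (hqp.coprime_iff_not_dvd.2 Q'.not_dvd_index).symm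
    have hlt : Nat.card R < n := by
      rw [← hn, ← hR.card_mul]
      exact lt_mul_of_one_lt_left Nat.card_pos
        (Finite.one_lt_card_iff_nontrivial.2 ((Subgroup.nontrivial_iff_ne_bot _).2
          (Q.ne_bot_of_dvd_card hqd)))
    have hU1 : ∀ (m : ℕ), Nat.card {g : C // orderOf g = m} = Nat.card {g : C' // orderOf g = m} :=
      fun m => hT.card_pred (fun k => k = m)
    have hq1 : ¬ q ∣ 1 := fun h => hqp.ne_one (Nat.dvd_one.1 h)
    have hA1 : Nat.card {r : R // orderOf r = 1 ∧ (r : C) ∈ Subgroup.centralizer ((Q : Subgroup C) : Set C)} = 1 := by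
      rw [Nat.card_eq_one_iff_unique]
      exact ⟨⟨fun a b => Subtype.ext ((orderOf_eq_one_iff.1 a.2.1).trans (orderOf_eq_one_iff.1 b.2.1).symm)⟩,
        ⟨⟨1, orderOf_one, one_mem _⟩⟩⟩
    have hA1' : Nat.card {r : R' // orderOf r = 1 ∧ (r : C') ∈ Subgroup.centralizer ((Q' : Subgroup C') : Set C')} = 1 := by
      rw [Nat.card_eq_one_iff_unique]
      exact ⟨⟨fun a b => Subtype.ext ((orderOf_eq_one_iff.1 a.2.1).trans (orderOf_eq_one_iff.1 b.2.1).symm)⟩,
        ⟨⟨1, orderOf_one, one_mem _⟩⟩⟩
    have hU : Nat.card {u : (Q : Subgroup C) // orderOf u = q} =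
        Nat.card {u : (Q' : Subgroup C') // orderOf u = q} := by
      have h := hU1 (1 * q)
      rw [card_orderOf_complement_mul hq2 Q.isPGroup' hQc hR hRq 1 hq1,
        card_orderOf_complement_mul hq2 Q'.isPGroup' hQ'c hR' hR'q 1 hq1, hA1, hA1', mul_one, mul_one] at h
      exact h
    have hUpos : 0 < Nat.card {u : (Q : Subgroup C) // orderOf u = q} := by
      obtain ⟨u, hu⟩ := exists_prime_orderOf_dvd_card' q (Q.dvd_card_of_dvd_card hqd)
      haveI : Nonempty {u : (Q : Subgroup C) // orderOf u = q} := ⟨⟨u, hu⟩⟩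
      exact Nat.card_pos
    have hTR : SameOT R R' := by
      refine sameOT_of_card fun m => ?_
      by_cases hm : q ∣ m
      · haveI : IsEmpty {a : R // orderOf a = m} := ⟨fun a => hqp.ne_one
          (Nat.eq_one_of_dvd_coprimes hRq (hm.trans (a.2 ▸ orderOf_dvd_natCard a.1)) dvd_rfl)⟩
        haveI : IsEmpty {a : R' // orderOf a = m} := ⟨fun a => hqp.ne_one
          (Nat.eq_one_of_dvd_coprimes hR'q (hm.trans (a.2 ▸ orderOf_dvd_natCard a.1)) dvd_rfl)⟩
        rw [Nat.card_of_isEmpty, Nat.card_of_isEmpty]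
      · have h := hU1 (m * q)
        rw [card_orderOf_complement_mul hq2 Q.isPGroup' hQc hR hRq m hm,
          card_orderOf_complement_mul hq2 Q'.isPGroup' hQ'c hR' hR'q m hm, ← hU] at h
        have hA := Nat.eq_of_mul_eq_mul_left hUpos h
        have h' := hU1 m
        rw [card_orderOf_complement hq2 Q.isPGroup' hQc hR hRq m hm,
          card_orderOf_complement hq2 Q'.isPGroup' hQ'c hR' hR'q m hm, ← hA, ← hcardQ,
          Nat.add_left_cancel_iff] at h'
        have hB := Nat.eq_of_mul_eq_mul_left Nat.card_pos h'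
        classical
        have split : ∀ (D : Type u) [Finite D] (P S : D → Prop),
            Nat.card {x // P x} = Nat.card {x // P x ∧ S x} + Nat.card {x // P x ∧ ¬ S x} := by
          intro D _ P S
          rw [← Nat.card_congr (Equiv.subtypeSubtypeEquivSubtypeInter P S),
            ← Nat.card_congr (Equiv.subtypeSubtypeEquivSubtypeInter P (fun x => ¬ S x)),
            ← Nat.card_sum]
          exact (Nat.card_congr (Equiv.sumCompl fun x : {x // P x} => S x.1)).symm
        have split' : ∀ (D : Type v) [Finite D] (P S : D → Prop),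
            Nat.card {x // P x} = Nat.card {x // P x ∧ S x} + Nat.card {x // P x ∧ ¬ S x} := by
          intro D _ P S
          rw [← Nat.card_congr (Equiv.subtypeSubtypeEquivSubtypeInter P S),
            ← Nat.card_congr (Equiv.subtypeSubtypeEquivSubtypeInter P (fun x => ¬ S x)),
            ← Nat.card_sum]
          exact (Nat.card_congr (Equiv.sumCompl fun x : {x // P x} => S x.1)).symm
        rw [split R (fun r => orderOf r = m) (fun r => (r : C) ∈ Subgroup.centralizer ((Q : Subgroup C) : Set C)),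
          split' R' (fun r => orderOf r = m) (fun r => (r : C') ∈ Subgroup.centralizer ((Q' : Subgroup C') : Set C')),
          hA, hB]
    have hRs : Group.IsSolvable R :=
      Group.isSolvable_of_isSolvable_injective (f := R.subtype) Subtype.val_injective
    have hR's := IH _ hlt R R' rfl hTR (fcClass_of_injective (f := R.subtype) Subtype.val_injective hC)
      (fcClass_of_injective (f := R'.subtype) Subtype.val_injective hC') hRs
    haveI : Group.IsSolvable (Q' : Subgroup C') := Group.isSolvable_of_comm fun a b => (IsCyclic.isMulCommutative (α := (Q' : Subgroup C'))).is_comm.comm a b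
    exact (Group.isSolvable_iff_subgroup_quotient (Q' : Subgroup C')).2
      ⟨inferInstance, (isSolvable_quotient_iff_of_isComplement' hR').1 hR's⟩

end CfsgLib.Solv
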