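import Cfsg.Agent.Solv.FpfSymCore

/-!
A solvable group of order prime to six on which the symmetric group of degree three acts
fixed-point-freely has nilpotent derived subgroup.
-/

set_option autoImplicit false
set_option linter.unusedSectionVars false
set_option linter.style.haveILetI false
set_option linter.deprecated false

universe u w

namespace CfsgLib.Solv.FpfSym

open scoped commutatorElement

theorem odd_of_coprime_six {n : ℕ} (h : n.Coprime 6) : ¬ 2 ∣ n :=
  (Nat.Prime.coprime_iff_not_dvd Nat.prime_two).1 (h.coprime_dvd_right (by norm_num)).symm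

theorem not_three_dvd_of_coprime_six {n : ℕ} (h : n.Coprime 6) : ¬ 3 ∣ n :=
  (Nat.Prime.coprime_iff_not_dvd Nat.prime_three).1 (h.coprime_dvd_right (by norm_num)).symm

section Stage

variable {X : Type u} [Group X] [Finite X] {V : Type w} [AddCommGroup V] [Finite V]
  {σ τ : X ≃* X} {s t : V ≃+ V} {ρ : X →* AddMonoid.End V}

theorem orbit_product (hσ : S3Fpf σ τ) (hC : ∀ c, σ c = c → c = 1) (x : X) :
    x * σ x * σ (σ x) = 1 := by
  have hinj : Function.Injective (fun y => y⁻¹ * σ y) := by
    intro y z hyz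
    have h2 : σ (z * y⁻¹) = z * y⁻¹ := by
      rw [map_mul, map_inv]
      calc σ z * (σ y)⁻¹ = z * (z⁻¹ * σ z) * (y⁻¹ * σ y)⁻¹ * y⁻¹ := by group
        _ = z * y⁻¹ := by rw [show y⁻¹ * σ y = z⁻¹ * σ z from hyz]; group
    exact (mul_inv_eq_one.1 (hC _ h2)).symm
  obtain ⟨y, rfl⟩ := Finite.surjective_of_injective hinj x
  simp only [map_mul, map_inv, hσ.cube]
  group

/-- The key identity for a central element fixed by `τ`, when the derived group is nontrivial. -/
theorem central_relation (h : S3Action σ τ s t ρ) (h6X : (Nat.card X).Coprime 6)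
    (hC : ∀ c, σ c = c → c = 1) (hder : commutator X ≠ ⊥) {z : X} (hz : z ∈ Subgroup.center X)
    (hzτ : τ z = z) (v : V) :
    ρ (z * z) v - ρ (σ z * z) v - ρ (σ (σ z) * z) v + ρ (σ z * σ (σ z)) v = 0 := by
  have hb : σ z ∈ Subgroup.center X := mem_char _ σ hz
  have hc : σ (σ z) ∈ Subgroup.center X := mem_char _ σ hb
  have hτb : τ (σ z) = σ (σ z) := by rw [h.hσ.rel, hzτ]
  have hτc : τ (σ (σ z)) = σ z := by rw [← h.hσ.rel', hzτ]
  let f : AddMonoid.End V :=
    ρ (z * z) - ρ (σ z * z) - ρ (σ (σ z) * z) + ρ (σ z * σ (σ z))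
  have hf : ∀ v, f v = ρ (z * z) v - ρ (σ z * z) v - ρ (σ (σ z) * z) v + ρ (σ z * σ (σ z)) v :=
    fun v => rfl
  -- `f` kills the vectors fixed by `t`
  have hkill : ∀ u, t u = u → f u = 0 := by
    intro u hu
    have horb : ∀ u, t u = u → u + s u + s (s u) = 0 := by
      intro u hu
      refine h.hs.fpf _ (add_orbit_fixed h.hs u) ?_
      rw [map_add, map_add, h.hs.rel, ← h.hs.rel', hu]
      abel
    have e1 := horb u hu
    have e2 : ρ z u + ρ (σ z) (s u) + ρ (σ (σ z)) (s (s u)) = 0 := by
      have := horb (ρ z u) (by rw [h.tcomp, hzτ, hu])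
      rwa [h.scomp, h.scomp] at this
    have e3 : ρ (z * z) u + ρ (σ z * σ z) (s u) + ρ (σ (σ z) * σ (σ z)) (s (s u)) = 0 := by
      have := horb (ρ (z * z) u) (by rw [h.tcomp, map_mul, hzτ, hu])
      rwa [h.scomp, h.scomp, map_mul σ, map_mul σ] at this
    have e4 := congrArg (ρ (σ z)) e2
    have e5 := congrArg (ρ (σ (σ z))) e2
    have e6 := congrArg (ρ (σ z * σ (σ z))) e1
    simp only [map_add, map_zero, ← act_mul] at e4 e5 e6
    rw [show σ (σ z) * σ z = σ z * σ (σ z) from Subgroup.mem_center_iff.1 hb _] at e5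
    calc f u = (ρ (z * z) u + ρ (σ z * σ z) (s u) + ρ (σ (σ z) * σ (σ z)) (s (s u)))
          - (ρ (σ z * z) u + ρ (σ z * σ z) (s u) + ρ (σ z * σ (σ z)) (s (s u)))
          - (ρ (σ (σ z) * z) u + ρ (σ z * σ (σ z)) (s u) + ρ (σ (σ z) * σ (σ z)) (s (s u)))
          + (ρ (σ z * σ (σ z)) u + ρ (σ z * σ (σ z)) (s u) + ρ (σ z * σ (σ z)) (s (s u))) := by
            rw [hf]; abel
      _ = 0 := by rw [e3, e4, e5, e6]; abel
  have hfx : ∀ x v, f (ρ x v) = ρ x (f v) := by
    intro x v
    have hcm : ∀ a ∈ Subgroup.center X, ρ a (ρ x v) = ρ x (ρ a v) := fun a ha => by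
      rw [← act_mul, ← act_mul, Subgroup.mem_center_iff.1 ha x]
    rw [hf, hf, map_add, map_sub, map_sub, hcm _ (mul_mem hz hz), hcm _ (mul_mem hb hz),
      hcm _ (mul_mem hc hz), hcm _ (mul_mem hb hc)]
  have hft : ∀ v, t (f v) = f (t v) := by
    intro v
    rw [hf, hf, map_add, map_sub, map_sub, h.tcomp, h.tcomp, h.tcomp, h.tcomp, map_mul τ, map_mul τ,
      map_mul τ, map_mul τ, hzτ, hτb, hτc, show σ (σ z) * σ z = σ z * σ (σ z) from
        Subgroup.mem_center_iff.1 hb _]
    abel
  have hneg : ∀ v, t (f v) = -f v := by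
    intro v
    have h1 := hkill (v + t v) (by rw [map_add, h.hs.sq, add_comm])
    rw [map_add, ← hft] at h1
    exact eq_neg_of_add_eq_zero_right h1
  let K : Subgroup X :=
    { carrier := {x | ∀ v, f (ρ x v) = f v}
      one_mem' := fun v => by rw [act_one]
      mul_mem' := fun {a b} (ha : ∀ v, f (ρ a v) = f v) (hb : ∀ v, f (ρ b v) = f v) v => by
        rw [act_mul, ha, hb]
      inv_mem' := fun {a} (ha : ∀ v, f (ρ a v) = f v) v => by
        rw [← ha (ρ a⁻¹ v), act_inv'] }
  haveI hKn : K.Normal := ⟨fun x (hx : ∀ v, f (ρ x v) = f v) y v => by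
    rw [act_mul, act_mul, hfx, hx, ← hfx, act_inv']⟩
  have hKτ : ∀ x, x⁻¹ * τ x ∈ K := by
    intro x v
    have h1 : f (ρ x v) = f (ρ (τ x) v) := by
      have e := hneg (ρ x v)
      rw [hfx, h.tcomp, hneg, map_neg, neg_inj] at e
      rw [hfx, hfx, e]
    rw [act_mul, hfx, ← h1, ← hfx, act_inv]
  have hlift : ∀ q : X ⧸ K, ∃ u, τ u = u ∧ QuotientGroup.mk u = q := by
    intro q
    induction q using QuotientGroup.induction_on with
    | _ x =>
      obtain ⟨u, hu, hu'⟩ := exists_fixed_of_prime Nat.prime_two τ {y | x⁻¹ * y ∈ K}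
        (fun y hy => by
          show x⁻¹ * τ y ∈ K
          rw [show x⁻¹ * τ y = x⁻¹ * y * (y⁻¹ * τ y) by group]
          exact mul_mem hy (hKτ y))
        (fun y _ => h.hσ.sq y) (by
          have e : {y | x⁻¹ * y ∈ K} = (fun y => x * y) '' (K : Set X) := by
            ext y
            exact ⟨fun hy => ⟨_, hy, by group⟩, fun ⟨k, hk, e⟩ => by
              subst e; show x⁻¹ * (x * k) ∈ K; rwa [inv_mul_cancel_left]⟩
          rw [e, Nat.card_image_of_injective (mul_right_injective x)]
          exact fun hd => odd_of_coprime_six h6X (hd.trans (Subgroup.card_subgroup_dvd_card K)))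
      exact ⟨u, hu', (QuotientGroup.eq.2 hu).symm⟩
  have hpq : ∀ u, τ u = u →
      (QuotientGroup.mk u : X ⧸ K) = ((σ u : X ⧸ K) * (σ u : X ⧸ K))⁻¹ := by
    intro u hu
    have h1 := congrArg (QuotientGroup.mk : X → X ⧸ K) (orbit_product h.hσ hC u)
    have h2 : (QuotientGroup.mk (σ (σ u)) : X ⧸ K) = QuotientGroup.mk (σ u) := by
      have := hKτ (σ u)
      rw [h.hσ.rel, hu] at this
      exact (QuotientGroup.eq.2 this).symm
    rw [QuotientGroup.mk_mul, QuotientGroup.mk_mul, h2, QuotientGroup.mk_one, mul_assoc] at h1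
    exact eq_inv_of_mul_eq_one_left h1
  have hsurj : ∀ a : X ⧸ K, ∃ u, τ u = u ∧ (σ u : X ⧸ K) = a := by
    intro a
    obtain ⟨u, hu, rfl⟩ := hlift a
    refine ⟨(u * u)⁻¹, by rw [map_inv, map_mul, hu], ?_⟩
    rw [hpq u hu, map_inv, map_mul, QuotientGroup.mk_inv, QuotientGroup.mk_mul]
  have hanti : ∀ a b : X ⧸ K, (b * a) * (b * a) = a * a * (b * b) := by
    intro a b
    obtain ⟨u, hu, rfl⟩ := hsurj a
    obtain ⟨u', hu', rfl⟩ := hsurj b
    have h1 := hpq (u' * u) (by rw [map_mul, hu, hu'])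
    rw [QuotientGroup.mk_mul, hpq u hu, hpq u' hu', map_mul, QuotientGroup.mk_mul, ← mul_inv_rev] at h1
    exact (inv_injective h1).symm
  have hab := commute_of_sq_anti (Q := X ⧸ K)
    (h6X.coprime_dvd_left (Subgroup.card_quotient_dvd_card K)) hanti
  have hle : commutator X ≤ K := by
    rw [commutator_def, Subgroup.commutator_le]
    intro a _ b _
    rw [← QuotientGroup.eq_one_iff]
    show QuotientGroup.mk' K ⁅a, b⁆ = 1
    rw [map_commutatorElement, commutatorElement_eq_one_iff_mul_comm]
    exact hab _ _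
  rw [← hf]
  haveI : (commutator X).Characteristic := by rw [commutator_def]; infer_instance
  haveI : (commutator X).Normal := inferInstance
  exact h.fix_normal (commutator X) (fun _ hn => mem_char _ σ hn) (fun _ hn => mem_char _ τ hn) hder
    fun m hm => by rw [← hfx]; exact hle hm v

theorem commutator_eq_bot_of_fpf [Nontrivial X] [Group.IsSolvable X] (h : S3Action σ τ s t ρ)
    (h6X : (Nat.card X).Coprime 6) (h6V : (Nat.card V).Coprime 6) (hC : ∀ c, σ c = c → c = 1)
    (h0 : ∃ v, s v = v ∧ v ≠ 0) : commutator X = ⊥ := by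
  by_contra hder
  haveI := Fact.mk Nat.prime_three
  haveI : Group.IsNilpotent X := isNilpotent_of_fpf (φ := σ) (fun x hx => hC x hx) (p := 3)
    (fun x => h.hσ.cube x)
  have hco : (Nat.card (Subgroup.center X)).Coprime (Nat.card V) :=
    h.coprime_of_nilpotent (Subgroup.center X) (fun _ hn => mem_char _ σ hn)
      (fun _ hn => mem_char _ τ hn)
  let Z := Subgroup.center X
  letI : CommGroup Z :=
    { (inferInstance : Group Z) with
      mul_comm := fun a b => Subtype.ext (Subgroup.mem_center_iff.1 b.2 a) }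
  have hZx : ∀ a ∈ Z, ∀ x v, ρ a (ρ x v) = ρ x (ρ a v) := fun a ha x v => by
    rw [← act_mul, ← act_mul, Subgroup.mem_center_iff.1 ha x]
  have hT : ∀ a ∈ Z, ∀ v, ρ (τ a) v + ρ (σ (τ a)) v + ρ (σ (σ (τ a))) v
      = ρ a v + ρ (σ a) v + ρ (σ (σ a)) v := by
    intro a ha
    let Sg : Set V := {u | ∃ x, ∃ w, s w = w ∧ u = ρ x w}
    have htop : AddSubgroup.closure Sg = ⊤ := by
      refine (h.irr _ ?_ ?_ ?_).resolve_left ?_
      · exact fun x => closure_invariant (ρ x) (by
          rintro _ ⟨y, w, hw, rfl⟩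
          exact AddSubgroup.subset_closure ⟨x * y, w, hw, (act_mul ρ x y w).symm⟩)
      · exact closure_invariant s.toAddMonoidHom (by
          rintro _ ⟨y, w, hw, rfl⟩
          exact AddSubgroup.subset_closure ⟨σ y, w, hw, by
            show s (ρ y w) = _
            rw [h.scomp, hw]⟩)
      · exact closure_invariant t.toAddMonoidHom (by
          rintro _ ⟨y, w, hw, rfl⟩
          exact AddSubgroup.subset_closure ⟨τ y, -w, by rw [map_neg, hw], by
            show t (ρ y w) = _
            rw [h.tcomp, vec_inverted h.hs h6V hw]⟩)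
      · obtain ⟨v, hv, hv0⟩ := h0
        intro e
        have : v ∈ AddSubgroup.closure Sg :=
          AddSubgroup.subset_closure ⟨1, v, hv, (act_one ρ v).symm⟩
        rw [e, AddSubgroup.mem_bot] at this
        exact hv0 this
    intro v
    have hv : v ∈ AddSubgroup.closure Sg := htop ▸ AddSubgroup.mem_top v
    induction hv using AddSubgroup.closure_induction with
    | mem g hg =>
      obtain ⟨x, w, hw, rfl⟩ := hg
      have hzσ : ∀ b ∈ Z, σ b ∈ Z := fun b hb => mem_char _ σ hb
      have hzτ : τ a ∈ Z := mem_char _ τ ha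
      simp only [hZx _ ha, hZx _ (hzσ _ ha), hZx _ (hzσ _ (hzσ _ ha)), hZx _ hzτ,
        hZx _ (hzσ _ hzτ), hZx _ (hzσ _ (hzσ _ hzτ)), ← map_add]
      congr 1
      have hm : s (ρ a w + ρ (σ a) w + ρ (σ (σ a)) w) = ρ a w + ρ (σ a) w + ρ (σ (σ a)) w := by
        simp only [map_add, h.scomp, hw, h.hσ.cube]; abel
      have h1 := vec_inverted h.hs h6V hm
      rw [map_add, map_add, h.tcomp, h.tcomp, h.tcomp, vec_inverted h.hs h6V hw, map_neg, map_neg,
        map_neg, ← neg_add, ← neg_add, neg_inj] at h1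
      rw [← h1, h.hσ.rel a, h.hσ.rel (σ a), h.hσ.rel a, h.hσ.cube]
      abel
    | zero => simp
    | add u v _ _ hu hv =>
      simp only [map_add]
      calc _ = (ρ (τ a) u + ρ (σ (τ a)) u + ρ (σ (σ (τ a))) u)
            + (ρ (τ a) v + ρ (σ (τ a)) v + ρ (σ (σ (τ a))) v) := by abel
        _ = _ := by rw [hu, hv]; abel
    | neg u _ hu =>
      simp only [map_neg]
      calc _ = -(ρ (τ a) u + ρ (σ (τ a)) u + ρ (σ (σ (τ a))) u) := by abel
        _ = _ := by rw [hu]; abel
  have hgen : ∀ y ∈ Set.range (ρ.comp Z.subtype), ∀ z ∈ Set.range (ρ.comp Z.subtype),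
      y * z = z * y := by
    rintro _ ⟨a, rfl⟩ _ ⟨b, rfl⟩
    rw [← map_mul, mul_comm, map_mul]
  letI := Subring.closureCommRingOfComm hgen
  let R := Subring.closure (Set.range (ρ.comp Z.subtype))
  let f : Z →* R :=
    { toFun := fun a => ⟨ρ (a : X), Subring.subset_closure ⟨a, rfl⟩⟩
      map_one' := Subtype.ext (map_one ρ)
      map_mul' := fun a b => Subtype.ext (map_mul ρ _ _) }
  let θ : Z →* Z :=
    { toFun := fun a => ⟨σ a, mem_char _ σ a.2⟩
      map_one' := Subtype.ext (map_one σ)
      map_mul' := fun a b => Subtype.ext (map_mul σ _ _) }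
  let η : Z →* Z :=
    { toFun := fun a => ⟨τ a, mem_char _ τ a.2⟩
      map_one' := Subtype.ext (map_one τ)
      map_mul' := fun a b => Subtype.ext (map_mul τ _ _) }
  have hθ : ∀ a, θ (θ (θ a)) = a := fun a => Subtype.ext (h.hσ.cube _)
  have hrel : ∀ a, η (θ a) = θ (θ (η a)) := fun a => Subtype.ext (h.hσ.rel _)
  have hrel' : ∀ a, θ (η a) = η (θ (θ a)) := fun a => Subtype.ext (h.hσ.rel' _)
  have hη : ∀ a, η (η a) = a := fun a => Subtype.ext (h.hσ.sq _)
  have h6 : IsUnit (6 : R) := by
    have := isUnit_natCast_of_coprime (n := 6) h6V.symm (natCast_subring_eq_zero R)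
    simpa using this
  have hZunit : IsUnit ((Nat.card Z : ℕ) : R) :=
    isUnit_natCast_of_coprime hco (natCast_subring_eq_zero _)
  have hf : ∀ a, f (η a) + f (θ (η a)) + f (θ (θ (η a))) = f a + f (θ a) + f (θ (θ a)) :=
    fun a => Subtype.ext (AddMonoidHom.ext fun v => hT a a.2 v)
  have hP : ∀ z : Z, η z = z →
      (f z - f (θ z)) * (f z - f (θ (θ z))) = 0 ∧
      (f (θ z) - f (θ (θ z))) * (f (θ z) - f z) = 0 ∧
      (f (θ (θ z)) - f z) * (f (θ (θ z)) - f (θ z)) = 0 := by
    intro z hz
    have key : ∀ v, ρ ((z : X) * z) v - ρ (σ (z : X) * z) v - ρ (σ (σ (z : X)) * z) v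
        + ρ (σ (z : X) * σ (σ (z : X))) v = 0 :=
      central_relation h h6X hC hder z.2 (congrArg Subtype.val hz)
    have key' : f (z * z) - f (θ z * z) - f (θ (θ z) * z) + f (θ z * θ (θ z)) = 0 :=
      Subtype.ext (AddMonoidHom.ext key)
    have shift : ∀ y : Z, f (y * y) - f (θ y * y) - f (θ (θ y) * y) + f (θ y * θ (θ y)) = 0 →
        f (θ y * θ y) - f (θ (θ y) * θ y) - f (θ (θ (θ y)) * θ y)
          + f (θ (θ y) * θ (θ (θ y))) = 0 := by
      intro y hy
      refine Subtype.ext (AddMonoidHom.ext fun v => ?_)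
      have := congrArg s (DFunLike.congr_fun (congrArg Subtype.val hy) (s (s v)))
      show ρ (σ (y : X) * σ y) v - ρ (σ (σ (y : X)) * σ y) v - ρ (σ (σ (σ (y : X))) * σ y) v
          + ρ (σ (σ (y : X)) * σ (σ (σ (y : X)))) v = 0
      change s (ρ ((y : X) * y) (s (s v)) - ρ (σ (y : X) * y) (s (s v))
        - ρ (σ (σ (y : X)) * y) (s (s v)) + ρ (σ (y : X) * σ (σ (y : X))) (s (s v))) = s 0 at this
      simpa [map_add, map_sub, h.scomp, h.hs.cube, act_mul, h.hσ.cube] using this
    have k1 := shift z key'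
    have k2 := shift _ k1
    simp only [hθ, map_mul] at k1 k2 key'
    exact ⟨by linear_combination key', by linear_combination k1, by linear_combination k2⟩
  have hone : ∀ a : Z, f a = 1 := by
    intro a
    refine eq_one_of_primes f hZunit a fun P hPp => ?_
    haveI := hPp
    let φ : Z →* R ⧸ P := (Ideal.Quotient.mk P).toMonoidHom.comp f
    have hcase : ∀ g : Z →* Z, (∀ b, g (θ b) = θ (g b)) → (∀ b, φ (g (η b)) = φ (g b)) →
        (∀ z, η z = z → φ (g z) = φ (g (θ z)) ∨ φ (g z) = φ (g (θ (θ z)))) →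
        ∀ b, φ (g b) = 1 := by
      intro g _ hgη hgz
      have hcard : ∀ b : Z, φ (g b) ^ Nat.card X = 1 := fun b => by
        rw [← map_pow, ← map_pow, show b ^ Nat.card X = 1 from Subtype.ext (by
          rw [SubgroupClass.coe_pow, pow_card_eq_one']; rfl), map_one, map_one]
      have hfix : ∀ z, η z = z → φ (g z) = 1 := by
        intro z hz
        have h1 : φ (g (θ (θ z))) = φ (g (θ z)) := by
          rw [show θ (θ z) = η (θ z) by rw [hrel, hz], hgη]
        have h2 : φ (g z) = φ (g (θ z)) := by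
          rcases hgz z hz with e | e
          · exact e
          · rw [e, h1]
        have h3 : φ (g z) ^ 3 = 1 := by
          calc φ (g z) ^ 3 = φ (g z) * φ (g (θ z)) * φ (g (θ (θ z))) := by rw [h1, ← h2]; ring
            _ = φ (g (z * θ z * θ (θ z))) := by simp only [map_mul]
            _ = 1 := by
              rw [show z * θ z * θ (θ z) = 1 from Subtype.ext (orbit_product h.hσ hC _), map_one,
                map_one]
        exact eq_one_of_pow_coprime h3 (hcard z) (h6X.coprime_dvd_right (by norm_num : 3 ∣ 6)).symm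
      intro b
      have h2 : φ (g b) ^ 2 = 1 := by
        calc φ (g b) ^ 2 = φ (g b) * φ (g (η b)) := by rw [hgη, pow_two]
          _ = φ (g (b * η b)) := by simp only [map_mul]
          _ = 1 := hfix _ (by rw [map_mul, hη, mul_comm])
      exact eq_one_of_pow_coprime h2 (hcard b) (h6X.coprime_dvd_right (by norm_num : 2 ∣ 6)).symm
    have hdich : ∀ {p q : R}, p * q = 0 → Ideal.Quotient.mk P p = 0 ∨ Ideal.Quotient.mk P q = 0 :=
      fun {p q} e => mul_eq_zero.1 (by rw [← map_mul, e, map_zero])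
    have hd : ∀ {x y x' : Z}, (f x - f y) * (f x - f x') = 0 → φ x = φ y ∨ φ x = φ x' :=
      fun {x y x'} e => (hdich e).imp (fun e => by rwa [map_sub, sub_eq_zero] at e)
        (fun e => by rwa [map_sub, sub_eq_zero] at e)
    rcases dedekind h6 f θ η hf P with e | e | e
    · exact hcase (MonoidHom.id Z) (fun b => rfl) (fun b => e b)
        (fun z hz => hd (hP z hz).1) a
    · have h2 := hcase (θ.comp θ) (fun b => rfl)
        (fun b => by
          show φ (θ (θ (η b))) = φ (θ (θ b))
          rw [← hrel]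
          exact e (θ b))
        (fun z hz => by
          show φ (θ (θ z)) = φ (θ (θ (θ z))) ∨ φ (θ (θ z)) = φ (θ (θ (θ (θ z))))
          rw [hθ]
          exact hd (hP z hz).2.2) (θ a)
      show φ a = 1
      rw [← hθ a]; exact h2
    · have h2 := hcase θ (fun b => rfl)
        (fun b => by
          show φ (θ (η b)) = φ (θ b)
          rw [hrel', ← congrArg φ (hθ (θ b))]
          exact e (θ (θ b)))
        (fun z hz => by
          show φ (θ z) = φ (θ (θ z)) ∨ φ (θ z) = φ (θ (θ (θ z)))
          rw [hθ]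
          exact hd (hP z hz).2.1) (θ (θ a))
      show φ a = 1
      rw [← hθ a]; exact h2
  refine Group.IsNilpotent.center_ne_bot (G := X) ((Subgroup.eq_bot_iff_forall _).2 fun x hx => ?_)
  exact h.inj ((congrArg Subtype.val (hone ⟨x, hx⟩)).trans (map_one ρ).symm)

theorem action_commute [Group.IsSolvable X] (h : S3Action σ τ s t ρ)
    (h6X : (Nat.card X).Coprime 6) (h6V : (Nat.card V).Coprime 6) :
    ∀ x y : X, x * y = y * x := by
  rcases subsingleton_or_nontrivial X with hX | hX
  · exact fun x y => Subsingleton.elim _ _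
  by_cases h0 : ∀ v, s v = v → v = 0
  · have hid := sigma_eq_id h h6X h0
    exact fun x y => fixed_commute h.hσ (hid x) (hid y)
  push Not at h0
  have hbot := commutator_eq_bot_of_fpf h h6X h6V (sigma_fpf h h6X h6V h0) h0
  intro x y
  rw [← commutatorElement_eq_one_iff_mul_comm, ← Subgroup.mem_bot, ← hbot, commutator_def]
  exact Subgroup.commutator_mem_commutator (Subgroup.mem_top x) (Subgroup.mem_top y)

end Stage

theorem map_eq_of_mapsTo {X : Type*} [Group X] [Finite X] (σ : X ≃* X) (N : Subgroup X)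
    (hN : ∀ n ∈ N, σ n ∈ N) : N.map σ.toMonoidHom = N := by
  refine Subgroup.eq_of_le_of_card_ge ?_ ?_
  · rintro _ ⟨n, hn, rfl⟩; exact hN n hn
  · rw [← Nat.card_congr (N.equivMapOfInjective σ.toMonoidHom σ.injective).toEquiv]

theorem S3Fpf.quotient {X : Type*} [Group X] [Finite X] {σ τ : X ≃* X} (h : S3Fpf σ τ)
    (h6 : (Nat.card X).Coprime 6) (N : Subgroup X) [N.Normal] (hσN : ∀ n ∈ N, σ n ∈ N)
    (hτN : ∀ n ∈ N, τ n ∈ N) :
    S3Fpf (QuotientGroup.congr N N σ (map_eq_of_mapsTo σ N hσN))
      (QuotientGroup.congr N N τ (map_eq_of_mapsTo τ N hτN)) := by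
  refine ⟨fun q => ?_, fun q => ?_, fun q => ?_, fun q h1 h2 => ?_⟩
  · induction q using QuotientGroup.induction_on with
    | _ x =>
      show QuotientGroup.mk (σ (σ (σ x))) = QuotientGroup.mk x
      rw [h.cube]
  · induction q using QuotientGroup.induction_on with
    | _ x =>
      show QuotientGroup.mk (τ (τ x)) = QuotientGroup.mk x
      rw [h.sq]
  · induction q using QuotientGroup.induction_on with
    | _ x =>
      show QuotientGroup.mk (τ (σ x)) = QuotientGroup.mk (σ (σ (τ x)))
      rw [h.rel]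
  · induction q using QuotientGroup.induction_on with
    | _ x =>
      have e1 : x⁻¹ * σ x ∈ N := QuotientGroup.eq.1 h1.symm
      have e2 : x⁻¹ * τ x ∈ N := QuotientGroup.eq.1 h2.symm
      have e : {y | x⁻¹ * y ∈ N} = (fun y => x * y) '' (N : Set X) := by
        ext y
        exact ⟨fun hy => ⟨_, hy, by group⟩, fun ⟨k, hk, e⟩ => by
          subst e; show x⁻¹ * (x * k) ∈ N; rwa [inv_mul_cancel_left]⟩
      obtain ⟨y, hy, hyσ⟩ := exists_fixed_of_prime Nat.prime_three σ {y | x⁻¹ * y ∈ N}
        (fun y hy => by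
          show x⁻¹ * σ y ∈ N
          rw [show x⁻¹ * σ y = x⁻¹ * σ x * σ (x⁻¹ * y) by rw [map_mul, map_inv]; group]
          exact mul_mem e1 (hσN _ hy))
        (fun y _ => h.cube y) (by
          rw [e, Nat.card_image_of_injective (mul_right_injective x)]
          exact fun hd => not_three_dvd_of_coprime_six h6
            (hd.trans (Subgroup.card_subgroup_dvd_card N)))
      let C : Subgroup X :=
        { carrier := {n | n ∈ N ∧ σ n = n}
          one_mem' := ⟨one_mem _, map_one σ⟩
          mul_mem' := fun {a b} (ha : a ∈ N ∧ σ a = a) (hb : b ∈ N ∧ σ b = b) =>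
            ⟨mul_mem ha.1 hb.1, by rw [map_mul, ha.2, hb.2]⟩
          inv_mem' := fun {a} (ha : a ∈ N ∧ σ a = a) => ⟨inv_mem ha.1, by rw [map_inv, ha.2]⟩ }
      have e' : {z | x⁻¹ * z ∈ N ∧ σ z = z} = (fun z => y * z) '' (C : Set X) := by
        ext z
        constructor
        · rintro ⟨hz, hzσ⟩
          refine ⟨y⁻¹ * z, ⟨?_, by rw [map_mul, map_inv, hyσ, hzσ]⟩, by group⟩
          rw [show y⁻¹ * z = (x⁻¹ * y)⁻¹ * (x⁻¹ * z) by group]
          exact mul_mem (inv_mem hy) hz
        · rintro ⟨n, ⟨hn, hnσ⟩, rfl⟩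
          refine ⟨?_, by rw [map_mul, hyσ, hnσ]⟩
          rw [← mul_assoc]
          exact mul_mem hy hn
      obtain ⟨z, ⟨hz, hzσ⟩, hzτ⟩ := exists_fixed_of_prime Nat.prime_two τ
        {z | x⁻¹ * z ∈ N ∧ σ z = z}
        (fun z hz => ⟨by
          rw [show x⁻¹ * τ z = x⁻¹ * τ x * τ (x⁻¹ * z) by rw [map_mul, map_inv]; group]
          exact mul_mem e2 (hτN _ hz.1), by rw [h.rel', hz.2, hz.2]⟩)
        (fun z _ => h.sq z) (by
          rw [e', Nat.card_image_of_injective (mul_right_injective y)]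
          exact fun hd => odd_of_coprime_six h6 (hd.trans (Subgroup.card_subgroup_dvd_card C)))
      rw [h.fpf z hzσ hzτ, mul_one, inv_mem_iff] at hz
      exact (QuotientGroup.eq_one_iff x).2 hz

theorem isNilpotent_commutator_aux : ∀ (n : ℕ) (G : Type u) [Group G] [Finite G] (σ τ : G ≃* G),
    Nat.card G = n → Group.IsSolvable G → S3Fpf σ τ → n.Coprime 6 →
    Group.IsNilpotent (commutator G) := by
  intro n
  induction n using Nat.strong_induction_on with
  | _ n ih =>
  intro G _ _ σ τ hn hsol hσ h6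
  haveI := hsol
  rcases subsingleton_or_nontrivial G with hG | hG
  · infer_instance
  obtain ⟨M, hMn, hMσ, hMτ, hM0, hMmin⟩ := exists_minimal σ τ
  haveI := hMn
  have hMc := minimal_commute σ τ M hMσ hMτ hM0 hMmin
  letI : CommGroup M :=
    { (inferInstance : Group M) with mul_comm := fun a b => Subtype.ext (hMc a a.2 b b.2) }
  let f : G →* AddMonoid.End (Additive M) :=
    { toFun := fun x =>
        { toFun := fun a => Additive.ofMul ⟨x * (a.toMul : M) * x⁻¹, hMn.conj_mem _ a.toMul.2 x⟩
          map_zero' := by ext; simp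
          map_add' := fun a b => by ext; simp [mul_assoc] }
      map_one' := AddMonoidHom.ext fun a => by
        show Additive.ofMul _ = a
        apply Additive.toMul.injective
        apply Subtype.ext
        simp
      map_mul' := fun x y => AddMonoidHom.ext fun a => by
        show Additive.ofMul _ = Additive.ofMul _
        apply Additive.toMul.injective
        apply Subtype.ext
        show x * y * ((a.toMul : M) : G) * (x * y)⁻¹ = x * (y * ((a.toMul : M) : G) * y⁻¹) * x⁻¹
        group }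
  have hker : ∀ c, c ∈ f.ker ↔ ∀ m ∈ M, c * m * c⁻¹ = m := by
    intro c
    constructor
    · intro hc m hm
      have := DFunLike.congr_fun (hc : f c = 1) (Additive.ofMul ⟨m, hm⟩)
      exact congrArg (fun a : Additive M => ((a.toMul : M) : G)) this
    · intro h
      ext a
      exact h _ a.toMul.2
  have hkerg : ∀ g : G ≃* G, M.map g.toMonoidHom = M → ∀ c ∈ f.ker, g c ∈ f.ker := by
    intro g hg c hc
    rw [hker] at hc ⊢
    intro m hm
    obtain ⟨k, hk, rfl⟩ : m ∈ M.map g.toMonoidHom := hg.symm ▸ hm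
    show g c * g k * (g c)⁻¹ = g k
    rw [← map_inv, ← map_mul, ← map_mul, hc k hk]
  have hkσ := hkerg σ (map_eq_of_mapsTo σ M hMσ)
  have hkτ := hkerg τ (map_eq_of_mapsTo τ M hMτ)
  let sM : Additive M ≃+ Additive M :=
    { toFun := fun a => Additive.ofMul ⟨σ (a.toMul : M), hMσ _ a.toMul.2⟩
      invFun := fun a => Additive.ofMul ⟨σ (σ (a.toMul : M)), hMσ _ (hMσ _ a.toMul.2)⟩
      left_inv := fun a => Additive.toMul.injective (Subtype.ext (hσ.cube _))
      right_inv := fun a => Additive.toMul.injective (Subtype.ext (hσ.cube _))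
      map_add' := fun a b => by ext; simp }
  let tM : Additive M ≃+ Additive M :=
    { toFun := fun a => Additive.ofMul ⟨τ (a.toMul : M), hMτ _ a.toMul.2⟩
      invFun := fun a => Additive.ofMul ⟨τ (a.toMul : M), hMτ _ a.toMul.2⟩
      left_inv := fun a => Additive.toMul.injective (Subtype.ext (hσ.sq _))
      right_inv := fun a => Additive.toMul.injective (Subtype.ext (hσ.sq _))
      map_add' := fun a b => by ext; simp }
  let fl : G ⧸ f.ker →* AddMonoid.End (Additive M) := QuotientGroup.lift f.ker f le_rfl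
  have h6G : (Nat.card G).Coprime 6 := hn ▸ h6
  have hact : S3Action (QuotientGroup.congr f.ker f.ker σ (map_eq_of_mapsTo σ f.ker hkσ))
      (QuotientGroup.congr f.ker f.ker τ (map_eq_of_mapsTo τ f.ker hkτ)) sM tM fl := by
    refine ⟨hσ.quotient h6G f.ker hkσ hkτ,
      ⟨fun a => Additive.toMul.injective (Subtype.ext (hσ.cube _)),
        fun a => Additive.toMul.injective (Subtype.ext (hσ.sq _)),
        fun a => Additive.toMul.injective (Subtype.ext (hσ.rel _)),
        fun a h1 h2 => ?_⟩, ?_, ?_, ?_, ?_⟩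
    · apply Additive.toMul.injective
      apply Subtype.ext
      rw [toMul_zero, OneMemClass.coe_one]
      exact hσ.fpf _ (congrArg (fun a : Additive M => ((a.toMul : M) : G)) h1)
        (congrArg (fun a : Additive M => ((a.toMul : M) : G)) h2)
    · rw [injective_iff_map_eq_one]
      intro q hq
      induction q using QuotientGroup.induction_on with
      | _ x => exact (QuotientGroup.eq_one_iff x).2 hq
    · intro q v
      induction q using QuotientGroup.induction_on with
      | _ x =>
        apply Additive.toMul.injective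
        apply Subtype.ext
        show σ (x * ((v.toMul : M) : G) * x⁻¹) = σ x * σ ((v.toMul : M) : G) * (σ x)⁻¹
        simp
    · intro q v
      induction q using QuotientGroup.induction_on with
      | _ x =>
        apply Additive.toMul.injective
        apply Subtype.ext
        show τ (x * ((v.toMul : M) : G) * x⁻¹) = τ x * τ ((v.toMul : M) : G) * (τ x)⁻¹
        simp
    · intro U h1 h2 h3
      let L : Subgroup G :=
        { carrier := {m | ∃ hm : m ∈ M, Additive.ofMul (⟨m, hm⟩ : M) ∈ U}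
          one_mem' := ⟨one_mem _, U.zero_mem⟩
          mul_mem' := fun {a b} ⟨ha, ha'⟩ ⟨hb, hb'⟩ => ⟨mul_mem ha hb, U.add_mem ha' hb'⟩
          inv_mem' := fun {a} ⟨ha, ha'⟩ => ⟨inv_mem ha, U.neg_mem ha'⟩ }
      have hLn : L.Normal := ⟨fun m ⟨hm, hm'⟩ x =>
        ⟨hMn.conj_mem m hm x, h1 (QuotientGroup.mk x) _ hm'⟩⟩
      rcases hMmin L hLn (fun m ⟨hm, hm'⟩ => ⟨hMσ m hm, h2 _ hm'⟩)
        (fun m ⟨hm, hm'⟩ => ⟨hMτ m hm, h3 _ hm'⟩) (fun m ⟨hm, _⟩ => hm) with h | h
      · left
        rw [AddSubgroup.eq_bot_iff_forall]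
        intro u hu
        have : ((u.toMul : M) : G) ∈ L := ⟨u.toMul.2, hu⟩
        rw [h, Subgroup.mem_bot] at this
        ext
        exact this
      · right
        rw [eq_top_iff]
        intro u _
        obtain ⟨hm, hm'⟩ : ((u.toMul : M) : G) ∈ L := h.ge u.toMul.2
        exact hm'
  have hcomm := action_commute hact
    (h6G.coprime_dvd_left (Subgroup.card_quotient_dvd_card f.ker))
    (h6G.coprime_dvd_left (by
      rw [Nat.card_congr (Additive.toMul (α := M))]
      exact Subgroup.card_subgroup_dvd_card M))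
  have hder : commutator G ≤ f.ker := by
    rw [commutator_def, Subgroup.commutator_le]
    intro a _ b _
    rw [← QuotientGroup.eq_one_iff]
    show QuotientGroup.mk' f.ker ⁅a, b⁆ = 1
    rw [map_commutatorElement, commutatorElement_eq_one_iff_mul_comm]
    exact hcomm _ _
  have hlt : Nat.card (G ⧸ M) < n := by
    rw [← hn, Subgroup.card_eq_card_quotient_mul_card_subgroup M]
    exact lt_mul_of_one_lt_right Nat.card_pos ((Subgroup.one_lt_card_iff_ne_bot _).2 hM0)
  have hnil : Group.IsNilpotent (commutator (G ⧸ M)) :=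
    ih _ hlt (G ⧸ M) _ _ rfl inferInstance (hσ.quotient h6G M hMσ hMτ)
      (h6G.coprime_dvd_left (Subgroup.card_quotient_dvd_card M))
  have hmap : (commutator G).map (QuotientGroup.mk' M) ≤ commutator (G ⧸ M) := by
    rw [commutator_def, commutator_def, Subgroup.map_commutator]
    exact Subgroup.commutator_mono le_top le_top
  let φ : commutator G →* commutator (G ⧸ M) :=
    ((QuotientGroup.mk' M).comp (commutator G).subtype).codRestrict (commutator (G ⧸ M))
      (fun a => hmap ⟨a, a.2, rfl⟩)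
  refine Subgroup.isNilpotent_of_ker_le_center φ ?_
  intro a ha
  rw [Subgroup.mem_center_iff]
  intro b
  have ha' : (a : G) ∈ M := by
    rw [← QuotientGroup.eq_one_iff]
    exact congrArg Subtype.val (ha : φ a = 1)
  apply Subtype.ext
  show (b : G) * a = a * b
  exact mul_inv_eq_iff_eq_mul.1 ((hker _).1 (hder b.2) _ ha')

/-- Fixed-point-free action of the symmetric group of degree three. -/
theorem isNilpotent_commutator {G : Type u} [Group G] [Finite G] [Group.IsSolvable G]
    [MulDistribMulAction (Equiv.Perm (Fin 3)) G] (hcop : (Nat.card G).Coprime 6)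
    (hfpf : ∀ g : G, (∀ a : Equiv.Perm (Fin 3), a • g = g) → g = 1) :
    Group.IsNilpotent ↥(commutator G) := by
  refine isNilpotent_commutator_aux (Nat.card G) G
    (MulDistribMulAction.toMulEquiv G (finRotate 3))
    (MulDistribMulAction.toMulEquiv G (Equiv.swap (0 : Fin 3) 1)) rfl inferInstance
    ⟨fun x => ?_, fun x => ?_, fun x => ?_, fun x h1 h2 => hfpf x ?_⟩ hcop
  · show finRotate 3 • finRotate 3 • finRotate 3 • x = x
    rw [smul_smul, smul_smul, show finRotate 3 * finRotate 3 * finRotate 3 = 1 by decide, one_smul]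
  · show Equiv.swap (0 : Fin 3) 1 • Equiv.swap (0 : Fin 3) 1 • x = x
    rw [smul_smul, show Equiv.swap (0 : Fin 3) 1 * Equiv.swap (0 : Fin 3) 1 = 1 by decide, one_smul]
  · show Equiv.swap (0 : Fin 3) 1 • finRotate 3 • x
      = finRotate 3 • finRotate 3 • Equiv.swap (0 : Fin 3) 1 • x
    rw [smul_smul, smul_smul, smul_smul,
      show Equiv.swap (0 : Fin 3) 1 * finRotate 3
        = finRotate 3 * finRotate 3 * Equiv.swap (0 : Fin 3) 1 by decide]
  · have h1' : finRotate 3 • x = x := h1
    have h2' : Equiv.swap (0 : Fin 3) 1 • x = x := h2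
    intro a
    have hgen : ∀ a : Equiv.Perm (Fin 3), a = 1 ∨ a = finRotate 3 ∨ a = finRotate 3 * finRotate 3 ∨
        a = Equiv.swap (0 : Fin 3) 1 ∨ a = finRotate 3 * Equiv.swap (0 : Fin 3) 1 ∨
        a = finRotate 3 * finRotate 3 * Equiv.swap (0 : Fin 3) 1 := by decide
    rcases hgen a with rfl | rfl | rfl | rfl | rfl | rfl <;>
      simp only [one_smul, mul_smul, h1', h2']

end CfsgLib.Solv.FpfSym
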