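import Cfsg.Agent.Solv.CoprimeSylow
import Cfsg.Agent.Perm.HallHigman
import Cfsg.Agent.Solv.Hall
import Cfsg.Agent.Inv.CharP2
import Cfsg.Agent.Blk.PPart

/-!
When does a Sylow `p`-subgroup normalize a Sylow `q`-subgroup?
-/

set_option autoImplicit false
set_option linter.style.haveILetI false

open scoped commutatorElement Pointwise

namespace CfsgLib.Solv

variable {G : Type*} [Group G] [Finite G] {p q : ℕ} [Fact p.Prime] [Fact q.Prime]

theorem exists_sylow_le_of_index {H : Subgroup G} (h : ¬ p ∣ H.index) :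
    ∃ P : Sylow p G, (P : Subgroup G) ≤ H := by
  obtain ⟨P⟩ : Nonempty (Sylow p H) := inferInstance
  have hi : ¬ p ∣ ((P : Subgroup H).map H.subtype).index := by
    rw [Subgroup.index_map_subtype]
    exact (Fact.out : p.Prime).not_dvd_mul P.not_dvd_index h
  exact ⟨(P.2.map H.subtype).toSylow hi, Subgroup.map_subtype_le _⟩

/-- In a `p`-solvable group, a `q`-subgroup centralizing `O_p` of the quotient by `O_{p'}` lies in
`O_{p'}`. -/
theorem le_pPrimeCore_of_centralizes_pCore (hpq : p ≠ q) (hG : Cfsg.IsPSolvable p G)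
    {Q : Subgroup G} (hQ : IsPGroup q Q) [(Cfsg.pPrimeCore p G).Normal]
    (h : Q.map (QuotientGroup.mk' (Cfsg.pPrimeCore p G)) ≤
      Subgroup.centralizer (Cfsg.pCore p (G ⧸ Cfsg.pPrimeCore p G) : Set _)) :
    Q ≤ Cfsg.pPrimeCore p G := by
  set O := Cfsg.pPrimeCore p G
  have h1 : Q.map (QuotientGroup.mk' O) ≤ Cfsg.pCore p (G ⧸ O) :=
    h.trans (CfsgLib.Perm.centralizer_pCore_le_of_pSolvable
      (CfsgLib.Perm.isPSolvable_quotient hG O) pPrimeCore_quotient_self)
  have h2 : Q.map (QuotientGroup.mk' O) = ⊥ := by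
    have hd : Disjoint (Q.map (QuotientGroup.mk' O)) (Cfsg.pCore p (G ⧸ O)) :=
      IsPGroup.disjoint_of_ne q p hpq.symm _ _ (hQ.map _) (pCore_isPGroup _ p)
    exact hd.eq_bot_of_le h1
  rwa [Subgroup.map_eq_bot_iff, QuotientGroup.ker_mk'] at h2

theorem relIndex_sup_eq (H N : Subgroup G) [N.Normal] : H.relIndex (H ⊔ N) = H.relIndex N := by
  have h1 := relIndex_mul_card (le_sup_left : H ≤ H ⊔ N)
  have h2 := relIndex_mul_card (le_sup_right : N ≤ H ⊔ N)
  have h3 := relIndex_mul_card (inf_le_left : H ⊓ N ≤ H)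
  have h4 := relIndex_mul_card (inf_le_right : H ⊓ N ≤ N)
  rw [Subgroup.relIndex_sup_right] at h2
  rw [Subgroup.inf_relIndex_left] at h3
  rw [Subgroup.inf_relIndex_right] at h4
  refine Nat.eq_of_mul_eq_mul_right (Nat.card_pos (α := H)) ?_
  rw [mul_comm _ (Nat.card H), h1, ← h2, ← h4, ← h3]
  ring

theorem not_dvd_index_of_sylow_le (Q : Sylow q G) {H : Subgroup G} (h : (Q : Subgroup G) ≤ H) :
    ¬ q ∣ H.index :=
  fun hd => Q.not_dvd_index (hd.trans (Subgroup.index_dvd_of_le h))

theorem sylow_normalizes_iff (hpq : p ≠ q) (hG : Cfsg.IsPSolvable p G) :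
    (∃ (P : Sylow p G) (Q : Sylow q G),
      (P : Subgroup G) ≤ Subgroup.normalizer ((Q : Subgroup G) : Set G)) ↔
      ¬ q ∣ (Cfsg.pPrimeCore p G).index := by
  haveI := pPrimeCore_normal G p
  set O := Cfsg.pPrimeCore p G
  constructor
  · rintro ⟨P, Q, hPQ⟩
    refine not_dvd_index_of_sylow_le Q (le_pPrimeCore_of_centralizes_pCore hpq hG Q.2 ?_)
    set π := QuotientGroup.mk' O
    haveI := pCore_normal (G ⧸ O) p
    rintro _ ⟨y, hy, rfl⟩ x hx
    have hxP : x ∈ (P : Subgroup G).map π :=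
      (Sylow.coe_mapSurjective (QuotientGroup.mk'_surjective O) P) ▸
        pCore_le_sylow (P.mapSurjective (QuotientGroup.mk'_surjective O)) hx
    obtain ⟨z, hz, rfl⟩ := hxP
    have h1 : π z * π y * (π z)⁻¹ * (π y)⁻¹ ∈ (Q : Subgroup G).map π := by
      refine Subgroup.mul_mem _ ?_ (Subgroup.inv_mem _ ⟨y, hy, rfl⟩)
      exact ⟨z * y * z⁻¹, (Subgroup.mem_normalizer_iff.1 (hPQ hz) y).1 hy, by simp⟩
    have h2 : π z * π y * (π z)⁻¹ * (π y)⁻¹ ∈ Cfsg.pCore p (G ⧸ O) := by
      rw [mul_assoc, mul_assoc, ← mul_assoc (π y)]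
      exact Subgroup.mul_mem _ hx (‹(Cfsg.pCore p (G ⧸ O)).Normal›.conj_mem _
        (Subgroup.inv_mem _ hx) _)
    have hd : Disjoint ((Q : Subgroup G).map π) (Cfsg.pCore p (G ⧸ O)) :=
      IsPGroup.disjoint_of_ne q p hpq.symm _ _ (Q.2.map _) (pCore_isPGroup _ p)
    have h3 := Subgroup.disjoint_def.1 hd h1 h2
    rw [mul_inv_eq_one, mul_inv_eq_iff_eq_mul] at h3
    exact h3
  · intro hq
    obtain ⟨Q₀, hQ₀⟩ := exists_sylow_le_of_index (p := q) hq
    obtain ⟨P⟩ : Nonempty (Sylow p G) := inferInstance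
    obtain ⟨Q, hQ⟩ := exists_invariant_sylow (p := q) (A := (P : Subgroup G)) (K := O)
      (by rw [Subgroup.normalizer_eq_top]; exact le_top)
      (by
        obtain ⟨n, hn⟩ := IsPGroup.iff_card.1 P.2
        rw [hn]
        exact (pPrimeCore_coprime G p).symm.pow_left n)
      (Or.inl (haveI := P.2.isNilpotent; inferInstance))
    have hi : ¬ q ∣ ((Q : Subgroup O).map O.subtype).index := by
      rw [Subgroup.index_map_subtype]
      exact (Fact.out : q.Prime).not_dvd_mul Q.not_dvd_index hq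
    exact ⟨P, (Q.2.map O.subtype).toSylow hi, hQ⟩

theorem normalizes_of_pSolvable (hpq : p ≠ q) (hG : Cfsg.IsPSolvable p G)
    (h : ∀ y : G, (∃ k : ℕ, orderOf y = q ^ k) →
      ¬ p ∣ (Subgroup.centralizer ({y} : Set G)).index) :
    ∃ (P : Sylow p G) (Q : Sylow q G),
      (P : Subgroup G) ≤ Subgroup.normalizer ((Q : Subgroup G) : Set G) := by
  haveI := pPrimeCore_normal G p
  set O := Cfsg.pPrimeCore p G
  obtain ⟨Q⟩ : Nonempty (Sylow q G) := inferInstance
  refine (sylow_normalizes_iff hpq hG).2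
    (not_dvd_index_of_sylow_le Q (le_pPrimeCore_of_centralizes_pCore hpq hG Q.2 ?_))
  rintro _ ⟨y, hy, rfl⟩ x hx
  obtain ⟨k, hk⟩ := (IsPGroup.iff_orderOf.1 Q.2) ⟨y, hy⟩
  rw [Subgroup.orderOf_mk] at hk
  obtain ⟨P, hP⟩ := exists_sylow_le_of_index (h y ⟨k, hk⟩)
  obtain ⟨z, hz, rfl⟩ : x ∈ (P : Subgroup G).map (QuotientGroup.mk' O) :=
    (Sylow.coe_mapSurjective (QuotientGroup.mk'_surjective O) P) ▸
      pCore_le_sylow (P.mapSurjective (QuotientGroup.mk'_surjective O)) hx
  rw [← map_mul, ← map_mul, (Subgroup.mem_centralizer_singleton_iff.1 (hP hz))]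

theorem normalizes_of_qSolvable_aux (hpq : p ≠ q) : ∀ n : ℕ, ∀ (G : Type*) [Group G] [Finite G],
    Nat.card G ≤ n → Cfsg.IsPSolvable q G →
    (∀ y : G, (∃ k : ℕ, orderOf y = q ^ k) →
      ¬ p ∣ (Subgroup.centralizer ({y} : Set G)).index) →
    ∃ (P : Sylow p G) (Q : Sylow q G),
      (P : Subgroup G) ≤ Subgroup.normalizer ((Q : Subgroup G) : Set G) := by
  intro n
  induction n with
  | zero => intro G _ _ h; exact absurd h (not_le.2 Nat.card_pos)
  | succ n ih =>
    intro G _ _ hn hG h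
    rcases subsingleton_or_nontrivial G with hsub | hnt
    · obtain ⟨P⟩ : Nonempty (Sylow p G) := inferInstance
      obtain ⟨Q⟩ : Nonempty (Sylow q G) := inferInstance
      exact ⟨P, Q, fun x _ => (Subsingleton.elim x 1) ▸ Subgroup.one_mem _⟩
    obtain ⟨N, hNn, hNb, hN⟩ := (PiSolvable.of_isPSolvable hG).exists_normal
    haveI := hNn
    have hsurj := QuotientGroup.mk'_surjective N
    set π := QuotientGroup.mk' N
    have hlt : Nat.card (G ⧸ N) ≤ n := by
      have h1 : 2 ≤ Nat.card N := by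
        haveI : Nontrivial N := (Subgroup.nontrivial_iff_ne_bot N).2 hNb
        exact Finite.one_lt_card
      have h2 := Subgroup.card_eq_card_quotient_mul_card_subgroup N
      have h3 : 0 < Nat.card (G ⧸ N) := Nat.card_pos
      nlinarith
    have hbar : ∀ y : G ⧸ N, (∃ k : ℕ, orderOf y = q ^ k) →
        ¬ p ∣ (Subgroup.centralizer ({y} : Set (G ⧸ N))).index := by
      rintro y ⟨k, hk⟩ hdvd
      obtain ⟨g, rfl⟩ := hsurj y
      obtain ⟨x, z, hxz, hc, ⟨j, hj⟩, hz⟩ := CfsgLib.Blk.exists_isPPart (Fact.out : q.Prime) g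
      have hyx : π g = π x := by
        have h1 : π z = (π x)⁻¹ * π g := by rw [← hxz, map_mul, inv_mul_cancel_left]
        have hcm : Commute (π x)⁻¹ (π g) := by
          rw [← hxz, map_mul]
          exact (((Commute.refl (π x)).mul_right (hc.map π))).inv_left
        have h2 : (π z) ^ q ^ (j + k) = 1 := by
          rw [h1, hcm.mul_pow, inv_pow]
          rw [pow_add, pow_mul (π x), ← map_pow π x, ← hj, pow_orderOf_eq_one, map_one, one_pow,
            inv_one, one_mul, mul_comm, pow_mul, ← hk, pow_orderOf_eq_one, one_pow]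
        have h3 : orderOf (π z) = 1 :=
          Nat.Coprime.eq_one_of_dvd
            ((Nat.Coprime.pow_right (j + k) (((Fact.out : q.Prime).coprime_iff_not_dvd.2
              (fun hd => hz (hd.trans (orderOf_map_dvd π z)))).symm)))
            (orderOf_dvd_of_pow_eq_one h2)
        rw [← hxz, map_mul, orderOf_eq_one_iff.1 h3, mul_one]
      refine h x ⟨j, hj⟩ (hdvd.trans ?_)
      refine dvd_trans ?_ (Subgroup.index_map_dvd _ hsurj)
      refine Subgroup.index_dvd_of_le ?_
      rintro _ ⟨c, hc', rfl⟩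
      rw [Subgroup.mem_centralizer_singleton_iff, hyx, ← map_mul, ← map_mul,
        Subgroup.mem_centralizer_singleton_iff.1 hc']
    obtain ⟨Pb, Qb, hPQ⟩ := ih (G ⧸ N) hlt (CfsgLib.Perm.isPSolvable_quotient hG N) hbar
    obtain ⟨P, rfl⟩ := Sylow.mapSurjective_surjective hsurj p Pb
    obtain ⟨Q, rfl⟩ := Sylow.mapSurjective_surjective hsurj q Qb
    have hcm : ((Q : Subgroup G).map π).comap π = (Q : Subgroup G) ⊔ N := by
      rw [Subgroup.comap_map_eq, QuotientGroup.ker_mk']
    have hP : (P : Subgroup G) ≤ Subgroup.normalizer (((Q : Subgroup G) ⊔ N : Subgroup G) : Set G) := by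
      intro x hx
      have h1 : π x ∈ Subgroup.normalizer (((Q : Subgroup G).map π : Subgroup _) : Set (G ⧸ N)) :=
        hPQ (show π x ∈ (P : Subgroup G).map π from ⟨x, hx, rfl⟩)
      rw [Subgroup.mem_normalizer_iff] at h1 ⊢
      intro m
      rw [← hcm, Subgroup.mem_comap, Subgroup.mem_comap, map_mul, map_mul, map_inv]
      exact h1 (π m)
    rcases hN with hq' | ⟨hqg, -⟩
    swap
    · -- `N` is a `q`-group
      have hNp : IsPGroup q N := by
        refine IsPGroup.of_card (n := (Nat.card N).primeFactorsList.length)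
          (Nat.eq_prime_pow_of_unique_prime_dvd Nat.card_pos.ne' fun {r} hr hd => ?_)
        have := hqg r hr hd
        simpa using this
      have hle : N ≤ (Q : Subgroup G) := hNp.le_sylow_of_normal Q
      rw [sup_eq_left.2 hle] at hP
      exact ⟨P, Q, hP⟩
    -- `N` is a `q'`-group
    have hqN : ¬ q ∣ Nat.card N := fun hd => by simpa using hq' q Fact.out hd
    have hcop : (Nat.card (Q : Subgroup G)).Coprime (Nat.card N) := by
      obtain ⟨a, ha⟩ := IsPGroup.iff_card.1 Q.2
      rw [ha]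
      exact ((Fact.out : q.Prime).coprime_iff_not_dvd.2 hqN).pow_left a
    have hAN : ∀ A : Subgroup G, A ≤ Subgroup.normalizer (N : Set G) := fun A => by
      rw [Subgroup.normalizer_eq_top]; exact le_top
    obtain ⟨R, hR⟩ := exists_invariant_sylow (p := p) (hAN (Q : Subgroup G)) hcop
      (Or.inl (haveI := Q.2.isNilpotent; inferInstance))
    have hRC : (R : Subgroup N).map N.subtype ≤ Subgroup.centralizer ((Q : Subgroup G) : Set G) := by
      intro r hr y hy
      obtain ⟨k, hk⟩ := (IsPGroup.iff_orderOf.1 Q.2) ⟨y, hy⟩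
      rw [Subgroup.orderOf_mk] at hk
      obtain ⟨T, hT⟩ := exists_sylow_le_of_index (h y ⟨k, hk⟩)
      obtain ⟨R', hR'⟩ := CfsgLib.Inv.sylow_inf_normal T N
      have hR'C : (R' : Subgroup N).map N.subtype ≤ Subgroup.centralizer ({y} : Set G) :=
        hR'.le.trans (inf_le_left.trans hT)
      have hy' : Subgroup.zpowers y ≤ (Q : Subgroup G) := Subgroup.zpowers_le.2 hy
      have hinv : Subgroup.zpowers y ≤
          Subgroup.normalizer (((R' : Subgroup N).map N.subtype : Subgroup G) : Set G) := by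
        rw [Subgroup.zpowers_le, Subgroup.mem_normalizer_iff]
        intro m
        constructor
        · intro hm
          have := Subgroup.mem_centralizer_singleton_iff.1 (hR'C hm)
          rw [← this, mul_inv_cancel_right]; exact hm
        · intro hm
          have := Subgroup.mem_centralizer_singleton_iff.1 (hR'C hm)
          have e : m = y * m * y⁻¹ := by
            calc m = y⁻¹ * (y * m * y⁻¹ * y) := by group
              _ = y⁻¹ * (y * (y * m * y⁻¹)) := by rw [this]
              _ = y * m * y⁻¹ := by group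
          rw [e]; exact hm
      obtain ⟨c, hc, hcR⟩ := invariant_sylow_conj (hAN _)
        (hcop.of_dvd_left (Subgroup.card_dvd_of_le hy'))
        (Or.inl inferInstance) R' R hinv (hy'.trans hR)
      obtain ⟨r₀, hr₀, rfl⟩ := hr
      rw [← hcR, Sylow.coe_subgroup_smul] at hr₀
      obtain ⟨s, hs, rfl⟩ := hr₀
      have hsy := Subgroup.mem_centralizer_singleton_iff.1 (hR'C ⟨s, hs, rfl⟩)
      have hcy : y * (c : G) = (c : G) * y := hc y (Subgroup.mem_zpowers y)
      show y * ((c : G) * (s : G) * (c : G)⁻¹) = ((c : G) * (s : G) * (c : G)⁻¹) * y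
      have hcy' : (c : G)⁻¹ * y = y * (c : G)⁻¹ := by
        rw [inv_mul_eq_iff_eq_mul, ← mul_assoc, ← hcy, mul_inv_cancel_right]
      calc y * ((c : G) * (s : G) * (c : G)⁻¹) = (c : G) * (y * (s : G)) * (c : G)⁻¹ := by
            rw [← mul_assoc, ← mul_assoc, hcy]; group
        _ = (c : G) * ((s : G) * y) * (c : G)⁻¹ := by
            rw [show (s : G) * y = y * s from hsy]
        _ = _ := by rw [mul_assoc _ _ y, hcy']; group
    set NQ := Subgroup.normalizer ((Q : Subgroup G) : Set G)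
    have hfrat : (P : Subgroup G) ≤ NQ ⊔ N := by
      intro x hx
      set M := (Q : Subgroup G) ⊔ N
      have hxQ : (MulAut.conj x • (Q : Subgroup G)) ≤ M := by
        rw [CfsgLib.Solv.conj_smul_eq_map]
        rintro _ ⟨m, hm, rfl⟩
        exact (Subgroup.mem_normalizer_iff.1 (hP hx) m).1 (Subgroup.mem_sup_left hm)
      have hQM : (Q : Subgroup G) ≤ M := le_sup_left
      obtain ⟨m, hm⟩ := MulAction.exists_smul_eq M
        (Q.subtype hQM) ((x • Q).subtype (by rw [Sylow.coe_subgroup_smul]; exact hxQ))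
      rw [Sylow.smul_subtype hQM] at hm
      have hm' : (m : G) • Q = x • Q := Sylow.subtype_injective hm
      have hmem : (m : G)⁻¹ * x ∈ NQ := by
        show (m : G)⁻¹ * x ∈ Subgroup.normalizer ((Q : Subgroup G) : Set G)
        refine Sylow.smul_eq_iff_mem_normalizer.1 ?_
        rw [mul_smul, ← hm']
        show (m : G)⁻¹ • ((m : G) • Q) = Q
        rw [inv_smul_smul]
      have hmN : (m : G) ∈ NQ ⊔ N :=
        sup_le_sup_right Subgroup.le_normalizer N m.2
      have := (NQ ⊔ N).mul_mem hmN (Subgroup.mem_sup_left hmem)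
      rwa [mul_inv_cancel_left] at this
    have hindex : ¬ p ∣ NQ.index := by
      rw [← Subgroup.relIndex_mul_index (le_sup_left : NQ ≤ NQ ⊔ N)]
      refine (Fact.out : p.Prime).not_dvd_mul ?_ (not_dvd_index_of_sylow_le P hfrat)
      rw [relIndex_sup_eq NQ N]
      have hRN : (R : Subgroup N).map N.subtype ≤ NQ := hRC.trans (Subgroup.centralizer_le_normalizer _)
      intro hd
      have hle : (R : Subgroup N) ≤ NQ.subgroupOf N := fun r hr => hRN ⟨r, hr, rfl⟩
      exact R.not_dvd_index (hd.trans (Subgroup.index_dvd_of_le hle))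
    obtain ⟨P', hP'⟩ := exists_sylow_le_of_index hindex
    exact ⟨P', Q, hP'⟩

end CfsgLib.Solv
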