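import Cfsg.Agent.Solv.FpfSymTools
import Cfsg.Agent.Solv.FittingBasic
import Cfsg.Agent.Solv.FpfNilpotent

/-!
A solvable group on which the symmetric group of degree three acts fixed-point-freely, and which
acts faithfully and irreducibly together with it on a module, is abelian.
-/

set_option autoImplicit false
set_option linter.unusedSectionVars false
set_option linter.style.haveILetI false
set_option linter.deprecated false

universe u w

namespace CfsgLib.Solv.FpfSym

open scoped commutatorElement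

/-- A fixed-point-free action of the symmetric group of degree three. -/
structure S3Fpf {X : Type*} [Group X] (σ τ : X ≃* X) : Prop where
  cube : ∀ x, σ (σ (σ x)) = x
  sq : ∀ x, τ (τ x) = x
  rel : ∀ x, τ (σ x) = σ (σ (τ x))
  fpf : ∀ x, σ x = x → τ x = x → x = 1

/-- The same on an additive group. -/
structure S3AddFpf {V : Type*} [AddCommGroup V] (s t : V ≃+ V) : Prop where
  cube : ∀ v, s (s (s v)) = v
  sq : ∀ v, t (t v) = v
  rel : ∀ v, t (s v) = s (s (t v))
  fpf : ∀ v, s v = v → t v = v → v = 0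

/-- The data of a faithful irreducible compatible action. -/
structure S3Action {X : Type u} [Group X] {V : Type w} [AddCommGroup V] (σ τ : X ≃* X)
    (s t : V ≃+ V) (ρ : X →* AddMonoid.End V) : Prop where
  hσ : S3Fpf σ τ
  hs : S3AddFpf s t
  inj : Function.Injective ρ
  scomp : ∀ x v, s (ρ x v) = ρ (σ x) (s v)
  tcomp : ∀ x v, t (ρ x v) = ρ (τ x) (t v)
  irr : ∀ U : AddSubgroup V, (∀ x, ∀ u ∈ U, ρ x u ∈ U) → (∀ u ∈ U, s u ∈ U) →
    (∀ u ∈ U, t u ∈ U) → U = ⊥ ∨ U = ⊤

theorem S3Fpf.rel' {X : Type*} [Group X] {σ τ : X ≃* X} (h : S3Fpf σ τ) (x : X) :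
    σ (τ x) = τ (σ (σ x)) := by rw [h.rel, h.rel, h.cube]

theorem S3AddFpf.rel' {V : Type*} [AddCommGroup V] {s t : V ≃+ V} (h : S3AddFpf s t) (v : V) :
    s (t v) = t (s (s v)) := by rw [h.rel, h.rel, h.cube]

theorem mem_char {X : Type*} [Group X] (H : Subgroup X) [hH : H.Characteristic] (σ : X ≃* X)
    {x : X} (hx : x ∈ H) : σ x ∈ H :=
  (Subgroup.characteristic_iff_map_eq.1 hH σ).le ⟨x, hx, rfl⟩

theorem act_mul {X V : Type*} [Group X] [AddCommGroup V] (ρ : X →* AddMonoid.End V) (x y : X)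
    (v : V) : ρ (x * y) v = ρ x (ρ y v) := by rw [map_mul]; rfl

theorem act_one {X V : Type*} [Group X] [AddCommGroup V] (ρ : X →* AddMonoid.End V) (v : V) :
    ρ 1 v = v := by rw [map_one]; rfl

theorem act_inv {X V : Type*} [Group X] [AddCommGroup V] (ρ : X →* AddMonoid.End V) (x : X) (v : V) :
    ρ x⁻¹ (ρ x v) = v := by rw [← act_mul, inv_mul_cancel, act_one]

theorem act_inv' {X V : Type*} [Group X] [AddCommGroup V] (ρ : X →* AddMonoid.End V) (x : X) (v : V) :
    ρ x (ρ x⁻¹ v) = v := by rw [← act_mul, mul_inv_cancel, act_one]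

namespace S3Action

variable {X : Type u} [Group X] [Finite X] {V : Type w} [AddCommGroup V] [Finite V]
  {σ τ : X ≃* X} {s t : V ≃+ V} {ρ : X →* AddMonoid.End V}

theorem ext1 (h : S3Action σ τ s t ρ) {x : X} (hx : ∀ v, ρ x v = v) : x = 1 :=
  h.inj ((AddMonoidHom.ext hx : ρ x = 1).trans (map_one ρ).symm)

theorem fix_normal (h : S3Action σ τ s t ρ) (N : Subgroup X) [hN : N.Normal] (hσN : ∀ n ∈ N, σ n ∈ N)
    (hτN : ∀ n ∈ N, τ n ∈ N) (hN0 : N ≠ ⊥) {v : V} (hv : ∀ m ∈ N, ρ m v = v) : v = 0 := by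
  let U : AddSubgroup V :=
    { carrier := {v | ∀ m ∈ N, ρ m v = v}
      zero_mem' := fun m _ => map_zero _
      add_mem' := fun {a b} (ha : ∀ m ∈ N, ρ m a = a) (hb : ∀ m ∈ N, ρ m b = b) m hm => by
        rw [map_add, ha m hm, hb m hm]
      neg_mem' := fun {a} (ha : ∀ m ∈ N, ρ m a = a) m hm => by rw [map_neg, ha m hm] }
  have h1 : ∀ x, ∀ u ∈ U, ρ x u ∈ U := by
    intro x u hu m hm
    have h2 := hu (x⁻¹ * m * x) (by simpa using hN.conj_mem m hm x⁻¹)
    rw [act_mul, act_mul] at h2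
    have h3 := congrArg (ρ x) h2
    rwa [act_inv'] at h3
  have h2 : ∀ u ∈ U, s u ∈ U := by
    intro u hu m hm
    have e := h.scomp (σ (σ m)) u
    rw [hu _ (hσN _ (hσN _ hm)), h.hσ.cube] at e
    exact e.symm
  have h3 : ∀ u ∈ U, t u ∈ U := by
    intro u hu m hm
    have e := h.tcomp (τ m) u
    rw [hu _ (hτN _ hm), h.hσ.sq] at e
    exact e.symm
  rcases h.irr U h1 h2 h3 with e | e
  · exact (AddSubgroup.mem_bot).1 (e ▸ (hv : v ∈ U))
  · exact absurd ((Subgroup.eq_bot_iff_forall _).2 fun m hm =>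
      h.ext1 fun u => (e ▸ AddSubgroup.mem_top u : u ∈ U) m hm) hN0

theorem coprime_of_nilpotent (h : S3Action σ τ s t ρ) (N : Subgroup X) [N.Normal]
    [Group.IsNilpotent N] (hσN : ∀ n ∈ N, σ n ∈ N) (hτN : ∀ n ∈ N, τ n ∈ N) :
    (Nat.card N).Coprime (Nat.card V) := by
  refine Nat.coprime_of_dvd fun p hp hpN hpV => ?_
  haveI := Fact.mk hp
  let P : Sylow p N := default
  haveI hPn : (P : Subgroup N).Normal := sylow_normal_of_isNilpotent P
  haveI : Subsingleton (Sylow p N) := (Sylow.unique_of_normal P hPn).instSubsingleton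
  haveI : (P : Subgroup N).Characteristic := Sylow.characteristic_of_subsingleton P
  let M : Subgroup X := (P : Subgroup N).map N.subtype
  haveI hMn : M.Normal := ConjAct.normal_of_characteristic_of_normal
  have hMp : IsPGroup p M := P.isPGroup'.map N.subtype
  have key : ∀ (g : X ≃* X), (∀ n ∈ N, g n ∈ N) → ∀ m ∈ M, g m ∈ M := by
    rintro g hg _ ⟨⟨m, hmN⟩, hmP, rfl⟩
    have hz : IsPGroup p (Subgroup.zpowers (⟨g m, hg m hmN⟩ : N)) := by
      intro y
      obtain ⟨k, hk⟩ := P.isPGroup' ⟨⟨m, hmN⟩, hmP⟩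
      have hk' : m ^ p ^ k = 1 := congrArg (fun z : (P : Subgroup N) => ((z : N) : X)) hk
      obtain ⟨y, j, rfl⟩ := y
      refine ⟨k, Subtype.ext (Subtype.ext ?_)⟩
      show (g m ^ j) ^ p ^ k = 1
      rw [← zpow_natCast, ← zpow_mul, mul_comm, zpow_mul, zpow_natCast, ← map_pow, hk', map_one,
        one_zpow]
    obtain ⟨Q, hQ⟩ := hz.exists_le_sylow
    rw [Subsingleton.elim Q P] at hQ
    exact ⟨⟨g m, hg m hmN⟩, hQ (Subgroup.mem_zpowers _), rfl⟩
  have hM0 : M ≠ ⊥ := by
    intro e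
    have h1 : (P : Subgroup N) = ⊥ := (Subgroup.map_eq_bot_iff_of_injective _ N.subtype_injective).1 e
    exact Sylow.ne_bot_of_dvd_card P hpN h1
  let act : MulAction M V :=
    { smul := fun m v => ρ (m : X) v
      one_smul := fun v => act_one ρ v
      mul_smul := fun a b v => act_mul ρ a b v }
  obtain ⟨v, hv, hv0⟩ := hMp.exists_fixed_point_of_prime_dvd_card_of_fixed_point V hpV
    (a := (0 : V)) (fun m => map_zero (ρ (m : X)))
  exact hv0 (h.fix_normal M (key σ hσN) (key τ hτN) hM0 fun m hm => hv ⟨m, hm⟩).symm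

end S3Action

theorem exists_minimal {X : Type*} [Group X] [Finite X] [Nontrivial X] (σ τ : X ≃* X) :
    ∃ N : Subgroup X, N.Normal ∧ (∀ n ∈ N, σ n ∈ N) ∧ (∀ n ∈ N, τ n ∈ N) ∧ N ≠ ⊥ ∧
      ∀ M : Subgroup X, M.Normal → (∀ n ∈ M, σ n ∈ M) → (∀ n ∈ M, τ n ∈ M) → M ≤ N →
        M = ⊥ ∨ M = N := by
  obtain ⟨N, ⟨h1, h2, h4, h3⟩, hmin⟩ := (Set.toFinite {N : Subgroup X | N.Normal ∧
    (∀ n ∈ N, σ n ∈ N) ∧ (∀ n ∈ N, τ n ∈ N) ∧ N ≠ ⊥}).exists_minimal
    ⟨⊤, inferInstance, fun _ _ => trivial, fun _ _ => trivial, top_ne_bot⟩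
  refine ⟨N, h1, h2, h4, h3, fun M hM hMs hMt hle => ?_⟩
  by_cases hM0 : M = ⊥
  · exact Or.inl hM0
  · exact Or.inr (le_antisymm hle (hmin ⟨hM, hMs, hMt, hM0⟩ hle))

theorem minimal_commute {X : Type*} [Group X] [Finite X] [Group.IsSolvable X] (σ τ : X ≃* X)
    (N : Subgroup X) [N.Normal] (hσN : ∀ n ∈ N, σ n ∈ N) (hτN : ∀ n ∈ N, τ n ∈ N) (hN0 : N ≠ ⊥)
    (hmin : ∀ M : Subgroup X, M.Normal → (∀ n ∈ M, σ n ∈ M) → (∀ n ∈ M, τ n ∈ M) → M ≤ N →
      M = ⊥ ∨ M = N) :
    ∀ a ∈ N, ∀ b ∈ N, a * b = b * a := by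
  have hinv : ∀ (g : X ≃* X), (∀ n ∈ N, g n ∈ N) → ∀ n ∈ ⁅N, N⁆, g n ∈ ⁅N, N⁆ := by
    intro g hg n hn
    have h1 : N.map g.toMonoidHom ≤ N := by rintro _ ⟨y, hy, rfl⟩; exact hg y hy
    have : g n ∈ (⁅N, N⁆).map g.toMonoidHom := ⟨n, hn, rfl⟩
    rw [Subgroup.map_commutator] at this
    exact Subgroup.commutator_mono h1 h1 this
  rcases hmin ⁅N, N⁆ inferInstance (hinv σ hσN) (hinv τ hτN) (Subgroup.commutator_le_self N) with h | h
  · intro a ha b hb
    have := Subgroup.commutator_eq_bot_iff_le_centralizer.1 h ha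
    exact (Subgroup.mem_centralizer_iff.1 this b hb).symm
  · exfalso
    obtain ⟨n, hn⟩ := (inferInstance : Group.IsSolvable X)
    have hle : ∀ k, N ≤ derivedSeries X k := by
      intro k
      induction k with
      | zero => simp
      | succ k ih => rw [derivedSeries_succ, ← h]; exact Subgroup.commutator_mono ih ih
    exact hN0 (le_bot_iff.1 (hn ▸ hle n))

/-- A group of odd order prime to three in which `(ba)² = a²b²` is abelian. -/
theorem commute_of_sq_anti {Q : Type*} [Group Q] [Finite Q] (h6 : (Nat.card Q).Coprime 6)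
    (h : ∀ a b : Q, (b * a) * (b * a) = a * a * (b * b)) : ∀ a b : Q, a * b = b * a := by
  have h32 : ∀ a b : Q, b * b * b * (a * a) = a * a * (b * b * b) := by
    intro a b
    have e1 : b * b * b * (a * a * a) = b * a * (b * a) * (b * a) := by
      calc b * b * b * (a * a * a) = b * (b * b * (a * a)) * a := by group
        _ = b * (a * b * (a * b)) * a := by rw [h b a]
        _ = b * a * (b * a) * (b * a) := by group
    have e2 : b * a * (b * a) * (b * a) = a * a * (b * b * b) * a := by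
      calc b * a * (b * a) * (b * a) = a * a * (b * b) * (b * a) := by rw [h a b]
        _ = a * a * (b * b * b) * a := by group
    calc b * b * b * (a * a) = b * b * b * (a * a * a) * a⁻¹ := by group
      _ = a * a * (b * b * b) * a * a⁻¹ := by rw [e1, e2]
      _ = a * a * (b * b * b) := by group
  obtain ⟨i, hi⟩ : ∃ i, ∀ x : Q, (x ^ 2) ^ i = x := by
    refine ⟨(Nat.card Q + 1) / 2, fun x => ?_⟩
    have hodd : Nat.card Q % 2 = 1 :=
      (Nat.odd_iff).1 (Nat.Coprime.odd_of_right (h6.coprime_dvd_right (by norm_num)))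
    rw [← pow_mul, show 2 * ((Nat.card Q + 1) / 2) = Nat.card Q + 1 by omega, pow_succ,
      pow_card_eq_one', one_mul]
  obtain ⟨j, hj⟩ : ∃ j, ∀ x : Q, (x ^ 3) ^ j = x := by
    have hd : ¬ 3 ∣ Nat.card Q := (Nat.Prime.coprime_iff_not_dvd Nat.prime_three).1
      (h6.coprime_dvd_right (by norm_num)).symm
    rcases (by omega : Nat.card Q % 3 = 1 ∨ Nat.card Q % 3 = 2) with hm | hm
    · refine ⟨(2 * Nat.card Q + 1) / 3, fun x => ?_⟩
      rw [← pow_mul, show 3 * ((2 * Nat.card Q + 1) / 3) = Nat.card Q + Nat.card Q + 1 by omega,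
        pow_succ, pow_add, pow_card_eq_one', one_mul, one_mul]
    · refine ⟨(Nat.card Q + 1) / 3, fun x => ?_⟩
      rw [← pow_mul, show 3 * ((Nat.card Q + 1) / 3) = Nat.card Q + 1 by omega, pow_succ,
        pow_card_eq_one', one_mul]
  intro a b
  have hc : Commute (b ^ 3) (a ^ 2) := by
    show b ^ 3 * a ^ 2 = a ^ 2 * b ^ 3
    simp only [pow_succ, pow_zero, one_mul]
    exact h32 a b
  have := hc.pow_pow j i
  rw [hj, hi] at this
  exact this.eq.symm

section Stage

variable {X : Type u} [Group X] [Finite X] {V : Type w} [AddCommGroup V] [Finite V]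
  {σ τ : X ≃* X} {s t : V ≃+ V} {ρ : X →* AddMonoid.End V}

theorem fixed_inverted (hσ : S3Fpf σ τ) {c : X} (hc : σ c = c) : τ c = c⁻¹ := by
  let C : Subgroup X :=
    { carrier := {y | σ y = y}
      one_mem' := by simp
      mul_mem' := fun {a b} (ha : σ a = a) (hb : σ b = b) => by
        show σ (a * b) = a * b
        rw [map_mul, ha, hb]
      inv_mem' := fun {a} (ha : σ a = a) => by
        show σ a⁻¹ = a⁻¹
        rw [map_inv, ha] }
  let f : C →* C :=
    { toFun := fun c => ⟨τ c, show σ (τ c) = τ c by rw [hσ.rel', c.2, c.2]⟩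
      map_one' := by ext; simp
      map_mul' := fun a b => by ext; simp }
  have hf : MonoidHom.FixedPointFree f := fun c hc =>
    Subtype.ext (hσ.fpf _ c.2 (congrArg Subtype.val hc))
  have := congrFun (MonoidHom.FixedPointFree.coe_eq_inv_of_involutive hf
    (fun c => Subtype.ext (hσ.sq _))) ⟨c, hc⟩
  exact congrArg Subtype.val this

theorem fixed_commute (hσ : S3Fpf σ τ) {c d : X} (hc : σ c = c) (hd : σ d = d) :
    c * d = d * c := by
  have h1 := fixed_inverted hσ (c := c * d) (by rw [map_mul, hc, hd])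
  rw [map_mul, fixed_inverted hσ hc, fixed_inverted hσ hd, mul_inv_rev] at h1
  calc c * d = (d⁻¹ * c⁻¹)⁻¹ := by group
    _ = (c⁻¹ * d⁻¹)⁻¹ := by rw [← h1]
    _ = d * c := by group

theorem vec_inverted (hs : S3AddFpf s t) (h6 : (Nat.card V).Coprime 6) {w : V} (hw : s w = w) :
    t w = -w := by
  have h1 : s (w + t w) = w + t w := by rw [map_add, hw, hs.rel', hw, hw]
  have h2 : t (w + t w) = w + t w := by rw [map_add, hs.sq, add_comm]
  exact eq_neg_of_add_eq_zero_right (hs.fpf _ h1 h2)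

theorem fixed_acts_trivially (h : S3Action σ τ s t ρ) (h6X : (Nat.card X).Coprime 6)
    (h6V : (Nat.card V).Coprime 6) {c : X} (hc : σ c = c) {w : V} (hw : s w = w) : ρ c w = w := by
  have hcw : s (ρ c w) = ρ c w := by rw [h.scomp, hc, hw]
  have h1 := h.tcomp c w
  rw [vec_inverted h.hs h6V hcw, vec_inverted h.hs h6V hw, fixed_inverted h.hσ hc, map_neg,
    neg_inj] at h1
  have h2 : ρ (c * c) w = w := by rw [act_mul, h1, act_inv']
  let St : Subgroup X :=
    { carrier := {x | ρ x w = w}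
      one_mem' := act_one ρ w
      mul_mem' := fun {a b} (ha : ρ a w = w) (hb : ρ b w = w) => by
        show ρ (a * b) w = w
        rw [act_mul, hb, ha]
      inv_mem' := fun {a} (ha : ρ a w = w) => by
        show ρ a⁻¹ w = w
        nth_rewrite 1 [← ha]
        exact act_inv ρ a w }
  have hodd : Nat.card X % 2 = 1 :=
    (Nat.odd_iff).1 (Nat.Coprime.odd_of_right (h6X.coprime_dvd_right (by norm_num)))
  have h3 : c = (c * c) ^ ((Nat.card X + 1) / 2) := by
    rw [← pow_two, ← pow_mul, show 2 * ((Nat.card X + 1) / 2) = Nat.card X + 1 by omega, pow_succ,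
      pow_card_eq_one', one_mul]
  have h4 : c ∈ St := h3 ▸ pow_mem (show c * c ∈ St from h2) _
  exact h4

theorem add_orbit_fixed (hs : S3AddFpf s t) (v : V) : s (v + s v + s (s v)) = v + s v + s (s v) := by
  rw [map_add, map_add, hs.cube]; abel

theorem sigma_eq_id [Group.IsSolvable X] (h : S3Action σ τ s t ρ) (h6X : (Nat.card X).Coprime 6)
    (h0 : ∀ v, s v = v → v = 0) : ∀ x, σ x = x := by
  have hquad : ∀ v, v + s v + s (s v) = 0 := fun v => h0 _ (add_orbit_fixed h.hs v)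
  let F := Cfsg.fittingSubgroup X
  haveI hFc : F.Characteristic := fittingSubgroup_characteristic
  haveI : Group.IsNilpotent F := fittingSubgroup_isNilpotent
  haveI : F.Normal := inferInstance
  have hco := h.coprime_of_nilpotent F (fun _ hn => mem_char F σ hn) (fun _ hn => mem_char F τ hn)
  have hfix : ∀ f ∈ F, σ f = f := by
    intro f hf
    have h1 := quad_fixes (ρ.comp F.subtype) (fun a => ⟨σ a, mem_char F σ a.2⟩) s
      (fun a v => h.scomp a v) hquad hco
      (h6X.coprime_dvd_left (Subgroup.card_subgroup_dvd_card F)) ⟨f, hf⟩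
    exact h.inj h1
  intro x
  obtain ⟨y, hy⟩ : ∃ y, y = x⁻¹ * σ x := ⟨_, rfl⟩
  have hyC : y ∈ Subgroup.centralizer (F : Set X) := by
    rw [Subgroup.mem_centralizer_iff]
    intro f hf
    have hFn : F.Normal := inferInstance
    have e := hfix _ (hFn.conj_mem f hf x)
    rw [map_mul, map_mul, map_inv, hfix f hf] at e
    rw [hy]
    calc f * (x⁻¹ * σ x) = x⁻¹ * (x * f * x⁻¹) * σ x := by group
      _ = x⁻¹ * (σ x * f * (σ x)⁻¹) * σ x := by rw [← e]
      _ = x⁻¹ * σ x * f := by group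
  have hyfix : σ y = y := hfix y (centralizer_fittingSubgroup_le hyC)
  have hx1 : σ x = x * y := by rw [hy]; group
  have h3 : x * (y * y * y) = x := by
    conv_rhs => rw [← h.hσ.cube x]
    rw [hx1, map_mul, hx1, hyfix, map_mul, map_mul, hx1, hyfix]
    group
  have hy3 : y ^ 3 = 1 := by
    rw [pow_succ, pow_two]
    exact mul_eq_left.1 h3
  have hy1 : y = 1 := eq_one_of_pow_coprime hy3 pow_card_eq_one'
    (h6X.coprime_dvd_right (by norm_num : 3 ∣ 6)).symm
  rw [hx1, hy1, mul_one]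

/-- When a nonzero vector is fixed by `σ`, no nontrivial element is. -/
theorem sigma_fpf [Group.IsSolvable X] [Nontrivial X] (h : S3Action σ τ s t ρ)
    (h6X : (Nat.card X).Coprime 6) (h6V : (Nat.card V).Coprime 6)
    (h0 : ∃ v, s v = v ∧ v ≠ 0) : ∀ c, σ c = c → c = 1 := by
  classical
  have h3dvd : (Nat.card X).Coprime 3 := h6X.coprime_dvd_right (by norm_num)
  obtain ⟨A, hAn, hAσ, hAτ, hA0, hAmin⟩ := exists_minimal σ τ
  haveI := hAn
  have hAc := minimal_commute σ τ A hAσ hAτ hA0 hAmin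
  letI : CommGroup A :=
    { (inferInstance : Group A) with mul_comm := fun a b => Subtype.ext (hAc a a.2 b b.2) }
  haveI : Group.IsNilpotent A := CommGroup.isNilpotent
  have hco : (Nat.card A).Coprime (Nat.card V) := h.coprime_of_nilpotent A hAσ hAτ
  have hA6 : (Nat.card A).Coprime 6 := h6X.coprime_dvd_left (Subgroup.card_subgroup_dvd_card A)
  have hcm : ∀ a ∈ A, ∀ b ∈ A, ∀ v, ρ a (ρ b v) = ρ b (ρ a v) := fun a ha b hb v => by
    rw [← act_mul, hAc a ha b hb, act_mul]
  -- the displacements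
  let δ : A →* X :=
    { toFun := fun a => (a : X) * (σ a)⁻¹
      map_one' := by simp
      map_mul' := fun a b => by
        have e : (σ (a : X))⁻¹ * (b : X) = b * (σ (a : X))⁻¹ := hAc _ (inv_mem (hAσ _ a.2)) _ b.2
        show (a : X) * b * (σ ((a : X) * b))⁻¹ = a * (σ a)⁻¹ * (b * (σ b)⁻¹)
        rw [map_mul, mul_inv_rev]
        calc (a : X) * b * ((σ (b : X))⁻¹ * (σ (a : X))⁻¹)
            = a * b * ((σ (a : X))⁻¹ * (σ (b : X))⁻¹) := by
              rw [hAc _ (inv_mem (hAσ _ b.2)) _ (inv_mem (hAσ _ a.2))]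
          _ = a * (b * (σ (a : X))⁻¹) * (σ (b : X))⁻¹ := by group
          _ = a * ((σ (a : X))⁻¹ * b) * (σ (b : X))⁻¹ := by rw [e]
          _ = _ := by group }
  let A0 := δ.range
  have hA0A : A0 ≤ A := by
    rintro _ ⟨a, rfl⟩; exact mul_mem a.2 (inv_mem (hAσ _ a.2))
  have hA0σ : ∀ b ∈ A0, σ b ∈ A0 := by
    rintro _ ⟨a, rfl⟩
    exact ⟨⟨σ a, hAσ _ a.2⟩, (by
      show σ (a : X) * (σ (σ (a : X)))⁻¹ = σ ((a : X) * (σ (a : X))⁻¹)
      rw [map_mul, map_inv])⟩
  have hA0τ : ∀ b ∈ A0, τ b ∈ A0 := by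
    rintro _ ⟨a, rfl⟩
    have h1 : (⟨τ a, hAτ _ a.2⟩ : A) * ⟨σ (τ a), hAσ _ (hAτ _ a.2)⟩ ∈ (⊤ : Subgroup A) := trivial
    refine ⟨⟨τ a, hAτ _ a.2⟩ * ⟨σ (τ a), hAσ _ (hAτ _ a.2)⟩, ?_⟩
    show τ (a : X) * σ (τ (a : X)) * (σ (τ (a : X) * σ (τ (a : X))))⁻¹ = τ ((a : X) * (σ (a : X))⁻¹)
    rw [map_mul σ, map_mul τ, map_inv, h.hσ.rel, mul_inv_rev]
    calc τ (a : X) * σ (τ (a : X)) * ((σ (σ (τ (a : X))))⁻¹ * (σ (τ (a : X)))⁻¹)
        = τ (a : X) * σ (τ (a : X)) * ((σ (τ (a : X)))⁻¹ * (σ (σ (τ (a : X))))⁻¹) := by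
          rw [hAc _ (inv_mem (hAσ _ (hAσ _ (hAτ _ a.2)))) _ (inv_mem (hAσ _ (hAτ _ a.2)))]
      _ = _ := by group
  have hA0C : ∀ b ∈ A0, σ b = b → b = 1 := by
    rintro _ ⟨⟨a, ha⟩, rfl⟩ hb
    obtain ⟨y, hy⟩ : ∃ y, y = a * (σ a)⁻¹ := ⟨_, rfl⟩
    show a * (σ a)⁻¹ = 1
    change σ (a * (σ a)⁻¹) = a * (σ a)⁻¹ at hb
    rw [← hy] at hb ⊢
    have h1 : σ a = y⁻¹ * a := by rw [hy]; group
    have hyi : σ y⁻¹ = y⁻¹ := by rw [map_inv, hb]
    have h2 : a = y⁻¹ * (y⁻¹ * (y⁻¹ * a)) := by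
      conv_lhs => rw [← h.hσ.cube a]
      rw [h1, map_mul, hyi, h1, map_mul, map_mul, hyi, h1]
    have h3 : y⁻¹ ^ 3 = 1 := by
      rw [pow_succ, pow_two]
      calc y⁻¹ * y⁻¹ * y⁻¹ = y⁻¹ * (y⁻¹ * (y⁻¹ * a)) * a⁻¹ := by group
        _ = 1 := by rw [← h2, mul_inv_cancel]
    exact inv_eq_one.1 (eq_one_of_pow_coprime h3 pow_card_eq_one' h3dvd.symm)
  have hdecomp : ∀ a ∈ A, ∃ c ∈ A, σ c = c ∧ ∃ b ∈ A0, a = c * b := by
    intro a ha
    obtain ⟨k, hk⟩ : ∃ k, ∀ x : A, (x ^ 3) ^ k = x := by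
      have hd : ¬ 3 ∣ Nat.card A := (Nat.Prime.coprime_iff_not_dvd Nat.prime_three).1
        (hA6.coprime_dvd_right (by norm_num)).symm
      rcases (by omega : Nat.card A % 3 = 1 ∨ Nat.card A % 3 = 2) with hm | hm
      · refine ⟨(2 * Nat.card A + 1) / 3, fun x => ?_⟩
        rw [← pow_mul, show 3 * ((2 * Nat.card A + 1) / 3) = Nat.card A + Nat.card A + 1 by omega,
          pow_succ, pow_add, pow_card_eq_one', one_mul, one_mul]
      · refine ⟨(Nat.card A + 1) / 3, fun x => ?_⟩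
        rw [← pow_mul, show 3 * ((Nat.card A + 1) / 3) = Nat.card A + 1 by omega, pow_succ,
          pow_card_eq_one', one_mul]
    let e : A →* A :=
      { toFun := fun a => ⟨σ a, hAσ _ a.2⟩
        map_one' := Subtype.ext (map_one σ)
        map_mul' := fun a b => Subtype.ext (map_mul σ _ _) }
    have he3 : ∀ a, e (e (e a)) = a := fun a => Subtype.ext (h.hσ.cube _)
    let a' : A := ⟨a, ha⟩
    let c' : A := a' * e a' * e (e a')
    let b' : A := a' * (a' * e a')
    have hc' : e c' = c' := by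
      show e (a' * e a' * e (e a')) = _
      rw [map_mul, map_mul, he3]
      show _ = a' * e a' * e (e a')
      rw [mul_comm, mul_assoc]
    have hsplit : a' ^ 3 = c' * (b' * (e b')⁻¹) := by
      show a' ^ 3 = a' * e a' * e (e a') * (a' * (a' * e a') * (e (a' * (a' * e a')))⁻¹)
      rw [map_mul, map_mul, pow_succ, pow_two, mul_inv_rev, mul_inv_rev]
      calc a' * a' * a' = a' * a' * a' * (e a' * (e a')⁻¹) * (e a' * (e a')⁻¹)
            * (e (e a') * (e (e a'))⁻¹) := by simp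
        _ = _ := by ac_rfl
    refine ⟨((c' ^ k : A) : X), (c' ^ k).2, ?_, δ (b' ^ k), ⟨_, rfl⟩, ?_⟩
    · show ((e (c' ^ k) : A) : X) = _
      rw [map_pow, hc']
    · have h1 : a' = c' ^ k * (b' ^ k * (e (b' ^ k))⁻¹) := by
        rw [map_pow, ← inv_pow, ← mul_pow, ← mul_pow, ← hsplit, hk]
      exact congrArg Subtype.val h1
  have hC0 : ∀ c, σ c = c → ∀ w, s w = w → ρ c w = w := fun c hc w hw =>
    fixed_acts_trivially h h6X h6V hc hw
  let Sg : Set V := {u | ∃ b ∈ A0, ∃ w, s w = w ∧ u = ρ b w}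
  let U := AddSubgroup.closure Sg
  have hU0 : ∀ w, s w = w → w ∈ U := fun w hw =>
    AddSubgroup.subset_closure ⟨1, one_mem _, w, hw, (act_one ρ w).symm⟩
  have hgA : ∀ a ∈ A, ∀ g ∈ Sg, ρ a g ∈ Sg := by
    rintro a ha _ ⟨b, hb, w, hw, rfl⟩
    obtain ⟨c, hcA, hc, b', hb', rfl⟩ := hdecomp a ha
    refine ⟨b' * b, mul_mem hb' hb, w, hw, ?_⟩
    rw [← act_mul, mul_assoc, hAc c hcA (b' * b) (mul_mem (hA0A hb') (hA0A hb)), act_mul,
      hC0 c hc w hw]
  have hUA : ∀ a ∈ A, ∀ u ∈ U, ρ a u ∈ U := fun a ha =>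
    closure_invariant (ρ a) fun g hg => AddSubgroup.subset_closure (hgA a ha g hg)
  have hUs : ∀ u ∈ U, s u ∈ U := closure_invariant s.toAddMonoidHom (by
    rintro _ ⟨b, hb, w, hw, rfl⟩
    exact AddSubgroup.subset_closure ⟨σ b, hA0σ b hb, w, hw, by
      show s (ρ b w) = _
      rw [h.scomp, hw]⟩)
  -- the displacements act trivially modulo `U`
  have hVU : ∀ b ∈ A0, ∀ v, ρ b v - v ∈ U := by
    let q : A →* AddMonoid.End (V ⧸ U) :=
      { toFun := fun a => QuotientAddGroup.map U U (ρ (a : X)) fun u hu => hUA _ a.2 u hu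
        map_one' := AddMonoidHom.ext fun x => by
          induction x using QuotientAddGroup.induction_on with
          | _ v => exact congrArg QuotientAddGroup.mk (act_one ρ v)
        map_mul' := fun a b => AddMonoidHom.ext fun x => by
          induction x using QuotientAddGroup.induction_on with
          | _ v => exact congrArg QuotientAddGroup.mk (act_mul ρ (a : X) b v) }
    let r : V ⧸ U ≃+ V ⧸ U :=
      { toFun := QuotientAddGroup.map U U s.toAddMonoidHom fun u hu => hUs u hu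
        invFun := fun x => QuotientAddGroup.map U U s.toAddMonoidHom (fun u hu => hUs u hu)
          (QuotientAddGroup.map U U s.toAddMonoidHom (fun u hu => hUs u hu) x)
        left_inv := fun x => by
          induction x using QuotientAddGroup.induction_on with
          | _ v => exact congrArg QuotientAddGroup.mk (h.hs.cube v)
        right_inv := fun x => by
          induction x using QuotientAddGroup.induction_on with
          | _ v => exact congrArg QuotientAddGroup.mk (h.hs.cube v)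
        map_add' := fun a b => map_add _ a b }
    have hq := quad_fixes q (fun a => ⟨σ a, hAσ _ a.2⟩) r
      (fun a x => by
        induction x using QuotientAddGroup.induction_on with
        | _ v => exact congrArg QuotientAddGroup.mk (h.scomp a v))
      (fun x => by
        induction x using QuotientAddGroup.induction_on with
        | _ v =>
          show (QuotientAddGroup.mk (v + s v + s (s v)) : V ⧸ U) = 0
          rw [QuotientAddGroup.eq_zero_iff]
          exact hU0 _ (add_orbit_fixed h.hs v))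
      (hco.coprime_dvd_right (AddSubgroup.card_quotient_dvd_card U)) hA6
    rintro _ ⟨a, rfl⟩ v
    have h1 := DFunLike.congr_fun (hq a) (QuotientAddGroup.mk (ρ (σ (a : X))⁻¹ v))
    have h2 : (QuotientAddGroup.mk (ρ (σ (a : X)) (ρ (σ (a : X))⁻¹ v)) : V ⧸ U)
        = QuotientAddGroup.mk (ρ (a : X) (ρ (σ (a : X))⁻¹ v)) := h1
    rw [act_inv', ← act_mul, QuotientAddGroup.eq] at h2
    show ρ ((a : X) * (σ (a : X))⁻¹) v - v ∈ U
    rwa [sub_eq_neg_add]
  -- the elements fixed by `σ` centralize `A`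
  have hCU : ∀ c, σ c = c → ∀ a ∈ A, ∀ u ∈ U, ρ (c * a * c⁻¹) u = ρ a u := by
    intro c hc a ha
    let qU : A →* AddMonoid.End U :=
      { toFun := fun a =>
          { toFun := fun u => ⟨ρ (a : X) u, hUA _ a.2 u u.2⟩
            map_zero' := Subtype.ext (map_zero _)
            map_add' := fun u v => Subtype.ext (map_add _ _ _) }
        map_one' := AddMonoidHom.ext fun u => Subtype.ext (act_one ρ (u : V))
        map_mul' := fun a b => AddMonoidHom.ext fun u => Subtype.ext (act_mul ρ (a : X) b (u : V)) }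
    let θ : A →* A :=
      { toFun := fun a => ⟨σ a, hAσ _ a.2⟩
        map_one' := Subtype.ext (map_one σ)
        map_mul' := fun a b => Subtype.ext (map_mul σ _ _) }
    let η : A →* A :=
      { toFun := fun a => ⟨c * a * c⁻¹, hAn.conj_mem a a.2 c⟩
        map_one' := Subtype.ext (by simp)
        map_mul' := fun a b => Subtype.ext (by
          show c * ((a : X) * b) * c⁻¹ = c * a * c⁻¹ * (c * b * c⁻¹)
          group) }
    have hη : ∀ n, ∀ a : A, ((η^[n] a : A) : X) = c ^ n * a * (c ^ n)⁻¹ := by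
      intro n
      induction n with
      | zero => intro a; simp
      | succ n ih =>
        intro a
        rw [Function.iterate_succ_apply', pow_succ']
        show c * ((η^[n] a : A) : X) * c⁻¹ = _
        rw [ih]; group
    have hfix := conj_fix qU (fun a b => by rw [← map_mul, mul_comm, map_mul]) θ η
      (fun a => Subtype.ext (h.hσ.cube _))
      (fun a => Subtype.ext (by
        show σ (c * a * c⁻¹) = c * σ a * c⁻¹
        rw [map_mul, map_mul, map_inv, hc]))
      (n := orderOf c) (fun a => Subtype.ext (by rw [hη, pow_orderOf_eq_one]; simp))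
      (fun h3 => by
        have : 3 ∣ Nat.card X := (Nat.dvd_of_mod_eq_zero h3).trans (orderOf_dvd_natCard c)
        exact (Nat.Prime.coprime_iff_not_dvd Nat.prime_three).1 h3dvd.symm this)
      ?_ (hco.coprime_dvd_right (AddSubgroup.card_addSubgroup_dvd_card U))
      (h6V.coprime_dvd_left (AddSubgroup.card_addSubgroup_dvd_card U))
    · intro u hu
      exact congrArg Subtype.val (DFunLike.congr_fun (hfix ⟨a, ha⟩) ⟨u, hu⟩)
    rintro ⟨a, ha⟩ ⟨u, hu⟩
    apply Subtype.ext
    show ρ (c * a * c⁻¹) u + ρ (σ (c * a * c⁻¹)) u + ρ (σ (σ (c * a * c⁻¹))) u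
      = ρ a u + ρ (σ a) u + ρ (σ (σ a)) u
    let T : X → AddMonoid.End V := fun a => ρ a + ρ (σ a) + ρ (σ (σ a))
    have hmA : ∀ a' : X, a' ∈ A → ∀ b ∈ A0, ∀ v, T a' (ρ b v) = ρ b (T a' v) := by
      intro a' ha' b hb v
      show ρ a' (ρ b v) + ρ (σ a') (ρ b v) + ρ (σ (σ a')) (ρ b v)
        = ρ b (ρ a' v + ρ (σ a') v + ρ (σ (σ a')) v)
      rw [map_add, map_add, hcm _ ha' _ (hA0A hb), hcm _ (hAσ _ ha') _ (hA0A hb),
        hcm _ (hAσ _ (hAσ _ ha')) _ (hA0A hb)]
    have hgen : ∀ g ∈ Sg, T (c * a * c⁻¹) g = T a g := by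
      rintro _ ⟨b, hb, w, hw, rfl⟩
      rw [hmA _ (hAn.conj_mem a ha c) b hb, hmA a ha b hb]
      congr 1
      have hcc : σ c⁻¹ = c⁻¹ := by rw [map_inv, hc]
      have hfixw : s (T a w) = T a w := by
        have e : T a w = ρ a w + s (ρ a w) + s (s (ρ a w)) := by
          rw [h.scomp, hw, h.scomp, hw]; rfl
        rw [e]
        exact add_orbit_fixed h.hs _
      show ρ (c * a * c⁻¹) w + ρ (σ (c * a * c⁻¹)) w + ρ (σ (σ (c * a * c⁻¹))) w = T a w
      simp only [map_mul σ, hc, hcc, act_mul, hC0 _ hcc w hw]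
      rw [← map_add, ← map_add]
      exact hC0 c hc _ hfixw
    have h0' := closure_fixed (S := Sg) (T (c * a * c⁻¹) - T a + 1 : AddMonoid.End V) (fun g hg => by
      show T (c * a * c⁻¹) g - T a g + g = g
      rw [hgen g hg, sub_self, zero_add]) u hu
    have h1 : T (c * a * c⁻¹) u - T a u + u = u := h0'
    rw [add_eq_right, sub_eq_zero] at h1
    exact h1
  have hCA : ∀ c, σ c = c → ∀ a ∈ A, c * a = a * c := by
    intro c hc
    have hb0 : ∀ b ∈ A0, c * b = b * c := by
      intro b hb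
      have hb' : c * b * c⁻¹ ∈ A0 := by
        obtain ⟨a, rfl⟩ := hb
        refine ⟨⟨c * a * c⁻¹, hAn.conj_mem a a.2 c⟩, ?_⟩
        show c * a * c⁻¹ * (σ (c * a * c⁻¹))⁻¹ = c * (a * (σ (a : X))⁻¹) * c⁻¹
        rw [map_mul, map_mul, map_inv, hc]; group
      obtain ⟨e, he⟩ : ∃ e, e = c * b * c⁻¹ * b⁻¹ := ⟨_, rfl⟩
      have heA0 : e ∈ A0 := he ▸ mul_mem hb' (inv_mem hb)
      have hnil : IsNilpotent (ρ e - 1) := by
        refine ⟨2, AddMonoidHom.ext fun v => ?_⟩
        rw [pow_two]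
        show ρ e (ρ e v - v) - (ρ e v - v) = 0
        rw [sub_eq_zero, he, act_mul ρ (c * b * c⁻¹) b⁻¹, ← he,
          hCU c hc b (hA0A hb) _ (hUA _ (inv_mem (hA0A hb)) _ (hVU e heA0 v)), act_inv']
      have hn : e ^ Nat.card A = 1 := by
        have : (⟨e, hA0A heA0⟩ : A) ^ Nat.card A = 1 := pow_card_eq_one'
        exact congrArg Subtype.val this
      have h1 : ρ e = 1 := eq_one_of_nilpotent_sub (by rw [← map_pow, hn, map_one])
        (isUnit_natCast_of_coprime hco (natCast_end_eq_zero fun v => card_nsmul_eq_zero')) hnil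
      have h2 : e = 1 := h.inj (h1.trans (map_one ρ).symm)
      rw [he, mul_inv_eq_one] at h2
      exact mul_inv_eq_iff_eq_mul.1 h2
    intro a ha
    obtain ⟨c', hc'A, hc', b, hb, rfl⟩ := hdecomp a ha
    rw [← mul_assoc, fixed_commute h.hσ hc hc', mul_assoc, hb0 b hb, mul_assoc]
  have hCfix : ∀ c, σ c = c → ∀ u ∈ U, ρ c u = u := fun c hc =>
    closure_fixed (ρ c) (by
      rintro _ ⟨b, hb, w, hw, rfl⟩
      show ρ c (ρ b w) = ρ b w
      rw [← act_mul, hCA c hc b (hA0A hb), act_mul, hC0 c hc w hw])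
  -- no element of `A` is fixed by `σ`
  have hAC : ∀ a ∈ A, σ a = a → a = 1 := by
    by_contra hcon
    push Not at hcon
    obtain ⟨a₁, ha₁, ha₁σ, ha₁1⟩ := hcon
    have hgen : ∀ y ∈ Set.range (ρ.comp A.subtype), ∀ z ∈ Set.range (ρ.comp A.subtype),
        y * z = z * y := by
      rintro _ ⟨a, rfl⟩ _ ⟨b, rfl⟩
      rw [← map_mul, mul_comm, map_mul]
    letI := Subring.closureCommRingOfComm hgen
    let f : A →* Subring.closure (Set.range (ρ.comp A.subtype)) :=
      { toFun := fun a => ⟨ρ (a : X), Subring.subset_closure ⟨a, rfl⟩⟩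
        map_one' := Subtype.ext (map_one ρ)
        map_mul' := fun a b => Subtype.ext (map_mul ρ _ _) }
    have hA : IsUnit ((Nat.card A : ℕ) : Subring.closure (Set.range (ρ.comp A.subtype))) :=
      isUnit_natCast_of_coprime hco (natCast_subring_eq_zero _)
    obtain ⟨P, hP, hPa⟩ : ∃ P : Ideal (Subring.closure (Set.range (ρ.comp A.subtype))), P.IsPrime ∧
        Ideal.Quotient.mk P (f ⟨a₁, ha₁⟩) ≠ 1 := by
      by_contra hall
      push Not at hall
      have := eq_one_of_primes f hA ⟨a₁, ha₁⟩ hall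
      exact ha₁1 (h.inj ((congrArg Subtype.val this).trans (map_one ρ).symm))
    haveI := hP
    let φ : A →* (Subring.closure (Set.range (ρ.comp A.subtype))) ⧸ P :=
      (Ideal.Quotient.mk P).toMonoidHom.comp f
    let cj : X → A →* A := fun k =>
      { toFun := fun a => ⟨k * a * k⁻¹, hAn.conj_mem a a.2 k⟩
        map_one' := Subtype.ext (by simp)
        map_mul' := fun a b => Subtype.ext (by
          show k * ((a : X) * b) * k⁻¹ = k * a * k⁻¹ * (k * b * k⁻¹)
          group) }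
    have hcj : ∀ k l, ∀ a, cj k (cj l a) = cj (k * l) a := fun k l a => Subtype.ext (by
      show k * (l * (a : X) * l⁻¹) * k⁻¹ = k * l * a * (k * l)⁻¹
      group)
    have hcj1 : ∀ a, cj 1 a = a := fun a => Subtype.ext (by show 1 * (a : X) * 1⁻¹ = a; simp)
    let θ : A →* A :=
      { toFun := fun a => ⟨σ a, hAσ _ a.2⟩
        map_one' := Subtype.ext (map_one σ)
        map_mul' := fun a b => Subtype.ext (map_mul σ _ _) }
    have hθcj : ∀ k a, θ (cj k a) = cj (σ k) (θ a) := fun k a => Subtype.ext (by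
      show σ (k * (a : X) * k⁻¹) = σ k * σ a * (σ k)⁻¹
      rw [map_mul, map_mul, map_inv])
    -- a nontrivial value on a fixed element kills the displacements
    have hkill : ∀ k, ∀ c : A, σ (c : X) = c → φ (cj k c) ≠ 1 → ∀ a, φ (cj k (θ a)) = φ (cj k a) := by
      intro k c hc hne a
      have hz : (f (cj k c) - 1) * (f (cj k (a * (θ a)⁻¹)) - 1) = 0 := by
        refine Subtype.ext (AddMonoidHom.ext fun v => ?_)
        show ρ (k * (c : X) * k⁻¹) (ρ (k * ((a : X) * (σ (a : X))⁻¹) * k⁻¹) v - v)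
          - (ρ (k * ((a : X) * (σ (a : X))⁻¹) * k⁻¹) v - v) = 0
        have e : ρ (k * ((a : X) * (σ (a : X))⁻¹) * k⁻¹) v - v
            = ρ k (ρ ((a : X) * (σ (a : X))⁻¹) (ρ k⁻¹ v) - ρ k⁻¹ v) := by
          rw [map_sub, act_inv', act_mul, act_mul]
        rw [e, sub_eq_zero, act_mul, act_mul, act_inv,
          hCfix _ hc _ (hVU ((a : X) * (σ (a : X))⁻¹) ⟨a, rfl⟩ _)]
      have hz' := congrArg (Ideal.Quotient.mk P) hz
      rw [map_mul, map_sub, map_sub, map_one, map_zero, mul_eq_zero] at hz'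
      rcases hz' with hz' | hz'
      · exact absurd (sub_eq_zero.1 hz') hne
      · have h1 : φ (cj k (a * (θ a)⁻¹)) = 1 := sub_eq_zero.1 hz'
        rw [map_mul (cj k), map_mul] at h1
        calc φ (cj k (θ a)) = φ (cj k a) * φ (cj k (θ a)⁻¹) * φ (cj k (θ a)) := by rw [h1, one_mul]
          _ = φ (cj k a) := by
            rw [mul_assoc, ← map_mul φ, ← map_mul (cj k), inv_mul_cancel, map_one, map_one, mul_one]
    have hφθ : ∀ a, φ (θ a) = φ a := by
      intro a
      have := hkill 1 ⟨a₁, ha₁⟩ ha₁σ (by rw [hcj1]; exact hPa) a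
      rwa [hcj1, hcj1] at this
    let St : Subgroup X :=
      { carrier := {k | ∀ a, φ (cj k a) = φ a}
        one_mem' := fun a => by rw [hcj1]
        mul_mem' := fun {k l} (hk : ∀ a, φ (cj k a) = φ a) (hl : ∀ a, φ (cj l a) = φ a) a => by
          rw [← hcj, hk, hl]
        inv_mem' := fun {k} (hk : ∀ a, φ (cj k a) = φ a) a => by
          rw [← hk (cj k⁻¹ a), hcj, mul_inv_cancel, hcj1] }
    have horb : ∀ k, (∃ c : A, σ (c : X) = c ∧ φ (cj k c) ≠ 1) → ∀ a, φ (cj k a) = φ a := by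
      rintro k ⟨c, hc, hne⟩
      have hk := hkill k c hc hne
      let Y : Set X := {l | ∀ a, φ (cj l a) = φ (cj k a)}
      have hY : ∀ l ∈ Y, σ l ∈ Y := by
        intro l hl a
        obtain ⟨b, rfl⟩ : ∃ b, θ b = a := ⟨θ (θ a), Subtype.ext (h.hσ.cube _)⟩
        rw [← hθcj, hφθ, hl, hk]
      have hYeq : Y = (fun l => l * k) '' (St : Set X) := by
        ext l
        constructor
        · intro hl
          refine ⟨l * k⁻¹, fun a => ?_, by group⟩
          rw [← hcj, hl, hcj, mul_inv_cancel, hcj1]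
        · rintro ⟨m, hm, rfl⟩ a
          rw [← hcj]
          exact hm _
      have hYcard : ¬ 3 ∣ Nat.card Y := by
        rw [hYeq, Nat.card_image_of_injective (mul_left_injective k)]
        exact fun hd => (Nat.Prime.coprime_iff_not_dvd Nat.prime_three).1 h3dvd.symm
          (hd.trans (Subgroup.card_subgroup_dvd_card St))
      obtain ⟨l, hl, hlσ⟩ := exists_fixed_of_prime Nat.prime_three σ Y hY
        (fun y _ => h.hσ.cube y) hYcard
      intro a
      rw [← hl a]
      congr 1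
      refine Subtype.ext ?_
      show l * (a : X) * l⁻¹ = a
      rw [hCA l hlσ a a.2, mul_inv_cancel_right]
    -- the product over the orbit
    have := Fintype.ofFinite X
    let O : Finset (A →* (Subring.closure (Set.range (ρ.comp A.subtype))) ⧸ P) :=
      Finset.univ.image fun k => φ.comp (cj k)
    let ψ : A →* (Subring.closure (Set.range (ρ.comp A.subtype))) ⧸ P := ∏ g ∈ O, g
    have hψ : ∀ l a, ψ (cj l a) = ψ a := by
      intro l a
      show (∏ g ∈ O, g) (cj l a) = (∏ g ∈ O, g) a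
      rw [MonoidHom.finsetProd_apply, MonoidHom.finsetProd_apply]
      refine Finset.prod_bij' (fun g _ => g.comp (cj l)) (fun g _ => g.comp (cj l⁻¹)) ?_ ?_ ?_ ?_ ?_
      · intro g hg
        obtain ⟨k, -, rfl⟩ := Finset.mem_image.1 hg
        exact Finset.mem_image.2 ⟨k * l, Finset.mem_univ _,
          MonoidHom.ext fun a => congrArg φ (hcj k l a).symm⟩
      · intro g hg
        obtain ⟨k, -, rfl⟩ := Finset.mem_image.1 hg
        exact Finset.mem_image.2 ⟨k * l⁻¹, Finset.mem_univ _,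
          MonoidHom.ext fun a => congrArg φ (hcj k l⁻¹ a).symm⟩
      · intro g _
        refine MonoidHom.ext fun a => ?_
        show g (cj l (cj l⁻¹ a)) = g a
        rw [hcj, mul_inv_cancel, hcj1]
      · intro g _
        refine MonoidHom.ext fun a => ?_
        show g (cj l⁻¹ (cj l a)) = g a
        rw [hcj, inv_mul_cancel, hcj1]
      · intro g _
        rfl
    have hψa : ψ ⟨a₁, ha₁⟩ ≠ 1 := by
      show (∏ g ∈ O, g) _ ≠ 1
      rw [MonoidHom.finsetProd_apply, Finset.prod_eq_single φ]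
      · exact hPa
      · intro g hg hne
        obtain ⟨k, -, rfl⟩ := Finset.mem_image.1 hg
        by_contra hne1
        exact hne (MonoidHom.ext (horb k ⟨⟨a₁, ha₁⟩, ha₁σ, hne1⟩))
      · intro hn
        exact absurd (Finset.mem_image.2 ⟨1, Finset.mem_univ _,
          MonoidHom.ext fun a => congrArg φ (hcj1 a)⟩) hn
    have hcomA : ⁅(⊤ : Subgroup X), A⁆ ≤ A := Subgroup.commutator_le_right _ _
    have hinvc : ∀ g : X ≃* X, (∀ n ∈ A, g n ∈ A) →
        ∀ n ∈ ⁅(⊤ : Subgroup X), A⁆, g n ∈ ⁅(⊤ : Subgroup X), A⁆ := by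
      intro g hg n hn
      have h1 : A.map g.toMonoidHom ≤ A := by rintro _ ⟨y, hy, rfl⟩; exact hg y hy
      have : g n ∈ (⁅(⊤ : Subgroup X), A⁆).map g.toMonoidHom := ⟨n, hn, rfl⟩
      rw [Subgroup.map_commutator] at this
      exact Subgroup.commutator_mono le_top h1 this
    rcases hAmin ⁅(⊤ : Subgroup X), A⁆ inferInstance (hinvc σ hAσ) (hinvc τ hAτ) hcomA with he | he
    · -- `A` is central
      have hcent : ∀ a ∈ A, ∀ x : X, x * a = a * x := fun a ha x =>
        (Subgroup.mem_centralizer_iff.1 (Subgroup.commutator_eq_bot_iff_le_centralizer.1 he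
          (Subgroup.mem_top x)) a ha).symm
      haveI : A0.Normal := ⟨fun b hb x => by
        rw [hcent b (hA0A hb) x, mul_inv_cancel_right]; exact hb⟩
      rcases hAmin A0 inferInstance hA0σ hA0τ hA0A with h1 | h1
      · obtain ⟨v, hv, hv0⟩ := h0
        refine hv0 (h.fix_normal A hAσ hAτ hA0 fun m hm => hC0 m ?_ v hv)
        obtain ⟨c, -, hc, b, hb, rfl⟩ := hdecomp m hm
        rw [h1, Subgroup.mem_bot] at hb
        rw [hb, mul_one, hc]
      · exact ha₁1 (hA0C a₁ (h1 ▸ ha₁) ha₁σ)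
    · apply hψa
      let ψk : Subgroup X := ψ.ker.map A.subtype
      have hle : ⁅(⊤ : Subgroup X), A⁆ ≤ ψk := by
        rw [Subgroup.commutator_le]
        intro x _ a ha
        refine ⟨cj x ⟨a, ha⟩ * ⟨a, ha⟩⁻¹, ?_, ?_⟩
        · rw [SetLike.mem_coe, MonoidHom.mem_ker, map_mul, hψ, ← map_mul, mul_inv_cancel, map_one]
        · rw [commutatorElement_def]; rfl
      obtain ⟨⟨y, hy⟩, hker, hye⟩ := hle (he.ge ha₁)
      obtain rfl : y = a₁ := hye
      exact hker
  -- conclusion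
  intro c hc
  refine h.ext1 fun v => hCfix c hc v ?_
  haveI := Fintype.ofFinite A
  have hA0eq : A ≤ A0 := by
    intro a ha
    obtain ⟨c', hc'A, hc', b, hb, rfl⟩ := hdecomp a ha
    rw [hAC c' hc'A hc', one_mul]; exact hb
  obtain ⟨k, hk⟩ : ∃ k : ℕ, ∀ v : V, k • (Nat.card A • v) = v := by
    obtain ⟨k, -, hk⟩ := Nat.exists_mul_mod_eq_of_coprime hco (r := 1) (Nat.card_pos (α := V)).ne'
    refine ⟨k, fun v => ?_⟩
    rw [← mul_nsmul, ← Nat.mod_add_div (Nat.card A * k) (Nat.card V), hk, add_nsmul, mul_nsmul,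
      card_nsmul_eq_zero', smul_zero, add_zero]
    rcases Nat.lt_or_ge 1 (Nat.card V) with hV | hV
    · rw [Nat.mod_eq_of_lt hV, one_smul]
    · haveI := Finite.card_le_one_iff_subsingleton.1 hV
      exact Subsingleton.elim _ _
  have hsum : ∑ a : A, ρ (a : X) v = 0 := by
    refine h.fix_normal A hAσ hAτ hA0 fun m hm => ?_
    rw [map_sum]
    exact Fintype.sum_equiv (Equiv.mulLeft (⟨m, hm⟩ : A)) _ _ fun a => (act_mul ρ m a v).symm
  have hmem : Nat.card A • v ∈ U := by
    have : ∑ a : A, (ρ (a : X) v - v) ∈ U :=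
      AddSubgroup.sum_mem _ fun a _ => hVU _ (hA0eq a.2) v
    rw [Finset.sum_sub_distrib, hsum, zero_sub, Finset.sum_const, Finset.card_univ,
      ← Nat.card_eq_fintype_card, neg_mem_iff] at this
    exact this
  exact hk v ▸ AddSubgroup.nsmul_mem _ hmem k

end Stage

end CfsgLib.Solv.FpfSym
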