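import Mathlib

/-!
Ring lemmas for the theorem on fixed-point-free actions of the symmetric group of degree three.
-/

set_option autoImplicit false
set_option linter.unusedSectionVars false

namespace CfsgLib.Solv.FpfSym

open scoped commutatorElement

theorem eq_one_of_nilpotent_sub {E : Type*} [Ring E] {u : E} {n : ℕ} (hu : u ^ n = 1)
    (hn : IsUnit (n : E)) (h : IsNilpotent (u - 1)) : u = 1 := by
  have hgeo : ∀ m : ℕ, IsNilpotent ((∑ i ∈ Finset.range m, u ^ i) - (m : E)) := by
    intro m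
    induction m with
    | zero => simp
    | succ m ih =>
      have hc1 : Commute (u ^ m - 1) (u - 1) :=
        (((Commute.refl u).pow_left m).sub_left (Commute.one_left u)).sub_right (Commute.one_right _)
      have hpow : IsNilpotent (u ^ m - 1) := by
        rw [← geom_sum_mul u m]
        refine Commute.isNilpotent_mul_left ?_ h
        exact Commute.sum_left _ _ _ fun i _ => (((Commute.refl u).pow_left i).sub_right (Commute.one_right _))
      rw [Finset.sum_range_succ, Nat.cast_succ, add_sub_add_comm]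
      refine Commute.isNilpotent_add ?_ ih hpow
      refine Commute.sub_left (Commute.sum_left _ _ _ fun i _ => ?_) (Nat.cast_commute _ _)
      exact ((Commute.pow_pow (Commute.refl u) i m)).sub_right (Commute.one_right _)
  have hunit : IsUnit (∑ i ∈ Finset.range n, u ^ i) := by
    have := IsNilpotent.isUnit_add_left_of_commute (hgeo n) hn ((Nat.cast_commute n _).symm)
    simpa using this
  have h0 : (∑ i ∈ Finset.range n, u ^ i) * (u - 1) = 0 := by rw [geom_sum_mul, hu, sub_self]
  exact sub_eq_zero.1 (hunit.mul_right_eq_zero.1 h0)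

theorem dedekind {A : Type*} [Monoid A] {R : Type*} [CommRing R] (h6 : IsUnit (6 : R))
    (f : A →* R) (θ η : A →* A)
    (h : ∀ a, f (η a) + f (θ (η a)) + f (θ (θ (η a))) = f a + f (θ a) + f (θ (θ a)))
    (P : Ideal R) [P.IsPrime] :
    (∀ a, Ideal.Quotient.mk P (f (η a)) = Ideal.Quotient.mk P (f a)) ∨
    (∀ a, Ideal.Quotient.mk P (f (η a)) = Ideal.Quotient.mk P (f (θ a))) ∨
    (∀ a, Ideal.Quotient.mk P (f (η a)) = Ideal.Quotient.mk P (f (θ (θ a)))) := by
  classical
  set φ : A →* R ⧸ P := (Ideal.Quotient.mk P).toMonoidHom.comp f with hφ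
  by_contra hc
  push Not at hc
  obtain ⟨⟨a0, h0⟩, ⟨a1, h1⟩, ⟨a2, h2⟩⟩ := hc
  set ψ : A →* R ⧸ P := φ.comp η with hψ
  have n0 : φ ≠ ψ := fun e => h0 (DFunLike.congr_fun e a0).symm
  have n1 : φ.comp θ ≠ ψ := fun e => h1 (DFunLike.congr_fun e a1).symm
  have n2 : φ.comp (θ.comp θ) ≠ ψ := fun e => h2 (DFunLike.congr_fun e a2).symm
  set c : (A →* R ⧸ P) →₀ (R ⧸ P) :=
    Finsupp.single φ 1 + Finsupp.single (φ.comp θ) 1 + Finsupp.single (φ.comp (θ.comp θ)) 1
      - (Finsupp.single ψ 1 + Finsupp.single ((φ.comp θ).comp η) 1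
        + Finsupp.single ((φ.comp (θ.comp θ)).comp η) 1) with hcdef
  have hlin : Finsupp.linearCombination (R ⧸ P) (fun g : A →* R ⧸ P => (g : A → R ⧸ P)) c = 0 := by
    simp only [hcdef, map_add, map_sub, Finsupp.linearCombination_single, one_smul]
    funext a
    have := congrArg (Ideal.Quotient.mk P) (h a)
    simp only [map_add] at this
    simp only [Pi.sub_apply, Pi.add_apply, Pi.zero_apply, sub_eq_zero, hψ, hφ]
    exact this.symm
  have hc0 := linearIndependent_iff.1 (linearIndependent_monoidHom A (R ⧸ P)) c hlin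
  have h6' : IsUnit ((6 : R ⧸ P)) := by
    have := h6.map (Ideal.Quotient.mk P)
    simpa [map_ofNat] using this
  have := DFunLike.congr_fun hc0 ψ
  simp only [hcdef, Finsupp.sub_apply, Finsupp.add_apply, Finsupp.single_apply, n0, n1, n2,
    if_true, if_false, Finsupp.zero_apply] at this
  have h6ne : (6 : R ⧸ P) ≠ 0 := h6'.ne_zero
  split_ifs at this <;> norm_num at this <;>
    first
      | exact h6ne (by linear_combination (-3 : R ⧸ P) * this)
      | exact h6ne (by linear_combination (-2 : R ⧸ P) * this)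
      | exact h6ne (by linear_combination (3 : R ⧸ P) * this)
      | exact h6ne (by linear_combination (2 : R ⧸ P) * this)
      | exact h6ne (by linear_combination (6 : R ⧸ P) * this)

theorem key_identity {E : Type*} [Ring E] {r s : E} (hr : 1 + r + r * r = 0) (hs : 1 + s + s * s = 0) :
    r * (s + s * r + r + r * s) = (s + s * r + r + r * s) * r := by
  have e1 : r * r = -1 - r := by rw [eq_sub_iff_add_eq, ← sub_eq_zero, ← hr]; abel
  calc r * (s + s * r + r + r * s) = r * s + r * s * r + r * r + r * r * s := by noncomm_ring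
    _ = r * s + r * s * r + (-1 - r) + (-1 - r) * s := by rw [e1]
    _ = s * r + s * (-1 - r) + (-1 - r) + r * s * r := by noncomm_ring
    _ = s * r + s * (r * r) + r * r + r * s * r := by rw [e1]
    _ = _ := by noncomm_ring

theorem inv_of_quad {E : Type*} [Ring E] {r : Eˣ} (hr : (1 : E) + r + (r : E) * r = 0) :
    ((r⁻¹ : Eˣ) : E) = -1 - (r : E) := by
  refine Units.inv_eq_of_mul_eq_one_right ?_
  rw [mul_sub, mul_neg, mul_one]
  rw [← sub_eq_zero]
  calc -(r : E) - r * r - 1 = -(1 + r + (r : E) * r) := by abel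
    _ = 0 := by rw [hr, neg_zero]

/-- A nilpotent group of units normalised by a unit `r` with `1 + r + r² = 0`, of order prime to
six and invertible in the ring, is centralised by `r`. -/
theorem quad_centralizes {E : Type*} [Ring E] (r : Eˣ) (hr : (1 : E) + r + (r : E) * r = 0) :
    ∀ (n : ℕ) (G : Subgroup Eˣ), Nat.card G = n → Finite G → Group.IsNilpotent G →
      (∀ g ∈ G, r * g * r⁻¹ ∈ G) → IsUnit (n : E) → n.Coprime 6 →
      ∀ g ∈ G, r * g = g * r := by
  intro n
  induction n using Nat.strong_induction_on with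
  | _ n ih =>
  intro G hn hfin hnil hinv hunit hcop g hg
  haveI := hfin
  have hr3 : r ^ 3 = 1 := by
    ext
    rw [Units.val_pow_eq_pow_val, Units.val_one, pow_succ, pow_two, ← sub_eq_zero]
    calc (r : E) * r * r - 1 = ((r : E) - 1) * (1 + r + (r : E) * r) := by noncomm_ring
      _ = 0 := by rw [hr, mul_zero]
  -- smaller invariant subgroups are centralized
  have hsub : ∀ H : Subgroup Eˣ, H < G → (∀ h ∈ H, r * h * r⁻¹ ∈ H) → ∀ h ∈ H, r * h = h * r := by
    intro H hH hHinv
    have hdvd : Nat.card H ∣ n := hn ▸ Subgroup.card_dvd_of_le hH.le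
    have hlt : Nat.card H < n := by
      rw [← hn]
      refine lt_of_le_of_ne (Subgroup.card_le_of_le hH.le) fun e => hH.ne ?_
      exact Subgroup.eq_of_le_of_card_ge hH.le e.ge
    haveI : Finite H := Finite.of_injective _ (Subgroup.inclusion_injective hH.le)
    obtain ⟨k, hk⟩ := hdvd
    refine ih _ hlt H rfl inferInstance ?_ hHinv ?_ (hcop.coprime_dvd_left ⟨k, hk⟩)
    · haveI := hnil
      exact Subgroup.isNilpotent_of_ker_le_center (Subgroup.inclusion hH.le)
        (((MonoidHom.ker_eq_bot_iff _).2 (Subgroup.inclusion_injective hH.le)).trans_le bot_le)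
    · rw [hk, Nat.cast_mul] at hunit
      exact ((Nat.cast_commute _ _).isUnit_mul_iff.1 hunit).1
  by_cases hbot : G = ⊥
  · rw [hbot, Subgroup.mem_bot] at hg; rw [hg, mul_one, one_mul]
  have hodd : ∀ x : Eˣ, x ∈ G → ∀ k : ℕ, k ∣ 6 → x ^ k = 1 → x = 1 := by
    intro x hx k hk hxk
    have h1 : orderOf x ∣ n := by
      rw [← hn]; exact Subgroup.orderOf_mk x hx ▸ orderOf_dvd_natCard (⟨x, hx⟩ : G)
    have h2 : orderOf x ∣ 6 := (orderOf_dvd_of_pow_eq_one hxk).trans hk
    exact orderOf_eq_one_iff.1 (Nat.eq_one_of_dvd_coprimes hcop h1 h2)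
  obtain ⟨σ, hσ⟩ : ∃ σ : Eˣ → Eˣ, ∀ x, σ x = r * x * r⁻¹ := ⟨_, fun _ => rfl⟩
  have hinvσ : ∀ x ∈ G, σ x ∈ G := fun x hx => (hσ x).symm ▸ hinv x hx
  have hσmul : ∀ x y, σ (x * y) = σ x * σ y := fun x y => by simp only [hσ]; group
  have hσinv : ∀ x, σ x⁻¹ = (σ x)⁻¹ := fun x => by simp only [hσ]; group
  have hσ3 : ∀ x, σ (σ (σ x)) = x := by
    intro x
    calc σ (σ (σ x)) = (r * r * r) * x * (r * r * r)⁻¹ := by simp only [hσ]; group
      _ = x := by rw [show r * r * r = r ^ 3 by rw [pow_succ, pow_two], hr3]; group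
  have hσcomm : ∀ x, σ x = x ↔ r * x = x * r := fun x => by rw [hσ]; exact mul_inv_eq_iff_eq_mul
  -- it suffices that every displacement is fixed
  suffices hdisp : ∀ x ∈ G, σ (x * (σ x)⁻¹) = x * (σ x)⁻¹ by
    obtain ⟨e, he⟩ : ∃ e, e = g * (σ g)⁻¹ := ⟨_, rfl⟩
    have hefix : σ e = e := he ▸ hdisp g hg
    have h1 : σ g = e⁻¹ * g := by rw [he]; group
    have h2 : g = e⁻¹ * (e⁻¹ * (e⁻¹ * g)) := by
      conv_lhs => rw [← hσ3 g]
      rw [h1, hσmul, hσinv, hefix, h1, hσmul, hσmul, hσinv, hefix, h1]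
    have h3 : e ^ 3 = 1 := by
      rw [← inv_eq_one, ← inv_pow, pow_succ, pow_two]
      calc e⁻¹ * e⁻¹ * e⁻¹ = e⁻¹ * (e⁻¹ * (e⁻¹ * g)) * g⁻¹ := by group
        _ = 1 := by rw [← h2, mul_inv_cancel]
    have he1 : e = 1 := hodd e (he ▸ mul_mem hg (inv_mem (hinvσ g hg))) 3 (by norm_num) h3
    rw [he1, inv_one, one_mul] at h1
    exact (hσcomm g).1 h1
  set D : Subgroup Eˣ := Subgroup.closure {d | ∃ x ∈ G, d = x * (σ x)⁻¹} with hD
  have hDG : D ≤ G := (Subgroup.closure_le _).2 fun d ⟨x, hx, hd⟩ => hd ▸ mul_mem hx (inv_mem (hinvσ x hx))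
  rcases hDG.eq_or_lt with hDeq | hDlt
  swap
  · have hDinv : ∀ h ∈ D, r * h * r⁻¹ ∈ D := by
      intro h hh
      induction hh using Subgroup.closure_induction with
      | mem d hd =>
        obtain ⟨x, hx, rfl⟩ := hd
        rw [← hσ, hσmul, hσinv]
        exact Subgroup.subset_closure ⟨σ x, hinvσ x hx, rfl⟩
      | one => simp
      | mul a b _ _ ha hb => rw [← hσ] at ha hb ⊢; rw [hσmul]; exact mul_mem ha hb
      | inv a _ ha => rw [← hσ] at ha ⊢; rw [hσinv]; exact inv_mem ha
    intro x hx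
    exact (hσcomm _).2 (hsub D hDlt hDinv _ (Subgroup.subset_closure ⟨x, hx, rfl⟩))
  -- now the derived subgroup is central
  have hG' : ⁅G, G⁆ < G := by
    refine lt_of_le_of_ne (Subgroup.commutator_le_self G) fun e => hbot ?_
    haveI := hnil
    haveI : Group.IsSolvable G := inferInstance
    obtain ⟨k, hk⟩ := (Group.isSolvable_def G).1 ‹_›
    have hle : ∀ j, G ≤ (derivedSeries G j).map G.subtype := by
      intro j
      induction j with
      | zero => rw [derivedSeries_zero, ← MonoidHom.range_eq_map, Subgroup.range_subtype]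
      | succ j ihj =>
        rw [derivedSeries_succ, Subgroup.map_commutator]
        exact e.ge.trans (Subgroup.commutator_mono ihj ihj)
    exact le_bot_iff.1 ((hle k).trans (by rw [hk, Subgroup.map_bot]))
  have hG'inv : ∀ h ∈ ⁅G, G⁆, r * h * r⁻¹ ∈ ⁅G, G⁆ := by
    intro h hh
    have h1 : G.map (MulAut.conj r).toMonoidHom ≤ G := by
      rintro _ ⟨x, hx, rfl⟩; exact hinv x hx
    have h2 : (MulAut.conj r) h ∈ (⁅G, G⁆).map (MulAut.conj r).toMonoidHom := ⟨h, hh, rfl⟩
    rw [Subgroup.map_commutator] at h2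
    exact Subgroup.commutator_mono h1 h1 h2
  have hfixG' : ∀ k ∈ ⁅G, G⁆, σ k = k := fun k hk => (hσcomm k).2 (hsub _ hG' hG'inv k hk)
  have hcentral : ∀ k ∈ ⁅G, G⁆, ∀ x ∈ G, k * x = x * k := by
    intro k hk x hx
    rw [← hDeq] at hx
    induction hx using Subgroup.closure_induction with
    | mem d hd =>
      obtain ⟨y, hy, rfl⟩ := hd
      have hk' : y⁻¹ * k * y ∈ ⁅G, G⁆ := by
        have e : y⁻¹ * k * y = ⁅y⁻¹, k⁆ * k := by rw [commutatorElement_def]; group
        rw [e]
        exact mul_mem (Subgroup.commutator_mem_commutator (inv_mem hy) (hG'.le hk)) hk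
      have h1 := hfixG' _ hk'
      rw [hσmul, hσmul, hσinv, hfixG' k hk] at h1
      calc k * (y * (σ y)⁻¹) = y * (y⁻¹ * k * y) * (σ y)⁻¹ := by group
        _ = y * ((σ y)⁻¹ * k * σ y) * (σ y)⁻¹ := by rw [h1]
        _ = y * (σ y)⁻¹ * k := by group
    | one => simp
    | mul a b _ _ ha hb => rw [← mul_assoc, ha, mul_assoc, hb, mul_assoc]
    | inv a _ ha => exact (Commute.inv_right ha)
  intro x hx
  obtain ⟨a, ha⟩ : ∃ a, a = x * (σ x)⁻¹ := ⟨_, rfl⟩
  obtain ⟨a', ha'⟩ : ∃ a', a' = σ a := ⟨_, rfl⟩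
  obtain ⟨a'', ha''⟩ : ∃ a'', a'' = σ a' := ⟨_, rfl⟩
  rw [← ha, ← ha']
  have haG : a ∈ G := ha ▸ mul_mem hx (inv_mem (hinvσ x hx))
  have ha'G : a' ∈ G := ha' ▸ hinvσ a haG
  -- the sum with the inverse is fixed
  have hsum : (r : E) * ((a : E) + ((a⁻¹ : Eˣ) : E)) = ((a : E) + ((a⁻¹ : Eˣ) : E)) * r := by
    obtain ⟨s, hsdef⟩ : ∃ s : Eˣ, s = x * r * x⁻¹ := ⟨_, rfl⟩
    have hs : (1 : E) + s + (s : E) * s = 0 := by
      have e : (s : E) * s = x * ((r : E) * r) * ((x⁻¹ : Eˣ) : E) := by
        simp only [← Units.val_mul, hsdef]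
        congr 1; group
      rw [e, hsdef, Units.val_mul, Units.val_mul]
      calc (1 : E) + x * r * ((x⁻¹ : Eˣ) : E) + x * ((r : E) * r) * ((x⁻¹ : Eˣ) : E)
          = x * (1 + r + (r : E) * r) * ((x⁻¹ : Eˣ) : E) + (1 - x * ((x⁻¹ : Eˣ) : E)) := by noncomm_ring
        _ = 0 := by rw [hr]; simp
    have e1 : a = s * r⁻¹ := by simp only [ha, hσ, hsdef]; group
    rw [e1, mul_inv_rev, inv_inv, Units.val_mul, Units.val_mul, inv_of_quad hr, inv_of_quad hs]
    have := key_identity hr hs
    linear_combination (norm := noncomm_ring) -this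
  have hsum' : (a' : E) + ((a'⁻¹ : Eˣ) : E) = (a : E) + ((a⁻¹ : Eˣ) : E) := by
    rw [show a'⁻¹ = σ a⁻¹ by rw [ha', hσinv]]
    rw [ha', hσ a, hσ a⁻¹]
    rw [Units.val_mul, Units.val_mul, Units.val_mul, Units.val_mul, ← add_mul, ← mul_add, hsum,
      mul_assoc, Units.mul_inv, mul_one]
  -- the commutator vanishes
  obtain ⟨c, hcdef⟩ : ∃ c, c = ⁅a', a⁆ := ⟨_, rfl⟩
  have hcG' : c ∈ ⁅G, G⁆ := hcdef ▸ Subgroup.commutator_mem_commutator ha'G haG
  have hca : c * a = a * c := hcentral c hcG' a haG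
  have hca' : c * a' = a' * c := hcentral c hcG' a' ha'G
  have hc1 : c = 1 := by
    have h1 : ((c : E) * a + ((a⁻¹ : Eˣ) : E) * ((c⁻¹ : Eˣ) : E)) = (a : E) + ((a⁻¹ : Eˣ) : E) := by
      have h2 : (a' : E) * ((a : E) + ((a⁻¹ : Eˣ) : E))
          = ((a : E) + ((a⁻¹ : Eˣ) : E)) * a' := by
        rw [← hsum', mul_add, add_mul]
        simp
      have h3 := congrArg (· * ((a'⁻¹ : Eˣ) : E)) h2
      simp only [mul_add, add_mul] at h3
      rw [mul_assoc _ (a' : E), mul_assoc _ (a' : E), Units.mul_inv, mul_one, mul_one] at h3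
      rw [← h3, ← Units.val_mul, ← Units.val_mul, ← Units.val_mul, ← Units.val_mul, ← Units.val_mul,
        ← Units.val_mul, hcdef, commutatorElement_def]
      congr 2 <;> group
    have h4 : ((c : E) - 1) * ((c : E) * a * a - 1) = 0 := by
      have h5 := congrArg (fun z => ((c : E) * a) * z) h1
      simp only [mul_add] at h5
      rw [show (c : E) * a * (((a⁻¹ : Eˣ) : E) * ((c⁻¹ : Eˣ) : E)) = 1 by
        rw [← Units.val_mul, ← Units.val_mul, ← Units.val_mul,
          show c * a * (a⁻¹ * c⁻¹) = 1 by group, Units.val_one],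
        show (c : E) * a * ((a⁻¹ : Eˣ) : E) = c by rw [mul_assoc, Units.mul_inv, mul_one]] at h5
      have hac : (a : E) * c = c * a := by rw [← Units.val_mul, ← Units.val_mul, hca]
      calc ((c : E) - 1) * ((c : E) * a * a - 1)
          = (c : E) * (c * a) * a - c * a * a - c + 1 := by noncomm_ring
        _ = (c : E) * (a * c) * a - c * a * a - c + 1 := by rw [hac]
        _ = ((c : E) * a * (c * a) + 1) - (c * a * a + c) := by noncomm_ring
        _ = 0 := by rw [h5, sub_self]
    -- conjugate by `a'`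
    have h6 : ((c : E) - 1) * ((c : E) * c * c * a * a - 1) = 0 := by
      have h7 := congrArg (fun z => (a' : E) * z * ((a'⁻¹ : Eˣ) : E)) h4
      simp only [mul_zero, zero_mul] at h7
      rw [← h7]
      have hc' : (a' : E) * c = c * a' := by rw [← Units.val_mul, ← Units.val_mul, hca']
      have e2 : (a' : E) * ((c : E) * a * a) = (c * c * c * a * a) * a' := by
        rw [← Units.val_mul, ← Units.val_mul, ← Units.val_mul, ← Units.val_mul, ← Units.val_mul,
          ← Units.val_mul, ← Units.val_mul, ← Units.val_mul]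
        congr 1
        have e3 : a' * a = c * a * a' := by rw [hcdef, commutatorElement_def]; group
        calc a' * (c * a * a) = (a' * c) * a * a := by group
          _ = c * (a' * a) * a := by rw [← hca']; group
          _ = c * c * a * (a' * a) := by nth_rewrite 1 [e3]; group
          _ = c * c * (a * c) * a * a' := by rw [e3]; group
          _ = _ := by rw [← hca]; group
      calc ((c : E) - 1) * ((c : E) * c * c * a * a - 1)
          = ((c : E) - 1) * ((c : E) * c * c * a * a - 1) * ((a' : E) * ((a'⁻¹ : Eˣ) : E)) := by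
            rw [Units.mul_inv, mul_one]
        _ = ((c : E) - 1) * (((c : E) * c * c * a * a) * a' - a') * ((a'⁻¹ : Eˣ) : E) := by noncomm_ring
        _ = ((c : E) - 1) * ((a' : E) * ((c : E) * a * a) - a') * ((a'⁻¹ : Eˣ) : E) := by rw [e2]
        _ = ((c : E) * ((a' : E) * ((c : E) * a * a) - a') - ((a' : E) * ((c : E) * a * a) - a'))
              * ((a'⁻¹ : Eˣ) : E) := by noncomm_ring
        _ = (((c : E) * a') * ((c : E) * a * a - 1) - (a' : E) * ((c : E) * a * a - 1))
              * ((a'⁻¹ : Eˣ) : E) := by noncomm_ring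
        _ = _ := by rw [← hc']; noncomm_ring
    have h8 : ((c : E) - 1) * ((c : E) * c - 1) = 0 := by
      have e : ((c : E) - 1) * ((c : E) * c - 1)
          = ((c : E) - 1) * ((c : E) * c * c * a * a - 1) - ((c : E) * c) * (((c : E) - 1) * ((c : E) * a * a - 1)) := by
        noncomm_ring
      rw [e, h4, h6, mul_zero, sub_zero]
    have hnil2 : IsNilpotent (((c ^ 2 : Eˣ) : E) - 1) := by
      refine ⟨2, ?_⟩
      rw [Units.val_pow_eq_pow_val, pow_two, pow_two]
      calc ((c : E) * c - 1) * ((c : E) * c - 1) = ((c : E) + 1) * (((c : E) - 1) * ((c : E) * c - 1)) := by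
            noncomm_ring
        _ = 0 := by rw [h8, mul_zero]
    have hc2 : c ^ 2 = 1 := by
      refine Units.ext (eq_one_of_nilpotent_sub (n := n) ?_ hunit hnil2)
      rw [← Units.val_pow_eq_pow_val]
      have : (⟨c ^ 2, pow_mem (hG'.le hcG') 2⟩ : G) ^ n = 1 := by rw [← hn]; exact pow_card_eq_one'
      rw [show (c ^ 2) ^ n = 1 from congrArg Subtype.val this, Units.val_one]
    exact hodd c (hG'.le hcG') 2 (by norm_num) hc2
  have hcomm : Commute a a' := (commutatorElement_eq_one_iff_mul_comm.1 (hcdef ▸ hc1)).symm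
  have hprod : a * a' * a'' = 1 := by
    simp only [ha'', ha', ha, hσmul, hσinv, hσ3]
    group
  have hc'' : Commute a' a'' := by
    show a' * a'' = a'' * a'
    have h := congrArg σ hcomm.eq
    rw [hσmul, hσmul, ← ha', ← ha''] at h
    exact h
  -- the relation
  have hz : ∀ y : Eˣ, ∀ z : Eˣ, Commute y z → (y : E) + ((y⁻¹ : Eˣ) : E) = (z : E) + ((z⁻¹ : Eˣ) : E) →
      ((y : E) - z) * ((y : E) * z - 1) = 0 := by
    intro y z hyz hh
    have hyz' : (y : E) * z = z * y := by rw [← Units.val_mul, ← Units.val_mul, hyz.eq]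
    calc ((y : E) - z) * ((y : E) * z - 1)
        = ((y : E) * y * z + z - (z * y * z + y)) := by noncomm_ring
      _ = ((y : E) + ((y⁻¹ : Eˣ) : E)) * ((y : E) * z) - ((z : E) + ((z⁻¹ : Eˣ) : E)) * ((y : E) * z) := by
        have e1 : ((y⁻¹ : Eˣ) : E) * ((y : E) * z) = z := by rw [← mul_assoc, Units.inv_mul, one_mul]
        have e2 : ((z⁻¹ : Eˣ) : E) * ((y : E) * z) = y := by
          rw [hyz', ← mul_assoc, Units.inv_mul, one_mul]
        rw [add_mul, add_mul, e1, e2]; noncomm_ring
      _ = 0 := by rw [hh, sub_self]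
  have hfix2 : (a'' : E) + ((a''⁻¹ : Eˣ) : E) = (a' : E) + ((a'⁻¹ : Eˣ) : E) := by
    rw [show a''⁻¹ = σ a'⁻¹ by rw [ha'', hσinv]]
    rw [ha'', hσ a', hσ a'⁻¹]
    rw [Units.val_mul, Units.val_mul, Units.val_mul, Units.val_mul, ← add_mul, ← mul_add, hsum',
      hsum, mul_assoc, Units.mul_inv, mul_one]
  have R1 := hz a a' hcomm hsum'.symm
  have R2 := hz a' a'' hc'' hfix2.symm
  -- move to the commutative ring generated by `a` and `a'`
  let Sg : Set E := {(a : E), (a' : E), (a'' : E)}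
  have hc13 : Commute a a'' := by
    have e : a'' = (a * a')⁻¹ := (inv_eq_of_mul_eq_one_right hprod).symm
    rw [e]; exact ((Commute.refl a).mul_right hcomm).inv_right
  have hSg : ∀ y ∈ Sg, ∀ z ∈ Sg, y * z = z * y := by
    intro y hy z hz'
    simp only [Sg, Set.mem_insert_iff, Set.mem_singleton_iff] at hy hz'
    rcases hy with rfl | rfl | rfl <;> rcases hz' with rfl | rfl | rfl <;>
      first
        | rfl
        | exact (hcomm.map (Units.coeHom E)).eq
        | exact (hcomm.map (Units.coeHom E)).eq.symm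
        | exact (hc''.map (Units.coeHom E)).eq
        | exact (hc''.map (Units.coeHom E)).eq.symm
        | exact (hc13.map (Units.coeHom E)).eq
        | exact (hc13.map (Units.coeHom E)).eq.symm
  letI := Subring.closureCommRingOfComm hSg
  let K := Subring.closure Sg
  let pa : K := ⟨a, Subring.subset_closure (by simp [Sg])⟩
  let qa : K := ⟨a', Subring.subset_closure (by simp [Sg])⟩
  let wa : K := ⟨a'', Subring.subset_closure (by simp [Sg])⟩
  have S0 : pa * qa * wa = 1 := Subtype.ext (by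
    show (a : E) * a' * a'' = 1
    rw [← Units.val_mul, ← Units.val_mul, hprod, Units.val_one])
  have S1 : (pa - qa) * (pa * qa - 1) = 0 := Subtype.ext R1
  have S2 : (qa - wa) * (qa * wa - 1) = 0 := Subtype.ext R2
  have hcube : (pa - qa) ^ 3 = 0 := by
    have T2 : (pa * qa ^ 2 - 1) * (pa - 1) = 0 := by
      linear_combination (-(pa ^ 2 * qa)) * S2 + (pa * qa ^ 2 + pa - pa * qa * wa - 1) * S0
    have T3 : (pa - qa) * (2 - pa - qa) = 0 := by
      linear_combination (pa - qa) * T2 - (qa * (pa - 1) + 1) * S1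
    linear_combination (-(pa + qa + 2)) * T3 - 4 * S1
  have hnilu : IsNilpotent (((a⁻¹ * a' : Eˣ) : E) - 1) := by
    refine ⟨3, ?_⟩
    have e : (((a⁻¹ * a' : Eˣ) : E) - 1) = ((a⁻¹ : Eˣ) : E) * ((a' : E) - a) := by
      rw [mul_sub, Units.val_mul, Units.inv_mul]
    have hcm : Commute ((a⁻¹ : Eˣ) : E) ((a' : E) - a) :=
      ((hcomm.inv_left).map (Units.coeHom E)).sub_right
        (((Commute.refl a).inv_left).map (Units.coeHom E))
    rw [e, hcm.mul_pow]
    have : ((a' : E) - a) ^ 3 = -((pa - qa) ^ 3 : K).1 := by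
      push_cast
      rw [show (a' : E) - a = -((pa : E) - (qa : E)) by simp [pa, qa]]
      exact Odd.neg_pow (by decide) _
    rw [this, hcube]; simp
  have hone : ((a⁻¹ * a' : Eˣ) : E) = 1 := by
    refine eq_one_of_nilpotent_sub (n := n) ?_ hunit hnilu
    rw [← Units.val_pow_eq_pow_val]
    have : (⟨a⁻¹ * a', mul_mem (inv_mem haG) ha'G⟩ : G) ^ n = 1 := by rw [← hn]; exact pow_card_eq_one'
    rw [show (a⁻¹ * a') ^ n = 1 from congrArg Subtype.val this, Units.val_one]
  exact (inv_mul_eq_one.1 (Units.ext hone)).symm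

end CfsgLib.Solv.FpfSym
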