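import Cfsg.Agent.Solv.FpfSymRing

/-!
Tools for the theorem on fixed-point-free actions of the symmetric group of degree three: lemmas
about finite abelian groups of endomorphisms of a finite abelian group.
-/

set_option autoImplicit false
set_option linter.unusedSectionVars false
set_option linter.style.haveILetI false
set_option linter.deprecated false

namespace CfsgLib.Solv.FpfSym

theorem exists_fixed_of_prime {α : Type*} [Finite α] {p : ℕ} (hp : p.Prime) (f : α → α)
    (Y : Set α) (hY : ∀ y ∈ Y, f y ∈ Y) (hper : ∀ y ∈ Y, f^[p] y = y)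
    (hcard : ¬ p ∣ Nat.card Y) : ∃ y ∈ Y, f y = y := by
  classical
  haveI := Fact.mk hp
  have := Fintype.ofFinite Y
  let g : Function.End Y := fun y => ⟨f y, hY _ y.2⟩
  have hit : ∀ k, ∀ y : Y, ((g^[k] y : Y) : α) = f^[k] y := by
    intro k
    induction k with
    | zero => exact fun y => rfl
    | succ k ih => intro y; rw [Function.iterate_succ_apply, Function.iterate_succ_apply]; exact ih _
  have hpow : ∀ k, ∀ y : Y, (g ^ k) y = g^[k] y := by
    intro k
    induction k with
    | zero => exact fun y => rfl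
    | succ k ih =>
      intro y
      rw [pow_succ, Function.iterate_succ_apply]
      exact ih _
  have h1 : g ^ p ^ 1 = 1 := by
    funext y
    rw [pow_one, hpow]
    exact Subtype.ext ((hit p y).trans (hper _ y.2))
  have h2 := Equiv.Perm.card_fixedPoints_modEq (f := g) (p := p) (n := 1) h1
  by_contra h
  push Not at h
  have h0 : Fintype.card (Function.fixedPoints g) = 0 := by
    rw [Fintype.card_eq_zero_iff]
    exact ⟨fun a => h _ a.1.2 (congrArg Subtype.val (a.2 : g a.1 = a.1))⟩
  rw [Nat.card_eq_fintype_card] at hcard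
  exact hcard ((Nat.modEq_zero_iff_dvd).1 (h0 ▸ h2))

theorem isUnit_natCast_of_coprime {R : Type*} [Ring R] {n N : ℕ} (hco : n.Coprime N)
    (hN : (N : R) = 0) : IsUnit (n : R) := by
  have hb := Nat.gcd_eq_gcd_ab n N
  rw [hco.gcd_eq_one, Nat.cast_one] at hb
  have h1 : (n : R) * ((Nat.gcdA n N : ℤ) : R) = 1 := by
    have := congrArg (fun z : ℤ => (z : R)) hb
    simp only [Int.cast_one, Int.cast_add, Int.cast_mul, Int.cast_natCast, hN, zero_mul, add_zero]
      at this
    exact this.symm
  exact ⟨⟨(n : R), ((Nat.gcdA n N : ℤ) : R), h1, by rw [← (Nat.cast_commute n _).eq]; exact h1⟩, rfl⟩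

theorem natCast_end_eq_zero {W : Type*} [AddCommGroup W] {N : ℕ} (h : ∀ w : W, N • w = 0) :
    (N : AddMonoid.End W) = 0 := AddMonoidHom.ext fun w => h w

theorem natCast_subring_eq_zero {W : Type*} [AddCommGroup W] [Finite W]
    (K : Subring (AddMonoid.End W)) : ((Nat.card W : ℕ) : K) = 0 :=
  Subtype.ext (by
    rw [ZeroMemClass.coe_zero, SubringClass.coe_natCast]
    exact natCast_end_eq_zero fun w => card_nsmul_eq_zero')

theorem eq_one_of_pow_coprime {M : Type*} [Monoid M] {y : M} {m n : ℕ} (h1 : y ^ m = 1)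
    (h2 : y ^ n = 1) (hco : m.Coprime n) : y = 1 := by
  have := (pow_gcd_eq_one (m := m) (n := n)).2 ⟨h1, h2⟩
  rwa [hco.gcd_eq_one, pow_one] at this

section Char

variable {A R : Type*} [Group A] [Finite A] [CommRing R]

theorem eq_one_of_primes (f : A →* R) (hn : IsUnit (Nat.card A : R)) (a : A)
    (h : ∀ P : Ideal R, P.IsPrime → Ideal.Quotient.mk P (f a) = 1) : f a = 1 := by
  refine eq_one_of_nilpotent_sub (n := Nat.card A) (by rw [← map_pow, pow_card_eq_one', map_one]) hn ?_
  refine nilpotent_iff_mem_prime.2 fun P hP => ?_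
  rw [← Ideal.Quotient.eq_zero_iff_mem, map_sub, map_one, h P hP, sub_self]

theorem eq_of_primes (f : A →* R) (hn : IsUnit (Nat.card A : R)) (a b : A)
    (h : ∀ P : Ideal R, P.IsPrime → Ideal.Quotient.mk P (f a) = Ideal.Quotient.mk P (f b)) :
    f a = f b := by
  have h1 : f (a * b⁻¹) = 1 := eq_one_of_primes f hn _ fun P hP => by
    rw [map_mul, map_mul, h P hP, ← map_mul, ← map_mul, mul_inv_cancel, map_one, map_one]
  calc f a = f (a * b⁻¹) * f b := by rw [← map_mul, inv_mul_cancel_right]
    _ = f b := by rw [h1, one_mul]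

end Char

theorem iterate_three {α : Type*} (θ : α → α) (h3 : ∀ a, θ (θ (θ a)) = a) (a : α) :
    ∀ n, θ^[n] a = θ^[n % 3] a := by
  intro n
  induction n using Nat.strong_induction_on with
  | _ n ih =>
    rcases Nat.lt_or_ge n 3 with h | h
    · rw [Nat.mod_eq_of_lt h]
    · obtain ⟨m, rfl⟩ : ∃ m, n = m + 3 := ⟨n - 3, by omega⟩
      rw [Nat.add_mod_right, Function.iterate_add_apply, ← ih m (by omega)]
      exact congrArg _ (h3 a)

/-- A map commuting with `θ` which is a `θ`-power modulo `φ` and has order prime to three is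
trivial modulo `φ`. -/
theorem eq_of_iterate {α β : Type*} (φ : α → β) (θ η : α → α) (h3 : ∀ a, θ (θ (θ a)) = a)
    (hcomm : ∀ a, θ (η a) = η (θ a)) {n : ℕ} (hn : ∀ a, η^[n] a = a) (hn3 : n % 3 ≠ 0)
    (h : ∀ a, φ (η a) = φ (θ a)) : ∀ a, φ (θ a) = φ a := by
  have key : ∀ k a, φ (η^[k] a) = φ (θ^[k] a) := by
    intro k
    induction k with
    | zero => exact fun a => rfl
    | succ k ih =>
      intro a
      rw [Function.iterate_succ_apply', h, Function.iterate_succ_apply,
        (Function.Semiconj.iterate_right (f := θ) (fun a => hcomm a) k).eq, ih]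
  intro a
  have h1 : φ a = φ (θ^[n % 3] a) := by rw [← iterate_three θ h3 a n, ← key, hn]
  have h2 : ∀ b, φ b = φ (θ^[n % 3] b) := fun b => by rw [← iterate_three θ h3 b n, ← key, hn]
  rcases (by omega : n % 3 = 1 ∨ n % 3 = 2) with hm | hm
  · rw [hm] at h1; exact h1.symm
  · rw [h2 (θ a), hm]
    exact congrArg φ (h3 a)

section Module

variable {A : Type*} [Group A] [Finite A] {W : Type*} [AddCommGroup W] [Finite W]

/-- A finite nilpotent group of automorphisms normalised by a quadratic `r` commutes with it. -/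
theorem quad_fixes [Group.IsNilpotent A] (q : A →* AddMonoid.End W) (θ : A → A) (r : W ≃+ W)
    (hcomp : ∀ a w, r (q a w) = q (θ a) (r w)) (hquad : ∀ w, w + r w + r (r w) = 0)
    (hco : (Nat.card A).Coprime (Nat.card W)) (h6 : (Nat.card A).Coprime 6) :
    ∀ a, q (θ a) = q a := by
  let S : (AddMonoid.End W)ˣ :=
    ⟨r.toAddMonoidHom, r.symm.toAddMonoidHom, AddMonoidHom.ext fun w => r.apply_symm_apply w,
      AddMonoidHom.ext fun w => r.symm_apply_apply w⟩
  have hS : (1 : AddMonoid.End W) + S + (S : AddMonoid.End W) * S = 0 :=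
    AddMonoidHom.ext fun w => hquad w
  have hconj : ∀ a, S * q.toHomUnits a * S⁻¹ = q.toHomUnits (θ a) := by
    intro a
    refine Units.ext (AddMonoidHom.ext fun w => ?_)
    show r (q a (r.symm w)) = q (θ a) w
    rw [hcomp, r.apply_symm_apply]
  obtain ⟨k, hk⟩ : Nat.card q.toHomUnits.range ∣ Nat.card A := Subgroup.card_range_dvd _
  have hfix := quad_centralizes S hS (Nat.card q.toHomUnits.range) q.toHomUnits.range rfl
    (Finite.of_surjective q.toHomUnits.rangeRestrict (MonoidHom.rangeRestrict_surjective _))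
    (Group.nilpotent_of_surjective q.toHomUnits.rangeRestrict (MonoidHom.rangeRestrict_surjective _))
    (by rintro _ ⟨a, rfl⟩; exact ⟨θ a, (hconj a).symm⟩)
    (isUnit_natCast_of_coprime (hco.coprime_dvd_left ⟨k, hk⟩)
      (natCast_end_eq_zero fun w => card_nsmul_eq_zero'))
    (h6.coprime_dvd_left ⟨k, hk⟩)
  intro a
  have h1 := hfix _ ⟨a, rfl⟩
  have h2 : q.toHomUnits (θ a) = q.toHomUnits a := by
    rw [← hconj, h1, mul_inv_cancel_right]
  exact congrArg Units.val h2

/-- An automorphism `η` of order prime to three commuting with `θ` which preserves the sums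
over the `θ`-orbits acts trivially. -/
theorem conj_fix (q : A →* AddMonoid.End W) (hcm : ∀ a b, q a * q b = q b * q a)
    (θ η : A →* A) (h3 : ∀ a, θ (θ (θ a)) = a) (hcomm : ∀ a, θ (η a) = η (θ a))
    {n : ℕ} (hn : ∀ a, η^[n] a = a) (hn3 : n % 3 ≠ 0)
    (hT : ∀ a w, q (η a) w + q (θ (η a)) w + q (θ (θ (η a))) w
      = q a w + q (θ a) w + q (θ (θ a)) w)
    (hco : (Nat.card A).Coprime (Nat.card W)) (h6 : (Nat.card W).Coprime 6) :
    ∀ a, q (η a) = q a := by
  have hgen : ∀ y ∈ Set.range q, ∀ z ∈ Set.range q, y * z = z * y := by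
    rintro _ ⟨a, rfl⟩ _ ⟨b, rfl⟩; exact hcm a b
  letI := Subring.closureCommRingOfComm hgen
  let f : A →* Subring.closure (Set.range q) :=
    { toFun := fun a => ⟨q a, Subring.subset_closure ⟨a, rfl⟩⟩
      map_one' := Subtype.ext (map_one q)
      map_mul' := fun a b => Subtype.ext (map_mul q a b) }
  have hN := natCast_subring_eq_zero (Subring.closure (Set.range q))
  have hA : IsUnit ((Nat.card A : ℕ) : Subring.closure (Set.range q)) :=
    isUnit_natCast_of_coprime hco hN
  have h6' : IsUnit (6 : Subring.closure (Set.range q)) := by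
    have := isUnit_natCast_of_coprime (n := 6) h6.symm hN
    simpa using this
  have hf : ∀ a, f (η a) + f (θ (η a)) + f (θ (θ (η a))) = f a + f (θ a) + f (θ (θ a)) :=
    fun a => Subtype.ext (AddMonoidHom.ext fun w => hT a w)
  intro a
  have h := eq_of_primes f hA (η a) a fun P hP => ?_
  · exact congrArg Subtype.val h
  haveI := hP
  rcases dedekind h6' f θ η hf P with h | h | h
  · exact h a
  · rw [h]
    exact eq_of_iterate (fun a => Ideal.Quotient.mk P (f a)) θ η h3 hcomm hn hn3 h a
  · rw [h]
    have h' := eq_of_iterate (fun a => Ideal.Quotient.mk P (f a)) (fun a => θ (θ a)) η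
      (fun a => by simp only [h3]) (fun a => by simp only [hcomm]) hn hn3 h
    exact h' a

end Module

section Closure

variable {V : Type*} [AddCommGroup V]

theorem closure_invariant {S : Set V} (f : V →+ V) (h : ∀ g ∈ S, f g ∈ AddSubgroup.closure S) :
    ∀ u ∈ AddSubgroup.closure S, f u ∈ AddSubgroup.closure S := fun _ hu =>
  (AddSubgroup.closure_le ((AddSubgroup.closure S).comap f)).2 h hu

theorem closure_fixed {S : Set V} (f : V →+ V) (h : ∀ g ∈ S, f g = g) :
    ∀ u ∈ AddSubgroup.closure S, f u = u := by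
  intro u hu
  have := (AddSubgroup.closure_le ((f - AddMonoidHom.id V).ker)).2
    (fun g hg => by
      rw [SetLike.mem_coe, AddMonoidHom.mem_ker, AddMonoidHom.sub_apply, h g hg]
      exact sub_self g) hu
  rwa [AddMonoidHom.mem_ker, AddMonoidHom.sub_apply, sub_eq_zero] at this

end Closure

end CfsgLib.Solv.FpfSym
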