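import Cfsg.Agent.Solv.HBCount
import Mathlib

/-!
The enveloping algebra of a group of central type with an automorphism of prime order acting
without fixed vector: the algebra is a full matrix algebra, the automorphism is inner, and the
counting argument of Hall and Higman applies.
-/

set_option autoImplicit false
set_option linter.unusedSectionVars false
set_option linter.style.haveILetI false

namespace CfsgLib.Solv.HB

open Matrix

/-- Splitting along separated simultaneous eigenvectors. -/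
theorem mem_of_sum_mem {K V ι X : Type*} [Field K] [AddCommGroup V] [Module K V]
    (C : X → V →ₗ[K] V) (χ : ι → X → K) (v : ι → V) (hv : ∀ i x, C x (v i) = χ i x • v i)
    (hsep : ∀ i j, i ≠ j → ∃ x, χ i x ≠ χ j x) (I : Submodule K V)
    (hI : ∀ x, ∀ y ∈ I, C x y ∈ I) :
    ∀ (T : Finset ι) (c : ι → K), (∑ i ∈ T, c i • v i) ∈ I → ∀ i ∈ T, c i • v i ∈ I := by
  classical
  intro T
  induction T using Finset.induction_on with
  | empty => intro c _ i hi; simp at hi
  | insert u T hu ih =>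
    intro c h
    rw [Finset.sum_insert hu] at h
    have hrest : ∀ j ∈ T, c j • v j ∈ I := by
      intro j hj
      obtain ⟨x, hx⟩ := hsep j u (fun e => hu (e ▸ hj))
      have h1 : (∑ i ∈ T, ((χ i x - χ u x) * c i) • v i) ∈ I := by
        have h2 := I.sub_mem (hI x _ h) (I.smul_mem (χ u x) h)
        have e : C x (c u • v u + ∑ i ∈ T, c i • v i) - χ u x • (c u • v u + ∑ i ∈ T, c i • v i)
            = ∑ i ∈ T, ((χ i x - χ u x) * c i) • v i := by
          rw [map_add, map_smul, hv, map_sum, smul_add, smul_smul, smul_smul, mul_comm (c u),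
            add_sub_add_left_eq_sub, Finset.smul_sum, ← Finset.sum_sub_distrib]
          refine Finset.sum_congr rfl fun i _ => ?_
          rw [map_smul, hv, smul_smul, smul_smul, sub_mul, sub_smul, mul_comm (c i)]
        exact e ▸ h2
      have h2 := ih _ h1 j hj
      rw [mul_smul] at h2
      exact (Submodule.smul_mem_iff _ (sub_ne_zero.2 hx)).1 h2
    intro i hi
    rcases Finset.mem_insert.1 hi with rfl | hi
    · exact (Submodule.add_mem_iff_left _ (Submodule.sum_mem _ hrest)).1 h
    · exact hrest i hi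

variable {K : Type*} [Field K]

/-- A spanning twisted group algebra of a group of central type is simple, and a transversal of the
centre is independent in it. -/
theorem central_type_algebra {A : Type*} [Ring A] [Algebra K A] [Nontrivial A] {G : Type*} [Group G]
    [Finite G] (ga : G →* A) (hZ : ∀ z ∈ Subgroup.center G, ∃ c : K, ga z = c • (1 : A))
    (hcomm : ∀ x y : G, x * y * x⁻¹ * y⁻¹ ∈ Subgroup.center G)
    (hnd : ∀ u, u ∉ Subgroup.center G → ∃ x, ga (x * u * x⁻¹ * u⁻¹) ≠ 1)
    (hspan : Submodule.span K (Set.range ga) = ⊤) (r : (G ⧸ Subgroup.center G) → G)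
    (hr : ∀ u, (r u : (G ⧸ Subgroup.center G)) = u) :
    IsSimpleRing A ∧ LinearIndependent K (fun u => ga (r u)) ∧
      Submodule.span K (Set.range fun u => ga (r u)) = ⊤ := by
  classical
  haveI := Fintype.ofFinite ((G ⧸ Subgroup.center G))
  have hinv : ∀ x : G, ga x * ga x⁻¹ = 1 ∧ ga x⁻¹ * ga x = 1 := fun x => by
    rw [← map_mul, ← map_mul, mul_inv_cancel, inv_mul_cancel, map_one]; exact ⟨rfl, rfl⟩
  have hne : ∀ x : G, ga x ≠ 0 := fun x h => by
    have := (hinv x).1; rw [h, zero_mul] at this; exact zero_ne_one this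
  have hspan' : Submodule.span K (Set.range fun u => ga (r u)) = ⊤ := by
    rw [eq_top_iff, ← hspan, Submodule.span_le]
    rintro _ ⟨x, rfl⟩
    obtain ⟨c, hc⟩ := hZ ((r (x : G ⧸ Subgroup.center G))⁻¹ * x) (by rw [← QuotientGroup.eq, hr])
    have : ga x = c • ga (r (x : G ⧸ Subgroup.center G)) := by
      conv_lhs => rw [← mul_inv_cancel_left (r (x : G ⧸ Subgroup.center G)) x, map_mul, hc, mul_smul_comm, mul_one]
    rw [SetLike.mem_coe, this]
    exact Submodule.smul_mem _ _ (Submodule.subset_span ⟨_, rfl⟩)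
  have hχ : ∀ (u : (G ⧸ Subgroup.center G)) (x : G), ∃ c : K, ga x * ga (r u) * ga x⁻¹ = c • ga (r u) := by
    intro u x
    obtain ⟨c, hc⟩ := hZ _ (hcomm x (r u))
    refine ⟨c, ?_⟩
    have e : x * r u * x⁻¹ = (x * r u * x⁻¹ * (r u)⁻¹) * r u := by group
    rw [← map_mul, ← map_mul, e, map_mul, hc, smul_mul_assoc, one_mul]
  choose χ hχ using hχ
  let C : G → A →ₗ[K] A := fun x => (LinearMap.mulRight K (ga x⁻¹)).comp (LinearMap.mulLeft K (ga x))
  have hC : ∀ u x, C x (ga (r u)) = χ u x • ga (r u) := fun u x => hχ u x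
  have hsep : ∀ u v : (G ⧸ Subgroup.center G), u ≠ v → ∃ x, χ u x ≠ χ v x := by
    intro u v huv
    by_contra hall
    push Not at hall
    have hmem : r u * (r v)⁻¹ ∈ Subgroup.center G := by
      by_contra hn
      obtain ⟨x, hx⟩ := hnd _ hn
      apply hx
      have hcv : χ v x ≠ 0 := fun h0 => hne (x * r v * x⁻¹) (by
        rw [map_mul, map_mul, hχ, h0, zero_smul])
      have h1 : ga (x * (r u * (r v)⁻¹) * x⁻¹) * ga (r v) = ga (r u) := by
        have h2 : ga (x * (r u * (r v)⁻¹) * x⁻¹) * ga (x * r v * x⁻¹) = ga (x * r u * x⁻¹) := by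
          rw [← map_mul]; congr 1; group
        rw [map_mul ga (x * r v) x⁻¹, map_mul ga x (r v), hχ, mul_smul_comm,
          map_mul ga (x * r u) x⁻¹, map_mul ga x (r u), hχ, hall x] at h2
        exact smul_right_injective A hcv h2
      have e : x * (r u * (r v)⁻¹) * x⁻¹ * (r u * (r v)⁻¹)⁻¹ =
          x * (r u * (r v)⁻¹) * x⁻¹ * r v * (r u)⁻¹ := by group
      rw [e, map_mul, map_mul, h1, (hinv (r u)).1]
    apply huv
    rw [← hr u, ← hr v, QuotientGroup.eq]
    have hmc := (Subgroup.center G).inv_mem hmem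
    rw [_root_.mul_inv_rev, inv_inv] at hmc
    have h3 : (r u)⁻¹ * r v = r v * (r u)⁻¹ := by
      have := Subgroup.mem_center_iff.1 hmc (r u)⁻¹
      have e2 : (r u)⁻¹ * (r v * (r u)⁻¹) * r u = r v * (r u)⁻¹ := by
        rw [this]; group
      rw [← e2]; group
    rw [h3]; exact hmc
  have hli : LinearIndependent K (fun u => ga (r u)) := by
    rw [Fintype.linearIndependent_iff]
    intro c hc u
    have := mem_of_sum_mem C (fun u x => χ u x) _ hC hsep ⊥
      (fun x y hy => by rw [(Submodule.mem_bot K).1 hy, map_zero]; exact Submodule.zero_mem _)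
      Finset.univ c (by rw [hc]; exact Submodule.zero_mem _) u (Finset.mem_univ u)
    rw [Submodule.mem_bot, smul_eq_zero] at this
    exact this.resolve_right (hne _)
  refine ⟨IsSimpleRing.of_eq_bot_or_eq_top fun I => ?_, hli, hspan'⟩
  rcases eq_or_ne I ⊥ with h | h
  · exact Or.inl h
  right
  obtain ⟨a, haI, ha0⟩ : ∃ a ∈ I, a ≠ 0 := by
    by_contra hall
    push Not at hall
    apply h
    refine SetLike.ext fun a => ⟨fun ha => (TwoSidedIdeal.mem_bot A).2 (hall a ha), fun ha => ?_⟩
    rw [(TwoSidedIdeal.mem_bot A).1 ha]; exact I.zero_mem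
  let IK : Submodule K A :=
    { carrier := {y | y ∈ I}
      add_mem' := fun h1 h2 => I.add_mem h1 h2
      zero_mem' := I.zero_mem
      smul_mem' := fun c y hy => by
        show c • y ∈ I
        rw [Algebra.smul_def]; exact I.mul_mem_left _ _ hy }
  obtain ⟨c, hc⟩ := (Submodule.mem_span_range_iff_exists_fun K).1
    (show a ∈ Submodule.span K (Set.range fun u => ga (r u)) by rw [hspan']; exact Submodule.mem_top)
  have hmem := mem_of_sum_mem C (fun u x => χ u x) _ hC hsep IK
    (fun x y hy => I.mul_mem_right _ _ (I.mul_mem_left _ _ hy)) Finset.univ c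
    (by rw [hc]; exact haI)
  obtain ⟨u, hu⟩ : ∃ u, c u ≠ 0 := by
    by_contra hall
    push Not at hall
    exact ha0 (by rw [← hc]; simp [hall])
  have h1 : ga (r u) ∈ I := (Submodule.smul_mem_iff IK hu).1 (hmem u (Finset.mem_univ u))
  refine SetLike.ext fun y => ⟨fun _ => TwoSidedIdeal.mem_top A, fun _ => ?_⟩
  have h2 := I.mul_mem_left (y * ga (r u)⁻¹) _ h1
  rwa [mul_assoc, (hinv (r u)).2, mul_one] at h2

variable [IsAlgClosed K]

/-- The algebra form of the Hall-Higman count. -/
theorem central_type_count {W : Type*} [AddCommGroup W] [Module K W] [FiniteDimensional K W]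
    [Nontrivial W] {G : Type*} [Group G] [Finite G] (g : G →* Module.End K W)
    (hZ : ∀ z ∈ Subgroup.center G, ∃ c : K, g z = c • (1 : Module.End K W))
    (hcomm : ∀ x y : G, x * y * x⁻¹ * y⁻¹ ∈ Subgroup.center G)
    (hnd : ∀ u, u ∉ Subgroup.center G → ∃ x, g (x * u * x⁻¹ * u⁻¹) ≠ 1)
    (θ : G ≃* G) (hθZ : ∀ z ∈ Subgroup.center G, θ z = z)
    (hfix : ∀ u, u⁻¹ * θ u ∈ Subgroup.center G → u ∈ Subgroup.center G)
    {q : ℕ} [Fact q.Prime] (hqK : (q : K) ≠ 0) (S : Module.End K W) (hSq : S ^ q = 1)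
    (hS : ∀ x, S * g x = g (θ x) * S) (hsum : ∑ i ∈ Finset.range q, S ^ i = 0) :
    ∃ n : ℕ, n * n = Nat.card (G ⧸ Subgroup.center G) ∧ (n = 1 ∨ n + 1 = q) := by
  classical
  have hq : q.Prime := Fact.out
  set Z := Subgroup.center G with hZdef
  haveI := Fintype.ofFinite (G ⧸ Z)
  set A := Algebra.adjoin K (Set.range g) with hA
  let ga : G →* A :=
    { toFun := fun x => ⟨g x, Algebra.subset_adjoin ⟨x, rfl⟩⟩
      map_one' := Subtype.ext g.map_one
      map_mul' := fun x y => Subtype.ext (g.map_mul x y) }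
  have hAspan : Subalgebra.toSubmodule A = Submodule.span K (Set.range g) := by
    rw [hA, Algebra.adjoin_eq_span, ← MonoidHom.coe_mrange, Submonoid.closure_eq]
  have hgaspan : Submodule.span K (Set.range ga) = ⊤ := by
    refine Submodule.map_injective_of_injective (f := A.val.toLinearMap) Subtype.val_injective ?_
    rw [Submodule.map_span, ← Set.range_comp, Submodule.map_top]
    refine (?_ : Submodule.span K (Set.range g) = _)
    rw [← hAspan]
    ext y; simp
  let r : G ⧸ Z → G := fun u => if u = 1 then 1 else Quotient.out u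
  have hr : ∀ u, (r u : G ⧸ Z) = u := by
    intro u
    show ((if u = 1 then 1 else Quotient.out u : G) : G ⧸ Z) = u
    split_ifs with h
    · rw [QuotientGroup.mk_one, h]
    · exact Quotient.out_eq u
  haveI : Nontrivial A := ⟨⟨0, 1, fun h => zero_ne_one (congrArg Subtype.val h)⟩⟩
  obtain ⟨hsimple, hli, hrspan⟩ := central_type_algebra (K := K) ga
    (fun z hz => by
      obtain ⟨c, hc⟩ := hZ z hz
      exact ⟨c, Subtype.ext hc⟩) hcomm
    (fun u hu => by
      obtain ⟨x, hx⟩ := hnd u hu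
      exact ⟨x, fun h => hx (congrArg Subtype.val h)⟩) hgaspan r hr
  haveI : FiniteDimensional K A := FiniteDimensional.finiteDimensional_submodule A.toSubmodule
  obtain ⟨n, hn0, ⟨E⟩⟩ := IsSimpleRing.exists_algEquiv_matrix_of_isAlgClosed K A
  have hcard : Nat.card (G ⧸ Z) = n * n := by
    rw [Nat.card_eq_fintype_card, ← Module.finrank_eq_card_basis (Module.Basis.mk hli hrspan.ge),
      E.toLinearEquiv.finrank_eq]
    simp [Module.finrank_matrix]
  -- the automorphism
  set S' := S ^ (q - 1) with hS'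
  have hSS' : S * S' = 1 := by rw [hS', ← pow_succ', Nat.sub_add_cancel hq.one_le, hSq]
  have hS'S : S' * S = 1 := by rw [hS', ← pow_succ, Nat.sub_add_cancel hq.one_le, hSq]
  have hτg : ∀ x, S * g x * S' = g (θ x) := fun x => by rw [hS, mul_assoc, hSS', mul_one]
  have hτA : ∀ y ∈ A, S * y * S' ∈ A := by
    intro y hy
    have h1 : y ∈ (Subalgebra.toSubmodule A).comap
        ((LinearMap.mulRight K S').comp (LinearMap.mulLeft K S)) := by
      have h2 : Subalgebra.toSubmodule A ≤ (Subalgebra.toSubmodule A).comap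
          ((LinearMap.mulRight K S').comp (LinearMap.mulLeft K S)) := by
        conv_lhs => rw [hAspan]
        rw [Submodule.span_le]
        rintro _ ⟨x, rfl⟩
        show S * g x * S' ∈ A
        rw [hτg]; exact Algebra.subset_adjoin ⟨_, rfl⟩
      exact h2 hy
    exact h1
  have hmul : ∀ y z : Module.End K W, S * (y * z) * S' = (S * y * S') * (S * z * S') := fun y z => by
    rw [show (S * y * S') * (S * z * S') = S * y * (S' * S) * z * S' by simp [mul_assoc], hS'S,
      mul_one, mul_assoc S y z]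
  let τ₀ : A →ₐ[K] A := AlgHom.ofLinearMap
    { toFun := fun y => ⟨S * y.1 * S', hτA y.1 y.2⟩
      map_add' := fun y z => Subtype.ext (by simp [mul_add, add_mul])
      map_smul' := fun c y => Subtype.ext (by simp) }
    (Subtype.ext (by simp [hSS'])) (fun y z => Subtype.ext (hmul y.1 z.1))
  have hτinj : Function.Injective τ₀ := by
    intro y z h
    have h' : S * y.1 * S' = S * z.1 * S' := congrArg Subtype.val h
    refine Subtype.ext ?_
    have := congrArg (fun w => S' * w * S) h'
    simpa [← mul_assoc, hS'S, mul_assoc _ S' S] using this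
  let τ : A ≃ₐ[K] A := AlgEquiv.ofBijective τ₀
    ⟨hτinj, LinearMap.surjective_of_injective (f := τ₀.toLinearMap) hτinj⟩
  have hτval : ∀ y : A, (τ y).1 = S * y.1 * S' := fun y => rfl
  have hτit : ∀ (k : ℕ) (y : A), (τ^[k] y).1 = S ^ k * y.1 * S' ^ k := by
    intro k
    induction k with
    | zero => intro y; simp
    | succ k ih =>
      intro y
      rw [Function.iterate_succ_apply', hτval, ih, pow_succ', pow_succ S' k]
      simp [mul_assoc]
  have hS'q : S' ^ q = 1 := by rw [hS', ← pow_mul, mul_comm, pow_mul, hSq, one_pow]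
  have hτq : ∀ y : A, τ^[q] y = y := fun y => Subtype.ext (by rw [hτit, hSq, hS'q]; simp)
  let β : Matrix (Fin n) (Fin n) K ≃ₐ[K] Matrix (Fin n) (Fin n) K := E.symm.trans (τ.trans E)
  have hβE : ∀ y, β (E y) = E (τ y) := fun y => by simp [β]
  let T : Matrix (Fin n) (Fin n) K ≃ₐ[K] Module.End K (Fin n → K) := Matrix.toLinAlgEquiv'
  obtain ⟨L, hL⟩ := LinearEquiv.conjAlgEquiv_surjective K (Fin n → K) (Fin n → K)
    (T.symm.trans (β.trans T))
  let a : (Matrix (Fin n) (Fin n) K)ˣ :=
    ⟨T.symm L.toLinearMap, T.symm L.symm.toLinearMap,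
      by rw [← map_mul, Module.End.mul_eq_comp, LinearEquiv.comp_symm, ← Module.End.one_eq_id, map_one],
      by rw [← map_mul, Module.End.mul_eq_comp, LinearEquiv.symm_comp, ← Module.End.one_eq_id, map_one]⟩
  have hβa : ∀ X, β X = (a : Matrix (Fin n) (Fin n) K) * X
      * ((a⁻¹ : (Matrix (Fin n) (Fin n) K)ˣ) : Matrix (Fin n) (Fin n) K) := by
    intro X
    apply T.injective
    have := AlgEquiv.congr_fun hL (T X)
    simp only [AlgEquiv.trans_apply, AlgEquiv.symm_apply_apply] at this
    rw [← this, map_mul, map_mul, AlgEquiv.apply_symm_apply]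
    show _ = L.toLinearMap * T X * T (T.symm L.symm.toLinearMap)
    rw [AlgEquiv.apply_symm_apply]
    rfl
  have hβit : ∀ (k : ℕ) X, β^[k] X = ((a ^ k : (Matrix (Fin n) (Fin n) K)ˣ) : Matrix (Fin n) (Fin n) K)
      * X * (((a ^ k)⁻¹ : (Matrix (Fin n) (Fin n) K)ˣ) : Matrix (Fin n) (Fin n) K) := by
    intro k
    induction k with
    | zero => intro X; simp
    | succ k ih =>
      intro X
      rw [Function.iterate_succ_apply', hβa, ih, pow_succ' a k, _root_.mul_inv_rev]
      simp [mul_assoc]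
  have hβEit : ∀ (k : ℕ) y, β^[k] (E y) = E (τ^[k] y) := by
    intro k
    induction k with
    | zero => intro y; rfl
    | succ k ih => intro y; rw [Function.iterate_succ_apply', ih, hβE, Function.iterate_succ_apply']
  have hcen : ∀ X, ((a ^ q : (Matrix (Fin n) (Fin n) K)ˣ) : Matrix (Fin n) (Fin n) K) * X
      = X * ((a ^ q : (Matrix (Fin n) (Fin n) K)ˣ) : Matrix (Fin n) (Fin n) K) := by
    intro X
    have h1 := hβit q X
    rw [← E.apply_symm_apply X, hβEit, hτq, E.apply_symm_apply] at h1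
    conv_rhs => rw [h1]
    rw [Units.inv_mul_cancel_right]
  obtain ⟨c, hc⟩ := Matrix.mem_range_scalar_of_commute_single
    (M := ((a ^ q : (Matrix (Fin n) (Fin n) K)ˣ) : Matrix (Fin n) (Fin n) K))
    (fun i j _ => (hcen _).symm)
  haveI : Nonempty (Fin n) := ⟨⟨0, Nat.pos_of_ne_zero hn0.out⟩⟩
  have hc0 : c ≠ 0 := by
    rintro rfl
    exact (a ^ q).ne_zero (by rw [← hc, map_zero])
  obtain ⟨ξ, hξ⟩ := IsAlgClosed.exists_pow_nat_eq c hq.pos
  have hξ0 : ξ ≠ 0 := by rintro rfl; rw [zero_pow hq.ne_zero] at hξ; exact hc0 hξ.symm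
  let s : (Matrix (Fin n) (Fin n) K)ˣ :=
    ⟨ξ⁻¹ • (a : Matrix (Fin n) (Fin n) K),
      ξ • ((a⁻¹ : (Matrix (Fin n) (Fin n) K)ˣ) : Matrix (Fin n) (Fin n) K),
      by rw [smul_mul_smul_comm, inv_mul_cancel₀ hξ0, Units.mul_inv, one_smul],
      by rw [smul_mul_smul_comm, mul_inv_cancel₀ hξ0, Units.inv_mul, one_smul]⟩
  have hsq : (s : Matrix (Fin n) (Fin n) K) ^ q = 1 := by
    show (ξ⁻¹ • (a : Matrix (Fin n) (Fin n) K)) ^ q = 1
    rw [smul_pow, ← Units.val_pow_eq_pow_val, ← hc, inv_pow, hξ]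
    ext i j
    rcases eq_or_ne i j with rfl | hij
    · simp [Matrix.scalar_apply, hc0]
    · simp [Matrix.scalar_apply, hij]
  have hβs : ∀ X, β X = (s : Matrix (Fin n) (Fin n) K) * X
      * ((s⁻¹ : (Matrix (Fin n) (Fin n) K)ˣ) : Matrix (Fin n) (Fin n) K) := by
    intro X
    show _ = (ξ⁻¹ • (a : Matrix (Fin n) (Fin n) K)) * X
      * (ξ • ((a⁻¹ : (Matrix (Fin n) (Fin n) K)ˣ) : Matrix (Fin n) (Fin n) K))
    rw [smul_mul_assoc, smul_mul_smul_comm, inv_mul_cancel₀ hξ0, one_smul, hβa]
  -- descend the relation of `S`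
  let t : A := E.symm (s : Matrix (Fin n) (Fin n) K)
  let t' : A := E.symm ((s⁻¹ : (Matrix (Fin n) (Fin n) K)ˣ) : Matrix (Fin n) (Fin n) K)
  have htt' : t.1 * t'.1 = 1 := by
    have : t * t' = 1 := by
      show E.symm _ * E.symm _ = 1
      rw [← map_mul, Units.mul_inv, map_one]
    exact congrArg Subtype.val this
  have ht't : t'.1 * t.1 = 1 := by
    have : t' * t = 1 := by
      show E.symm _ * E.symm _ = 1
      rw [← map_mul, Units.inv_mul, map_one]
    exact congrArg Subtype.val this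
  have htq : t.1 ^ q = 1 := by
    have : t ^ q = 1 := by simp [t, ← map_pow, hsq]
    exact congrArg Subtype.val this
  have hτt : ∀ y : A, S * y.1 * S' = t.1 * y.1 * t'.1 := by
    intro y
    rw [← hτval]
    have h1 : E (τ y) = E (t * y * t') := by
      rw [← hβE, hβs, map_mul, map_mul]; simp [t, t']
    exact congrArg Subtype.val (E.injective h1)
  set c₀ := t'.1 * S with hc₀
  have hcomA : ∀ y : A, c₀ * y.1 = y.1 * c₀ := by
    intro y
    rw [hc₀, mul_assoc, show S * y.1 = S * y.1 * S' * S by rw [mul_assoc, hS'S, mul_one], hτt]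
    rw [← mul_assoc, ← mul_assoc, ← mul_assoc, ht't, one_mul, mul_assoc]
  have hSt : S = t.1 * c₀ := by rw [hc₀, ← mul_assoc, htt', one_mul]
  have hcq : c₀ ^ q = 1 := by
    have h1 := hSq
    rw [hSt, (show Commute t.1 c₀ from (hcomA t).symm).mul_pow, htq, one_mul] at h1
    exact h1
  obtain ⟨μ, hμ⟩ := Module.End.exists_eigenvalue c₀
  obtain ⟨v₀, hv₀⟩ := hμ.exists_hasEigenvector
  have hμit : ∀ (k : ℕ) v, c₀ v = μ • v → (c₀ ^ k) v = μ ^ k • v := by
    intro k
    induction k with
    | zero => intro v _; simp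
    | succ k ih =>
      intro v hv
      rw [pow_succ, Module.End.mul_apply, hv, map_smul, ih v hv, smul_smul, pow_succ']
  have hμq : μ ^ q = 1 := by
    have h1 := hμit q v₀ hv₀.apply_eq_smul
    rw [hcq, Module.End.one_apply] at h1
    exact (smul_left_injective K hv₀.2 ((one_smul K v₀).trans h1)).symm
  set Y₀ := ∑ i ∈ Finset.range q, (μ • (s : Matrix (Fin n) (Fin n) K)) ^ i with hY₀
  have hY₀kill : ∀ v, c₀ v = μ • v → (E.symm Y₀).1 v = 0 := by
    intro v hv
    have h1 : E.symm Y₀ = ∑ i ∈ Finset.range q, (μ • t) ^ i := by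
      rw [hY₀, map_sum]; simp [t]
    have h2 : (∑ i ∈ Finset.range q, S ^ i) v = (0 : W) := by rw [hsum]; rfl
    rw [h1, ← A.val_apply, map_sum, LinearMap.sum_apply]
    rw [LinearMap.sum_apply] at h2
    refine Eq.trans (Finset.sum_congr rfl fun i _ => ?_) h2
    rw [map_pow, map_smul, A.val_apply, smul_pow, LinearMap.smul_apply, hSt,
      (show Commute t.1 c₀ from (hcomA t).symm).mul_pow, Module.End.mul_apply, hμit i v hv, map_smul]
  have hY0 : Y₀ = 0 := by
    by_contra hne
    obtain ⟨i, j, hij⟩ : ∃ i j, Y₀ i j ≠ 0 := by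
      by_contra hall
      push Not at hall
      exact hne (Matrix.ext hall)
    have h1 : ∀ (X X' : Matrix (Fin n) (Fin n) K), (E.symm (X * Y₀ * X')).1 v₀ = 0 := by
      intro X X'
      rw [map_mul, map_mul]
      show ((E.symm X).1 * (E.symm Y₀).1 * (E.symm X').1) v₀ = 0
      rw [Module.End.mul_apply, Module.End.mul_apply, hY₀kill, map_zero]
      rw [← Module.End.mul_apply, hcomA, Module.End.mul_apply, hv₀.apply_eq_smul, map_smul]
    have hone : (1 : Matrix (Fin n) (Fin n) K)
        = ∑ a : Fin n, ((Y₀ i j)⁻¹ • Matrix.single a i (1 : K)) * Y₀ * Matrix.single j a (1 : K) := by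
      rw [Finset.sum_congr rfl fun a _ => show _ = Matrix.single a a (1 : K) by
        rw [smul_mul_assoc, smul_mul_assoc, Matrix.single_mul_mul_single, one_mul, mul_one,
          Matrix.smul_single, smul_eq_mul, inv_mul_cancel₀ hij]]
      exact Matrix.sum_single_one.symm
    have h2 : (E.symm (1 : Matrix (Fin n) (Fin n) K)).1 v₀ = 0 := by
      rw [hone, map_sum, ← A.val_apply, map_sum, LinearMap.sum_apply]
      exact Finset.sum_eq_zero fun a _ => h1 _ _
    rw [map_one] at h2
    exact hv₀.2 h2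
  -- the count
  have hμ0 : μ ≠ 0 := by rintro rfl; rw [zero_pow hq.ne_zero] at hμq; exact zero_ne_one hμq
  let s' : (Matrix (Fin n) (Fin n) K)ˣ :=
    ⟨μ • (s : Matrix (Fin n) (Fin n) K),
      μ⁻¹ • ((s⁻¹ : (Matrix (Fin n) (Fin n) K)ˣ) : Matrix (Fin n) (Fin n) K),
      by rw [smul_mul_smul_comm, mul_inv_cancel₀ hμ0, Units.mul_inv, one_smul],
      by rw [smul_mul_smul_comm, inv_mul_cancel₀ hμ0, Units.inv_mul, one_smul]⟩
  have hmapZ : Z.map θ.toMonoidHom = Z := by
    ext z
    simp only [Subgroup.mem_map, MulEquiv.coe_toMonoidHom]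
    exact ⟨fun ⟨w, hw, he⟩ => he ▸ (hθZ w hw).symm ▸ hw, fun hz => ⟨z, hz, hθZ z hz⟩⟩
  let φ : G ⧸ Z ≃* G ⧸ Z := QuotientGroup.congr Z Z θ hmapZ
  have hφmk : ∀ x : G, φ (x : G ⧸ Z) = ((θ x : G) : G ⧸ Z) := fun x => rfl
  have hφit : ∀ (k : ℕ) (x : G), φ^[k] (x : G ⧸ Z) = ((θ^[k] x : G) : G ⧸ Z) := by
    intro k
    induction k with
    | zero => intro x; rfl
    | succ k ih => intro x; rw [Function.iterate_succ_apply', ih, hφmk, Function.iterate_succ_apply']
  have hgit : ∀ (k : ℕ) x, S ^ k * g x * S' ^ k = g (θ^[k] x) := by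
    intro k
    induction k with
    | zero => intro x; simp
    | succ k ih =>
      intro x
      rw [Function.iterate_succ_apply', ← hτg, ← ih, pow_succ', pow_succ S' k]
      simp [mul_assoc]
  have hper : ∀ u, φ^[q] u = u := by
    intro u
    induction u using QuotientGroup.induction_on with
    | H x =>
      rw [hφit, QuotientGroup.eq]
      by_contra hn
      obtain ⟨w, hw⟩ := hnd _ hn
      apply hw
      have h1 : g (θ^[q] x) = g x := by rw [← hgit, hSq, hS'q]; simp
      have h2 : g ((θ^[q] x)⁻¹ * x) = 1 := by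
        rw [map_mul, ← h1, ← map_mul, inv_mul_cancel, map_one]
      have h3 : g ((θ^[q] x)⁻¹ * x)⁻¹ = 1 := by
        have := congrArg (fun y => g ((θ^[q] x)⁻¹ * x)⁻¹ * y) h2
        simpa [← map_mul] using this.symm
      rw [map_mul, map_mul, map_mul, h2, h3, mul_one, mul_one, ← map_mul, mul_inv_cancel, map_one]
  haveI : NeZero (q : K) := ⟨hqK⟩
  obtain ⟨ω, hω⟩ := HasEnoughRootsOfUnity.exists_primitiveRoot K q
  refine ⟨n, hcard.symm, matrix_count hqK hω s' ?_ ?_ φ.toEquiv hper 1 (map_one φ) ?_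
    (fun u => E (ga (r u))) ?_ hcard ?_ ?_ ?_⟩
  · show (μ • (s : Matrix (Fin n) (Fin n) K)) ^ q = 1
    rw [smul_pow, hμq, hsq, one_smul]
  · exact hY0
  · intro u hu
    induction u using QuotientGroup.induction_on with
    | H x =>
      rw [QuotientGroup.eq_one_iff]
      exact hfix x (QuotientGroup.eq.1 hu.symm)
  · rw [Set.range_comp' E (fun u => ga (r u))]
    show Submodule.span K ((E.toLinearEquiv : A →ₗ[K] Matrix (Fin n) (Fin n) K) '' _) = ⊤
    rw [← Submodule.map_span, hrspan,
      Submodule.map_top, LinearEquiv.range]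
  · intro u
    obtain ⟨c, hc⟩ := hZ ((r (φ u))⁻¹ * θ (r u))
      (by rw [← QuotientGroup.eq, hr]; conv_lhs => rw [← hr u, hφmk])
    refine ⟨c, ?_⟩
    show (μ • (s : Matrix (Fin n) (Fin n) K)) * _
      * (μ⁻¹ • ((s⁻¹ : (Matrix (Fin n) (Fin n) K)ˣ) : Matrix (Fin n) (Fin n) K)) = _
    rw [smul_mul_assoc, smul_mul_smul_comm, mul_inv_cancel₀ hμ0, one_smul, ← hβs, hβE]
    show E (τ (ga (r u))) = c • E (ga (r (φ u)))
    rw [← map_smul]
    congr 1
    refine Subtype.ext ?_
    show S * g (r u) * S' = c • g (r (φ u))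
    rw [hτg]
    conv_lhs => rw [← mul_inv_cancel_left (r (φ u)) (θ (r u)), map_mul, hc, mul_smul_comm, mul_one]
  · intro u h
    have h0 : ga (r u) = 0 := E.injective (h.trans (map_zero E).symm)
    have := hli.ne_zero u
    exact this h0
  · show E (ga (r 1)) = 1
    rw [show r 1 = 1 from if_pos rfl, map_one, map_one]

end CfsgLib.Solv.HB
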