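import Mathlib

/-!
The counting step in the theorem of Hall and Higman on minimal polynomials: a matrix algebra with
a basis permuted in regular orbits (and one fixed element) by an inner automorphism of prime order
without fixed vector has dimension `(q - 1)²`.
-/

set_option autoImplicit false
set_option linter.unusedSectionVars false
set_option linter.style.haveILetI false

namespace CfsgLib.Solv.HB

open Matrix

/-- Number of orbits of a permutation of prime period with a single fixed point. -/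
theorem exists_orbit_reps {Q : Type*} [Finite Q] {q : ℕ} (hq : q.Prime) (φ : Q ≃ Q)
    (hper : ∀ u, φ^[q] u = u) (u₀ : Q) (h₀ : φ u₀ = u₀) (huniq : ∀ u, φ u = u → u = u₀) :
    ∃ (o : ℕ) (rep : Fin o → Q), Nat.card Q = 1 + q * o ∧
      ∀ u, u ≠ u₀ → ∃ (i : Fin o) (k : ℕ), u = φ^[k] (rep i) := by
  classical
  haveI := Fintype.ofFinite Q
  haveI : NeZero q := ⟨hq.ne_zero⟩
  have hmul : ∀ (k : ℕ) u, (φ ^ k) u = φ^[k] u := by
    intro k
    induction k with
    | zero => intro u; rfl
    | succ k ih => intro u; rw [pow_succ, Equiv.Perm.mul_apply, ih, Function.iterate_succ_apply]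
  have hφq : φ ^ q = (1 : Equiv.Perm Q) := Equiv.ext fun u => by rw [hmul, hper]; rfl
  let R : Setoid Q :=
    { r := fun u v => ∃ k : ℕ, v = φ^[k] u
      iseqv := by
        refine ⟨fun u => ⟨0, rfl⟩, ?_, ?_⟩
        · rintro u v ⟨k, rfl⟩
          refine ⟨k * q - k, ?_⟩
          rw [← Function.iterate_add_apply, Nat.sub_add_cancel (Nat.le_mul_of_pos_right k hq.pos),
            Function.iterate_mul]
          induction q with
          | zero => exact absurd hq Nat.not_prime_zero
          | succ q _ =>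
            have : ∀ m : ℕ, ∀ x, (φ^[k])^[m] x = φ^[k * m] x := fun m x => by
              rw [Function.iterate_mul]
            rw [this, mul_comm, Function.iterate_mul]
            exact (Function.iterate_fixed (hper u) k).symm
        · rintro u v w ⟨k, rfl⟩ ⟨l, rfl⟩
          exact ⟨l + k, (Function.iterate_add_apply _ l k u).symm⟩ }
  let S : Set Q := {u | u ≠ u₀}
  have hinv : ∀ (k : ℕ) u, u ≠ u₀ → φ^[k] u ≠ u₀ := by
    intro k u hu he
    apply hu
    refine (φ.injective.iterate k) ?_
    rw [he, Function.iterate_fixed h₀ k]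
  have hfree : ∀ u, u ≠ u₀ → Function.minimalPeriod φ u = q := by
    intro u hu
    have h1 : Function.minimalPeriod φ u ∣ q :=
      Function.IsPeriodicPt.minimalPeriod_dvd (hper u)
    rcases (Nat.dvd_prime hq).1 h1 with h | h
    · exact absurd (huniq u (Function.minimalPeriod_eq_one_iff_isFixedPt.1 h)) hu
    · exact h
  let O := {c : Quotient R // c ≠ Quotient.mk R u₀}
  haveI : Fintype O := Fintype.ofFinite O
  let e : Fin (Fintype.card O) ≃ O := (Fintype.equivFin O).symm
  let rep : Fin (Fintype.card O) → Q := fun i => Quotient.out (e i).1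
  refine ⟨Fintype.card O, rep, ?_, ?_⟩
  · have hrep : ∀ c : O, Quotient.out c.1 ≠ u₀ := fun c h => c.2 (by
      rw [← Quotient.out_eq c.1, h])
    let f : O × Fin q → {u : Q // u ≠ u₀} := fun p =>
      ⟨φ^[p.2.1] (Quotient.out p.1.1), hinv _ _ (hrep p.1)⟩
    have hf : Function.Bijective f := by
      constructor
      · rintro ⟨c, i⟩ ⟨d, j⟩ hcd
        have hcd' : φ^[i.1] (Quotient.out c.1) = φ^[j.1] (Quotient.out d.1) := congrArg Subtype.val hcd
        have h1 : c = d := by
          apply Subtype.ext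
          rw [← Quotient.out_eq c.1, ← Quotient.out_eq d.1]
          refine Quotient.sound ?_
          exact R.trans' (⟨i.1, rfl⟩ : R.r _ (φ^[i.1] (Quotient.out c.1)))
            (R.symm' (⟨j.1, hcd'⟩ : R.r (Quotient.out d.1) _))
        subst h1
        refine Prod.ext rfl (Fin.ext ?_)
        exact (Function.iterate_eq_iterate_iff_of_lt_minimalPeriod
          (by rw [hfree _ (hrep c)]; exact i.2) (by rw [hfree _ (hrep c)]; exact j.2)).1 hcd'
      · rintro ⟨u, hu⟩
        have hc : Quotient.mk R u ≠ Quotient.mk R u₀ := by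
          intro h
          obtain ⟨k, hk⟩ := R.symm' (Quotient.exact h)
          exact hu (by rw [hk, Function.iterate_fixed h₀ k])
        obtain ⟨k, hk⟩ : ∃ k : ℕ, u = φ^[k] (Quotient.out (Quotient.mk R u)) :=
          Quotient.exact (Quotient.out_eq (Quotient.mk R u))
        refine ⟨(⟨_, hc⟩, ⟨k % q, Nat.mod_lt _ hq.pos⟩), Subtype.ext ?_⟩
        show φ^[k % q] _ = u
        rw [Function.IsPeriodicPt.iterate_mod_apply (hper (Quotient.out (Quotient.mk R u))) k]
        exact hk.symm
    have h1 := Nat.card_eq_of_bijective f hf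
    rw [Nat.card_prod, Nat.card_fin, Nat.card_eq_fintype_card, Nat.card_eq_fintype_card] at h1
    rw [Nat.card_eq_fintype_card, ← Fintype.card_congr (Equiv.optionSubtypeNe u₀),
      Fintype.card_option, ← h1, mul_comm, add_comm]
  · intro u hu
    have hc : Quotient.mk R u ≠ Quotient.mk R u₀ := by
      intro h
      obtain ⟨k, hk⟩ := R.symm' (Quotient.exact h)
      exact hu (by rw [hk, Function.iterate_fixed h₀ k])
    refine ⟨e.symm ⟨_, hc⟩, ?_⟩
    show ∃ k : ℕ, u = φ^[k] (Quotient.out (e (e.symm ⟨_, hc⟩)).1)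
    rw [Equiv.apply_symm_apply]
    exact Quotient.exact (Quotient.out_eq (Quotient.mk R u))

/-- The combinatorial step. -/
theorem count_aux {n q : ℕ} [Fact q.Prime] (e : Fin n → ZMod q) (he : ∀ a, e a ≠ 0) (o : ℕ)
    (hn : n * n = 1 + q * o)
    (hle : ∀ j : ZMod q, (Finset.univ.filter fun x : Fin n × Fin n => e x.1 - e x.2 = j).card
      ≤ o + if j = 0 then 1 else 0) :
    n = 1 ∨ n + 1 = q := by
  classical
  set N : ZMod q → ℕ := fun j => (Finset.univ.filter fun x : Fin n × Fin n => e x.1 - e x.2 = j).card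
    with hN
  have hsum : ∑ j, N j = n * n := by
    rw [hN]
    simp only
    rw [← Finset.card_eq_sum_card_fiberwise (fun x _ => Finset.mem_univ _), Finset.card_univ,
      Fintype.card_prod, Fintype.card_fin]
  have hsum' : ∑ j : ZMod q, (o + if j = 0 then 1 else 0) = n * n := by
    rw [Finset.sum_add_distrib, Finset.sum_const, Finset.sum_ite_eq', Finset.card_univ, ZMod.card]
    simp only [Finset.mem_univ, if_true, smul_eq_mul]
    omega
  have heq : ∀ j, N j = o + if j = 0 then 1 else 0 := fun j =>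
    (Finset.sum_eq_sum_iff_of_le (fun i _ => hle i)).1 (hsum.trans hsum'.symm) j (Finset.mem_univ j)
  set m : ZMod q → ℕ := fun i => (Finset.univ.filter fun a : Fin n => e a = i).card with hm
  have hNm : ∀ j, N j = ∑ i, m i * m (i - j) := by
    intro j
    have h1 : N j = ∑ a : Fin n, m (e a - j) := by
      rw [hN, hm]
      simp only
      rw [Finset.card_filter, Fintype.sum_prod_type]
      refine Finset.sum_congr rfl fun a _ => ?_
      rw [Finset.card_filter]
      refine Finset.sum_congr rfl fun b _ => ?_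
      refine if_congr ?_ rfl rfl
      constructor <;> intro h
      · rw [← h]; abel
      · rw [h]; abel
    rw [h1, ← Finset.sum_fiberwise (Finset.univ) e (fun a => m (e a - j))]
    refine Finset.sum_congr rfl fun i _ => ?_
    rw [Finset.sum_congr rfl (fun a ha => by rw [(Finset.mem_filter.1 ha).2] : ∀ a ∈ _, m (e a - j) = m (i - j)),
      Finset.sum_const, smul_eq_mul]
  have hm0 : m 0 = 0 := Finset.card_eq_zero.2 (Finset.filter_eq_empty_iff.2 fun a _ => he a)
  have hle1 : ∀ j, m j ≤ 1 := by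
    intro j
    rcases eq_or_ne j 0 with rfl | hj
    · omega
    have hsq : ∑ i, ((m i : ℤ) - m (i - j)) ^ 2 = 2 := by
      have h0 := heq 0
      have hjj := heq j
      rw [hNm, if_pos rfl] at h0
      rw [hNm, if_neg hj] at hjj
      simp only [sub_zero] at h0
      have hshift : ∑ i, ((m (i - j) : ℤ)) ^ 2 = ∑ i, ((m i : ℤ)) ^ 2 :=
        Fintype.sum_equiv (Equiv.subRight j) _ _ fun i => rfl
      have h0' : ∑ i, ((m i : ℤ)) ^ 2 = o + 1 := by
        rw [show ((o : ℤ) + 1) = ((o + 1 : ℕ) : ℤ) by push_cast; ring, ← h0, Nat.cast_sum]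
        exact Finset.sum_congr rfl fun i _ => by push_cast; ring
      have hjj' : ∑ i, ((m i : ℤ)) * m (i - j) = o := by
        rw [show (o : ℤ) = ((o + 0 : ℕ) : ℤ) by push_cast; ring, ← hjj, Nat.cast_sum]
        exact Finset.sum_congr rfl fun i _ => by push_cast; ring
      calc ∑ i, ((m i : ℤ) - m (i - j)) ^ 2
          = ∑ i, ((m i : ℤ)) ^ 2 + ∑ i, ((m (i - j) : ℤ)) ^ 2 - 2 * ∑ i, (m i : ℤ) * m (i - j) := by
            rw [Finset.mul_sum, ← Finset.sum_add_distrib, ← Finset.sum_sub_distrib]
            exact Finset.sum_congr rfl fun i _ => by ring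
        _ = 2 := by rw [hshift, h0', hjj']; ring
    have h1 : ((m j : ℤ) - m (j - j)) ^ 2 ≤ 2 := hsq ▸
      Finset.single_le_sum (f := fun i => ((m i : ℤ) - m (i - j)) ^ 2) (fun i _ => sq_nonneg _)
        (Finset.mem_univ j)
    rw [sub_self, hm0, Nat.cast_zero, sub_zero] at h1
    by_contra hcon
    have h2 : (2 : ℤ) ≤ m j := by omega
    nlinarith
  have hmsum : ∑ i, m i = n := by
    rw [hm]
    simp only
    rw [← Finset.card_eq_sum_card_fiberwise (fun x _ => Finset.mem_univ _), Finset.card_univ,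
      Fintype.card_fin]
  have ho : n = o + 1 := by
    have h0 := heq 0
    rw [hNm, if_pos rfl] at h0
    simp only [sub_zero] at h0
    rw [← h0, ← hmsum]
    refine Finset.sum_congr rfl fun i _ => ?_
    have := hle1 i
    interval_cases (m i) <;> simp
  rcases Nat.eq_zero_or_pos o with h | h
  · left; omega
  · right
    subst ho
    have : o * (o + 2) = o * q := by ring_nf at hn ⊢; omega
    have := Nat.eq_of_mul_eq_mul_left h this
    omega

variable {K : Type*} [Field K]

/-- A matrix of prime order different from the characteristic without fixed vector can be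
diagonalised with nontrivial roots of unity. -/
theorem exists_diagonal {q : ℕ} [Fact q.Prime] (hqK : (q : K) ≠ 0) {ω : K}
    (hω : IsPrimitiveRoot ω q) {n : ℕ} (s : Matrix (Fin n) (Fin n) K) (hs : s ^ q = 1)
    (hsum : ∑ i ∈ Finset.range q, s ^ i = 0) :
    ∃ (P : (Matrix (Fin n) (Fin n) K)ˣ) (e : Fin n → ZMod q), (∀ a, e a ≠ 0) ∧
      ((P⁻¹ : (Matrix (Fin n) (Fin n) K)ˣ) : Matrix (Fin n) (Fin n) K) * s * P =
        Matrix.diagonal (fun a => ω ^ (e a).val) := by
  classical
  have hq : q.Prime := Fact.out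
  haveI : NeZero q := ⟨hq.ne_zero⟩
  let f : Module.End K (Fin n → K) := Matrix.toLinAlgEquiv' s
  have hf : f ^ q = 1 := by rw [← map_pow, hs, map_one]
  let E : Set (Fin n → K) := {v | ∃ j : ℕ, j < q ∧ f v = ω ^ j • v}
  have hspan : ⊤ ≤ Submodule.span K E := by
    intro v _
    have hmem : ∀ j ∈ Finset.range q, (∑ i ∈ Finset.range q, (ω ^ (j * i))⁻¹ • (f ^ i) v) ∈
        Submodule.span K E := by
      intro j hj
      refine Submodule.subset_span ⟨j, Finset.mem_range.1 hj, ?_⟩
      set g : ℕ → (Fin n → K) := fun i => (ω ^ (j * i))⁻¹ • (f ^ i) v with hg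
      have hstep : ∀ i, f (g i) = ω ^ j • g (i + 1) := by
        intro i
        rw [hg]
        simp only
        rw [map_smul, smul_smul, pow_succ', Module.End.mul_apply, mul_add, mul_one, pow_add, mul_inv,
          mul_comm (ω ^ j), mul_assoc, inv_mul_cancel₀ (pow_ne_zero _ (hω.ne_zero hq.ne_zero)), mul_one]
      have hgq : g q = g 0 := by
        rw [hg]
        simp only
        rw [hf, mul_comm, pow_mul, hω.pow_eq_one, one_pow, inv_one, mul_zero, pow_zero, inv_one,
          pow_zero]
      rw [map_sum, Finset.sum_congr rfl (fun i _ => hstep i), ← Finset.smul_sum]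
      congr 1
      have := Finset.sum_range_succ g q
      rw [Finset.sum_range_succ', hgq, add_left_inj] at this
      exact this
    have hv : ∑ j ∈ Finset.range q, ∑ i ∈ Finset.range q, (ω ^ (j * i))⁻¹ • (f ^ i) v = (q : K) • v := by
      rw [Finset.sum_comm, Finset.sum_eq_single_of_mem 0 (Finset.mem_range.2 hq.pos)]
      · simp [Nat.cast_smul_eq_nsmul]
      · intro i hi hi0
        rw [← Finset.sum_smul]
        have h1 : ∑ j ∈ Finset.range q, (ω ^ (j * i))⁻¹ = 0 := by
          have hne : (ω ^ i)⁻¹ ≠ 1 := by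
            rw [ne_eq, inv_eq_one]
            exact hω.pow_ne_one_of_pos_of_lt hi0 (Finset.mem_range.1 hi)
          have e1 : ∑ j ∈ Finset.range q, (ω ^ (j * i))⁻¹ = ∑ j ∈ Finset.range q, ((ω ^ i)⁻¹) ^ j :=
            Finset.sum_congr rfl fun j _ => by rw [inv_pow, ← pow_mul, mul_comm]
          rw [e1, geom_sum_eq hne, inv_pow, ← pow_mul, mul_comm, pow_mul, hω.pow_eq_one, one_pow,
            inv_one, sub_self, zero_div]
        rw [h1, zero_smul]
    have := Submodule.sum_mem _ hmem
    rw [hv] at this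
    exact (Submodule.smul_mem_iff _ hqK).1 this
  let b₀ := Module.Basis.ofSpan hspan
  haveI : Fintype _ := FiniteDimensional.fintypeBasisIndex b₀
  let b := b₀.reindex ((Fintype.equivFinOfCardEq
    ((Module.finrank_eq_card_basis b₀).symm.trans (Module.finrank_fin_fun (R := K) (n := n)))))
  have hbE : ∀ a, b a ∈ E := by
    intro a
    rw [Module.Basis.reindex_apply]
    exact Module.Basis.ofSpan_subset hspan ⟨_, rfl⟩
  choose j hjq hj using hbE
  let P : Matrix (Fin n) (Fin n) K := Matrix.of fun i a => b a i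
  have hPb : P = (Pi.basisFun K (Fin n)).toMatrix b := by
    ext i a; simp [P, Module.Basis.toMatrix_apply]
  have hP : IsUnit P := by
    rw [hPb]
    exact IsUnit.of_mul_eq_one _ (Module.Basis.toMatrix_mul_toMatrix_flip _ _)
  obtain ⟨u, hu⟩ := hP
  have hcols : s * P = P * Matrix.diagonal (fun a => ω ^ j a) := by
    ext i a
    rw [Matrix.mul_diagonal, Matrix.mul_apply]
    have := congrFun (hj a) i
    rw [Pi.smul_apply, smul_eq_mul, mul_comm] at this
    exact this
  refine ⟨u, fun a => (j a : ZMod q), fun a h0 => ?_, ?_⟩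
  · have hja : j a = 0 := by
      have := congrArg ZMod.val h0
      rwa [ZMod.val_natCast_of_lt (hjq a), ZMod.val_zero] at this
    have hfix : f (b a) = b a := by rw [hj a, hja, pow_zero, one_smul]
    have hz : (∑ i ∈ Finset.range q, f ^ i) (b a) = (0 : Fin n → K) := by
      rw [← show Matrix.toLinAlgEquiv' (∑ i ∈ Finset.range q, s ^ i) = ∑ i ∈ Finset.range q, f ^ i by
        rw [map_sum]; simp only [map_pow, f], hsum, map_zero]
      rfl
    have hfi : ∀ i : ℕ, (f ^ i) (b a) = b a := fun i => by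
      rw [Module.End.coe_pow]; exact Function.iterate_fixed hfix i
    rw [LinearMap.sum_apply] at hz
    simp only [hfi] at hz
    rw [Finset.sum_const, Finset.card_range, ← Nat.cast_smul_eq_nsmul K, smul_eq_zero] at hz
    rcases hz with hz | hz
    · exact hqK hz
    · exact b.ne_zero a hz
  · have hval : (fun a => ω ^ ((j a : ZMod q)).val) = fun a => ω ^ j a :=
      funext fun a => by rw [ZMod.val_natCast_of_lt (hjq a)]
    rw [hval, mul_assoc, ← hu] at *
    rw [hcols, ← mul_assoc, Units.inv_mul, one_mul]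

/-- Conclusion of the count. -/
theorem matrix_count {q : ℕ} [Fact q.Prime] (hqK : (q : K) ≠ 0) {ω : K} (hω : IsPrimitiveRoot ω q)
    {n : ℕ} (s : (Matrix (Fin n) (Fin n) K)ˣ) (hs : (s : Matrix (Fin n) (Fin n) K) ^ q = 1)
    (hsum : ∑ i ∈ Finset.range q, (s : Matrix (Fin n) (Fin n) K) ^ i = 0)
    {Q : Type*} [Finite Q] (φ : Q ≃ Q) (hper : ∀ u, φ^[q] u = u) (u₀ : Q) (h₀ : φ u₀ = u₀)
    (huniq : ∀ u, φ u = u → u = u₀) (M : Q → Matrix (Fin n) (Fin n) K)
    (hspan : Submodule.span K (Set.range M) = ⊤) (hcard : Nat.card Q = n * n)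
    (hperm : ∀ u, ∃ c : K, (s : Matrix (Fin n) (Fin n) K) * M u
      * ((s⁻¹ : (Matrix (Fin n) (Fin n) K)ˣ) : Matrix (Fin n) (Fin n) K) = c • M (φ u))
    (hne : ∀ u, M u ≠ 0) (hM₀ : M u₀ = 1) :
    n = 1 ∨ n + 1 = q := by
  classical
  have hq : q.Prime := Fact.out
  obtain ⟨o, rep, ho, hrep⟩ := exists_orbit_reps hq φ hper u₀ h₀ huniq
  obtain ⟨P, e, he, hD⟩ := exists_diagonal hqK hω (s : Matrix (Fin n) (Fin n) K) hs hsum
  refine count_aux e he o (hcard ▸ ho) fun j => ?_
  have hω0 : ω ≠ 0 := hω.ne_zero hq.ne_zero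
  -- transport to diagonal form
  let Ψ : Matrix (Fin n) (Fin n) K →ₗ[K] Matrix (Fin n) (Fin n) K :=
    (LinearMap.mulRight K (P : Matrix (Fin n) (Fin n) K)).comp
      (LinearMap.mulLeft K ((P⁻¹ : (Matrix (Fin n) (Fin n) K)ˣ) : Matrix (Fin n) (Fin n) K))
  have hΨsurj : Function.Surjective Ψ := fun Y =>
    ⟨(P : Matrix (Fin n) (Fin n) K) * Y * ((P⁻¹ : (Matrix (Fin n) (Fin n) K)ˣ) : Matrix (Fin n) (Fin n) K),
      by simp [Ψ, ← mul_assoc]⟩
  let ι := {x : Fin n × Fin n // e x.1 - e x.2 = j}
  let π : Matrix (Fin n) (Fin n) K →ₗ[K] (ι → K) :=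
    { toFun := fun X x => Ψ X x.1.1 x.1.2
      map_add' := fun X Y => funext fun x => by simp
      map_smul' := fun c X => funext fun x => by simp }
  have hπsurj : Function.Surjective π := by
    intro w
    obtain ⟨X, hX⟩ := hΨsurj (Matrix.of fun a b => if h : e a - e b = j then w ⟨(a, b), h⟩ else 0)
    refine ⟨X, funext fun x => ?_⟩
    show Ψ X x.1.1 x.1.2 = w x
    rw [hX, Matrix.of_apply, dif_pos x.2]
  have hπs : ∀ X, π ((s : Matrix (Fin n) (Fin n) K) * X
      * ((s⁻¹ : (Matrix (Fin n) (Fin n) K)ˣ) : Matrix (Fin n) (Fin n) K)) = ω ^ j.val • π X := by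
    intro X
    funext x
    show Ψ _ x.1.1 x.1.2 = ω ^ j.val * Ψ X x.1.1 x.1.2
    set D : (Matrix (Fin n) (Fin n) K)ˣ := P⁻¹ * s * P with hDdef
    have hDv : (D : Matrix (Fin n) (Fin n) K) = Matrix.diagonal (fun a => ω ^ (e a).val) := by
      rw [hDdef, Units.val_mul, Units.val_mul, hD]
    have hDi : ((D⁻¹ : (Matrix (Fin n) (Fin n) K)ˣ) : Matrix (Fin n) (Fin n) K)
        = Matrix.diagonal (fun a => (ω ^ (e a).val)⁻¹) := by
      refine Units.inv_eq_of_mul_eq_one_right ?_
      rw [hDv, Matrix.diagonal_mul_diagonal, ← Matrix.diagonal_one]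
      congr 1
      funext a
      exact mul_inv_cancel₀ (pow_ne_zero _ hω0)
    have hconj : Ψ ((s : Matrix (Fin n) (Fin n) K) * X
        * ((s⁻¹ : (Matrix (Fin n) (Fin n) K)ˣ) : Matrix (Fin n) (Fin n) K))
        = (D : Matrix (Fin n) (Fin n) K) * Ψ X
          * ((D⁻¹ : (Matrix (Fin n) (Fin n) K)ˣ) : Matrix (Fin n) (Fin n) K) := by
      simp [Ψ, hDdef, mul_assoc]
    rw [hconj, hDv, hDi, Matrix.mul_diagonal, Matrix.diagonal_mul, mul_right_comm]
    congr 1
    have hmul : ω ^ (e x.1.1).val = ω ^ j.val * ω ^ (e x.1.2).val := by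
      rw [← pow_add, ← Nat.mod_add_div (j.val + (e x.1.2).val) q, ← ZMod.val_add, pow_add, pow_mul,
        hω.pow_eq_one, one_pow, mul_one, ← sub_eq_iff_eq_add.1 x.2]
    rw [hmul, mul_assoc, mul_inv_cancel₀ (pow_ne_zero _ hω0), mul_one]
  have hstep : ∀ u, π (M (φ u)) ∈ Submodule.span K {π (M u)} := by
    intro u
    obtain ⟨c, hc⟩ := hperm u
    have hc0 : c ≠ 0 := by
      rintro rfl
      rw [zero_smul] at hc
      apply hne u
      have := congrArg (fun Y => ((s⁻¹ : (Matrix (Fin n) (Fin n) K)ˣ) : Matrix (Fin n) (Fin n) K) * Y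
        * (s : Matrix (Fin n) (Fin n) K)) hc
      simpa [← mul_assoc] using this
    have h1 := hπs (M u)
    rw [hc, map_smul] at h1
    rw [Submodule.mem_span_singleton]
    exact ⟨c⁻¹ * ω ^ j.val, by rw [mul_smul, ← h1, inv_smul_smul₀ hc0]⟩
  have hit : ∀ (k : ℕ) u, π (M (φ^[k] u)) ∈ Submodule.span K {π (M u)} := by
    intro k
    induction k with
    | zero => exact fun u => Submodule.mem_span_singleton_self _
    | succ k ih =>
      intro u
      rw [Function.iterate_succ_apply']
      exact (Submodule.span_le.2 (Set.singleton_subset_iff.2 (ih u))) (hstep _)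
  let gen : Fin o ⊕ {_x : Unit // j = 0} → (ι → K) := Sum.elim (fun i => π (M (rep i))) (fun _ => π (M u₀))
  have hu₀ : π (M u₀) ≠ 0 → j = 0 := by
    intro hne0
    have h1 := hπs (M u₀)
    rw [hM₀, mul_one, Units.mul_inv] at h1
    by_contra hj
    have h2 : ω ^ j.val = 1 := smul_left_injective K (hM₀ ▸ hne0) ((one_smul K _).trans h1).symm
    have hval := hω.pow_inj (ZMod.val_lt j) hq.pos (by rw [pow_zero]; exact h2)
    exact hj ((ZMod.val_eq_zero j).1 hval)
  have htop : Submodule.span K (Set.range gen) = ⊤ := by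
    rw [eq_top_iff, ← LinearMap.range_eq_top.2 hπsurj, LinearMap.range_eq_map, ← hspan,
      Submodule.map_span, Submodule.span_le]
    rintro _ ⟨_, ⟨u, rfl⟩, rfl⟩
    rcases eq_or_ne u u₀ with rfl | hu
    · rcases eq_or_ne (π (M u)) 0 with h | h
      · rw [h]; exact Submodule.zero_mem _
      · exact Submodule.subset_span ⟨Sum.inr ⟨(), hu₀ h⟩, rfl⟩
    · obtain ⟨i, k, rfl⟩ := hrep u hu
      exact (Submodule.span_le.2 (Set.singleton_subset_iff.2
        (Submodule.subset_span (Set.mem_range_self (f := gen) (Sum.inl i))))) (hit k (rep i))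
  have h1 := finrank_range_le_card (R := K) gen
  rw [Set.finrank, htop, finrank_top, Module.finrank_fintype_fun_eq_card, Fintype.card_sum,
    Fintype.card_fin, Fintype.card_subtype] at h1
  refine h1.trans (Nat.add_le_add_left ?_ o)
  split_ifs with h <;> simp [h]

end CfsgLib.Solv.HB
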