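import Cfsg.Agent.Solv.HBAlgebra
import Cfsg.Agent.Solv.FpfSymRing
import Mathlib

/-!
The theorem of Hall and Higman in the form: if a unit `S` of prime order `q` with
`1 + S + ... + S^(q-1) = 0` normalises a finite nilpotent group of units of order prime to `q` and
invertible in the field, then it centralises the group unless the group is non-abelian and
`q = r^m + 1` for a prime divisor `r` of its order.
-/

set_option autoImplicit false
set_option linter.unusedSectionVars false
set_option linter.style.haveILetI false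

namespace CfsgLib.Solv.HB

variable {K : Type*} [Field K] {W : Type*} [AddCommGroup W] [Module K W]

/-- An element of finite order invertible in the field is fixed point free on the range of its
displacement. -/
theorem eq_zero_of_fixed_of_mem_range (f : Module.End K W) {n : ℕ} (hf : f ^ n = 1)
    (hn : (n : K) ≠ 0) {w : W} (hfix : f w = w) (hw : w ∈ LinearMap.range (f - 1)) : w = 0 := by
  obtain ⟨v, hv⟩ := hw
  have hfv : f v = w + v := by
    rw [LinearMap.sub_apply, Module.End.one_apply] at hv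
    rw [← hv, sub_add_cancel]
  have h : ∀ i : ℕ, (f ^ i) v = (i : K) • w + v := by
    intro i
    induction i with
    | zero => simp
    | succ i ih =>
      rw [pow_succ', Module.End.mul_apply, ih, map_add, map_smul, hfix, hfv, Nat.cast_succ, add_smul,
        one_smul, add_assoc]
  have h1 := h n
  rw [hf, Module.End.one_apply] at h1
  have h2 : (n : K) • w = 0 := by
    have := congrArg (fun y => y - v) h1
    simpa using this.symm
  exact (smul_eq_zero.1 h2).resolve_left hn

/-- Simultaneous eigenspaces inside an invariant subspace. -/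
theorem exists_scalar_submodule [IsAlgClosed K] [FiniteDimensional K W]
    (Ops : Set (Module.End K W)) (s : Finset (Module.End K W))
    (hs : ∀ f ∈ s, ∀ h ∈ Ops, Commute f h) (hsO : ∀ f ∈ s, f ∈ Ops) :
    ∀ U : Submodule K W, U ≠ ⊥ → (∀ h ∈ Ops, ∀ u ∈ U, h u ∈ U) →
      ∃ U' : Submodule K W, U' ≤ U ∧ U' ≠ ⊥ ∧ (∀ h ∈ Ops, ∀ u ∈ U', h u ∈ U') ∧
        ∀ f ∈ s, ∃ c : K, ∀ u ∈ U', f u = c • u := by
  classical
  induction s using Finset.induction_on with
  | empty => exact fun U hU hinv => ⟨U, le_rfl, hU, hinv, by simp⟩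
  | insert f s hf ih =>
    intro U hU hinv
    obtain ⟨U₁, h1, h2, h3, h4⟩ := ih (fun g hg => hs g (Finset.mem_insert_of_mem hg))
      (fun g hg => hsO g (Finset.mem_insert_of_mem hg)) U hU hinv
    haveI : Nontrivial U₁ := Submodule.nontrivial_iff_ne_bot.2 h2
    obtain ⟨c, hc⟩ := Module.End.exists_eigenvalue
      (LinearMap.restrict f (h3 f (hsO f (Finset.mem_insert_self f s))))
    obtain ⟨v, hv⟩ := hc.exists_hasEigenvector
    let E : Submodule K W := LinearMap.ker (f - c • (1 : Module.End K W))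
    have hE : ∀ u, u ∈ E ↔ f u = c • u := fun u => by
      simp [E, LinearMap.sub_apply, sub_eq_zero]
    refine ⟨U₁ ⊓ E, inf_le_left.trans h1, ?_, ?_, ?_⟩
    · intro hb
      have hmem : (v : W) ∈ U₁ ⊓ E := ⟨v.2, (hE _).2 (congrArg Subtype.val hv.apply_eq_smul)⟩
      rw [hb, Submodule.mem_bot] at hmem
      exact hv.2 (Subtype.ext hmem)
    · intro h hh u hu
      refine ⟨h3 h hh u hu.1, (hE _).2 ?_⟩
      rw [← Module.End.mul_apply, (hs f (Finset.mem_insert_self f s) h hh).eq, Module.End.mul_apply,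
        (hE u).1 hu.2, map_smul]
    · intro g hg
      rcases Finset.mem_insert.1 hg with rfl | hg
      · exact ⟨c, fun u hu => (hE u).1 hu.2⟩
      · obtain ⟨d, hd⟩ := h4 g hg
        exact ⟨d, fun u hu => hd u hu.1⟩

/-- The abelian case: a commutative group is centralised. -/
theorem comm_centralized [IsAlgClosed K] [FiniteDimensional K W] {G : Type*} [CommGroup G] [Finite G]
    (g : G →* Module.End K W) (θ : G →* G) {q : ℕ} (hq : q.Prime) (hθq : ∀ x, θ^[q] x = x)
    (S : Module.End K W) (hSq : S ^ q = 1) (hS : ∀ x, S * g x = g (θ x) * S)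
    (hsum : ∑ i ∈ Finset.range q, S ^ i = 0) (hK : (Nat.card G : K) ≠ 0) (x : G) :
    g (θ x) = g x := by
  classical
  haveI := Fintype.ofFinite G
  obtain ⟨d, hd⟩ : ∃ d, d = x⁻¹ * θ x := ⟨_, rfl⟩
  suffices h : g d = 1 by
    calc g (θ x) = g x * g d := by rw [← map_mul, hd, mul_inv_cancel_left]
      _ = g x := by rw [h, mul_one]
  by_contra hne
  have hU : LinearMap.range (g d - 1) ≠ ⊥ := fun h => hne (sub_eq_zero.1 (LinearMap.range_eq_bot.1 h))
  have hcomm : ∀ a b, Commute (g a) (g b) := fun a b => (Commute.all a b).map g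
  obtain ⟨U', hle, hU', -, hsc⟩ := exists_scalar_submodule (Set.range g) (Finset.univ.image g)
    (by
      intro f hf h hh
      obtain ⟨a, -, rfl⟩ := Finset.mem_image.1 hf
      obtain ⟨b, rfl⟩ := hh
      exact hcomm a b)
    (by
      intro f hf
      obtain ⟨a, -, rfl⟩ := Finset.mem_image.1 hf
      exact ⟨a, rfl⟩)
    _ hU
    (by
      rintro h ⟨b, rfl⟩ u ⟨v, rfl⟩
      refine ⟨g b v, ?_⟩
      rw [← Module.End.mul_apply, ← Module.End.mul_apply,
        (((hcomm d b).sub_left (Commute.one_left (g b)))).eq])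
  obtain ⟨w, hw, hw0⟩ := Submodule.exists_mem_ne_zero_of_ne_bot hU'
  have hφ : ∀ a, ∃ c : K, g a w = c • w := fun a => by
    obtain ⟨c, hc⟩ := hsc (g a) (Finset.mem_image_of_mem g (Finset.mem_univ a))
    exact ⟨c, hc w hw⟩
  choose φ hφ using hφ
  by_cases hinv : ∀ a, φ (θ a) = φ a
  · refine hw0 (eq_zero_of_fixed_of_mem_range (g d) (n := Nat.card G) ?_ hK ?_ (hle hw))
    · rw [← map_pow, pow_card_eq_one', map_one]
    · rw [hd, map_mul, Module.End.mul_apply, hφ, hinv, map_smul]
      have : φ x • g x⁻¹ w = g x⁻¹ (g x w) := by rw [hφ x, map_smul]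
      rw [this, ← Module.End.mul_apply, ← map_mul, inv_mul_cancel, map_one, Module.End.one_apply]
  -- the translates of `w` are independent
  let T : (G → K) → (G → K) := fun ψ => ψ ∘ θ
  have hTit : ∀ (k : ℕ) ψ, T^[k] ψ = ψ ∘ θ^[k] := by
    intro k
    induction k with
    | zero => intro ψ; rfl
    | succ k ih =>
      intro ψ
      rw [Function.iterate_succ_apply', ih, Function.iterate_succ]
      rfl
  have hper : Function.minimalPeriod T φ = q := by
    have h1 : Function.IsPeriodicPt T q φ := by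
      show T^[q] φ = φ
      rw [hTit]; funext a; exact congrArg φ (hθq a)
    rcases (Nat.dvd_prime hq).1 h1.minimalPeriod_dvd with h | h
    · exact absurd (fun a => congrFun (Function.minimalPeriod_eq_one_iff_isFixedPt.1 h) a) hinv
    · exact h
  have hSit : ∀ (i : ℕ) a, S ^ i * g a = g (θ^[i] a) * S ^ i := by
    intro i
    induction i with
    | zero => intro a; simp
    | succ i ih =>
      intro a
      rw [pow_succ, mul_assoc, hS, ← mul_assoc, ih, mul_assoc, Function.iterate_succ_apply]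
  have hθinv : ∀ (i : Fin q) (a : G), g a ((S ^ (i : ℕ)) w) = φ (θ^[q - i] a) • (S ^ (i : ℕ)) w := by
    intro i a
    have e : θ^[(i : ℕ)] (θ^[q - i] a) = a := by
      rw [← Function.iterate_add_apply, Nat.add_sub_cancel' i.2.le, hθq]
    rw [← Module.End.mul_apply, ← e, ← hSit, Module.End.mul_apply, e, hφ, map_smul]
  have hsep : ∀ i j : Fin q, i ≠ j → ∃ a, φ (θ^[q - i] a) ≠ φ (θ^[q - j] a) := by
    intro i j hij
    by_contra hall
    push Not at hall
    apply hij
    have h1 : T^[q - i] φ = T^[q - j] φ := by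
      rw [hTit, hTit]; funext a; exact hall a
    rw [← Function.iterate_mod_minimalPeriod_eq (n := q - i),
      ← Function.iterate_mod_minimalPeriod_eq (n := q - j), hper,
      Function.iterate_eq_iterate_iff_of_lt_minimalPeriod (by rw [hper]; exact Nat.mod_lt _ hq.pos)
        (by rw [hper]; exact Nat.mod_lt _ hq.pos)] at h1
    apply Fin.ext
    have hi := i.2
    have hj := j.2
    rcases Nat.eq_zero_or_pos (i : ℕ) with hi0 | hi0 <;>
      rcases Nat.eq_zero_or_pos (j : ℕ) with hj0 | hj0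
    · omega
    · rw [hi0, Nat.sub_zero, Nat.mod_self, Nat.mod_eq_of_lt (by omega : q - (j : ℕ) < q)] at h1; omega
    · rw [hj0, Nat.sub_zero, Nat.mod_self, Nat.mod_eq_of_lt (by omega : q - (i : ℕ) < q)] at h1; omega
    · rw [Nat.mod_eq_of_lt (by omega : q - (i : ℕ) < q),
        Nat.mod_eq_of_lt (by omega : q - (j : ℕ) < q)] at h1
      omega
  have h0 := mem_of_sum_mem (fun a : G => g a) (fun (i : Fin q) a => φ (θ^[q - i] a))
    (fun i : Fin q => (S ^ (i : ℕ)) w) hθinv hsep (⊥ : Submodule K W)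
    (fun a y hy => by rw [(Submodule.mem_bot K).1 hy, map_zero]; exact Submodule.zero_mem _)
    Finset.univ (fun _ => 1)
    (by
      simp only [one_smul]
      rw [Fin.sum_univ_eq_sum_range (fun i => (S ^ i) w), ← LinearMap.sum_apply, hsum]
      exact Submodule.zero_mem _)
    ⟨0, hq.pos⟩ (Finset.mem_univ _)
  rw [Submodule.mem_bot, one_smul] at h0
  simp at h0
  exact hw0 h0

/-- The theorem of Hall and Higman. -/
theorem centralized_or_exceptional [IsAlgClosed K] [FiniteDimensional K W] {q : ℕ} [Fact q.Prime]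
    (S : (Module.End K W)ˣ)
    (hsum : ∑ i ∈ Finset.range q, (S : Module.End K W) ^ i = 0) (hqK : (q : K) ≠ 0) :
    ∀ (n : ℕ) (G : Subgroup (Module.End K W)ˣ), Nat.card G = n → Finite G → Group.IsNilpotent G →
      (∀ x ∈ G, S * x * S⁻¹ ∈ G) → ¬ q ∣ n → (n : K) ≠ 0 →
      (∀ x ∈ G, S * x = x * S) ∨ ((∃ x ∈ G, ∃ y ∈ G, x * y ≠ y * x) ∧
        ∃ r m : ℕ, r.Prime ∧ r ∣ n ∧ 1 ≤ m ∧ q = r ^ m + 1) := by
  classical
  have hq : q.Prime := Fact.out
  have hSq : S ^ q = 1 := by
    ext1
    rw [Units.val_pow_eq_pow_val, Units.val_one, ← sub_eq_zero, ← geom_sum_mul, hsum, zero_mul]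
  intro n
  induction n using Nat.strong_induction_on with
  | _ n ih =>
  intro G hn hfin hnil hinv hcop hK
  haveI := hfin
  obtain ⟨σ, hσ⟩ : ∃ σ : (Module.End K W)ˣ → (Module.End K W)ˣ, ∀ x, σ x = S * x * S⁻¹ :=
    ⟨_, fun _ => rfl⟩
  have hσmul : ∀ x y, σ (x * y) = σ x * σ y := fun x y => by simp only [hσ]; group
  have hσinv : ∀ x, σ x⁻¹ = (σ x)⁻¹ := fun x => by simp only [hσ]; group
  have hσcomm : ∀ x, σ x = x ↔ S * x = x * S := fun x => by rw [hσ]; exact mul_inv_eq_iff_eq_mul
  have hinvσ : ∀ x ∈ G, σ x ∈ G := fun x hx => (hσ x).symm ▸ hinv x hx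
  by_cases hall : ∀ x ∈ G, σ x = x
  · exact Or.inl fun x hx => (hσcomm x).1 (hall x hx)
  by_cases hex : (∃ x ∈ G, ∃ y ∈ G, x * y ≠ y * x) ∧
      ∃ r m : ℕ, r.Prime ∧ r ∣ n ∧ 1 ≤ m ∧ q = r ^ m + 1
  · exact Or.inr hex
  exfalso
  have hsub : ∀ H : Subgroup (Module.End K W)ˣ, H < G → (∀ h ∈ H, σ h ∈ H) → ∀ h ∈ H, σ h = h := by
    intro H hH hHinv
    have hdvd : Nat.card H ∣ n := hn ▸ Subgroup.card_dvd_of_le hH.le
    have hlt : Nat.card H < n := by
      rw [← hn]
      refine lt_of_le_of_ne (Subgroup.card_le_of_le hH.le) fun e => hH.ne ?_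
      exact Subgroup.eq_of_le_of_card_ge hH.le e.ge
    haveI : Finite H := Finite.of_injective _ (Subgroup.inclusion_injective hH.le)
    obtain ⟨k, hk⟩ := hdvd
    have hHnil : Group.IsNilpotent H := by
      haveI := hnil
      exact Subgroup.isNilpotent_of_ker_le_center (Subgroup.inclusion hH.le)
        (((MonoidHom.ker_eq_bot_iff _).2 (Subgroup.inclusion_injective hH.le)).trans_le bot_le)
    rcases ih _ hlt H rfl inferInstance hHnil (fun h hh => hσ h ▸ hHinv h hh)
        (fun h => hcop (h.trans ⟨k, hk⟩))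
        (fun h => hK (by rw [hk, Nat.cast_mul, h, zero_mul])) with h | ⟨⟨x, hx, y, hy, hxy⟩, r, m, hr, hrd, h⟩
    · exact fun y hy => (hσcomm y).2 (h y hy)
    · exact absurd ⟨⟨x, hH.le hx, y, hH.le hy, hxy⟩, r, m, hr, hrd.trans ⟨k, hk⟩, h⟩ hex
  -- the automorphism of the group
  let θh : G →* G :=
    { toFun := fun x => ⟨σ x.1, hinvσ x.1 x.2⟩
      map_one' := Subtype.ext (by show σ 1 = 1; simp [hσ])
      map_mul' := fun x y => Subtype.ext (hσmul x.1 y.1) }
  have hθinj : Function.Injective θh := by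
    intro x y h
    have h' : σ x.1 = σ y.1 := congrArg Subtype.val h
    rw [hσ, hσ] at h'
    exact Subtype.ext (mul_left_cancel (mul_right_cancel h'))
  let θ : G ≃* G := MulEquiv.ofBijective θh ⟨hθinj, Finite.injective_iff_surjective.1 hθinj⟩
  have hθv : ∀ x : G, (θ x).1 = σ x.1 := fun x => rfl
  have hθit : ∀ (k : ℕ) (x : G), (θ^[k] x).1 = S ^ k * x.1 * (S ^ k)⁻¹ := by
    intro k
    induction k with
    | zero => intro x; simp
    | succ k ihk => intro x; rw [Function.iterate_succ_apply', hθv, hσ, ihk, pow_succ']; group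
  have hθq : ∀ x : G, θ^[q] x = x := fun x => Subtype.ext (by rw [hθit, hSq]; simp)
  have hfixone : ∀ e : G, e ^ q = 1 → e = 1 := by
    intro e he
    have h1 : orderOf e ∣ n := hn ▸ orderOf_dvd_natCard e
    rcases (Nat.dvd_prime hq).1 (orderOf_dvd_of_pow_eq_one he) with h | h
    · exact orderOf_eq_one_iff.1 h
    · exact absurd (h ▸ h1) hcop
  have hstep : ∀ x e : G, θ x = x * e → θ e = e → θ x = x := by
    intro x e hx he
    have h1 : ∀ k : ℕ, θ^[k] x = x * e ^ k := by
      intro k
      induction k with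
      | zero => simp
      | succ k ihk => rw [Function.iterate_succ_apply', ihk, map_mul, map_pow, hx, he, pow_succ', mul_assoc]
    have h2 := h1 q
    rw [hθq] at h2
    have h3 : e ^ q = 1 := mul_eq_left.1 h2.symm
    rw [hx, hfixone e h3, mul_one]
  have hnfix : ¬ ∀ x : G, θ x = x := fun h => hall fun x hx => congrArg Subtype.val (h ⟨x, hx⟩)
  have hinvsub : ∀ M : Subgroup G, M ≠ ⊤ → (∀ u ∈ M, θ u ∈ M) → ∀ u ∈ M, θ u = u := by
    intro M hM hMinv u hu
    refine Subtype.ext (hsub (M.map G.subtype) ?_ ?_ u.1 ⟨u, hu, rfl⟩)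
    · refine lt_of_le_of_ne (Subgroup.map_subtype_le M) fun e => hM ?_
      rw [eq_top_iff]
      intro y _
      obtain ⟨z, hz, hzy⟩ := e.ge y.2
      exact Subtype.ext hzy ▸ hz
    · rintro _ ⟨z, hz, rfl⟩
      exact ⟨θ z, hMinv z hz, rfl⟩
  -- displacements generate
  have hgen : Subgroup.closure {d : G | ∃ x, d = x⁻¹ * θ x} = ⊤ := by
    by_contra hne
    apply hnfix
    intro x
    refine hstep x (x⁻¹ * θ x) (mul_inv_cancel_left x (θ x)).symm (hinvsub _ hne ?_ _
      (Subgroup.subset_closure ⟨x, rfl⟩))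
    intro u hu
    have := Subgroup.mem_map_of_mem θ.toMonoidHom hu
    rw [MonoidHom.map_closure] at this
    refine Subgroup.closure_mono ?_ this
    rintro _ ⟨d, ⟨y, rfl⟩, rfl⟩
    exact ⟨θ y, by simp⟩
  haveI := hnil
  -- the derived subgroup is proper, fixed and central
  have hGne : (⊤ : Subgroup G) ≠ ⊥ := fun h => hnfix fun x => by
    have hx : x ∈ (⊤ : Subgroup G) := Subgroup.mem_top x
    rw [h, Subgroup.mem_bot] at hx
    rw [hx, map_one]
  have hG' : commutator G ≠ ⊤ := by
    intro e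
    haveI : Group.IsSolvable G := inferInstance
    obtain ⟨k, hk⟩ := (Group.isSolvable_def G).1 ‹_›
    have hle : ∀ j, derivedSeries G j = ⊤ := by
      intro j
      induction j with
      | zero => exact derivedSeries_zero G
      | succ j ihj => rw [derivedSeries_succ, ihj]; exact e
    exact hGne ((hle k).symm.trans hk)
  have hfixG' : ∀ c ∈ commutator G, θ c = c := hinvsub _ hG' fun u hu => by
    have h2 := Subgroup.mem_map_of_mem θ.toMonoidHom hu
    rw [commutator_def, Subgroup.map_commutator] at h2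
    exact Subgroup.commutator_mono le_top le_top h2
  have hcom_mem : ∀ x y : G, x * y * x⁻¹ * y⁻¹ ∈ commutator G := fun x y =>
    Subgroup.commutator_mem_commutator (Subgroup.mem_top x) (Subgroup.mem_top y)
  have hfixcen : ∀ u : G, θ u = u → u ∈ Subgroup.center G := by
    intro u hu
    rw [Subgroup.mem_center_iff]
    intro y
    have hy : y ∈ Subgroup.closure {d : G | ∃ x, d = x⁻¹ * θ x} := by rw [hgen]; exact Subgroup.mem_top y
    induction hy using Subgroup.closure_induction with
    | mem d hd =>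
      obtain ⟨x, rfl⟩ := hd
      have h1 := hfixG' _ (hcom_mem x u)
      simp only [map_mul, map_inv, hu] at h1
      have h2 : θ x * u * (θ x)⁻¹ = x * u * x⁻¹ := mul_right_cancel h1
      calc x⁻¹ * θ x * u = x⁻¹ * (θ x * u * (θ x)⁻¹) * θ x := by group
        _ = u * (x⁻¹ * θ x) := by rw [h2]; group
    | one => simp
    | mul a b _ _ ha hb => rw [mul_assoc, hb, ← mul_assoc, ha, mul_assoc]
    | inv a _ ha => exact (Commute.inv_left ha)
  have hcomm : ∀ x y : G, x * y * x⁻¹ * y⁻¹ ∈ Subgroup.center G := fun x y =>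
    hfixcen _ (hfixG' _ (hcom_mem x y))
  let g : G →* Module.End K W := (Units.coeHom _).comp G.subtype
  have hgS : ∀ x, (S : Module.End K W) * g x = g (θ x) * S := by
    intro x
    show (S : Module.End K W) * (x.1 : Module.End K W) = ((σ x.1 : (Module.End K W)ˣ) : Module.End K W) * S
    rw [← Units.val_mul, ← Units.val_mul, hσ, inv_mul_cancel_right]
  have hginj : Function.Injective g := fun x y h => Subtype.ext (Units.ext h)
  have hnK : (Nat.card G : K) ≠ 0 := hn ▸ hK
  -- the abelian case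
  by_cases hab : ∀ x y : G, x * y = y * x
  · letI : CommGroup G := { (inferInstance : Group G) with mul_comm := hab }
    exact hnfix fun x => hginj (comm_centralized g θ.toMonoidHom hq hθq (S : Module.End K W)
      (by rw [← Units.val_pow_eq_pow_val, hSq, Units.val_one]) hgS hsum hnK x)
  push Not at hab
  have hZne : Subgroup.center G ≠ ⊤ := by
    obtain ⟨x, y, hxy⟩ := hab
    intro e
    exact hxy (Subgroup.mem_center_iff.1 (e ▸ Subgroup.mem_top y) x)
  have hZfix : ∀ z ∈ Subgroup.center G, θ z = z := hinvsub _ hZne fun u hu => by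
    rw [Subgroup.mem_center_iff] at hu ⊢
    intro y
    obtain ⟨y', rfl⟩ := θ.surjective y
    rw [← map_mul, ← map_mul, hu]
  have hfix : ∀ u : G, u⁻¹ * θ u ∈ Subgroup.center G → u ∈ Subgroup.center G := fun u hu =>
    hfixcen u (hstep u _ (mul_inv_cancel_left u (θ u)).symm (hZfix _ hu))
  -- prime power order
  obtain ⟨r, hr, hGr⟩ : ∃ r : ℕ, r.Prime ∧ ∃ k, n = r ^ k := by
    have hn1 : n ≠ 1 := by
      intro h
      apply hnfix
      intro x
      haveI : Subsingleton G := (Nat.card_eq_one_iff_unique.1 (hn.trans h)).1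
      exact Subsingleton.elim _ _
    obtain ⟨r, hr, hrd⟩ := Nat.exists_prime_and_dvd hn1
    refine ⟨r, hr, ?_⟩
    by_contra hnp
    apply hnfix
    let F : Subgroup G := (θ.toMonoidHom).eqLocus (MonoidHom.id G)
    have hall' : ∀ ℓ : ℕ, ℓ.Prime → ℓ ^ n.factorization ℓ ∣ Nat.card F := by
      intro ℓ hℓ
      haveI := Fact.mk hℓ
      obtain ⟨P⟩ := (inferInstance : Nonempty (Sylow ℓ G))
      haveI : (P : Subgroup G).Normal := inferInstance
      have hP : (P : Subgroup G) ≠ ⊤ := by
        intro e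
        obtain ⟨k, hk⟩ := P.2.exists_card_eq
        rw [e, Subgroup.card_top, hn] at hk
        have hrl : r = ℓ := (Nat.prime_dvd_prime_iff_eq hr hℓ).1 (hr.dvd_of_dvd_pow (hk ▸ hrd))
        exact hnp ⟨k, by rw [hrl]; exact hk⟩
      haveI := Sylow.characteristic_of_normal P inferInstance
      have hle : (P : Subgroup G) ≤ F := fun u hu => hinvsub _ hP (fun v hv => by
        have := Subgroup.characteristic_iff_map_eq.1 (inferInstance : (P : Subgroup G).Characteristic) θ
        rw [← this]; exact Subgroup.mem_map_of_mem _ hv) u hu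
      have := Subgroup.card_dvd_of_le hle
      rwa [Sylow.card_eq_multiplicity, hn] at this
    have hFtop : F = ⊤ := by
      refine Subgroup.eq_top_of_le_card F (le_of_eq ?_)
      refine Nat.dvd_antisymm ?_ (Subgroup.card_subgroup_dvd_card F)
      rw [hn]
      refine (Nat.dvd_iff_prime_pow_dvd_dvd _ _).2 fun ℓ k hℓ hk => ?_
      exact (pow_dvd_pow ℓ ((hℓ.pow_dvd_iff_le_factorization (by
        rintro rfl; exact (Nat.card_pos (α := G)).ne' hn)).1 hk)).trans (hall' ℓ hℓ)
    intro x
    have hx : x ∈ F := hFtop ▸ Subgroup.mem_top x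
    exact hx
  -- a piece on which the centre is scalar and the form is non-degenerate
  obtain ⟨x₀, y₀, hxy⟩ := hab
  obtain ⟨z₀, hz₀⟩ : ∃ z, z = x₀ * y₀ * x₀⁻¹ * y₀⁻¹ := ⟨_, rfl⟩
  have hz₀ne : z₀ ≠ 1 := by
    rw [hz₀]; intro h; exact hxy (mul_inv_eq_iff_eq_mul.1 (mul_inv_eq_one.1 h))
  have hz₀Z : z₀ ∈ Subgroup.center G := hz₀ ▸ hcomm x₀ y₀
  haveI := Fintype.ofFinite G
  let Ops : Set (Module.End K W) := insert (S : Module.End K W) (Set.range g)
  have hZops : ∀ z ∈ Subgroup.center G, ∀ h ∈ Ops, Commute (g z) h := by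
    intro z hz h hh
    rcases hh with rfl | ⟨b, rfl⟩
    · show g z * S = S * g z
      rw [hgS, hZfix z hz]
    · exact (show Commute z b from (Subgroup.mem_center_iff.1 hz b).symm).map g
  obtain ⟨U, hUle, hU, hUinv, hsc⟩ := exists_scalar_submodule Ops
    ((Finset.univ.filter fun z : G => z ∈ Subgroup.center G).image g)
    (by
      intro f hf h hh
      obtain ⟨z, hz, rfl⟩ := Finset.mem_image.1 hf
      exact hZops z (Finset.mem_filter.1 hz).2 h hh)
    (by
      intro f hf
      obtain ⟨z, -, rfl⟩ := Finset.mem_image.1 hf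
      exact Set.mem_insert_of_mem _ ⟨z, rfl⟩)
    (LinearMap.range (g z₀ - 1))
    (fun h => hz₀ne (hginj ((sub_eq_zero.1 (LinearMap.range_eq_bot.1 h)).trans (map_one g).symm)))
    (by
      rintro h hh u ⟨v, rfl⟩
      refine ⟨h v, ?_⟩
      rw [← Module.End.mul_apply, ← Module.End.mul_apply,
        (((hZops z₀ hz₀Z h hh).sub_left (Commute.one_left h))).eq])
  haveI : Nontrivial U := Submodule.nontrivial_iff_ne_bot.2 hU
  let gU : G →* Module.End K U :=
    { toFun := fun x => LinearMap.restrict (g x) (hUinv (g x) (Set.mem_insert_of_mem _ ⟨x, rfl⟩))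
      map_one' := LinearMap.ext fun u => Subtype.ext (by simp [LinearMap.restrict_apply])
      map_mul' := fun x y => LinearMap.ext fun u => Subtype.ext (by simp [LinearMap.restrict_apply]) }
  let SU : Module.End K U := LinearMap.restrict (S : Module.End K W) (hUinv _ (Set.mem_insert _ _))
  have hSUit : ∀ (i : ℕ) (u : U), ((SU ^ i) u).1 = ((S : Module.End K W) ^ i) u.1 := by
    intro i
    induction i with
    | zero => intro u; simp
    | succ i ihi => intro u; rw [pow_succ, pow_succ, Module.End.mul_apply, ihi]; rfl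
  let M : Subgroup G :=
    { carrier := {u | ∀ x, gU (x * u * x⁻¹ * u⁻¹) = 1}
      one_mem' := fun x => by simp
      mul_mem' := fun {a b} ha hb x => by
        have e : x * (a * b) * x⁻¹ * (a * b)⁻¹
            = (x * a * x⁻¹ * a⁻¹) * (a * (x * b * x⁻¹ * b⁻¹) * a⁻¹) := by group
        rw [e, map_mul, ha x, one_mul, map_mul, map_mul, hb x, mul_one, ← map_mul, mul_inv_cancel,
          map_one]
      inv_mem' := fun {a} ha x => by
        have e : x * a⁻¹ * x⁻¹ * a⁻¹⁻¹ = a⁻¹ * (x * a * x⁻¹ * a⁻¹)⁻¹ * a := by group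
        have h1 : gU (x * a * x⁻¹ * a⁻¹)⁻¹ = 1 := by
          calc gU (x * a * x⁻¹ * a⁻¹)⁻¹
              = gU (x * a * x⁻¹ * a⁻¹)⁻¹ * gU (x * a * x⁻¹ * a⁻¹) := by rw [ha x, mul_one]
            _ = 1 := by rw [← map_mul, inv_mul_cancel, map_one]
        rw [e, map_mul, map_mul, h1, mul_one, ← map_mul, inv_mul_cancel, map_one] }
  have hMne : M ≠ ⊤ := by
    intro e
    obtain ⟨w, hw, hw0⟩ := Submodule.exists_mem_ne_zero_of_ne_bot hU
    refine hw0 (eq_zero_of_fixed_of_mem_range (g z₀) (n := Nat.card G) ?_ hnK ?_ (hUle hw))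
    · rw [← map_pow, pow_card_eq_one', map_one]
    · have h1 : gU (x₀ * y₀ * x₀⁻¹ * y₀⁻¹) = 1 := (e ▸ Subgroup.mem_top y₀ : y₀ ∈ M) x₀
      rw [hz₀]
      exact congrArg (fun f : Module.End K U => (f ⟨w, hw⟩).1) h1
  have hMfix : ∀ u ∈ M, θ u = u := hinvsub M hMne fun u hu x => by
    obtain ⟨x', rfl⟩ := θ.surjective x
    have e : θ x' * θ u * (θ x')⁻¹ * (θ u)⁻¹ = θ (x' * u * x'⁻¹ * u⁻¹) := by simp
    rw [e, hfixG' _ (hcom_mem x' u)]
    exact hu x'
  obtain ⟨m, hm, hm'⟩ := central_type_count gU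
    (fun z hz => by
      obtain ⟨c, hc⟩ := hsc (g z)
        (Finset.mem_image_of_mem g (Finset.mem_filter.2 ⟨Finset.mem_univ z, hz⟩))
      exact ⟨c, LinearMap.ext fun u => Subtype.ext (hc u.1 u.2)⟩)
    hcomm
    (fun u hu => by
      by_contra hall'
      push Not at hall'
      exact hu (hfixcen u (hMfix u hall')))
    θ hZfix hfix hqK SU
    (LinearMap.ext fun u => Subtype.ext (by
      rw [hSUit, ← Units.val_pow_eq_pow_val, hSq]; rfl))
    (fun x => LinearMap.ext fun u => Subtype.ext (by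
      show (S : Module.End K W) (g x u.1) = g (θ x) ((S : Module.End K W) u.1)
      exact LinearMap.congr_fun (hgS x) u.1))
    (LinearMap.ext fun u => Subtype.ext (by
      rw [LinearMap.sum_apply, AddSubmonoidClass.coe_finsetSum]
      simp only [hSUit]
      rw [← LinearMap.sum_apply, hsum]
      rfl))
  have hidx : 1 < Nat.card (G ⧸ Subgroup.center G) := by
    rw [← Subgroup.index]
    exact Subgroup.one_lt_index_of_ne_top hZne
  rcases hm' with rfl | hm'
  · omega
  apply hex
  refine ⟨⟨x₀.1, x₀.2, y₀.1, y₀.2, fun h => hxy (Subtype.ext h)⟩, r, ?_⟩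
  obtain ⟨k, hk⟩ := hGr
  have hmd : m ∣ r ^ k := by
    rw [← hk, ← hn]
    exact (Dvd.intro m hm).trans (Subgroup.card_quotient_dvd_card _)
  obtain ⟨j, -, rfl⟩ := (Nat.dvd_prime_pow hr).1 hmd
  have hj : 1 ≤ j := by
    rcases Nat.eq_zero_or_pos j with rfl | h
    · rw [pow_zero, one_mul] at hm; omega
    · exact h
  refine ⟨j, hr, ?_, hj, hm'.symm⟩
  rw [hk]
  refine dvd_pow_self r ?_
  rintro rfl
  rw [pow_zero] at hk
  rw [hk] at hn
  have := Nat.le_of_dvd (by omega) (Subgroup.card_quotient_dvd_card (Subgroup.center G))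
  omega

end CfsgLib.Solv.HB
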