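import Mathlib

/-!
The theorems of Kreknin and Higman on Lie rings with a grading by `ZMod p` whose
neutral component vanishes.
-/

set_option autoImplicit false
set_option linter.unusedSectionVars false

namespace CfsgLib.Solv.Krek

variable {L : Type*} [LieRing L]

/-- The additive span of the brackets. -/
def br (A B : AddSubgroup L) : AddSubgroup L :=
  AddSubgroup.closure {z | ∃ a ∈ A, ∃ b ∈ B, ⁅a, b⁆ = z}

theorem lie_mem_br {A B : AddSubgroup L} {a b : L} (ha : a ∈ A) (hb : b ∈ B) : ⁅a, b⁆ ∈ br A B :=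
  AddSubgroup.subset_closure ⟨a, ha, b, hb, rfl⟩

theorem br_le {A B X : AddSubgroup L} : br A B ≤ X ↔ ∀ a ∈ A, ∀ b ∈ B, ⁅a, b⁆ ∈ X := by
  refine ⟨fun h a ha b hb => h (lie_mem_br ha hb), fun h => (AddSubgroup.closure_le X).2 ?_⟩
  rintro _ ⟨a, ha, b, hb, rfl⟩
  exact h a ha b hb

theorem br_mono {A A' B B' : AddSubgroup L} (h₁ : A ≤ A') (h₂ : B ≤ B') : br A B ≤ br A' B' :=
  br_le.2 fun _ ha _ hb => lie_mem_br (h₁ ha) (h₂ hb)

/-- The elements whose brackets with `a` on the left land in `X`. -/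
def rightInto (a : L) (X : AddSubgroup L) : AddSubgroup L where
  carrier := {b | ⁅a, b⁆ ∈ X}
  zero_mem' := by simp
  add_mem' := fun {x y} hx hy => by simpa [lie_add] using add_mem hx hy
  neg_mem' := fun {x} (hx : ⁅a, x⁆ ∈ X) => by simpa [lie_neg] using neg_mem hx

/-- The elements whose brackets with `b` on the right land in `X`. -/
def leftInto (b : L) (X : AddSubgroup L) : AddSubgroup L where
  carrier := {a | ⁅a, b⁆ ∈ X}
  zero_mem' := by simp
  add_mem' := fun {x y} hx hy => by simpa [add_lie] using add_mem hx hy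
  neg_mem' := fun {x} (hx : ⁅x, b⁆ ∈ X) => by simpa [neg_lie] using neg_mem hx

/-- The derived series of a subring. -/
def der (A : AddSubgroup L) : ℕ → AddSubgroup L
  | 0 => A
  | n + 1 => br (der A n) (der A n)

/-- The lower central series of a subring, starting with `low A 0 = A`. -/
def low (A : AddSubgroup L) : ℕ → AddSubgroup L
  | 0 => A
  | n + 1 => br (low A n) A

theorem der_add (A : AddSubgroup L) (m : ℕ) : ∀ n, der A (m + n) = der (der A m) n
  | 0 => rfl
  | n + 1 => congrArg₂ br (der_add A m n) (der_add A m n)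

theorem der_mono {A B : AddSubgroup L} (h : A ≤ B) : ∀ n, der A n ≤ der B n
  | 0 => h
  | n + 1 => br_mono (der_mono h n) (der_mono h n)

theorem low_mono_set {A B : AddSubgroup L} (h : A ≤ B) : ∀ n, low A n ≤ low B n
  | 0 => h
  | n + 1 => br_mono (low_mono_set h n) h

theorem der_le {A : AddSubgroup L} (hA : br A A ≤ A) : ∀ n, der A n ≤ A
  | 0 => le_rfl
  | n + 1 => (br_mono (der_le hA n) (der_le hA n)).trans hA

theorem low_le {A : AddSubgroup L} (hA : br A A ≤ A) : ∀ n, low A n ≤ A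
  | 0 => le_rfl
  | n + 1 => (br_mono (low_le hA n) le_rfl).trans hA

theorem low_eq_bot_of_le {A : AddSubgroup L} {m : ℕ} (h : low A m = ⊥) : ∀ k, low A (m + k) = ⊥
  | 0 => h
  | k + 1 => eq_bot_iff.2 (br_le.2 fun a ha b _ => by
      have ha' : a ∈ low A (m + k) := ha
      rw [low_eq_bot_of_le h k, AddSubgroup.mem_bot] at ha'; simp [ha'])

/-- The Higman bound as a function of the derived length. -/
def bound (p : ℕ) (n : ℕ) : ℕ := ∑ i ∈ Finset.range n, (p - 1) ^ i

theorem bound_succ (p n : ℕ) : bound p (n + 1) = 1 + (p - 1) * bound p n := by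
  unfold bound
  rw [Finset.sum_range_succ', Finset.mul_sum, add_comm]
  congr 1
  exact Finset.sum_congr rfl fun i _ => by ring

variable (L) in
/-- A grading by `ZMod p` with vanishing neutral component. -/
structure Grading (p : ℕ) where
  comp : ZMod p → AddSubgroup L
  proj : ZMod p → L →+ L
  comp_zero : comp 0 = ⊥
  lie_mem : ∀ {a b x y}, x ∈ comp a → y ∈ comp b → ⁅x, y⁆ ∈ comp (a + b)
  proj_self : ∀ {c x}, x ∈ comp c → proj c x = x
  proj_ne : ∀ {c d x}, x ∈ comp d → d ≠ c → proj c x = 0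

theorem three_cases : ∀ c d e : ZMod 3, c = 0 ∨ d = 0 ∨ e = 0 ∨ c + d = 0 ∨ c + d + e = 0 ∨
    (c + e = 0 ∧ d + e = 0) := by decide

namespace Grading

variable {p : ℕ} [Fact p.Prime] (G : Grading L p)

/-- Graded subgroups. -/
def IsGraded (N : AddSubgroup L) : Prop := N ≤ ⨆ c, N ⊓ G.comp c

theorem eq_zero {x : L} (hx : x ∈ G.comp 0) : x = 0 := by
  rwa [G.comp_zero, AddSubgroup.mem_bot] at hx

theorem br_le_of_graded {A B X : AddSubgroup L} (hA : G.IsGraded A) (hB : G.IsGraded B)
    (h : ∀ c d, ∀ a ∈ A, a ∈ G.comp c → ∀ b ∈ B, b ∈ G.comp d → ⁅a, b⁆ ∈ X) : br A B ≤ X :=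
  br_le.2 fun _ ha b hb =>
    (show A ≤ leftInto b X from hA.trans (iSup_le fun c a' ha' =>
      (show B ≤ rightInto a' X from hB.trans (iSup_le fun d b' hb' =>
        h c d a' ha'.1 ha'.2 b' hb'.1 hb'.2)) hb)) ha

theorem isGraded_br {A B : AddSubgroup L} (hA : G.IsGraded A) (hB : G.IsGraded B) :
    G.IsGraded (br A B) :=
  G.br_le_of_graded hA hB fun c d _ ha hac _ hb hbd =>
    AddSubgroup.mem_iSup_of_mem (c + d) ⟨lie_mem_br ha hb, G.lie_mem hac hbd⟩

theorem isGraded_der {A : AddSubgroup L} (hA : G.IsGraded A) (n : ℕ) : G.IsGraded (der A n) := by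
  induction n with
  | zero => exact hA
  | succ n ih => exact G.isGraded_br ih ih

/-- The homogeneous generators of degree exceeding `i`. -/
def upper (i : ℕ) (N : AddSubgroup L) : Set L :=
  {x | x ∈ N ∧ ∃ c : ZMod p, i < c.val ∧ x ∈ G.comp c}

/-- The subring generated by the homogeneous elements of degree exceeding `i`. -/
def gen (i : ℕ) (N : AddSubgroup L) : AddSubgroup L :=
  sInf {H | G.upper i N ⊆ H ∧ br H H ≤ H}

theorem subset_gen {i : ℕ} {N : AddSubgroup L} {x : L} (hx : x ∈ G.upper i N) : x ∈ G.gen i N :=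
  AddSubgroup.mem_sInf.2 fun _ hH => hH.1 hx

theorem br_gen (i : ℕ) (N : AddSubgroup L) : br (G.gen i N) (G.gen i N) ≤ G.gen i N :=
  le_sInf fun H hH => (br_mono (sInf_le hH) (sInf_le hH)).trans hH.2

theorem gen_le {i : ℕ} {N H : AddSubgroup L} (h : G.upper i N ⊆ H) (hH : br H H ≤ H) :
    G.gen i N ≤ H :=
  sInf_le ⟨h, hH⟩

theorem br_gen_le_br_upper {i : ℕ} {N : AddSubgroup L} (hN : br N N ≤ N) :
    br N (G.gen i N) ≤ br N (AddSubgroup.closure (G.upper i N)) := by
  let M : AddSubgroup L := N ⊓ ⨅ x : {x : L // x ∈ N},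
    rightInto (x : L) (br N (AddSubgroup.closure (G.upper i N)))
  have key : G.gen i N ≤ M := by
    refine G.gen_le (fun u hu => ⟨hu.1, ?_⟩) (br_le.2 fun a ha b hb => ⟨hN (lie_mem_br ha.1 hb.1), ?_⟩)
    · exact AddSubgroup.mem_iInf.2 fun x => lie_mem_br x.2 (AddSubgroup.subset_closure hu)
    · refine AddSubgroup.mem_iInf.2 fun ⟨x, hx⟩ => ?_
      have e : ⁅x, ⁅a, b⁆⁆ = ⁅⁅x, a⁆, b⁆ - ⁅⁅x, b⁆, a⁆ := by
        rw [leibniz_lie x a b, ← lie_skew ⁅x, b⁆ a]; abel
      show ⁅x, ⁅a, b⁆⁆ ∈ br N (AddSubgroup.closure (G.upper i N))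
      rw [e]
      exact sub_mem (AddSubgroup.mem_iInf.1 hb.2 ⟨_, hN (lie_mem_br hx ha.1)⟩)
        (AddSubgroup.mem_iInf.1 ha.2 ⟨_, hN (lie_mem_br hx hb.1)⟩)
  exact br_le.2 fun x hx b hb => AddSubgroup.mem_iInf.1 (key hb).2 ⟨x, hx⟩

/-- Kreknin's theorem, one degree at a time. -/
theorem der_le_gen : ∀ (i : ℕ), i ≤ p - 1 → ∀ N : AddSubgroup L, G.IsGraded N → br N N ≤ N →
    der N (2 ^ i - 1) ≤ G.gen i N := by
  intro i
  induction i with
  | zero =>
    intro _ N hN _
    refine (show N ≤ _ from hN.trans (iSup_le fun c x hx => ?_))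
    rcases eq_or_ne c 0 with rfl | hc
    · rw [G.eq_zero hx.2]; exact zero_mem _
    · exact G.subset_gen ⟨hx.1, c, Nat.pos_of_ne_zero ((ZMod.val_ne_zero c).2 hc), hx.2⟩
  | succ i ih =>
    intro hi N hN hNc
    set k := 2 ^ i - 1 with hk
    have hk1 : 2 ^ (i + 1) - 1 = (k + 1) + k := by
      have := Nat.one_le_two_pow (n := i); rw [pow_succ]; omega
    rw [hk1, der_add]
    set M := der N (k + 1) with hM
    have hMN : M ≤ N := der_le hNc _
    have hMM : br M M ≤ M := by
      have h1 : M ≤ der N k := by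
        have : br (der N k) (der N k) ≤ der N k := by
          clear_value k
          clear hk hk1 hM hMN M ih hi
          induction k with
          | zero => exact hNc
          | succ k ihk => exact br_mono ihk ihk
        exact this
      exact br_mono h1 h1
    refine (ih (by omega) M (G.isGraded_der hN _) hMM).trans (G.gen_le ?_ (G.br_gen _ _))
    rintro z ⟨hzM, c, hc, hzc⟩
    rcases lt_or_eq_of_le (Nat.succ_le_of_lt hc) with h | h
    · exact G.subset_gen ⟨hMN hzM, c, h, hzc⟩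
    have h1 : M ≤ br N (AddSubgroup.closure (G.upper i N)) :=
      (br_mono (der_le hNc k) (ih (by omega) N hN hNc)).trans (G.br_gen_le_br_upper hNc)
    have h2 : br N (AddSubgroup.closure (G.upper i N)) ≤ (G.gen (i + 1) N).comap (G.proj c) := by
      refine br_le.2 fun x hx u hu => ?_
      refine (show N ≤ leftInto u ((G.gen (i + 1) N).comap (G.proj c)) from
        hN.trans (iSup_le fun a x' hx' => ?_)) hx
      show u ∈ rightInto x' ((G.gen (i + 1) N).comap (G.proj c))
      refine (AddSubgroup.closure_le _).2 ?_ hu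
      rintro v ⟨hvN, d, hd, hvd⟩
      show G.proj c ⁅x', v⁆ ∈ G.gen (i + 1) N
      rcases eq_or_ne (a + d) c with he | he
      swap
      · rw [G.proj_ne (G.lie_mem hx'.2 hvd) he]; exact zero_mem _
      rw [G.proj_self (he ▸ G.lie_mem hx'.2 hvd)]
      rcases eq_or_ne a 0 with rfl | ha
      · rw [G.eq_zero hx'.2, zero_lie]; exact zero_mem _
      have hd' : i + 1 < d.val := by
        rcases lt_or_eq_of_le (Nat.succ_le_of_lt hd) with h' | h'
        · exact h'
        · exfalso
          refine ha ?_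
          have hdc : d = c := ZMod.val_injective p (h'.symm.trans h)
          rw [hdc] at he
          exact add_eq_right.1 he
      have ha' : i + 1 < a.val := by
        have h3 := congrArg ZMod.val he
        rw [ZMod.val_add] at h3
        have h4 := ZMod.val_lt a
        have h5 := ZMod.val_lt d
        rcases lt_or_ge (a.val + d.val) p with h6 | h6
        · rw [Nat.mod_eq_of_lt h6] at h3; omega
        · rw [Nat.mod_eq_sub_mod h6, Nat.mod_eq_of_lt (by omega)] at h3; omega
      exact G.br_gen _ _ (lie_mem_br (G.subset_gen ⟨hx'.1, a, ha', hx'.2⟩)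
        (G.subset_gen ⟨hvN, d, hd', hvd⟩))
    have := h2 (h1 hzM)
    rw [AddSubgroup.mem_comap, G.proj_self hzc] at this
    exact this

theorem der_eq_bot {N : AddSubgroup L} (hN : G.IsGraded N) (hc : br N N ≤ N) :
    der N (2 ^ (p - 1) - 1) = ⊥ := by
  refine eq_bot_iff.2 ((G.der_le_gen (p - 1) le_rfl N hN hc).trans (G.gen_le ?_ ?_))
  · rintro z ⟨-, c, hlt, -⟩
    have := ZMod.val_lt c
    omega
  · exact br_le.2 fun a ha b _ => by rw [AddSubgroup.mem_bot.1 ha]; simp

/-- Among the partial sums over sublists of a long list of nonzero residues is everything. -/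
theorem exists_sublist_sum : ∀ (l : List (ZMod p)), (∀ a ∈ l, a ≠ 0) → ∃ S : Finset (ZMod p),
    (∀ s ∈ S, ∃ l' : List (ZMod p), l'.Sublist l ∧ l'.sum = s) ∧ 0 ∈ S ∧ min p (l.length + 1) ≤ S.card
  | [], _ => ⟨{0}, fun s hs => ⟨[], List.Sublist.refl _, by simpa [eq_comm] using hs⟩, by simp, by simp⟩
  | a :: l, h => by
    obtain ⟨S, hS, h0, hcard⟩ := exists_sublist_sum l fun b hb => h b (List.mem_cons_of_mem _ hb)
    refine ⟨S ∪ S.image (fun s => a + s), ?_, Finset.mem_union_left _ h0, ?_⟩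
    · intro s hs
      rcases Finset.mem_union.1 hs with hs | hs
      · obtain ⟨l', hl, he⟩ := hS s hs
        exact ⟨l', hl.cons _, he⟩
      · obtain ⟨t, ht, rfl⟩ := Finset.mem_image.1 hs
        obtain ⟨l', hl, he⟩ := hS t ht
        exact ⟨a :: l', hl.cons_cons _, by simp [he]⟩
    by_cases hfull : S.card = p
    · exact (min_le_left _ _).trans (le_of_eq_of_le hfull.symm (Finset.card_le_card Finset.subset_union_left))
    have hne : ¬ S.image (fun s => a + s) ⊆ S := by
      intro hsub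
      refine hfull ?_
      have hall : ∀ n : ℕ, (n : ZMod p) * a ∈ S := by
        intro n
        induction n with
        | zero => simpa using h0
        | succ n ihn =>
          have := hsub (Finset.mem_image_of_mem _ ihn)
          simpa [add_mul, add_comm] using this
      have : S = Finset.univ := Finset.eq_univ_iff_forall.2 fun s => by
        have hz := hall (s * a⁻¹).val
        rwa [ZMod.natCast_zmod_val, inv_mul_cancel_right₀ (h a (List.mem_cons_self ..))] at hz
      rw [this, Finset.card_univ, ZMod.card]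
    have h1 : S.card + 1 ≤ (S ∪ S.image (fun s => a + s)).card :=
      Finset.card_lt_card (Finset.ssubset_iff_subset_ne.2 ⟨Finset.subset_union_left, fun e =>
        hne (Finset.union_eq_left.1 e.symm)⟩)
    simp only [List.length_cons]
    omega

/-- Reordering the right factors modulo an invariant subgroup. -/
theorem foldl_perm_sub {N I J : AddSubgroup L} (hI : br I N ≤ I) (hJ : br J N ≤ J)
    (hIM : br I (br N N) ≤ J) {l₁ l₂ : List L} (hp : l₁.Perm l₂) :
    (∀ a ∈ l₁, a ∈ N) → ∀ x ∈ I, l₁.foldl (⁅·, ·⁆) x - l₂.foldl (⁅·, ·⁆) x ∈ J := by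
  have hsub : ∀ (l : List L), (∀ a ∈ l, a ∈ N) → ∀ x y, x - y ∈ J →
      l.foldl (⁅·, ·⁆) x - l.foldl (⁅·, ·⁆) y ∈ J := by
    intro l
    induction l with
    | nil => exact fun _ x y h => h
    | cons a l ih =>
      intro hl x y h
      exact ih (fun b hb => hl b (List.mem_cons_of_mem _ hb)) _ _
        (by rw [← sub_lie]; exact hJ (lie_mem_br h (hl a (List.mem_cons_self ..))))
  induction hp with
  | nil => intro _ x _; simp
  | cons a _ ih =>
    intro hl x hx
    exact ih (fun b hb => hl b (List.mem_cons_of_mem _ hb)) _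
      (hI (lie_mem_br hx (hl a (List.mem_cons_self ..))))
  | swap a b l =>
    intro hl x hx
    have ha : a ∈ N := hl a (by simp)
    have hb : b ∈ N := hl b (by simp)
    refine hsub l (fun c hc => hl c (by simp [hc])) _ _ ?_
    have e : ⁅⁅x, b⁆, a⁆ - ⁅⁅x, a⁆, b⁆ = ⁅x, ⁅b, a⁆⁆ := by
      rw [leibniz_lie x b a, ← lie_skew ⁅x, a⁆ b]; abel
    rw [e]
    exact hIM (lie_mem_br hx (lie_mem_br hb ha))
  | trans h₁ _ ih₁ ih₂ =>
    intro hl x hx
    have := add_mem (ih₁ hl x hx) (ih₂ (fun b hb => hl b (h₁.mem_iff.2 hb)) x hx)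
    simpa using this

theorem foldl_mem_comp : ∀ (l : List (L × ZMod p)) (a : ZMod p) (x : L), x ∈ G.comp a →
    (∀ u ∈ l, u.1 ∈ G.comp u.2) →
    (l.map Prod.fst).foldl (⁅·, ·⁆) x ∈ G.comp (a + (l.map Prod.snd).sum)
  | [], a, x, hx, _ => by simpa using hx
  | u :: l, a, x, hx, hl => by
    have := foldl_mem_comp l (a + u.2) _ (G.lie_mem hx (hl u (List.mem_cons_self ..)))
      fun v hv => hl v (List.mem_cons_of_mem _ hv)
    simpa [add_assoc] using this

theorem foldl_zero : ∀ l : List L, l.foldl (⁅·, ·⁆) (0 : L) = 0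
  | [] => rfl
  | a :: l => by simp [List.foldl_cons, foldl_zero l]

/-- Iterated brackets with `N` on the right. -/
def iter (I N : AddSubgroup L) : ℕ → AddSubgroup L
  | 0 => I
  | n + 1 => br (iter I N n) N

theorem iter_le_span {I N : AddSubgroup L} (hI : G.IsGraded I) (hN : G.IsGraded N) : ∀ n,
    iter I N n ≤ AddSubgroup.closure {z | ∃ (a : ZMod p) (x : L) (l : List (L × ZMod p)), x ∈ I ∧
      x ∈ G.comp a ∧ l.length = n ∧ (∀ u ∈ l, u.1 ∈ N ∧ u.1 ∈ G.comp u.2) ∧
      (l.map Prod.fst).foldl (⁅·, ·⁆) x = z}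
  | 0 => hI.trans (iSup_le fun a x hx =>
      AddSubgroup.subset_closure ⟨a, x, [], hx.1, hx.2, rfl, by simp, rfl⟩)
  | n + 1 => br_le.2 fun y hy b hb => by
    refine (show y ∈ leftInto b (AddSubgroup.closure _) from ?_)
    refine (show iter I N n ≤ leftInto b _ from (iter_le_span hI hN n).trans
      ((AddSubgroup.closure_le _).2 ?_)) hy
    rintro z ⟨a, x, l, hx, hxa, hlen, hl, rfl⟩
    refine (show N ≤ rightInto _ _ from hN.trans (iSup_le fun d w hw => ?_)) hb
    refine AddSubgroup.subset_closure ⟨a, x, l ++ [(w, d)], hx, hxa, by simp [hlen], ?_, by simp⟩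
    intro u hu
    rcases List.mem_append.1 hu with hu | hu
    · exact hl u hu
    · rw [List.mem_singleton.1 hu]; exact ⟨hw.1, hw.2⟩

/-- `p - 1` brackets annihilate a factor on which the action is commutative. -/
theorem iter_le {I J N : AddSubgroup L} (hIg : G.IsGraded I) (hNg : G.IsGraded N)
    (hI : br I N ≤ I) (hJ : br J N ≤ J) (hIM : br I (br N N) ≤ J) : iter I N (p - 1) ≤ J := by
  refine (G.iter_le_span hIg hNg _).trans ((AddSubgroup.closure_le _).2 ?_)
  rintro z ⟨a, x, l, hx, hxa, hlen, hl, rfl⟩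
  show (l.map Prod.fst).foldl (⁅·, ·⁆) x ∈ J
  by_cases h0 : ∃ u ∈ l, u.2 = 0
  · obtain ⟨u, hu, hu0⟩ := h0
    obtain ⟨l₁, l₂, rfl⟩ := List.append_of_mem hu
    have : u.1 = 0 := G.eq_zero (hu0 ▸ (hl u hu).2)
    simp [List.foldl_append, this, foldl_zero]
  push Not at h0
  obtain ⟨S, hS, -, hcard⟩ := exists_sublist_sum (l.map Prod.snd) (by
    simpa [List.mem_map] using fun b u hu => by
      rintro rfl; exact h0 _ hu rfl)
  have hp2 := (Fact.out : p.Prime).two_le
  rw [List.length_map, hlen, min_eq_left (by omega)] at hcard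
  have huniv : S = Finset.univ :=
    Finset.eq_univ_of_card _ (le_antisymm (Finset.card_le_univ S) (by rw [ZMod.card]; exact hcard))
  obtain ⟨m, hm, hmsum⟩ := hS (-a) (huniv ▸ Finset.mem_univ _)
  obtain ⟨l', hl', rfl⟩ := List.sublist_map_iff.1 hm
  obtain ⟨r, hr⟩ := hl'.exists_perm_append
  have hperm := (hr.map Prod.fst)
  have h1 := foldl_perm_sub hI hJ hIM hperm (by
    intro b hb
    obtain ⟨u, hu, rfl⟩ := List.mem_map.1 hb
    exact (hl u hu).1) x hx
  have hz : (l'.map Prod.fst).foldl (⁅·, ·⁆) x = 0 := G.eq_zero (by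
    have := G.foldl_mem_comp l' a x hxa fun u hu => (hl u (hl'.subset hu)).2
    rwa [hmsum, add_neg_cancel] at this)
  rw [List.map_append, List.foldl_append, hz, foldl_zero, sub_zero] at h1
  exact h1

theorem iter_mono {I I' N : AddSubgroup L} (h : I ≤ I') : ∀ n, iter I N n ≤ iter I' N n
  | 0 => h
  | n + 1 => br_mono (iter_mono h n) le_rfl

theorem low_add (N : AddSubgroup L) (m : ℕ) : ∀ n, low N (m + n) = iter (low N m) N n
  | 0 => rfl
  | n + 1 => congrArg₂ br (low_add N m n) rfl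

/-- Higman's bound on the class in terms of the derived length. -/
theorem low_eq_bot : ∀ (j : ℕ) (N : AddSubgroup L), G.IsGraded N → br N N ≤ N → der N j = ⊥ →
    low N (bound p j) = ⊥
  | 0, N, _, _, h => h
  | j + 1, N, hN, hc, h => by
    set M := br N N with hM
    have hMg : G.IsGraded M := G.isGraded_br hN hN
    have hMM : br M M ≤ M := br_mono hc hc
    have hd : der M j = ⊥ := by
      rw [← h, show j + 1 = 1 + j by omega, der_add]; rfl
    have hbot := low_eq_bot j M hMg hMM hd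
    have hlg : ∀ i, G.IsGraded (low M i) := fun i => by
      induction i with
      | zero => exact hMg
      | succ i ih => exact G.isGraded_br ih hMg
    have hinv : ∀ i, br (low M i) N ≤ low M i := by
      intro i
      induction i with
      | zero => exact br_mono hc le_rfl
      | succ i ih =>
        refine br_le.2 fun y hy b hb => ?_
        show y ∈ leftInto b (low M (i + 1))
        refine (show low M (i + 1) ≤ leftInto b _ from br_le.2 fun u hu v hv => ?_) hy
        show ⁅⁅u, v⁆, b⁆ ∈ low M (i + 1)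
        have e : ⁅⁅u, v⁆, b⁆ = ⁅⁅u, b⁆, v⁆ + ⁅u, ⁅v, b⁆⁆ := by
          rw [leibniz_lie u v b, ← lie_skew ⁅u, b⁆ v]; abel
        rw [e]
        exact add_mem (lie_mem_br (ih (lie_mem_br hu hb)) hv)
          (lie_mem_br hu (lie_mem_br (hc hv) hb))
    have key : ∀ i, low N (1 + (p - 1) * i) ≤ low M i := by
      intro i
      induction i with
      | zero => exact le_rfl
      | succ i ih =>
        rw [Nat.mul_succ, ← add_assoc, low_add]
        exact (iter_mono ih _).trans (G.iter_le (hlg i) hN (hinv i) (hinv (i + 1)) le_rfl)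
    rw [bound_succ]
    exact eq_bot_iff.2 ((key _).trans hbot.le)

/-- With three as the prime the class is at most two. -/
theorem low_two_of_three (hp : p = 3) {N : AddSubgroup L} (hN : G.IsGraded N) : low N 2 = ⊥ := by
  subst hp
  have hdec : ∀ c d e : ZMod 3, c = 0 ∨ d = 0 ∨ e = 0 ∨ c + d = 0 ∨ c + d + e = 0 ∨
      (c + e = 0 ∧ d + e = 0) := three_cases
  refine eq_bot_iff.2 ?_
  refine br_le.2 fun y hy b hb => ?_
  refine (show low N 1 ≤ leftInto b ⊥ from G.br_le_of_graded hN hN fun c d u _ huc v _ hvd => ?_) hy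
  refine (show N ≤ rightInto ⁅u, v⁆ ⊥ from hN.trans (iSup_le fun e w hw => ?_)) hb
  show ⁅⁅u, v⁆, w⁆ ∈ (⊥ : AddSubgroup L)
  rw [AddSubgroup.mem_bot]
  have h0 : ∀ {c : ZMod 3} {x : L}, x ∈ G.comp c → c = 0 → x = 0 := fun hx hc => G.eq_zero (hc ▸ hx)
  rcases hdec c d e with h | h | h | h | h | ⟨h, h'⟩
  · rw [h0 huc h]; simp
  · rw [h0 hvd h]; simp
  · rw [h0 hw.2 h]; simp
  · rw [h0 (G.lie_mem huc hvd) h]; simp
  · rw [h0 (G.lie_mem (G.lie_mem huc hvd) hw.2) h]
  · rw [lie_lie, h0 (G.lie_mem huc hw.2) h, h0 (G.lie_mem hvd hw.2) h']; simp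

end Grading

end CfsgLib.Solv.Krek
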