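import Cfsg.Agent.Solv.LBalanceTools
import Cfsg.Agent.Base.ZStar.Holds
import Cfsg.Agent.Inv.CharTwo

/-!
The main step of `L`-balance at the prime 2: a component of the centralizer of a 2-group lifts to a
perfect group centralizing a normal subgroup, unless it lies in it.
-/

set_option autoImplicit false
set_option linter.style.haveILetI false
set_option linter.unusedSectionVars false

open scoped commutatorElement Pointwise

namespace CfsgLib.Solv.LBal

open CfsgLib.Solv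

universe u

variable {X : Type u} [Group X] [Finite X]

/-- A commutator centralizes the elements `z` with both `z` and `n⁻¹ z n` centralized by `h`. -/
theorem commutator_commute {h n z : X} (h1 : h * (n⁻¹ * z * n) = n⁻¹ * z * n * h)
    (h2 : h * z = z * h) : z * ⁅h, n⁆ = ⁅h, n⁆ * z := by
  have e : n⁻¹ * z * n = h⁻¹ * (n⁻¹ * z * n) * h := by
    rw [mul_assoc h⁻¹, ← h1, inv_mul_cancel_left]
  have h2' : h⁻¹ * z = z * h⁻¹ := by
    calc h⁻¹ * z = h⁻¹ * (z * h) * h⁻¹ := by group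
      _ = h⁻¹ * (h * z) * h⁻¹ := by rw [h2]
      _ = z * h⁻¹ := by group
  rw [commutatorElement_def]
  symm
  calc h * n * h⁻¹ * n⁻¹ * z = h * n * h⁻¹ * (n⁻¹ * z * n) * n⁻¹ := by group
    _ = h * n * h⁻¹ * (n⁻¹ * z * n) * h * h⁻¹ * n⁻¹ := by group
    _ = h * n * (h⁻¹ * (n⁻¹ * z * n) * h) * h⁻¹ * n⁻¹ := by group
    _ = h * n * (n⁻¹ * z * n) * h⁻¹ * n⁻¹ := by rw [← e]
    _ = (h * z) * n * h⁻¹ * n⁻¹ := by group
    _ = z * (h * n * h⁻¹ * n⁻¹) := by rw [h2]; group

/-- A perfect group centralizing a Sylow 2-subgroup of a core-free normal subgroup acts on it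
through elements of odd order: its 2-elements centralize it. -/
theorem two_element_centralizes (hO : Cfsg.oddCore X = ⊥) (E : Subgroup X) [hEn : E.Normal]
    {R H : Subgroup X} (hR : IsSyl R E) (hH : ⁅H, H⁆ = H)
    (hHR : H ≤ Subgroup.centralizer (R : Set X)) {v : X} (hvH : v ∈ H) (hv : IsPGroup 2 (Subgroup.zpowers v)) :
    ∀ e ∈ E, e * v = v * e := by
  have hEN : ∀ K : Subgroup X, K ≤ Subgroup.normalizer (E : Set X) := fun K => by
    rw [Subgroup.normalizer_eq_top]; exact le_top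
  set Γ := E ⊔ Subgroup.zpowers v with hΓ
  set S := R ⊔ Subgroup.zpowers v with hS
  have hvR : ∀ r ∈ R, r * v = v * r := fun r hr => Subgroup.mem_centralizer_iff.1 (hHR hvH) r hr
  have hvN : Subgroup.zpowers v ≤ Subgroup.normalizer (R : Set X) := Subgroup.zpowers_le.2
    (Subgroup.mem_normalizer_fintype fun r hr => by rwa [← hvR r hr, mul_inv_cancel_right])
  have hS2 : IsPGroup 2 S := by
    rw [hS, sup_comm]; exact hv.to_sup_of_normal_right' hR.2.1 hvN
  have hSE : S ⊓ E = R := by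
    refine le_antisymm ?_ (le_inf le_sup_left hR.1)
    obtain ⟨k, hk, hkle⟩ := hR.2.2 (S ⊓ E) inf_le_right (hS2.to_le inf_le_left)
    have h1 := Subgroup.card_le_of_le hkle
    rw [card_conj_smul] at h1
    exact (Subgroup.eq_of_le_of_card_ge (le_inf le_sup_left hR.1) h1).ge
  have hdec : ∀ x ∈ Γ, ∃ e ∈ E, ∃ w ∈ Subgroup.zpowers v, x = e * w := fun x hx =>
    exists_mul_of_mem_sup (hEN _) (by rwa [hΓ, sup_comm] at hx)
  have hSΓ : IsSyl S Γ := by
    refine isSyl_of_maximal (sup_le_sup_right hR.1 _) hS2 fun P hP hPp hle x hx => ?_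
    obtain ⟨e, he, w, hw, rfl⟩ := hdec x (hP hx)
    refine mul_mem (Subgroup.mem_sup_left ?_) (Subgroup.mem_sup_right hw)
    have heP : e ∈ P ⊓ E := Subgroup.mem_inf.2 ⟨by
      simpa using mul_mem hx (inv_mem (hle (Subgroup.mem_sup_right hw))), he⟩
    obtain ⟨k, hk, hkle⟩ := hR.2.2 (P ⊓ E) inf_le_right (hPp.to_le inf_le_left)
    have h1 := Subgroup.card_le_of_le hkle
    rw [card_conj_smul] at h1
    exact (Subgroup.eq_of_le_of_card_ge (le_inf (le_sup_left.trans hle) hR.1) h1).ge heP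
  have hvS : v ∈ S := Subgroup.mem_sup_right (Subgroup.mem_zpowers v)
  have hcen : ∀ s ∈ S, s * v = v * s := fun s hs => by
    have : S ≤ Subgroup.centralizer ({v} : Set X) := sup_le
      (fun r hr => Subgroup.mem_centralizer_singleton_iff.2 (hvR r hr))
      (Subgroup.zpowers_le.2 (Subgroup.mem_centralizer_singleton_iff.2 rfl))
    exact Subgroup.mem_centralizer_singleton_iff.1 (this hs)
  have hwc := weaklyClosed_of_centric hSΓ hvS hcen (by
    intro V hVS hvV hVc hVsyl n hnΓ hnV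
    obtain ⟨e, he, w, hw, rfl⟩ := hdec n hnΓ
    have hwv : w * v * w⁻¹ = v := by
      obtain ⟨i, rfl⟩ := Subgroup.mem_zpowers_iff.1 hw
      group
    have heV : e ∈ Subgroup.normalizer (V : Set X) := by
      have hwV : w ∈ Subgroup.normalizer (V : Set X) :=
        Subgroup.le_normalizer ((Subgroup.zpowers_le.2 hvV) hw)
      simpa using mul_mem hnV (inv_mem hwV)
    suffices key : e * v * e⁻¹ = v by
      calc e * w * v * (e * w)⁻¹ = e * (w * v * w⁻¹) * e⁻¹ := by group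
        _ = v := by rw [hwv, key]
    set V₀ := V ⊓ E with hV₀
    have hV₀R : V₀ ≤ R := (inf_le_inf_right _ hVS).trans hSE.le
    have hVdec : ∀ x ∈ V, ∃ r ∈ V₀, ∃ u ∈ Subgroup.zpowers v, x = r * u := fun x hx => by
      obtain ⟨r, hr, u, hu, rfl⟩ := hdec x (hSΓ.1 (hVS hx))
      exact ⟨r, Subgroup.mem_inf.2 ⟨by simpa using mul_mem hx (inv_mem ((Subgroup.zpowers_le.2 hvV) hu)), hr⟩,
        u, hu, rfl⟩
    have hcentV : ∀ x : X, x ∈ Subgroup.centralizer (V₀ : Set X) → x * v = v * x →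
        x ∈ Subgroup.centralizer (V : Set X) := fun x hx hxv => Subgroup.mem_centralizer_iff.2 fun z hz => by
      obtain ⟨r, hr, u, hu, rfl⟩ := hVdec z hz
      obtain ⟨i, rfl⟩ := Subgroup.mem_zpowers_iff.1 hu
      exact ((show Commute r x from Subgroup.mem_centralizer_iff.1 hx r hr).mul_left
        ((show Commute x v from hxv).zpow_right i).symm).eq
    have hCR : R ⊓ Subgroup.centralizer (V₀ : Set X) ≤ V₀ := fun x hx => by
      have hxR := (Subgroup.mem_inf.1 hx).1
      exact Subgroup.mem_inf.2 ⟨hVc (Subgroup.mem_inf.2 ⟨Subgroup.mem_sup_left hxR,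
        hcentV x (Subgroup.mem_inf.1 hx).2 (hvR x hxR)⟩), hR.1 hxR⟩
    set M := E ⊓ Subgroup.centralizer (V₀ : Set X) with hM
    set Z := V₀ ⊓ Subgroup.centralizer (V₀ : Set X) with hZ
    have hZM : Z ≤ M := inf_le_inf_right _ inf_le_right
    have hV₀2 : IsPGroup 2 V₀ := hS2.to_le (inf_le_left.trans hVS)
    have hvnV₀ : v ∈ Subgroup.normalizer (V₀ : Set X) := Subgroup.mem_normalizer_fintype fun r hr => by
      rwa [← hvR r (hV₀R hr), mul_inv_cancel_right]
    have hnormC : ∀ {a : X}, a ∈ Subgroup.normalizer (V₀ : Set X) →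
        a ∈ Subgroup.normalizer (Subgroup.centralizer (V₀ : Set X) : Set X) := fun {a} ha =>
      Subgroup.mem_normalizer_fintype fun u hu => Subgroup.mem_centralizer_iff.2 fun r hr => by
        have h1 := Subgroup.mem_centralizer_iff.1 hu _ ((Subgroup.mem_normalizer_iff.1 (inv_mem ha) r).1 hr)
        calc r * (a * u * a⁻¹) = a * ((a⁻¹ * r * a⁻¹⁻¹) * u) * a⁻¹ := by group
          _ = a * u * a⁻¹ * r := by rw [h1]; group
    have hidx : ¬ 2 ∣ Z.relIndex M := by
      intro hdvd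
      obtain ⟨y, hyM, -, hyZ, hy2, hyt⟩ := exists_fixed_coset (hV₀2.to_le inf_le_left) hZM hv
        (le_normalizer_inf_of_le (hEN _) (Subgroup.zpowers_le.2 (hnormC hvnV₀)))
        (le_normalizer_inf_of_le (Subgroup.zpowers_le.2 hvnV₀) (Subgroup.zpowers_le.2 (hnormC hvnV₀))) hdvd
      have hyv : y * v * y⁻¹ ∈ V := by
        have h1 : ⁅y, v⁆ ∈ V := (Subgroup.mem_inf.1 (Subgroup.mem_inf.1 (hyt v (Subgroup.mem_zpowers v))).1).1
        rw [show y * v * y⁻¹ = ⁅y, v⁆ * v by rw [commutatorElement_def]; group]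
        exact mul_mem h1 hvV
      have hyN : y ∈ Subgroup.normalizer (V : Set X) := Subgroup.mem_normalizer_fintype fun x hx => by
        obtain ⟨r, hr, u, hu, rfl⟩ := hVdec x hx
        obtain ⟨i, rfl⟩ := Subgroup.mem_zpowers_iff.1 hu
        rw [← conj_mul, ← conj_zpow, ← Subgroup.mem_centralizer_iff.1 (Subgroup.mem_inf.1 hyM).2 r hr,
          mul_inv_cancel_right]
        exact mul_mem (Subgroup.mem_inf.1 hr).1 (zpow_mem hyv i)
      obtain ⟨a, ha, hale⟩ := hVsyl.2.2 (Subgroup.zpowers y) (Subgroup.zpowers_le.2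
        ⟨Subgroup.mem_sup_left (Subgroup.mem_inf.1 hyM).1, hyN⟩) (hy2.to_le le_sup_right)
      have haV₀ : a ∈ Subgroup.normalizer (V₀ : Set X) :=
        (le_normalizer_inf_of_le inf_le_right (hEN _) : Γ ⊓ Subgroup.normalizer (V : Set X) ≤ _) ha
      have h1 : a * y * a⁻¹ ∈ R := hSE.le (Subgroup.mem_inf.2 ⟨(Subgroup.mem_inf.1 (hale
        (mem_conj_smul_iff.2 (by simp [mul_assoc])))).1, hEn.conj_mem y (Subgroup.mem_inf.1 hyM).1 a⟩)
      have h2 : a * y * a⁻¹ ∈ Subgroup.centralizer (V₀ : Set X) :=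
        (Subgroup.mem_normalizer_iff.1 (hnormC haV₀) y).1 (Subgroup.mem_inf.1 hyM).2
      exact hyZ (Subgroup.mem_inf.2 ⟨(Subgroup.mem_normalizer_iff.1 haV₀ y).2
        (hCR (Subgroup.mem_inf.2 ⟨h1, h2⟩)), (Subgroup.mem_inf.1 hyM).2⟩)
    obtain ⟨O, hOM, hOodd, -, hOH⟩ := central_sylow_core hZM (hV₀2.to_le inf_le_left) hidx
      (fun m hm => Subgroup.mem_centralizer_iff.2 fun z hz =>
        Subgroup.mem_centralizer_iff.1 (Subgroup.mem_inf.1 hm).2 z (Subgroup.mem_inf.1 hz).1)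
    have hHV₀ : H ≤ Subgroup.centralizer (V₀ : Set X) := hHR.trans (Subgroup.centralizer_le hV₀R)
    have hev : e ∈ Subgroup.normalizer (V₀ : Set X) :=
      (le_normalizer_inf_of_le (A := Subgroup.zpowers e) (Subgroup.zpowers_le.2 heV) (hEN _)) (Subgroup.mem_zpowers e)
    have h1 : ⁅v, e⁆ ∈ O := hOH H hH
      (le_normalizer_inf_of_le (hEN _) (hHV₀.trans Subgroup.le_normalizer))
      (hHV₀.trans (Subgroup.centralizer_le inf_le_left)) e (fun h hh => by
        refine Subgroup.mem_inf.2 ⟨?_, ?_⟩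
        · rw [commutatorElement_def]
          exact mul_mem (hEn.conj_mem e he h) (inv_mem he)
        · rw [Subgroup.mem_centralizer_iff]
          intro z hz
          exact commutator_commute
            (Subgroup.mem_centralizer_iff.1 (hHV₀ hh) _ (by
              simpa using (Subgroup.mem_normalizer_iff.1 (inv_mem hev) z).1 hz)).symm
            (Subgroup.mem_centralizer_iff.1 (hHV₀ hh) z hz).symm) v hvH
    have h2 : ⁅v, e⁆ ∈ V₀ := by
      refine Subgroup.mem_inf.2 ⟨?_, (Subgroup.mem_inf.1 (hOM h1)).1⟩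
      rw [commutatorElement_def, show v * e * v⁻¹ * e⁻¹ = v * (e * v⁻¹ * e⁻¹) by group]
      exact mul_mem hvV ((Subgroup.mem_normalizer_iff.1 heV _).1 (inv_mem hvV))
    have h3 := (CfsgLib.Inv.eq_one_of_odd_of_mem_pGroup hV₀2 h2
      (CfsgLib.Inv.odd_orderOf_of_mem hOodd h1))
    rw [commutatorElement_eq_one_iff_mul_comm] at h3
    rw [← h3, mul_inv_cancel_right])
  -- Glauberman's theorem on weakly closed elements
  have hΓO : Cfsg.oddCore Γ = ⊥ := by
    haveI := pPrimeCore_normal Γ 2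
    set N := (Cfsg.oddCore Γ).map Γ.subtype
    have hNodd : Odd (Nat.card N) := by
      rw [Subgroup.card_map_of_injective Γ.subtype_injective]
      exact CfsgLib.Base.ZStar.odd_card_oddCore
    have hNE : N ≤ E := fun x hx => by
      obtain ⟨e, he, w, hw, rfl⟩ := hdec x (Subgroup.map_subtype_le _ hx)
      set π := QuotientGroup.mk' E
      have h1 : π (e * w) = π w := by rw [map_mul, show π e = 1 from (QuotientGroup.eq_one_iff e).2 he, one_mul]
      have hwo : π w = 1 := by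
        refine CfsgLib.Inv.eq_one_of_odd_of_mem_pGroup (hv.map π) ⟨w, hw, rfl⟩ ?_
        rw [← h1]
        exact (CfsgLib.Inv.odd_orderOf_of_mem hNodd hx).of_dvd_nat (orderOf_map_dvd π _)
      exact mul_mem he ((QuotientGroup.eq_one_iff w).1 hwo)
    have hsub : N.IsSubnormal := by
      haveI hn' : (N.subgroupOf E).Normal := by
        refine Subgroup.normal_subgroupOf_of_le_normalizer fun x hx => Subgroup.mem_normalizer_fintype ?_
        rintro _ ⟨y, hy, rfl⟩
        exact ⟨⟨x, Subgroup.mem_sup_left hx⟩ * y * ⟨x, Subgroup.mem_sup_left hx⟩⁻¹,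
          (pPrimeCore_normal Γ 2).conj_mem y hy _, rfl⟩
      have := hn'.isSubnormal.trans' hEn.isSubnormal
      rwa [Subgroup.map_subgroupOf_eq_of_le hNE] at this
    haveI := pPrimeCore_normal X 2
    have := CfsgLib.Fus.subnormal_le_pPrimeCore (p := 2) hsub (Nat.coprime_two_right.2 hNodd)
    rw [show Cfsg.pPrimeCore 2 X = ⊥ from hO, le_bot_iff, Subgroup.map_eq_bot_iff, Subgroup.ker_subtype] at this
    exact le_bot_iff.1 this
  obtain ⟨SΓ, hSΓle⟩ := (isPGroup_subgroupOf (K := Γ) hS2).exists_le_sylow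
  have hSeq : S.subgroupOf Γ = SΓ := by
    refine Subgroup.eq_of_le_of_card_ge hSΓle ?_
    obtain ⟨k, -, hk⟩ := hSΓ.2.2 ((SΓ : Subgroup Γ).map Γ.subtype) (Subgroup.map_subtype_le _) (SΓ.isPGroup'.map _)
    have h1 := Subgroup.card_le_of_le hk
    rw [card_conj_smul, Subgroup.card_map_of_injective Γ.subtype_injective] at h1
    rwa [card_subgroupOf hSΓ.1]
  have hvΓ : v ∈ Γ := Subgroup.mem_sup_right (Subgroup.mem_zpowers v)
  have hmem : ∀ x : Γ, x ∈ SΓ ↔ (x : X) ∈ S := fun x => by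
    show x ∈ (SΓ : Subgroup Γ) ↔ _
    rw [← hSeq]; rfl
  have hc := CfsgLib.Base.ZStar.weaklyClosed_central CfsgLib.Base.ZStar.holds (orderOf (⟨v, hvΓ⟩ : Γ)) Γ SΓ
    ⟨v, hvΓ⟩ le_rfl ((hmem _).2 hvS) hΓO (fun g hg => Subtype.ext (hwc g g.2 ((hmem _).1 hg)))
  intro e he
  exact congrArg Subtype.val (Subgroup.mem_center_iff.1 hc ⟨e, Subgroup.mem_sup_left he⟩)

/-- Image in `Q` of the part of `H` inside the domain of `φ`. -/
def img {C : Subgroup X} {Q : Type*} [Group Q] (φ : C →* Q) (H : Subgroup X) : Subgroup Q :=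
  (H.subgroupOf C).map φ

theorem isPGroup_zpowers {x : X} {k : ℕ} (h : orderOf x = 2 ^ k) : IsPGroup 2 (Subgroup.zpowers x) :=
  IsPGroup.of_card (n := k) (by rw [Nat.card_zpowers, h])

/-- Replacing `x` by a power kills an odd commuting factor and keeps a 2-part. -/
theorem exists_pow_eq {Q : Type*} [Group Q] [Finite Q] {k o : Q} (hc : Commute k o) {a : ℕ}
    (hk : orderOf k = 2 ^ a) (ho : Odd (orderOf o)) : ∃ e : ℕ, (k * o) ^ e = k := by
  have hcop : (orderOf o).Coprime (2 ^ a) := (Nat.coprime_two_right.2 ho).pow_right a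
  obtain ⟨e, he1, he2⟩ := Nat.chineseRemainder hcop 0 1
  refine ⟨e, ?_⟩
  rw [hc.mul_pow, orderOf_dvd_iff_pow_eq_one.1 (Nat.modEq_zero_iff_dvd.1 he1), mul_one]
  exact (pow_eq_pow_iff_modEq.2 (hk ▸ he2)).trans (pow_one k)

section Core

variable {C : Subgroup X} {Q : Type*} [Group Q] [Finite Q] (φ : C →* Q)

theorem img_mono {H K : Subgroup X} (h : H ≤ K) : img φ H ≤ img φ K :=
  Subgroup.map_mono fun x hx => h hx

/-- Lifting 2-elements centralizing `R₁`. -/
theorem lift_two {Kb : Subgroup Q} {R₁ O : Subgroup X} (hR₁ : IsPGroup 2 R₁) (hOodd : Odd (Nat.card O))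
    (hOC : O ≤ C) (hR₁O : R₁ ≤ Subgroup.normalizer (O : Set X))
    (hcomm : ∀ o : C, (o : X) ∈ O → ∀ k ∈ Kb, Commute k (φ o))
    {h : C} (hk : φ h ∈ Kb) {a : ℕ} (ha : orderOf (φ h) = 2 ^ a)
    (hhO : (h : X) ∈ Subgroup.normalizer (O : Set X)) (hr : ∀ r ∈ R₁, ⁅(h : X), r⁆ ∈ O) :
    φ h ∈ img φ (Subgroup.centralizer (R₁ : Set X) ⊓ C) := by
  set Y := MulAut.conj (h : X) • R₁ with hY
  have hYle : Y ≤ R₁ ⊔ O := fun y hy => by
    rw [hY, mem_conj_smul_iff] at hy
    rw [show y = ⁅(h : X), (h : X)⁻¹ * y * h⁆ * ((h : X)⁻¹ * y * h) by rw [commutatorElement_def]; group]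
    exact mul_mem (Subgroup.mem_sup_right (hr _ hy)) (Subgroup.mem_sup_left hy)
  have hYN : Y ≤ Subgroup.normalizer (O : Set X) := hYle.trans (sup_le hR₁O Subgroup.le_normalizer)
  have hc1 : (Nat.card R₁).Coprime (Nat.card O) := by
    obtain ⟨n, hn⟩ := IsPGroup.iff_card.1 hR₁
    rw [hn]; exact (Nat.coprime_two_left.2 hOodd).pow_left n
  have hc2 : (Nat.card Y).Coprime (Nat.card O) := by rwa [hY, card_conj_smul]
  have hsup : R₁ ⊔ O = Y ⊔ O := (Subgroup.eq_of_le_of_card_ge (sup_le hYle le_sup_right) (by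
    rw [card_sup_of_le_normalizer hR₁O hc1, card_sup_of_le_normalizer hYN hc2, hY, card_conj_smul])).symm
  haveI := hR₁.isNilpotent
  obtain ⟨g, hg, hgY⟩ := conj_complement_in_sup' hR₁O hYN hsup hc1 hc2 (Or.inr inferInstance)
  obtain ⟨o, ho, r, hrR, rfl⟩ := exists_mul_of_mem_sup hR₁O hg
  rw [map_mul, mul_smul, conj_smul_eq_self_of_mem_normalizer (Subgroup.le_normalizer hrR)] at hgY
  let m : C := ⟨o, hOC ho⟩⁻¹ * h
  have hmR : ∀ r ∈ R₁, (m : X) * r * (m : X)⁻¹ ∈ R₁ := fun r hr' => by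
    have h1 : (h : X) * r * (h : X)⁻¹ ∈ MulAut.conj o • R₁ := by
      rw [hgY, hY, mem_conj_smul_iff]; simpa [mul_assoc] using hr'
    rw [mem_conj_smul_iff] at h1
    show o⁻¹ * (h : X) * r * (o⁻¹ * (h : X))⁻¹ ∈ R₁
    simpa [mul_assoc] using h1
  have hmC : (m : X) ∈ Subgroup.centralizer (R₁ : Set X) := by
    rw [Subgroup.mem_centralizer_iff]
    intro r hr'
    have h1 : ⁅(m : X), r⁆ ∈ R₁ := by
      rw [commutatorElement_def]; exact mul_mem (hmR r hr') (inv_mem hr')
    have hoN : o⁻¹ ∈ Subgroup.normalizer (O : Set X) := inv_mem (Subgroup.le_normalizer ho)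
    have h2 : ⁅(m : X), r⁆ ∈ O := by
      show ⁅o⁻¹ * (h : X), r⁆ ∈ O
      rw [show ⁅o⁻¹ * (h : X), r⁆ = o⁻¹ * ⁅(h : X), r⁆ * (r * o * r⁻¹) by
        simp only [commutatorElement_def]; group]
      exact mul_mem (mul_mem (inv_mem ho) (hr r hr'))
        ((Subgroup.mem_normalizer_iff.1 (hR₁O hr') o).1 ho)
    have h3 := CfsgLib.Inv.eq_one_of_odd_of_mem_pGroup hR₁ h1 (CfsgLib.Inv.odd_orderOf_of_mem hOodd h2)
    exact (commutatorElement_eq_one_iff_mul_comm.1 h3).symm
  have hoodd : Odd (orderOf ((φ ⟨o, hOC ho⟩)⁻¹)) := by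
    rw [orderOf_inv]
    refine Odd.of_dvd_nat ?_ (orderOf_map_dvd φ _)
    rw [Subgroup.orderOf_mk]
    exact CfsgLib.Inv.odd_orderOf_of_mem hOodd ho
  have hkc : Commute (φ h) ((φ ⟨o, hOC ho⟩)⁻¹) := (hcomm _ ho _ hk).inv_right
  obtain ⟨e, he⟩ := exists_pow_eq hkc ha hoodd
  refine ⟨m ^ e, pow_mem (show (m : X) ∈ _ from Subgroup.mem_inf.2 ⟨hmC, m.2⟩) e, ?_⟩
  rw [map_pow, map_mul, map_inv, ← hkc.eq, he]

/-- The main step of `L`-balance at the prime 2. -/
theorem core (hO : Cfsg.oddCore X = ⊥) {T : Subgroup X} (hT : IsPGroup 2 T)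
    (hC : C = Subgroup.centralizer (T : Set X)) (hsurj : Function.Surjective φ)
    (hker : Odd (Nat.card φ.ker)) {Kb : Subgroup Q} (hKb : Cfsg.IsComponent Kb)
    (hgen : Subgroup.closure {g : Q | g ∈ Kb ∧ ∃ k, orderOf g = 2 ^ k} = Kb)
    (E : Subgroup X) [hEn : E.Normal] :
    Kb ≤ img φ E ∨ ∃ H : Subgroup X, ⁅H, H⁆ = H ∧ H ≠ ⊥ ∧ H ≤ Subgroup.centralizer (E : Set X) := by
  have hEN : ∀ K : Subgroup X, K ≤ Subgroup.normalizer (E : Set X) := fun K => by
    rw [Subgroup.normalizer_eq_top]; exact le_top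
  haveI hNn : (img φ E).Normal := Subgroup.Normal.map (H := E.subgroupOf C)
    (by infer_instance) φ hsurj
  refine (CfsgLib.Inv.component_le_or_commute hKb (img φ E)).imp id fun hcom => ?_
  rw [Subgroup.commutator_eq_bot_iff_le_centralizer] at hcom
  have hNcomm : ∀ o : C, (o : X) ∈ E → ∀ k ∈ Kb, Commute k (φ o) := fun o ho k hk =>
    (Subgroup.mem_centralizer_iff.1 (hcom hk) (φ o) ⟨o, ho, rfl⟩).symm
  set N := E ⊓ C with hN
  obtain ⟨S₀⟩ : Nonempty (Sylow 2 N) := inferInstance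
  set S := (S₀ : Subgroup N).map N.subtype with hS
  have hSs : IsSyl S N := isSyl_map N S₀
  let Cov : Subgroup X → Prop := fun R => R ≤ E ∧ IsPGroup 2 R ∧ T ≤ Subgroup.normalizer (R : Set X) ∧
    S ≤ R ∧ Kb ≤ img φ (Subgroup.centralizer (R : Set X) ⊓ C)
  have hcover : ∀ R : Subgroup X, (∀ k ∈ Kb, ∀ a : ℕ, orderOf k = 2 ^ a →
      k ∈ img φ (Subgroup.centralizer (R : Set X) ⊓ C)) → Kb ≤ img φ (Subgroup.centralizer (R : Set X) ⊓ C) := by
    intro R hR
    rw [← hgen, Subgroup.closure_le]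
    rintro k ⟨hk, a, ha⟩
    exact hR k hk a ha
  have hstart : Cov S := by
    refine ⟨hSs.1.trans inf_le_left, hSs.2.1, fun t ht => Subgroup.mem_normalizer_fintype fun s hs => ?_, le_rfl,
      hcover S fun k hk a ha => ?_⟩
    · rwa [Subgroup.mem_centralizer_iff.1 (hC.le (hSs.1 hs).2) t ht, mul_inv_cancel_right]
    obtain ⟨h, rfl⟩ := hsurj k
    have hnorm : ∀ c : C, (c : X) ∈ Subgroup.normalizer (φ.ker.map C.subtype : Set X) := fun c => by
      refine Subgroup.mem_normalizer_fintype ?_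
      rintro _ ⟨u, hu, rfl⟩
      exact ⟨c * u * c⁻¹, (inferInstance : φ.ker.Normal).conj_mem u hu c, rfl⟩
    refine lift_two φ hSs.2.1 (by rwa [Subgroup.card_map_of_injective C.subtype_injective])
      (Subgroup.map_subtype_le _) (fun s hs => hnorm ⟨s, (hSs.1 hs).2⟩) ?_ hk ha (hnorm h) fun s hs => ?_
    · rintro o ⟨u, hu, huo⟩ k -
      rw [← show u = o from Subtype.ext huo, MonoidHom.mem_ker.1 hu]
      exact Commute.one_right _
    · refine ⟨⁅h, (⟨s, (hSs.1 hs).2⟩ : C)⁆, ?_, rfl⟩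
      rw [SetLike.mem_coe, MonoidHom.mem_ker, map_commutatorElement, commutatorElement_eq_one_iff_mul_comm]
      exact hNcomm _ (hSs.1 hs).1 _ hk
  obtain ⟨R, hR⟩ := (Set.toFinite {R | Cov R}).exists_maximal ⟨S, hstart⟩
  obtain ⟨⟨hRE, hR2, hTR, hSR, hcov⟩, hRmax⟩ := hR
  obtain ⟨H, -, hHmin⟩ := Finite.exists_le_minimal
    (p := fun H : Subgroup X => H ≤ Subgroup.centralizer (R : Set X) ⊓ C ∧ Kb ≤ img φ H) ⟨le_rfl, hcov⟩
  obtain ⟨hHle, hHK⟩ := hHmin.1
  have hperfKb := CfsgLib.Inv.component_commutator hKb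
  have hHperf : ⁅H, H⁆ = H := by
    have hle : ⁅H, H⁆ ≤ H := Subgroup.commutator_le_self H
    refine le_antisymm hle (hHmin.2 ⟨hle.trans hHle, ?_⟩ hle)
    rw [← hperfKb, img]
    refine (Subgroup.commutator_mono hHK hHK).trans ?_
    rw [img, ← Subgroup.map_commutator]
    refine Subgroup.map_mono (Subgroup.commutator_le.2 fun a ha b hb => ?_)
    rw [Subgroup.mem_subgroupOf]
    exact Subgroup.commutator_mem_commutator (show (a : X) ∈ H from ha) (show (b : X) ∈ H from hb)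
  have hHC : H ≤ C := hHle.trans inf_le_right
  have hHR : H ≤ Subgroup.centralizer (R : Set X) := hHle.trans inf_le_left
  have hHgen : Subgroup.closure {g : X | g ∈ H ∧ ∃ k, orderOf g = 2 ^ k} = H := by
    have hle : Subgroup.closure {g : X | g ∈ H ∧ ∃ k, orderOf g = 2 ^ k} ≤ H :=
      (Subgroup.closure_le H).2 fun g hg => hg.1
    refine le_antisymm hle (hHmin.2 ⟨hle.trans hHle, ?_⟩ hle)
    conv_lhs => rw [← hgen]
    rw [Subgroup.closure_le]
    rintro k ⟨hk, a, ha⟩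
    obtain ⟨h, hh, rfl⟩ := hHK hk
    obtain ⟨i, j, hj, hij⟩ := Nat.exists_eq_two_pow_mul_odd (orderOf_pos h).ne'
    have hcop : j.Coprime (2 ^ a) := (Nat.coprime_two_right.2 hj).pow_right a
    obtain ⟨e, he1, he2⟩ := Nat.chineseRemainder hcop 0 1
    refine ⟨h ^ e, Subgroup.subset_closure ⟨pow_mem (show (h : X) ∈ H from hh) e, ?_⟩, ?_⟩
    · have h1 : (h ^ e) ^ 2 ^ i = 1 := by
        rw [← pow_mul, ← orderOf_dvd_iff_pow_eq_one, hij, mul_comm e]
        exact Nat.mul_dvd_mul_left _ (Nat.modEq_zero_iff_dvd.1 he1)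
      obtain ⟨l, -, hl⟩ := (Nat.dvd_prime_pow Nat.prime_two).1 (orderOf_dvd_of_pow_eq_one h1)
      exact ⟨l, by rw [show C.subtype (h ^ e) = ((h ^ e : C) : X) from rfl, Subgroup.orderOf_coe, hl]⟩
    · rw [map_pow]
      exact (pow_eq_pow_iff_modEq.2 (ha ▸ he2)).trans (pow_one _)
  have hRs : IsSyl R E := by
    refine isSyl_of_not_dvd hRE hR2 fun hdvd => ?_
    obtain ⟨y, hyE, hyR, hynR, hy2, hyt⟩ := exists_fixed_coset hR2 hRE hT (hEN _) hTR hdvd
    set R₁ := R ⊔ Subgroup.zpowers y with hR₁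
    set M := N ⊓ Subgroup.centralizer (R : Set X) with hM
    have hyz : ∀ t ∈ T, ∃ r ∈ R, y⁻¹ * t * y = r * t := fun t ht => by
      refine ⟨y⁻¹ * ⁅y, t⁆⁻¹ * y, ?_, by rw [commutatorElement_def]; group⟩
      simpa using (Subgroup.mem_normalizer_iff.1 (inv_mem hyR) _).1 (inv_mem (hyt t ht))
    have hcT : ∀ x : X, x ∈ Subgroup.centralizer (R : Set X) → x ∈ C → ∀ t ∈ T,
        x * (y⁻¹ * t * y) = y⁻¹ * t * y * x := by
      intro x hxR hxC t ht
      obtain ⟨r, hr, he⟩ := hyz t ht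
      rw [he]
      exact ((show Commute x r from (Subgroup.mem_centralizer_iff.1 hxR r hr).symm).mul_right
        (Subgroup.mem_centralizer_iff.1 (hC.le hxC) t ht).symm).eq
    have hyM : y ∈ Subgroup.normalizer (M : Set X) := by
      refine Subgroup.mem_normalizer_fintype fun u hu => ?_
      obtain ⟨⟨huE, huC⟩, huR⟩ := hu
      refine Subgroup.mem_inf.2 ⟨Subgroup.mem_inf.2 ⟨hEn.conj_mem u huE y, hC.ge ?_⟩, ?_⟩
      · rw [Subgroup.mem_centralizer_iff]
        intro t ht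
        calc t * (y * u * y⁻¹) = y * ((y⁻¹ * t * y) * u) * y⁻¹ := by group
          _ = y * u * y⁻¹ * t := by rw [← hcT u huR huC t ht]; group
      · rw [Subgroup.mem_centralizer_iff]
        intro r hr
        have h1 := Subgroup.mem_centralizer_iff.1 huR _ ((Subgroup.mem_normalizer_iff.1 (inv_mem hyR) r).1 hr)
        calc r * (y * u * y⁻¹) = y * ((y⁻¹ * r * y⁻¹⁻¹) * u) * y⁻¹ := by group
          _ = y * u * y⁻¹ * r := by rw [h1]; group
    have hRM : R ≤ Subgroup.normalizer (M : Set X) := by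
      refine fun r hr => Subgroup.mem_normalizer_fintype fun u hu => ?_
      rwa [Subgroup.mem_centralizer_iff.1 hu.2 r hr, mul_inv_cancel_right]
    set Z := S ⊓ M with hZ
    have hZM : Z ≤ M := inf_le_right
    have hMS : M ≤ Subgroup.centralizer (S : Set X) := inf_le_right.trans (Subgroup.centralizer_le hSR)
    have hidx : ¬ 2 ∣ Z.relIndex M := by
      refine (isSyl_of_maximal hZM (hSs.2.1.to_le inf_le_left) fun P hP hPp hle => ?_).not_dvd
      have hPN : P ≤ Subgroup.normalizer (S : Set X) := fun x hx => Subgroup.mem_normalizer_fintype fun s hs => by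
        rwa [← Subgroup.mem_centralizer_iff.1 (hMS (hP hx)) s hs, mul_inv_cancel_right]
      obtain ⟨k, hk, hkle⟩ := hSs.2.2 (P ⊔ S) (sup_le (hP.trans inf_le_left) hSs.1)
        (hPp.to_sup_of_normal_right' hSs.2.1 hPN)
      have h1 := Subgroup.card_le_of_le hkle
      rw [card_conj_smul] at h1
      refine le_inf ?_ hP
      rw [Subgroup.eq_of_le_of_card_ge le_sup_right h1]
      exact le_sup_left
    obtain ⟨O, hOM, hOodd, hMO, hOH⟩ := central_sylow_core hZM (hSs.2.1.to_le inf_le_left) hidx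
      (hMS.trans (Subgroup.centralizer_le inf_le_left))
    have hR₁M : R₁ ≤ Subgroup.normalizer (M : Set X) := sup_le hRM (Subgroup.zpowers_le.2 hyM)
    have hHM : H ≤ Subgroup.normalizer (M : Set X) := le_normalizer_inf_of_le
      (le_normalizer_inf_of_le (hEN _) (hHC.trans Subgroup.le_normalizer)) (hHR.trans Subgroup.le_normalizer)
    have hcy : ∀ h ∈ H, ⁅h, y⁆ ∈ O := hOH H hHperf hHM
      (hHR.trans (Subgroup.centralizer_le (inf_le_left.trans hSR))) y fun h hh => by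
      refine Subgroup.mem_inf.2 ⟨Subgroup.mem_inf.2 ⟨?_, hC.ge ?_⟩, ?_⟩
      · rw [commutatorElement_def]
        exact mul_mem (hEn.conj_mem y hyE h) (inv_mem hyE)
      · rw [Subgroup.mem_centralizer_iff]
        intro t ht
        exact commutator_commute (hcT h (hHR hh) (hHC hh) t ht)
          (Subgroup.mem_centralizer_iff.1 (hC.le (hHC hh)) t ht).symm
      · rw [Subgroup.mem_centralizer_iff]
        intro r hr
        exact commutator_commute
          (Subgroup.mem_centralizer_iff.1 (hHR hh) _ (by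
            simpa using (Subgroup.mem_normalizer_iff.1 (inv_mem hyR) r).1 hr)).symm
          (Subgroup.mem_centralizer_iff.1 (hHR hh) r hr).symm
    have hTR₁ : T ≤ Subgroup.normalizer (R₁ : Set X) := fun t ht => by
      refine mem_normalizer_of_conj_smul_eq (Subgroup.eq_of_le_of_card_ge ?_ (by rw [card_conj_smul]))
      rw [conj_smul_eq_map, hR₁, Subgroup.map_sup, ← conj_smul_eq_map,
        conj_smul_eq_self_of_mem_normalizer (hTR ht), MonoidHom.map_zpowers]
      refine sup_le le_sup_left (Subgroup.zpowers_le.2 ?_)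
      have e : t * y * t⁻¹ = ⁅y, t⁆⁻¹ * y := by rw [commutatorElement_def]; group
      show t * y * t⁻¹ ∈ R ⊔ Subgroup.zpowers y
      rw [e]
      exact mul_mem (Subgroup.mem_sup_left (inv_mem (hyt t ht))) (Subgroup.mem_sup_right (Subgroup.mem_zpowers y))
    have hcov₁ : Kb ≤ img φ (Subgroup.centralizer (R₁ : Set X) ⊓ C) := hcover R₁ fun k hk a ha => by
      obtain ⟨h, hh, rfl⟩ := hHK hk
      refine lift_two φ hy2 hOodd (hOM.trans (inf_le_left.trans inf_le_right)) (hR₁M.trans hMO)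
        (fun o ho => hNcomm o (Subgroup.mem_inf.1 (Subgroup.mem_inf.1 (hOM ho)).1).1) hk ha
        (hMO (hHM hh)) fun r hr => ?_
      rw [hR₁, sup_comm] at hr
      obtain ⟨r', hr', w, hw, rfl⟩ := exists_mul_of_mem_sup (Subgroup.zpowers_le.2 hyR) hr
      have h1 : ⁅(h : X), r'⁆ = 1 := commutatorElement_eq_one_iff_mul_comm.2
        (Subgroup.mem_centralizer_iff.1 (hHR hh) r' hr').symm
      have hzle : Subgroup.zpowers y ≤ Subgroup.normalizer (O : Set X) :=
        Subgroup.zpowers_le.2 (hMO hyM)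
      have h2 : ⁅(h : X), w⁆ ∈ O := by
        rw [Subgroup.zpowers_eq_closure] at hw hzle
        clear hr
        induction hw using Subgroup.closure_induction with
        | mem u hu => rw [Set.mem_singleton_iff] at hu; subst hu; exact hcy _ hh
        | one => simp
        | mul u u' hu _ ih ih' =>
          rw [show ⁅(h : X), u * u'⁆ = ⁅(h : X), u⁆ * (u * ⁅(h : X), u'⁆ * u⁻¹) by
            simp only [commutatorElement_def]; group]
          exact mul_mem ih ((Subgroup.mem_normalizer_iff.1 (hzle hu) _).1 ih')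
        | inv u hu ih =>
          rw [show ⁅(h : X), u⁻¹⁆ = u⁻¹ * ⁅(h : X), u⁆⁻¹ * u⁻¹⁻¹ by
            simp only [commutatorElement_def]; group]
          exact (Subgroup.mem_normalizer_iff.1 (inv_mem (hzle hu)) _).1 (inv_mem ih)
      rw [show ⁅(h : X), r' * w⁆ = ⁅(h : X), r'⁆ * (r' * ⁅(h : X), w⁆ * r'⁻¹) by
        simp only [commutatorElement_def]; group, h1, one_mul]
      exact (Subgroup.mem_normalizer_iff.1 (hMO (hRM hr')) _).1 h2
    have hgrow : R₁ ≤ R := hRmax
      (show Cov R₁ from ⟨sup_le hRE (Subgroup.zpowers_le.2 hyE), hy2, hTR₁, hSR.trans le_sup_left, hcov₁⟩)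
      le_sup_left
    exact hynR (hgrow (Subgroup.mem_sup_right (Subgroup.mem_zpowers y)))
  refine ⟨H, hHperf, fun e => CfsgLib.Inv.component_ne_bot hKb ?_, ?_⟩
  · subst e
    rwa [img, Subgroup.bot_subgroupOf, Subgroup.map_bot, le_bot_iff] at hHK
  · rw [← hHgen, Subgroup.closure_le]
    rintro v ⟨hv, k, hk⟩
    refine Subgroup.mem_centralizer_iff.2 fun e he => ?_
    exact two_element_centralizes hO E hRs hHperf hHR hv (isPGroup_zpowers hk) e he

end Core

end CfsgLib.Solv.LBal
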