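import Cfsg.Agent.Solv.CoprimeAction
import Cfsg.Agent.Perm.MinClass
import Cfsg.Agent.Solv.PComponents

/-!
Tools for `L`-balance at the prime 2: fixed cosets, central Sylow subgroups, a small fusion lemma.
-/

set_option autoImplicit false
set_option linter.style.haveILetI false
set_option linter.unusedSectionVars false

open scoped commutatorElement Pointwise

namespace CfsgLib.Solv.LBal

open CfsgLib.Solv

variable {X : Type*} [Group X] [Finite X]

/-- Every 2-subgroup of `K` is conjugate in `K` into `Q`. -/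
def IsSyl (Q K : Subgroup X) : Prop :=
  Q ≤ K ∧ IsPGroup 2 Q ∧ ∀ P : Subgroup X, P ≤ K → IsPGroup 2 P → ∃ k ∈ K, MulAut.conj k • P ≤ Q

theorem isPGroup_subgroupOf {P K : Subgroup X} (hP : IsPGroup 2 P) : IsPGroup 2 (P.subgroupOf K) :=
  hP.comap_of_injective K.subtype K.subtype_injective

theorem isSyl_map (K : Subgroup X) (S : Sylow 2 K) : IsSyl ((S : Subgroup K).map K.subtype) K := by
  refine ⟨Subgroup.map_subtype_le _, S.isPGroup'.map _, fun P hPK hP => ?_⟩
  obtain ⟨S', hS'⟩ := (isPGroup_subgroupOf (K := K) hP).exists_le_sylow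
  obtain ⟨k, hk⟩ := MulAction.exists_smul_eq (↥K) S' S
  refine ⟨k, k.2, fun x hx => ?_⟩
  rw [mem_conj_smul_iff] at hx
  have h1 : (⟨(k : X)⁻¹ * x * k, hPK hx⟩ : K) ∈ S' := hS' hx
  refine ⟨k * ⟨(k : X)⁻¹ * x * k, hPK hx⟩ * k⁻¹, ?_, by simp [mul_assoc]⟩
  rw [← hk, Sylow.coe_subgroup_smul]
  exact ⟨_, h1, rfl⟩

theorem isSyl_of_maximal {Q K : Subgroup X} (hQK : Q ≤ K) (hQ : IsPGroup 2 Q)
    (hmax : ∀ P : Subgroup X, P ≤ K → IsPGroup 2 P → Q ≤ P → P ≤ Q) : IsSyl Q K := by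
  obtain ⟨S, hS⟩ := (isPGroup_subgroupOf (K := K) hQ).exists_le_sylow
  have h1 : Q ≤ (S : Subgroup K).map K.subtype := fun x hx => ⟨⟨x, hQK hx⟩, hS hx, rfl⟩
  have h2 := hmax _ (Subgroup.map_subtype_le _) (S.isPGroup'.map _) h1
  rw [le_antisymm h1 h2]
  exact isSyl_map K S

theorem isSyl_of_not_dvd {Q K : Subgroup X} (hQK : Q ≤ K) (hQ : IsPGroup 2 Q) (h : ¬ 2 ∣ Q.relIndex K) :
    IsSyl Q K := by
  refine isSyl_of_maximal hQK hQ fun P hPK hP hQP => ?_
  rcases IsPGroup.iff_card.1 hP with ⟨n, hn⟩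
  have h1 : Q.relIndex P ∣ 2 ^ n := hn ▸ Subgroup.relIndex_dvd_card Q P
  obtain ⟨m, -, hm⟩ := (Nat.dvd_prime_pow Nat.prime_two).1 h1
  have h2 := Subgroup.relIndex_mul_relIndex Q P K hQP hPK
  rcases Nat.eq_zero_or_pos m with rfl | hm0
  · exact Subgroup.relIndex_eq_one.1 (by rw [hm, pow_zero])
  · exact absurd ((dvd_pow_self 2 hm0.ne').trans (hm ▸ Dvd.intro _ h2)) h

theorem IsSyl.not_dvd {Q K : Subgroup X} (h : IsSyl Q K) : ¬ 2 ∣ Q.relIndex K := by
  obtain ⟨S⟩ : Nonempty (Sylow 2 K) := inferInstance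
  obtain ⟨k, hk, hle⟩ := h.2.2 ((S : Subgroup K).map K.subtype) (Subgroup.map_subtype_le _) (S.isPGroup'.map _)
  obtain ⟨S', hS'⟩ := (isPGroup_subgroupOf (K := K) h.2.1).exists_le_sylow
  have h1 : Nat.card (S' : Subgroup K) ≤ Nat.card (Q.subgroupOf K) := by
    rw [card_subgroupOf h.1]
    have := Subgroup.card_le_of_le hle
    rw [card_conj_smul, Subgroup.card_map_of_injective K.subtype_injective] at this
    exact le_of_eq_of_le (S'.card_eq_multiplicity.trans S.card_eq_multiplicity.symm) this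
  have h2 := Subgroup.eq_of_le_of_card_ge hS' h1
  rw [Subgroup.relIndex, h2]
  exact S'.not_dvd_index

theorem IsSyl.inf_normal {Q K N : Subgroup X} (h : IsSyl Q K) (hNK : N ≤ K)
    (hn : K ≤ Subgroup.normalizer (N : Set X)) : IsSyl (Q ⊓ N) N := by
  refine isSyl_of_maximal inf_le_right (h.2.1.to_le inf_le_left) fun P hPN hP hle => ?_
  obtain ⟨k, hk, hkP⟩ := h.2.2 P (hPN.trans hNK) hP
  have h1 : MulAut.conj k • P ≤ Q ⊓ N := le_inf hkP fun x hx => by
    rw [mem_conj_smul_iff] at hx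
    simpa [mul_assoc] using le_normalizer_iff_forall_conj_mem.1 hn k hk _ (hPN hx)
  have h2 : Nat.card P ≤ Nat.card (Q ⊓ N : Subgroup X) := by
    rw [← card_conj_smul k P]; exact Subgroup.card_le_of_le h1
  exact (Subgroup.eq_of_le_of_card_ge hle h2).ge

/-- A 2-subgroup that is not a Sylow subgroup of `N` can be enlarged by an element fixed modulo it. -/
theorem exists_fixed_coset {N R T : Subgroup X} (hR : IsPGroup 2 R) (hRN : R ≤ N) (hT : IsPGroup 2 T)
    (hTN : T ≤ Subgroup.normalizer (N : Set X)) (hTR : T ≤ Subgroup.normalizer (R : Set X))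
    (hdvd : 2 ∣ R.relIndex N) :
    ∃ y ∈ N, y ∈ Subgroup.normalizer (R : Set X) ∧ y ∉ R ∧ IsPGroup 2 (R ⊔ Subgroup.zpowers y : Subgroup X) ∧
      ∀ t ∈ T, ⁅y, t⁆ ∈ R := by
  obtain ⟨z, hzN, hzn, hzR, hz⟩ : ∃ z ∈ N, z ∈ Subgroup.normalizer (R : Set X) ∧ z ∉ R ∧
      IsPGroup 2 (R ⊔ Subgroup.zpowers z : Subgroup X) := by
    obtain ⟨S, hS⟩ := (isPGroup_subgroupOf (K := N) hR).exists_le_sylow
    have hne : R.subgroupOf N < S := lt_of_le_of_ne hS fun e => S.not_dvd_index (by rw [← e]; exact hdvd)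
    haveI := S.isPGroup'.isNilpotent
    have h2 := normalizerCondition_of_isNilpotent (G := S) ((R.subgroupOf N).subgroupOf S)
      (by rw [lt_top_iff_ne_top, Ne, Subgroup.subgroupOf_eq_top]; exact hne.not_ge)
    obtain ⟨z, hz, hzR⟩ := SetLike.exists_of_lt h2
    refine ⟨((z : N) : X), (z : N).2, Subgroup.mem_normalizer_fintype fun u hu => ?_, hzR, ?_⟩
    · exact (Subgroup.mem_normalizer_iff.1 hz ⟨⟨u, hRN hu⟩, hS hu⟩).1 hu
    · refine (S.isPGroup'.map N.subtype).to_le (sup_le (fun x hx => ⟨⟨x, hRN hx⟩, hS hx, rfl⟩) ?_)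
      exact Subgroup.zpowers_le.2 ⟨z, z.2, rfl⟩
  set N₁ := N ⊓ Subgroup.normalizer (R : Set X) with hN₁
  set W := N₁ ⊔ (R ⊔ T)
  have hTN₁ : R ⊔ T ≤ Subgroup.normalizer (N₁ : Set X) := sup_le
    ((le_inf hRN Subgroup.le_normalizer).trans Subgroup.le_normalizer)
    (le_normalizer_inf_of_le hTN (hTR.trans Subgroup.le_normalizer))
  have hWN : W ≤ Subgroup.normalizer (N₁ : Set X) := sup_le Subgroup.le_normalizer hTN₁
  have hWR : W ≤ Subgroup.normalizer (R : Set X) :=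
    sup_le inf_le_right (sup_le Subgroup.le_normalizer hTR)
  have hRT : IsPGroup 2 (R ⊔ T : Subgroup X) := by
    rw [sup_comm]; exact hT.to_sup_of_normal_right' hR hTR
  obtain ⟨S, hS⟩ := (isPGroup_subgroupOf (K := W) hRT).exists_le_sylow
  set Q := (S : Subgroup W).map W.subtype with hQ
  have hQW : Q ≤ W := Subgroup.map_subtype_le _
  have hQs : IsSyl Q W := isSyl_map W S
  have hRQ : R ⊔ T ≤ Q := fun x hx => ⟨⟨x, Subgroup.mem_sup_right hx⟩, hS hx, rfl⟩
  have hbig : R < Q ⊓ N₁ := by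
    refine lt_of_le_of_ne (le_inf (le_sup_left.trans hRQ) (le_inf hRN Subgroup.le_normalizer)) fun e => ?_
    have hle : R ⊔ Subgroup.zpowers z ≤ N₁ := sup_le (le_inf hRN Subgroup.le_normalizer)
      (Subgroup.zpowers_le.2 ⟨hzN, hzn⟩)
    obtain ⟨k, hk, hkP⟩ := (hQs.inf_normal le_sup_left hWN).2.2 _ hle hz
    rw [← e] at hkP
    have h1 := Subgroup.card_le_of_le hkP
    rw [card_conj_smul] at h1
    exact hzR ((Subgroup.eq_of_le_of_card_ge le_sup_left h1).ge (Subgroup.mem_sup_right (Subgroup.mem_zpowers z)))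
  haveI hRn : (R.subgroupOf Q).Normal := Subgroup.normal_subgroupOf_of_le_normalizer (hQW.trans hWR)
  haveI hN₁n : (N₁.subgroupOf Q).Normal := Subgroup.normal_subgroupOf_of_le_normalizer (hQW.trans hWN)
  set π := QuotientGroup.mk' (R.subgroupOf Q) with hπ
  haveI : ((N₁.subgroupOf Q).map π).Normal := hN₁n.map π (QuotientGroup.mk'_surjective _)
  have hne : (N₁.subgroupOf Q).map π ≠ ⊥ := by
    rw [Ne, Subgroup.map_eq_bot_iff, QuotientGroup.ker_mk']
    intro hle
    exact hbig.not_ge fun x hx => hle (show (⟨x, hx.1⟩ : Q) ∈ N₁.subgroupOf Q from hx.2)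
  have hc := CfsgLib.Perm.inf_center_ne_bot (p := 2) ((S.isPGroup'.map W.subtype).to_quotient (R.subgroupOf Q)) _ hne
  obtain ⟨w, ⟨hw, hwc⟩, hw1⟩ := (Subgroup.bot_or_exists_ne_one _).resolve_left hc
  obtain ⟨y, hy, rfl⟩ := hw
  have hyN : (y : X) ∈ N₁ := hy
  refine ⟨y, hyN.1, hyN.2, fun h => hw1 ((QuotientGroup.eq_one_iff y).2 h), ?_, fun t ht => ?_⟩
  · exact hQs.2.1.to_le (sup_le (le_sup_left.trans hRQ) (Subgroup.zpowers_le.2 y.2))
  · have h1 : π ⁅y, ⟨t, hRQ (Subgroup.mem_sup_right ht)⟩⁆ = 1 := by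
      rw [map_commutatorElement, commutatorElement_eq_one_iff_mul_comm]
      exact ((Subgroup.mem_center_iff.1 hwc) _).symm
    exact (QuotientGroup.eq_one_iff (N := R.subgroupOf Q) ⁅y, (⟨t, hRQ (Subgroup.mem_sup_right ht)⟩ : Q)⁆).1 h1

set_option maxHeartbeats 600000 in
/-- A group with a central Sylow 2-subgroup: the odd complement, and the action of perfect groups. -/
theorem central_sylow_core {M Z : Subgroup X} (hZM : Z ≤ M) (hZ : IsPGroup 2 Z)
    (hidx : ¬ 2 ∣ Z.relIndex M) (hcen : M ≤ Subgroup.centralizer (Z : Set X)) :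
    ∃ O : Subgroup X, O ≤ M ∧ Odd (Nat.card O) ∧
      Subgroup.normalizer (M : Set X) ≤ Subgroup.normalizer (O : Set X) ∧
      ∀ H : Subgroup X, ⁅H, H⁆ = H → H ≤ Subgroup.normalizer (M : Set X) →
        H ≤ Subgroup.centralizer (Z : Set X) → ∀ n : X, (∀ h ∈ H, ⁅h, n⁆ ∈ M) → ∀ h ∈ H, ⁅h, n⁆ ∈ O := by
  classical
  let P : Sylow 2 M := (isPGroup_subgroupOf hZ).toSylow hidx
  have hPc : (P : Subgroup M) = Z.subgroupOf M := IsPGroup.toSylow_coe _ _
  have hP : Subgroup.normalizer ((P : Subgroup M) : Set M) ≤ Subgroup.centralizer ((P : Subgroup M) : Set M) := by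
    intro m _
    rw [Subgroup.mem_centralizer_iff]
    intro z hz
    rw [hPc] at hz
    exact Subtype.ext (Subgroup.mem_centralizer_iff.1 (hcen m.2) z hz)
  set τ := MonoidHom.transferSylow P hP with hτ
  have hcomp : τ.ker.IsComplement' P := MonoidHom.ker_transferSylow_isComplement' P hP
  have hker : ¬ 2 ∣ Nat.card τ.ker := MonoidHom.not_dvd_card_ker_transferSylow P hP
  have hodd : ∀ x : M, x ∈ τ.ker ↔ Odd (orderOf x) := by
    refine fun x => ⟨fun hx => ?_, fun hx => ?_⟩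
    · rw [← Nat.not_even_iff_odd, even_iff_two_dvd]
      exact fun h => hker (h.trans (Subgroup.orderOf_dvd_natCard _ hx))
    · obtain ⟨k, hk⟩ := IsPGroup.iff_orderOf.1 P.isPGroup' (τ x)
      have h1 : 2 ^ k ∣ orderOf x := hk ▸ orderOf_map_dvd τ x
      rw [MonoidHom.mem_ker, ← orderOf_eq_one_iff, hk]
      rcases Nat.eq_zero_or_pos k with rfl | h0
      · rfl
      · exact absurd ((dvd_pow_self 2 h0.ne').trans h1) (fun h => Nat.not_even_iff_odd.2 hx (even_iff_two_dvd.2 h))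
  have hconj : ∀ g ∈ Subgroup.normalizer (M : Set X), ∀ x ∈ τ.ker.map M.subtype,
      g * x * g⁻¹ ∈ τ.ker.map M.subtype := by
    rintro g hg _ ⟨x, hx, rfl⟩
    refine ⟨⟨g * x * g⁻¹, (Subgroup.mem_normalizer_iff.1 hg x).1 x.2⟩, (hodd _).2 ?_, rfl⟩
    rw [← Subgroup.orderOf_coe]
    show Odd (orderOf (g * (x : X) * g⁻¹))
    rw [show g * (x : X) * g⁻¹ = MulAut.conj g (x : X) from rfl, MulEquiv.orderOf_eq, Subgroup.orderOf_coe]
    exact (hodd x).1 hx
  refine ⟨τ.ker.map M.subtype, Subgroup.map_subtype_le _, ?_, fun g hg => ?_, ?_⟩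
  · rw [Subgroup.card_map_of_injective M.subtype_injective, ← Nat.not_even_iff_odd, even_iff_two_dvd]
    exact hker
  · exact Subgroup.mem_normalizer_fintype fun x hx => hconj g hg x hx
  intro H hH hHM hHZ n hn h hh
  have hinv : ∀ g : X, g ∈ H → ∀ m m' : M, (m' : X) = g * (m : X) * g⁻¹ → τ m' = τ m := by
    intro g hg m m' hm'
    obtain ⟨o, ho, z, hz, hoz⟩ : ∃ o ∈ τ.ker, ∃ z ∈ (P : Subgroup M), o * z = m :=
      Subgroup.mem_sup_of_normal_left.1 (hcomp.sup_eq_top ▸ Subgroup.mem_top m)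
    rw [hPc] at hz
    have hzf : g * (z : X) * g⁻¹ = (z : X) := by
      rw [← Subgroup.mem_centralizer_iff.1 (hHZ hg) (z : X) hz, mul_inv_cancel_right]
    obtain ⟨o', ho', hoe⟩ := hconj g (hHM hg) (o : X) ⟨o, ho, rfl⟩
    have hoe' : (o' : X) = g * (o : X) * g⁻¹ := hoe
    have e1 : m' = o' * z := by
      apply Subtype.ext
      rw [hm', Subgroup.coe_mul, hoe', ← hoz, Subgroup.coe_mul]
      conv_rhs => rw [← hzf]
      group
    rw [e1, ← hoz, map_mul, map_mul, MonoidHom.mem_ker.1 ho', MonoidHom.mem_ker.1 ho]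
  have hPcomm : ∀ u v : (P : Subgroup M), u * v = v * u := fun u v =>
    Subtype.ext (Subgroup.mem_centralizer_iff.1 (hP (Subgroup.le_normalizer v.2)) u u.2)
  let c : H → M := fun a => ⟨⁅(a : X), n⁆, hn a a.2⟩
  let f : H →* (P : Subgroup M) := MonoidHom.mk' (fun a => τ (c a)) fun a b => by
    have hm : (a : X) * ⁅(b : X), n⁆ * (a : X)⁻¹ ∈ M :=
      (Subgroup.mem_normalizer_iff.1 (hHM a.2) _).1 (hn b b.2)
    have e : c (a * b) = ⟨_, hm⟩ * c a := by
      apply Subtype.ext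
      show ⁅((a * b : H) : X), n⁆ = (a : X) * ⁅(b : X), n⁆ * (a : X)⁻¹ * ⁅(a : X), n⁆
      rw [Subgroup.coe_mul]
      simp only [commutatorElement_def]
      group
    rw [e, map_mul, hinv a a.2 (c b) ⟨_, hm⟩ rfl]
    exact hPcomm _ _
  have hf : commutator H ≤ f.ker := Subgroup.commutator_le.2 fun a _ b _ => by
    rw [MonoidHom.mem_ker, map_commutatorElement, commutatorElement_eq_one_iff_mul_comm]
    exact hPcomm _ _
  have h1 : (⟨h, hh⟩ : H) ∈ commutator H := by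
    have h2 : h ∈ (commutator H).map H.subtype := by
      rw [map_commutator_eq, Subgroup.range_subtype, hH]; exact hh
    obtain ⟨a, ha, hae⟩ := h2
    rwa [show a = ⟨h, hh⟩ from Subtype.ext hae] at ha
  have h2 : τ (c ⟨h, hh⟩) = 1 := hf h1
  exact ⟨c ⟨h, hh⟩, h2, rfl⟩

/-- Weak closure from the behaviour at centric subgroups: a short form of the fusion theorem. -/
theorem weaklyClosed_of_centric {Γ S : Subgroup X} {v : X} (hS : IsSyl S Γ) (hv : v ∈ S)
    (hcen : ∀ s ∈ S, s * v = v * s)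
    (hyp : ∀ V : Subgroup X, V ≤ S → v ∈ V → S ⊓ Subgroup.centralizer (V : Set X) ≤ V →
      IsSyl (S ⊓ Subgroup.normalizer (V : Set X)) (Γ ⊓ Subgroup.normalizer (V : Set X)) →
      ∀ n ∈ Γ, n ∈ Subgroup.normalizer (V : Set X) → n * v * n⁻¹ = v) :
    ∀ g ∈ Γ, g * v * g⁻¹ ∈ S → g * v * g⁻¹ = v := by
  suffices key : ∀ (d : ℕ) (V : Subgroup X), Nat.card S - Nat.card V ≤ d → V ≤ S → v ∈ V →
      ∀ g ∈ Γ, MulAut.conj g • V ≤ S → g * v * g⁻¹ = v by
    intro g hg hgv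
    refine key _ (Subgroup.zpowers v) le_rfl (Subgroup.zpowers_le.2 hv) (Subgroup.mem_zpowers v) g hg ?_
    rw [conj_smul_eq_map, MonoidHom.map_zpowers, Subgroup.zpowers_le]
    exact hgv
  intro d
  induction d using Nat.strong_induction_on with
  | _ d ih => ?_
  intro V hd hVS hvV g hg hgV
  classical
  let NS := fun W : Subgroup X => S ⊓ Subgroup.normalizer (W : Set X)
  have hgrow : ∀ W : Subgroup X, W ≤ S → W ≠ S → W < NS W := by
    intro W hW hne
    have hlt : W.subgroupOf S < ⊤ := by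
      rw [lt_top_iff_ne_top, Ne, Subgroup.subgroupOf_eq_top]; exact fun h => hne (le_antisymm hW h)
    haveI := hS.2.1.isNilpotent
    refine lt_of_le_of_ne (le_inf hW Subgroup.le_normalizer) fun e =>
      (normalizerCondition_of_isNilpotent (G := S) _ hlt).not_ge fun z hz => ?_
    show (z : X) ∈ W
    rw [e]
    exact Subgroup.mem_inf.2 ⟨z.2, Subgroup.mem_normalizer_fintype fun u hu =>
      (Subgroup.mem_normalizer_iff.1 hz ⟨u, hW hu⟩).1 hu⟩
  have hbig : ∀ U : Subgroup X, U ≤ S → v ∈ U → Nat.card V < Nat.card U →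
      ∀ k ∈ Γ, MulAut.conj k • U ≤ S → k * v * k⁻¹ = v := fun U hU hvU hlt =>
    ih (Nat.card S - Nat.card U) (by have := Subgroup.card_le_of_le hU; omega) U le_rfl hU hvU
  by_cases hVeq : V = S
  · subst hVeq
    have hgn : g ∈ Subgroup.normalizer (V : Set X) :=
      mem_normalizer_of_conj_smul_eq (Subgroup.eq_of_le_of_card_ge hgV (by rw [card_conj_smul]))
    refine hyp V le_rfl hv inf_le_left ?_ g hg hgn
    rw [inf_eq_left.2 Subgroup.le_normalizer]
    exact ⟨le_inf hS.1 Subgroup.le_normalizer, hS.2.1, fun P hP hPp => by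
      obtain ⟨k, hk, hkP⟩ := hS.2.2 (P ⊔ V) (sup_le (hP.trans inf_le_left) hS.1)
        (hPp.to_sup_of_normal_right' hS.2.1 (hP.trans inf_le_right))
      have h1 : Nat.card (P ⊔ V : Subgroup X) ≤ Nat.card V := by
        rw [← card_conj_smul k (P ⊔ V)]; exact Subgroup.card_le_of_le hkP
      refine ⟨1, one_mem _, ?_⟩
      rw [map_one, one_smul, Subgroup.eq_of_le_of_card_ge le_sup_right h1]
      exact le_sup_left⟩
  obtain ⟨W, ⟨hWS, k₀, hk₀, hW⟩, hWmax⟩ := (Set.toFinite {W : Subgroup X | W ≤ S ∧ ∃ k ∈ Γ,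
    MulAut.conj k • V = W}).exists_maximalFor (fun W => Nat.card (NS W)) _
      ⟨V, hVS, 1, one_mem _, by rw [map_one, one_smul]⟩
  set NW := Γ ⊓ Subgroup.normalizer (W : Set X)
  have hWsyl : IsSyl (NS W) NW := by
    refine isSyl_of_maximal (inf_le_inf_right _ hS.1) (hS.2.1.to_le inf_le_left) fun P hP hPp hle => ?_
    obtain ⟨c, hc, hcP⟩ := hS.2.2 P (hP.trans inf_le_left) hPp
    have hcW : MulAut.conj c • W ≤ S :=
      (Subgroup.pointwise_smul_le_pointwise_smul_iff.2 ((le_inf hWS Subgroup.le_normalizer).trans hle)).trans hcP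
    have hcN : MulAut.conj c • P ≤ NS (MulAut.conj c • W) := le_inf hcP fun x hx => by
      rw [mem_conj_smul_iff] at hx
      refine Subgroup.mem_normalizer_fintype fun u hu => ?_
      rw [SetLike.mem_coe, mem_conj_smul_iff] at hu ⊢
      simpa [mul_assoc] using (Subgroup.mem_normalizer_iff.1 (hP hx).2 _).1 hu
    have h1 := hWmax ⟨hcW, c * k₀, mul_mem hc hk₀, by rw [map_mul, mul_smul, hW]⟩
      ((Subgroup.card_le_of_le hle).trans (le_of_eq_of_le (card_conj_smul c P).symm (Subgroup.card_le_of_le hcN)))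
    exact (Subgroup.eq_of_le_of_card_ge hle ((card_conj_smul c P).symm.le.trans
      ((Subgroup.card_le_of_le hcN).trans h1))).ge
  have hlift : ∀ U : Subgroup X, U ≤ S → (∃ k ∈ Γ, MulAut.conj k • U = W) → v ∈ NS U →
      Nat.card U = Nat.card V → U ≠ S → ∃ k ∈ Γ, MulAut.conj k • U = W ∧ k * v * k⁻¹ = v := by
    rintro U hU ⟨k, hk, hkU⟩ hvU hcard hne
    have h1 : MulAut.conj k • NS U ≤ NW := by
      intro x hx
      rw [mem_conj_smul_iff] at hx
      refine ⟨?_, Subgroup.mem_normalizer_fintype fun u hu => ?_⟩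
      · simpa [mul_assoc] using mul_mem (mul_mem hk (hS.1 hx.1)) (inv_mem hk)
      · rw [← hkU, SetLike.mem_coe, mem_conj_smul_iff] at hu ⊢
        simpa [mul_assoc] using (Subgroup.mem_normalizer_iff.1 hx.2 _).1 hu
    obtain ⟨a, ha, hale⟩ := hWsyl.2.2 _ h1 ((hS.2.1.to_le inf_le_left).map _)
    have hka : MulAut.conj (a * k) • U = W := by
      rw [map_mul, mul_smul, hkU, conj_smul_eq_self_of_mem_normalizer ha.2]
    refine ⟨a * k, mul_mem ha.1 hk, hka, hbig (NS U) inf_le_left hvU ?_ _ (mul_mem ha.1 hk) ?_⟩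
    · rw [← hcard]
      exact lt_of_not_ge fun h => (hgrow U hU hne).ne
        (Subgroup.eq_of_le_of_card_ge (hgrow U hU hne).le h)
    · rw [map_mul, mul_smul]; exact hale.trans inf_le_left
  have hvn : ∀ U : Subgroup X, U ≤ S → v ∈ Subgroup.normalizer (U : Set X) := fun U hU =>
    Subgroup.mem_normalizer_fintype fun u hu => by
      rwa [← hcen u (hU hu), mul_inv_cancel_right]
  obtain ⟨k₁, hk₁, hk₁W, hk₁v⟩ := hlift V hVS ⟨k₀, hk₀, hW⟩ ⟨hv, hvn V hVS⟩ rfl hVeq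
  set V' := MulAut.conj g • V with hV'
  obtain ⟨k₂, hk₂, hk₂W, hk₂v⟩ := hlift V' hgV ⟨k₀ * g⁻¹, mul_mem hk₀ (inv_mem hg), by
      rw [hV', smul_smul, ← map_mul, inv_mul_cancel_right, hW]⟩ ⟨hv, hvn V' hgV⟩
    (card_conj_smul g V) fun e => hVeq (Subgroup.eq_of_le_of_card_ge hVS (by
      rw [← e, hV', card_conj_smul]))
  have hvW : v ∈ W := by
    rw [← hk₁W, mem_conj_smul_iff]
    have : k₁⁻¹ * v * k₁ = v := by
      conv_lhs => rw [← hk₁v]
      group
    rwa [this]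
  set n := k₂ * g * k₁⁻¹ with hn
  have hnΓ : n ∈ Γ := mul_mem (mul_mem hk₂ hg) (inv_mem hk₁)
  have hnN : n ∈ Subgroup.normalizer (W : Set X) := mem_normalizer_of_conj_smul_eq (by
    have e1 : MulAut.conj k₁⁻¹ • W = V := by
      rw [← hk₁W, smul_smul, ← map_mul, inv_mul_cancel, map_one, one_smul]
    rw [hn, map_mul, map_mul, mul_smul, mul_smul, e1, ← hV', hk₂W])
  have hnv : n * v * n⁻¹ = v := by
    by_cases hc : S ⊓ Subgroup.centralizer (W : Set X) ≤ W
    · exact hyp W hWS hvW hc hWsyl n hnΓ hnN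
    set CW := Γ ⊓ Subgroup.centralizer (W : Set X)
    set T₂ := NS W ⊓ CW
    have hCn : NW ≤ Subgroup.normalizer (CW : Set X) := fun a ha => by
      refine Subgroup.mem_normalizer_fintype fun u hu => Subgroup.mem_inf.2 ⟨mul_mem (mul_mem ha.1 (Subgroup.mem_inf.1 hu).1) (inv_mem ha.1), ?_⟩
      rw [Subgroup.mem_centralizer_iff]
      intro w hw
      have h1 := Subgroup.mem_centralizer_iff.1 (Subgroup.mem_inf.1 hu).2 _ ((Subgroup.mem_normalizer_iff.1 (inv_mem ha.2) w).1 hw)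
      calc w * (a * u * a⁻¹) = a * ((a⁻¹ * w * a⁻¹⁻¹) * u) * a⁻¹ := by group
        _ = a * u * a⁻¹ * w := by rw [h1]; group
    have hT₂ : IsSyl T₂ CW := hWsyl.inf_normal (inf_le_inf_left _ fun x hx =>
      Subgroup.mem_normalizer_fintype fun u hu => by
        rwa [← Subgroup.mem_centralizer_iff.1 hx u hu, mul_inv_cancel_right]) hCn
    set W₂ := W ⊔ T₂
    have hW₂S : W₂ ≤ S := sup_le hWS (inf_le_left.trans inf_le_left)
    obtain ⟨c, hc', hcT⟩ := hT₂.2.2 (MulAut.conj n • T₂) (fun x hx => by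
      rw [mem_conj_smul_iff] at hx
      simpa [mul_assoc] using le_normalizer_iff_forall_conj_mem.1 hCn n ⟨hnΓ, hnN⟩ _ hx.2)
      ((hT₂.2.1).map _)
    have hcW : MulAut.conj (c * n) • W = W := by
      rw [map_mul, mul_smul, conj_smul_eq_self_of_mem_normalizer hnN]
      exact conj_smul_eq_self_of_mem_normalizer (Subgroup.mem_normalizer_fintype fun u hu => by
        rwa [← Subgroup.mem_centralizer_iff.1 hc'.2 u hu, mul_inv_cancel_right])
    have hlt : Nat.card V < Nat.card W₂ := by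
      rw [← card_conj_smul k₀ V, hW]
      refine lt_of_not_ge fun h => hc fun x hx => ?_
      rw [Subgroup.eq_of_le_of_card_ge (le_sup_left : W ≤ W₂) h]
      refine Subgroup.mem_sup_right ⟨⟨hx.1, Subgroup.mem_normalizer_fintype fun u hu => by
        rwa [← Subgroup.mem_centralizer_iff.1 hx.2 u hu, mul_inv_cancel_right]⟩, hS.1 hx.1, hx.2⟩
    have h1 := hbig W₂ hW₂S (Subgroup.mem_sup_left hvW) hlt (c * n) (mul_mem hc'.1 hnΓ) (by
      rw [conj_smul_eq_map, Subgroup.map_sup, ← conj_smul_eq_map, ← conj_smul_eq_map, hcW, map_mul, mul_smul]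
      exact sup_le hWS (hcT.trans (inf_le_left.trans inf_le_left)))
    have h2 : c⁻¹ * v * c = v := by
      rw [mul_assoc, Subgroup.mem_centralizer_iff.1 hc'.2 v hvW, inv_mul_cancel_left]
    calc n * v * n⁻¹ = c⁻¹ * ((c * n) * v * (c * n)⁻¹) * c := by group
      _ = v := by rw [h1, h2]
  calc g * v * g⁻¹ = k₂⁻¹ * (n * (k₁ * v * k₁⁻¹) * n⁻¹) * k₂ := by rw [hn]; group
    _ = k₂⁻¹ * v * k₂ := by rw [hk₁v, hnv]
    _ = v := by conv_lhs => rw [← hk₂v]; 
                group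

end CfsgLib.Solv.LBal
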