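import Cfsg.Agent.Solv.ThompsonSubgroup
import Mathlib.Algebra.Ring.Commute
import Mathlib.Algebra.Module.Hom
import Mathlib.Tactic.NoncommRing
import Mathlib.GroupTheory.Subgroup.Centralizer

/-!
A quadratic element commutes, modulo the kernel, with commuting `p'`-conjugates (`p` odd).
-/

set_option autoImplicit false
set_option linter.style.haveILetI false
set_option linter.deprecated false
set_option linter.unusedSectionVars false

open scoped commutatorElement Pointwise

namespace CfsgLib.Solv

theorem natCast_eq_one_of_modEq {R : Type*} [Ring R] {p k : ℕ} (hp : (p : R) = 0) (h : k % p = 1) :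
    (k : R) = 1 := by
  rw [← Nat.mod_add_div k p, h]; simp [hp]

/-- The ring form: `1 + n` quadratic, `q` of order prime to `p`. -/
theorem quadratic_commute_ring {R : Type*} [Ring R] {p : ℕ} [hp : Fact p.Prime] (hp2 : p ≠ 2)
    (hchar : (p : R) = 0) {q n : R} {m : ℕ} (hm : m.Coprime p) (hqm : q ^ m = 1) (hn : n * n = 0)
    (h1 : Commute q ((1 + n) * q * (1 - n))) (h2 : Commute q ((1 - n) * q * (1 + n))) :
    Commute q n := by
  set D := n * q - q * n with hD
  have hDD : Commute q (D + D) := by
    have : D + D = (1 + n) * q * (1 - n) - (1 - n) * q * (1 + n) := by rw [hD]; noncomm_ring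
    rw [this]; exact h1.sub_right h2
  have hodd : (2 * ((p + 1) / 2)) % p = 1 := by
    have hp' := hp.out.eq_two_or_odd.resolve_left hp2
    rw [show 2 * ((p + 1) / 2) = p + 1 by omega, Nat.add_mod_left, Nat.one_mod_eq_one]
    exact hp.out.ne_one
  have h1' : Commute q D := by
    have e : D = (((p + 1) / 2 : ℕ) : R) * (D + D) := by
      rw [← two_mul, ← mul_assoc]
      have h3 : ((((p + 1) / 2 : ℕ) : R)) * 2 = 1 := by
        rw [← natCast_eq_one_of_modEq hchar hodd, Nat.cast_mul, Nat.cast_ofNat,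
          ((Nat.cast_commute _ (2 : R))).eq]
      rw [h3, one_mul]
    rw [e]; exact (Nat.commute_cast q _).mul_right hDD
  have hk : ∀ k : ℕ, q ^ (k + 1) * n = n * q ^ (k + 1) - ((k + 1 : ℕ) : R) * (q ^ k * D) := by
    intro k
    induction k with
    | zero => simp [hD]
    | succ k ih =>
      have e : q ^ (k + 1 + 1) * n = q * (q ^ (k + 1) * n) := by rw [pow_succ' q (k + 1), mul_assoc]
      rw [e, ih, mul_sub, ← mul_assoc q, show q * n = n * q - D from (sub_sub_cancel _ _).symm,
        sub_mul, mul_assoc n q, ← pow_succ' q (k + 1), (h1'.symm.pow_right (k + 1)).eq,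
        ← mul_assoc q, (Nat.cast_commute (k + 1) q).symm.eq, mul_assoc _ q, ← mul_assoc q,
        ← pow_succ', Nat.cast_succ (k + 1), add_mul, one_mul]
      abel
  obtain ⟨j, rfl⟩ : ∃ j, m = j + 1 := ⟨m - 1, by
    rcases m with _ | m
    · exact absurd (Nat.coprime_zero_left p |>.1 hm) hp.out.ne_one
    · rfl⟩
  have h3 := hk j
  rw [hqm, one_mul, mul_one, eq_sub_iff_add_eq, add_eq_left] at h3
  have h4 : ((j + 1 : ℕ) : R) * D = 0 := by
    have := congrArg (q * ·) h3
    rwa [mul_zero, ← mul_assoc, (Nat.cast_commute (j + 1) q).symm.eq, mul_assoc, ← mul_assoc q,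
      ← pow_succ', hqm, one_mul] at this
  obtain ⟨t, ht⟩ := Nat.exists_mul_mod_eq_one_of_coprime hm hp.out.one_lt |>.imp fun _ h => h.2
  have h5 : D = 0 := by
    calc D = (((t * (j + 1) : ℕ)) : R) * D := by
          rw [natCast_eq_one_of_modEq hchar (by rwa [mul_comm] at ht), one_mul]
      _ = 0 := by rw [Nat.cast_mul, mul_assoc, h4, mul_zero]
  exact (sub_eq_zero.1 h5).symm

variable {G : Type*} [Group G] {p : ℕ}

/-- Conjugation on a normal abelian subgroup as an additive endomorphism. -/
def conjEnd (V : Subgroup G) [V.Normal] : G →* AddMonoid.End (Additive V) where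
  toFun g := MonoidHom.toAdditive (MulAut.conjNormal g).toMonoidHom
  map_one' := by ext v; simp; rfl
  map_mul' g h := by ext v; simp; rfl

theorem conjEnd_apply (V : Subgroup G) [V.Normal] (g : G) (v : V) :
    ((Additive.toMul (conjEnd V g (Additive.ofMul v)) : V) : G) = g * v * g⁻¹ := rfl

theorem conjEnd_eq_one_iff (V : Subgroup G) [V.Normal] (g : G) :
    conjEnd V g = 1 ↔ g ∈ Subgroup.centralizer (V : Set G) := by
  rw [Subgroup.mem_centralizer_iff]
  constructor
  · intro h v hv
    have e := conjEnd_apply V g ⟨v, hv⟩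
    rw [h] at e
    exact (mul_inv_eq_iff_eq_mul.1 e.symm).symm
  · intro h
    refine AddMonoidHom.ext fun v => ?_
    apply Additive.toMul.injective
    apply Subtype.ext
    show g * ((Additive.toMul v : V) : G) * g⁻¹ = _
    rw [← h _ (Additive.toMul v).2, mul_inv_cancel_right]
    rfl

/-- A quadratic `a` centralises on `V` a `p'`-element that commutes there with its `a`-conjugates. -/
theorem quadratic_centralizes [Finite G] [Fact p.Prime] (hp2 : p ≠ 2) {V : Subgroup G} [V.Normal]
    (hV : Cfsg.IsElementaryAbelian p V) {a q : G} (hquad : ∀ v ∈ V, Commute a ⁅a, v⁆)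
    (hq : (orderOf q).Coprime p)
    (h1 : ⁅q, a * q * a⁻¹⁆ ∈ Subgroup.centralizer (V : Set G))
    (h2 : ⁅q, a⁻¹ * q * a⁆ ∈ Subgroup.centralizer (V : Set G)) :
    ⁅a, q⁆ ∈ Subgroup.centralizer (V : Set G) := by
  haveI := hV.1
  letI : CommGroup V := { (inferInstance : Group V) with mul_comm := fun x y => hV.1.is_comm.comm x y }
  set ρ := conjEnd V
  have hchar : ((p : ℕ) : AddMonoid.End (Additive V)) = 0 := by
    refine AddMonoidHom.ext fun v => ?_
    show p • v = 0
    apply Additive.toMul.injective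
    exact Subtype.ext (hV.2 _ (Additive.toMul v).2)
  set n := ρ a - 1 with hn
  have hn0 : n * n = 0 := by
    refine AddMonoidHom.ext fun v => ?_
    show (ρ a - 1) ((ρ a - 1) v) = 0
    apply Additive.toMul.injective
    apply Subtype.ext
    show a * (a * ((Additive.toMul v : V) : G) * a⁻¹ / ((Additive.toMul v : V) : G)) * a⁻¹ /
      (a * ((Additive.toMul v : V) : G) * a⁻¹ / ((Additive.toMul v : V) : G)) = 1
    have h := hquad _ (Additive.toMul v).2
    rw [div_eq_one, div_eq_mul_inv, ← commutatorElement_def, h.eq, mul_inv_cancel_right]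
  have ha : ρ a = 1 + n := by rw [hn]; abel
  have ha' : ρ a⁻¹ = 1 - n := by
    have e : (1 + n) * (1 - n) = 1 := by
      calc (1 + n) * (1 - n) = 1 - n * n := by
            rw [mul_sub, mul_one, add_mul, one_mul]; abel
        _ = 1 := by rw [hn0, sub_zero]
    calc ρ a⁻¹ = ρ a⁻¹ * ((1 + n) * (1 - n)) := by rw [e, mul_one]
      _ = (ρ a⁻¹ * ρ a) * (1 - n) := by rw [ha, mul_assoc]
      _ = _ := by rw [← map_mul, inv_mul_cancel, map_one, one_mul]
  have hcomm : ∀ x y : G, ⁅x, y⁆ ∈ Subgroup.centralizer (V : Set G) → Commute (ρ x) (ρ y) := by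
    intro x y h
    show ρ x * ρ y = ρ y * ρ x
    rw [← map_mul, ← map_mul, show x * y = ⁅x, y⁆ * (y * x) by simp [commutatorElement_def, mul_assoc],
      map_mul _ ⁅x, y⁆, (conjEnd_eq_one_iff V _).2 h, one_mul]
  have hq' : Commute (ρ q) n := by
    refine quadratic_commute_ring hp2 hchar hq (by rw [← map_pow, pow_orderOf_eq_one, map_one]) hn0 ?_ ?_
    · rw [← ha, ← ha', ← map_mul, ← map_mul]; exact hcomm _ _ h1
    · rw [← ha', ← ha, ← map_mul, ← map_mul]; exact hcomm _ _ h2
  rw [← conjEnd_eq_one_iff, commutatorElement_def, map_mul, map_mul, map_mul]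
  have hc : Commute (ρ a) (ρ q) := by rw [ha]; exact (Commute.one_left _).add_left hq'.symm
  rw [hc.eq, mul_assoc (ρ q), ← map_mul, mul_inv_cancel, map_one, mul_one, ← map_mul, mul_inv_cancel,
    map_one]

end CfsgLib.Solv
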