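import Cfsg.Agent.Solv.Basic
import Cfsg.Agent.Solv.MinimalNormal
import Cfsg.Prelude.Def_SolvableStructure
import Mathlib.Algebra.Field.ZMod
import Mathlib.FieldTheory.Finite.Basic

/-!
Supersolvable groups: basic closure properties.
-/

set_option autoImplicit false
set_option linter.style.haveILetI false
set_option linter.deprecated false
set_option linter.unusedSectionVars false

open scoped Pointwise

namespace CfsgLib.Solv

universe u v

/-- Every proper normal subgroup can be extended to a normal subgroup by one element. -/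
def SSG (G : Type u) [Group G] : Prop :=
  ∀ N : Subgroup G, N.Normal → N ≠ ⊤ → ∃ g : G, g ∉ N ∧ (N ⊔ Subgroup.zpowers g).Normal

theorem ssg_iff {G : Type u} [Group G] [Finite G] : Cfsg.IsSupersolvable G ↔ SSG G := by
  constructor
  · rintro ⟨n, H, h0, hl, hn, hs⟩ N hN hNtop
    by_contra hc
    simp only [not_exists, not_and] at hc
    refine hNtop (top_unique ?_)
    rw [← hl]
    suffices ∀ i, H i ≤ N from this _
    intro i
    induction i using Fin.induction with
    | zero => rw [h0]; exact bot_le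
    | succ i ih =>
      obtain ⟨g, hg⟩ := hs i
      by_contra hle
      have hgN : g ∉ N := fun h => hle (by rw [hg]; exact sup_le ih (Subgroup.zpowers_le.2 h))
      refine hc g hgN ?_
      have e : N ⊔ Subgroup.zpowers g = N ⊔ H i.succ := by
        rw [hg, ← sup_assoc, sup_eq_left.2 ih]
      rw [e]
      haveI := hn i.succ
      exact Subgroup.sup_normal N (H i.succ)
  · intro h
    suffices key : ∀ (k : ℕ) (N : Subgroup G), N.Normal → Nat.card G - Nat.card N = k →
        ∃ (n : ℕ) (H : Fin (n + 1) → Subgroup G), H 0 = N ∧ H (Fin.last n) = ⊤ ∧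
          (∀ i, (H i).Normal) ∧
          ∀ i : Fin n, ∃ g : G, H i.succ = H i.castSucc ⊔ Subgroup.zpowers g by
      exact key _ ⊥ inferInstance rfl
    intro k
    induction k using Nat.strong_induction_on with
    | _ k IH =>
      intro N hN hk
      by_cases hNtop : N = ⊤
      · exact ⟨0, fun _ => ⊤, hNtop.symm, rfl, fun _ => inferInstance, fun i => i.elim0⟩
      obtain ⟨g, hg, hgn⟩ := h N hN hNtop
      have hlt : Nat.card N < Nat.card ↥(N ⊔ Subgroup.zpowers g) := by
        refine lt_of_le_of_ne (Subgroup.card_le_of_le le_sup_left) fun e => hg ?_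
        rw [Subgroup.eq_of_le_of_card_ge (le_sup_left : N ≤ N ⊔ Subgroup.zpowers g) e.ge]
        exact Subgroup.mem_sup_right (Subgroup.mem_zpowers g)
      have hle := Subgroup.card_le_card_group (N ⊔ Subgroup.zpowers g)
      obtain ⟨n, H, h0, hl, hn, hs⟩ := IH _ (by omega) _ hgn rfl
      refine ⟨n + 1, Fin.cons N H, rfl, ?_, ?_, ?_⟩
      · rw [← Fin.succ_last, Fin.cons_succ, hl]
      · intro i
        induction i using Fin.cases with
        | zero => exact hN
        | succ i => rw [Fin.cons_succ]; exact hn i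
      · intro i
        induction i using Fin.cases with
        | zero =>
          refine ⟨g, ?_⟩
          rw [Fin.cons_succ, Fin.castSucc_zero, Fin.cons_zero, h0]
        | succ i =>
          obtain ⟨g', hg'⟩ := hs i
          refine ⟨g', ?_⟩
          rw [Fin.cons_succ, Fin.castSucc_succ, Fin.cons_succ, hg']

theorem ssg_of_surjective {G : Type u} {G' : Type v} [Group G] [Group G'] {f : G →* G'}
    (hf : Function.Surjective f) (h : SSG G) : SSG G' := by
  intro N hN hNtop
  obtain ⟨g, hg, hgn⟩ := h (N.comap f) (hN.comap f) fun e => hNtop (by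
    rw [← Subgroup.map_comap_eq_self_of_surjective hf N, e, Subgroup.map_top_of_surjective f hf])
  refine ⟨f g, hg, ?_⟩
  have := hgn.map f hf
  rwa [Subgroup.map_sup, Subgroup.map_comap_eq_self_of_surjective hf N, MonoidHom.map_zpowers] at this

theorem ssg_quotient {G : Type u} [Group G] (N : Subgroup G) [N.Normal] (h : SSG G) :
    SSG (G ⧸ N) :=
  ssg_of_surjective (QuotientGroup.mk'_surjective N) h

theorem ssg_mulEquiv {G : Type u} {G' : Type v} [Group G] [Group G'] (e : G ≃* G') (h : SSG G) :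
    SSG G' :=
  ssg_of_surjective (f := e.toMonoidHom) e.surjective h

theorem ssg_subgroup {G : Type u} [Group G] [Finite G] (h : SSG G) (K : Subgroup G) : SSG K := by
  obtain ⟨n, H, h0, hl, hn, hs⟩ := ssg_iff.2 h
  intro N hN hNtop
  by_contra hc
  simp only [not_exists, not_and] at hc
  refine hNtop (top_unique ?_)
  have e : (H (Fin.last n)).subgroupOf K = ⊤ := by rw [hl, Subgroup.subgroupOf, Subgroup.comap_top]
  rw [← e]
  suffices ∀ i, (H i).subgroupOf K ≤ N from this _
  intro i
  induction i using Fin.induction with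
  | zero =>
    rw [h0]
    intro y hy
    rw [Subgroup.mem_subgroupOf, Subgroup.mem_bot] at hy
    rw [show y = 1 from Subtype.ext hy]
    exact one_mem N
  | succ i ih =>
    obtain ⟨g, hg⟩ := hs i
    haveI := hn i.castSucc
    haveI := hn i.succ
    by_contra hle
    set f := QuotientGroup.mk' (H i.castSucc)
    have hcyc : IsCyclic (((H i.succ).subgroupOf K).map (f.comp K.subtype)) := by
      refine Subgroup.isCyclic_of_le (H' := Subgroup.zpowers (f g)) ?_
      rintro _ ⟨x, hx, rfl⟩
      rw [SetLike.mem_coe, Subgroup.mem_subgroupOf, hg] at hx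
      obtain ⟨a, ha, b, hb, e⟩ := Subgroup.mem_sup_of_normal_left.1 hx
      obtain ⟨k, rfl⟩ := Subgroup.mem_zpowers_iff.1 hb
      refine ⟨k, ?_⟩
      show (f g) ^ k = f (x : G)
      rw [← e, map_mul, map_zpow, show f a = 1 from (QuotientGroup.eq_one_iff _).2 ha, one_mul]
    obtain ⟨⟨_, x0, hx0, rfl⟩, hgen⟩ := hcyc.exists_generator
    have hx0N : x0 ∉ N ∧ N ⊔ Subgroup.zpowers x0 = N ⊔ (H i.succ).subgroupOf K := by
      have hle' : (H i.succ).subgroupOf K ≤ N ⊔ Subgroup.zpowers x0 := by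
        intro y hy
        obtain ⟨k, hk⟩ := Subgroup.mem_zpowers_iff.1 (hgen ⟨_, Subgroup.mem_map_of_mem _ hy⟩)
        have hk' : f (x0 : G) ^ k = f (y : G) := Subtype.ext_iff.1 hk
        have h2 : y * (x0 ^ k)⁻¹ ∈ N := ih (by
          rw [Subgroup.mem_subgroupOf, ← QuotientGroup.eq_one_iff]
          show f _ = 1
          rw [Subgroup.coe_mul, InvMemClass.coe_inv, SubgroupClass.coe_zpow, map_mul, map_inv,
            map_zpow, hk', mul_inv_cancel])
        have := mul_mem (Subgroup.mem_sup_left (T := Subgroup.zpowers x0) h2)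
          (Subgroup.mem_sup_right (S := N) (Subgroup.zpow_mem_zpowers x0 k))
        simpa using this
      refine ⟨fun h0 => hle (hle'.trans (sup_le le_rfl (Subgroup.zpowers_le.2 h0))), ?_⟩
      exact le_antisymm (sup_le le_sup_left ((Subgroup.zpowers_le.2 hx0).trans le_sup_right))
        (sup_le le_sup_left hle')
    refine hc x0 hx0N.1 ?_
    rw [hx0N.2]
    haveI := hN
    exact Subgroup.sup_normal N _

theorem ssg_of_cyclic_normal {G : Type u} [Group G] (N : Subgroup G) [N.Normal] [IsCyclic N]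
    (h : SSG (G ⧸ N)) : SSG G := by
  intro M hM hMtop
  by_cases hle : N ≤ M
  · set f := QuotientGroup.mk' N
    have hfs : Function.Surjective f := QuotientGroup.mk'_surjective N
    have hcomap : (M.map f).comap f = M :=
      Subgroup.comap_map_eq_self (by rw [QuotientGroup.ker_mk']; exact hle)
    obtain ⟨g', hg', hgn⟩ := h (M.map f) (hM.map f hfs) fun e => hMtop (by
      rw [← hcomap, e, Subgroup.comap_top])
    obtain ⟨g, rfl⟩ := hfs g'
    refine ⟨g, fun hg => hg' (Subgroup.mem_map_of_mem f hg), ?_⟩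
    have e : M ⊔ Subgroup.zpowers g = (M.map f ⊔ Subgroup.zpowers (f g)).comap f := by
      rw [← MonoidHom.map_zpowers, ← Subgroup.map_sup, Subgroup.comap_map_eq_self]
      rw [QuotientGroup.ker_mk']
      exact hle.trans le_sup_left
    rw [e]
    exact hgn.comap f
  · obtain ⟨⟨g, hgN⟩, hgen⟩ := IsCyclic.exists_generator (α := N)
    have hzn : Subgroup.zpowers g = N := le_antisymm (Subgroup.zpowers_le.2 hgN) fun x hx => by
      obtain ⟨k, hk⟩ := Subgroup.mem_zpowers_iff.1 (hgen ⟨x, hx⟩)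
      exact ⟨k, congrArg Subtype.val hk⟩
    refine ⟨g, fun hg => hle (hzn.symm.le.trans (Subgroup.zpowers_le.2 hg)), ?_⟩
    rw [hzn]
    haveI := hM
    exact Subgroup.sup_normal M N

theorem ssg_of_subsingleton {G : Type u} [Group G] [Subsingleton G] : SSG G := fun _ _ hN =>
  absurd (Subsingleton.elim _ _) hN

theorem ssg_prod {G : Type u} {H : Type v} [Group G] [Group H] (hG : SSG G) (hH : SSG H) :
    SSG (G × H) := by
  intro N hN hNtop
  by_cases h1 : (MonoidHom.inl G H).range ≤ N
  · obtain ⟨h, hh, hn⟩ := hH (N.comap (MonoidHom.inr G H)) (hN.comap _) fun e => hNtop (top_unique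
      fun x _ => by
        have e2 : x = (x.1, 1) * (1, x.2) := by simp
        rw [e2]
        exact mul_mem (h1 ⟨x.1, rfl⟩) (e.ge (Subgroup.mem_top x.2) : _))
    refine ⟨(1, h), hh, ?_⟩
    have e : N ⊔ Subgroup.zpowers ((1 : G), h) =
        N ⊔ (N.comap (MonoidHom.inr G H) ⊔ Subgroup.zpowers h).map (MonoidHom.inr G H) := by
      rw [Subgroup.map_sup, MonoidHom.map_zpowers, ← sup_assoc,
        sup_eq_left.2 (Subgroup.map_comap_le _ N)]
      rfl
    haveI : ((N.comap (MonoidHom.inr G H) ⊔ Subgroup.zpowers h).map (MonoidHom.inr G H)).Normal := by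
      refine ⟨fun x hx c => ?_⟩
      obtain ⟨y, hy, rfl⟩ := hx
      exact ⟨c.2 * y * c.2⁻¹, hn.conj_mem y hy c.2, by ext <;> simp⟩
    rw [e]
    haveI := hN
    exact Subgroup.sup_normal _ _
  · obtain ⟨g, hg, hn⟩ := hG (N.comap (MonoidHom.inl G H)) (hN.comap _) fun e => h1 (by
      rintro _ ⟨x, rfl⟩
      exact e.ge (Subgroup.mem_top x))
    refine ⟨(g, 1), hg, ?_⟩
    have e : N ⊔ Subgroup.zpowers (g, (1 : H)) =
        N ⊔ (N.comap (MonoidHom.inl G H) ⊔ Subgroup.zpowers g).map (MonoidHom.inl G H) := by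
      rw [Subgroup.map_sup, MonoidHom.map_zpowers, ← sup_assoc,
        sup_eq_left.2 (Subgroup.map_comap_le _ N)]
      rfl
    haveI : ((N.comap (MonoidHom.inl G H) ⊔ Subgroup.zpowers g).map (MonoidHom.inl G H)).Normal := by
      refine ⟨fun x hx c => ?_⟩
      obtain ⟨y, hy, rfl⟩ := hx
      exact ⟨c.1 * y * c.1⁻¹, hn.conj_mem y hy c.1, by ext <;> simp⟩
    rw [e]
    haveI := hN
    exact Subgroup.sup_normal _ _

/-- A power of a generator of a normal cyclic subgroup generates a normal subgroup. -/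
theorem normal_zpowers_pow {G : Type u} [Group G] {g : G} (hn : (Subgroup.zpowers g).Normal)
    (d : ℕ) : (Subgroup.zpowers (g ^ d)).Normal := by
  refine ⟨fun x hx c => ?_⟩
  obtain ⟨i, rfl⟩ := Subgroup.mem_zpowers_iff.1 hx
  obtain ⟨k, hk⟩ := Subgroup.mem_zpowers_iff.1 (hn.conj_mem g (Subgroup.mem_zpowers g) c)
  refine ⟨k * i, ?_⟩
  show (g ^ d) ^ (k * i) = c * (g ^ d) ^ i * c⁻¹
  rw [← conj_zpow, ← conj_pow, ← hk, ← zpow_natCast, ← zpow_natCast (g ^ k), ← zpow_mul,
    ← zpow_mul, ← zpow_mul]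
  congr 1
  ring

theorem exists_normal_prime {G : Type u} [Group G] [Finite G] [Nontrivial G] (h : SSG G) :
    ∃ A : Subgroup G, A.Normal ∧ (Nat.card A).Prime := by
  obtain ⟨g, hg, hn⟩ := h ⊥ inferInstance bot_ne_top
  rw [bot_sup_eq] at hn
  have hg1 : g ≠ 1 := fun e => hg (Subgroup.mem_bot.2 e)
  obtain ⟨p, hp, hpd⟩ := Nat.exists_prime_and_dvd (orderOf_eq_one_iff.not.2 hg1)
  refine ⟨Subgroup.zpowers (g ^ (orderOf g / p)), normal_zpowers_pow hn _, ?_⟩
  rw [Nat.card_zpowers, orderOf_pow_orderOf_div (orderOf_pos g).ne' hpd]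
  exact hp

/-- The automorphisms induced on a normal cyclic subgroup commute. -/
theorem commutator_le_centralizer_cyclic {G : Type u} [Group G] (N : Subgroup G) [N.Normal]
    [IsCyclic N] : commutator G ≤ Subgroup.centralizer (N : Set G) := by
  obtain ⟨⟨c, hcN⟩, hgen⟩ := IsCyclic.exists_generator (α := N)
  have hz : ∀ x ∈ N, ∃ k : ℤ, c ^ k = x := fun x hx => by
    obtain ⟨k, hk⟩ := Subgroup.mem_zpowers_iff.1 (hgen ⟨x, hx⟩)
    exact ⟨k, congrArg Subtype.val hk⟩
  rw [commutator_def, Subgroup.commutator_le]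
  intro a _ b _
  rw [Subgroup.mem_centralizer_iff]
  intro x hx
  obtain ⟨ka, hka⟩ := hz _ ((inferInstance : N.Normal).conj_mem c hcN a)
  obtain ⟨kb, hkb⟩ := hz _ ((inferInstance : N.Normal).conj_mem c hcN b)
  have hcomm : ∀ y ∈ N, a * b * y * (a * b)⁻¹ = b * a * y * (b * a)⁻¹ := by
    intro y hy
    obtain ⟨i, rfl⟩ := hz y hy
    have e1 : a * b * c * (a * b)⁻¹ = c ^ (ka * kb) := by
      rw [show a * b * c * (a * b)⁻¹ = a * (b * c * b⁻¹) * a⁻¹ by group, ← hkb, ← conj_zpow, ← hka,
        ← zpow_mul]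
    have e2 : b * a * c * (b * a)⁻¹ = c ^ (ka * kb) := by
      rw [show b * a * c * (b * a)⁻¹ = b * (a * c * a⁻¹) * b⁻¹ by group, ← hka, ← conj_zpow, ← hkb,
        ← zpow_mul, mul_comm]
    rw [← conj_zpow, ← conj_zpow, e1, e2]
  have hy : (b * a)⁻¹ * x * (b * a) ∈ N := by
    have := (inferInstance : N.Normal).conj_mem x hx (b * a)⁻¹
    rwa [inv_inv] at this
  have h5 := hcomm _ hy
  rw [commutatorElement_def]
  calc x * (a * b * a⁻¹ * b⁻¹)
      = (b * a * ((b * a)⁻¹ * x * (b * a)) * (b * a)⁻¹) * (a * b * a⁻¹ * b⁻¹) := by group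
    _ = (a * b * ((b * a)⁻¹ * x * (b * a)) * (a * b)⁻¹) * (a * b * a⁻¹ * b⁻¹) := by rw [h5]
    _ = a * b * a⁻¹ * b⁻¹ * x := by group

/-- A `(p - 1)`-st power centralises a normal subgroup of order `p`. -/
theorem pow_sub_one_mem_centralizer {G : Type u} [Group G] {p : ℕ} [hp : Fact p.Prime]
    (N : Subgroup G) [hN : N.Normal] (hc : Nat.card N = p) (g : G) :
    g ^ (p - 1) ∈ Subgroup.centralizer (N : Set G) := by
  haveI : Finite N := Nat.finite_of_card_ne_zero (hc ▸ hp.out.ne_zero)
  rw [Subgroup.mem_centralizer_iff]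
  intro x hx
  by_cases hx1 : x = 1
  · simp [hx1]
  have hox : orderOf x = p := by
    rw [← Subgroup.orderOf_mk x hx]
    refine (hp.out.eq_one_or_self_of_dvd _ (hc ▸ orderOf_dvd_natCard _)).resolve_left fun e => hx1 ?_
    exact congrArg Subtype.val (orderOf_eq_one_iff.1 e)
  have hz : N ≤ Subgroup.zpowers x := by
    have hle : Subgroup.zpowers x ≤ N := Subgroup.zpowers_le.2 hx
    exact (Subgroup.eq_of_le_of_card_ge hle (by rw [hc, Nat.card_zpowers, hox])).ge
  obtain ⟨k, hk⟩ := Subgroup.mem_zpowers_iff.1 (hz (hN.conj_mem x hx g))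
  have hpow : ∀ n : ℕ, g ^ n * x * (g ^ n)⁻¹ = x ^ (k ^ n) := by
    intro n
    induction n with
    | zero => simp
    | succ n ih =>
      rw [pow_succ', show g * g ^ n * x * (g * g ^ n)⁻¹ = g * (g ^ n * x * (g ^ n)⁻¹) * g⁻¹ by group,
        ih, ← conj_zpow, ← hk, ← zpow_mul, pow_succ']
  have hk0 : (k : ZMod p) ≠ 0 := by
    intro e
    rw [ZMod.intCast_zmod_eq_zero_iff_dvd] at e
    obtain ⟨j, rfl⟩ := e
    rw [zpow_mul, zpow_natCast, ← hox, pow_orderOf_eq_one, one_zpow] at hk
    exact hx1 (by simpa [mul_inv_eq_one] using hk.symm)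
  have h1 : x ^ (k ^ (p - 1)) = x ^ (1 : ℤ) := by
    rw [← orderOf_dvd_sub_iff_zpow_eq_zpow, hox, ← ZMod.intCast_zmod_eq_zero_iff_dvd]
    push_cast
    rw [ZMod.pow_card_sub_one_eq_one hk0, sub_self]
  have h2 := hpow (p - 1)
  rw [h1, zpow_one, mul_inv_eq_iff_eq_mul] at h2
  exact h2.symm

theorem isSolvable_of_ssg_aux : ∀ (n : ℕ) (G : Type u) [Group G] [Finite G], Nat.card G = n →
    SSG G → Group.IsSolvable G := by
  intro n
  induction n using Nat.strong_induction_on with
  | _ n IH =>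
    intro G _ _ hn h
    rcases subsingleton_or_nontrivial G with hs | hs
    · exact inferInstance
    obtain ⟨A, hA, hAp⟩ := exists_normal_prime h
    haveI := hA
    haveI : Fact (Nat.card A).Prime := ⟨hAp⟩
    haveI : Group.IsSolvable (G ⧸ A) := IH _ (hn ▸ card_quotient_lt (by
      intro e; rw [e, Subgroup.card_bot] at hAp; exact Nat.not_prime_one hAp)) _ rfl (ssg_quotient A h)
    haveI : IsCyclic A := isCyclic_of_prime_card rfl
    haveI : Group.IsSolvable A := Group.isSolvable_of_comm fun a b =>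
      (IsCyclic.isMulCommutative (α := A)).is_comm.comm a b
    exact Group.isSolvable_of_ker_le_range A.subtype (QuotientGroup.mk' A)
      (by rw [QuotientGroup.ker_mk', Subgroup.range_subtype])

theorem isSolvable_of_ssg {G : Type u} [Group G] [Finite G] (h : SSG G) : Group.IsSolvable G :=
  isSolvable_of_ssg_aux _ G rfl h

end CfsgLib.Solv
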