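import Cfsg.Agent.Solv.TransvectionFF
import Cfsg.Agent.Fus.EssentialSquare
import Cfsg.Agent.Fus.Dickson

/-!
The `SL(2,p)` block of a transvection subgroup.
-/

set_option autoImplicit false
set_option linter.style.haveILetI false
set_option linter.deprecated false
set_option linter.unusedSectionVars false

open scoped commutatorElement Pointwise
open Matrix

namespace CfsgLib.Solv.FFP

variable {G : Type*} [Group G]

/-- The elements of `H` normalizing `W` that are trivial on `V / W`. -/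
def stab (V H W : Subgroup G) : Subgroup G where
  carrier := {g | g ∈ H ∧ g ∈ Subgroup.normalizer (W : Set G) ∧ ∀ v ∈ V, ⁅v, g⁆ ∈ W}
  one_mem' := ⟨one_mem _, one_mem _, fun v _ => by rw [commutatorElement_one_right]; exact one_mem _⟩
  mul_mem' := by
    rintro a b ⟨ha, hna, ha'⟩ ⟨hb, hnb, hb'⟩
    refine ⟨mul_mem ha hb, mul_mem hna hnb, fun v hv => ?_⟩
    rw [show ⁅v, a * b⁆ = ⁅v, a⁆ * (a * ⁅v, b⁆ * a⁻¹) by simp [commutatorElement_def, mul_assoc]]
    exact mul_mem (ha' v hv) ((Subgroup.mem_normalizer_iff.1 hna _).1 (hb' v hv))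
  inv_mem' := by
    rintro a ⟨ha, hna, ha'⟩
    refine ⟨inv_mem ha, inv_mem hna, fun v hv => ?_⟩
    rw [show ⁅v, a⁻¹⁆ = a⁻¹ * ⁅v, a⁆⁻¹ * a by simp [commutatorElement_def, mul_assoc]]
    have := (Subgroup.mem_normalizer_iff.1 (inv_mem hna) _).1 (inv_mem (ha' v hv))
    simpa using this

variable [Finite G] {p : ℕ} [hp : Fact p.Prime] {V H Q A B E W : Subgroup G}

theorem le_centralizer_of_card_prime {P N : Subgroup G} (hP : IsPGroup p P)
    (hPN : P ≤ Subgroup.normalizer (N : Set G)) (hN : Nat.card N = p) :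
    P ≤ Subgroup.centralizer (N : Set G) := by
  intro x hx
  haveI : Finite (MulAut N) := inferInstanceAs (Finite (N ≃* N))
  obtain ⟨k, hk⟩ := hP ⟨x, hx⟩
  let w : MulAut N := N.normalizerMonoidHom ⟨x, hPN hx⟩
  have hxk : x ^ p ^ k = 1 := by
    have := congrArg Subtype.val hk
    simpa using this
  have hw : w ^ p ^ k = 1 := by
    show (N.normalizerMonoidHom ⟨x, hPN hx⟩) ^ p ^ k = 1
    rw [← map_pow, show (⟨x, hPN hx⟩ : Subgroup.normalizer (N : Set G)) ^ p ^ k = 1 from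
      Subtype.ext (by simpa using hxk), map_one]
  have h1 := CfsgLib.Fus.EssSquare.fixed_factor hN w hw
  refine Subgroup.mem_centralizer_iff.2 fun n hn => ?_
  have h2 : x * n * x⁻¹ = n :=
    congrArg Subtype.val (DFunLike.congr_fun h1 ⟨n, hn⟩ : w ⟨n, hn⟩ = ⟨n, hn⟩)
  calc n * x = x * n * x⁻¹ * x := by rw [h2]
    _ = x * n := by group

theorem card_sup_in (hVab : IsMulCommutative V) {X Y : Subgroup G} (hX : X ≤ V) (hY : Y ≤ V) :
    Nat.card (X ⊔ Y : Subgroup G) * Nat.card (X ⊓ Y : Subgroup G) = Nat.card X * Nat.card Y := by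
  haveI : (Y.subgroupOf V).Normal := ⟨fun n hn g => by
    rw [show g * n = n * g from hVab.is_comm.comm g n, mul_inv_cancel_right]; exact hn⟩
  have h := card_sup_mul_card_inf (X.subgroupOf V) (Y.subgroupOf V)
  rw [← Subgroup.subgroupOf_sup hX hY,
    Nat.card_congr (Subgroup.subgroupOfEquivOfLe hX).toEquiv,
    Nat.card_congr (Subgroup.subgroupOfEquivOfLe hY).toEquiv,
    Nat.card_congr (Subgroup.subgroupOfEquivOfLe (sup_le hX hY)).toEquiv] at h
  rw [show X.subgroupOf V ⊓ Y.subgroupOf V = (X ⊓ Y).subgroupOf V from rfl,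
    Nat.card_congr (Subgroup.subgroupOfEquivOfLe (inf_le_left.trans hX)).toEquiv] at h
  exact h

theorem IsTrans.ne_bot (T : IsTrans p V H A) : A ≠ ⊥ := fun e => hp.out.ne_one (by
  rw [← T.card, e, Subgroup.card_bot])

theorem IsTrans.eq_of_le (T : IsTrans p V H A) {D : Subgroup G} (hD : D ≤ A) : D = ⊥ ∨ D = A := by
  rcases (Nat.dvd_prime hp.out).1 (T.card ▸ Subgroup.card_dvd_of_le hD) with h | h
  · exact Or.inl (Subgroup.eq_bot_of_card_eq _ h)
  · exact Or.inr (Subgroup.eq_of_le_of_card_ge hD (by rw [h, T.card]))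

theorem IsTrans.pGroup (T : IsTrans p V H A) : IsPGroup p A :=
  IsPGroup.of_card (n := 1) (by rw [pow_one, T.card])

theorem IsTrans.exists_gen (T : IsTrans p V H A) :
    ∃ a ∈ A, a ≠ 1 ∧ A = Subgroup.zpowers a ∧ a ^ p = 1 := by
  obtain ⟨a, ha, ha1⟩ := A.bot_or_exists_ne_one.resolve_left T.ne_bot
  refine ⟨a, ha, ha1, ?_, ?_⟩
  · rcases T.eq_of_le (Subgroup.zpowers_le.2 ha) with h | h
    · exact absurd (Subgroup.zpowers_eq_bot.1 h) ha1
    · exact h.symm
  · have := T.card ▸ pow_card_eq_one' (G := A) (x := ⟨a, ha⟩)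
    simpa using congrArg Subtype.val this

theorem IsTrans.offender (C : Ctx p V H Q) (T : IsTrans p V H A) :
    Cfsg.IsBestOffenderOn p V A := by
  obtain ⟨a, ha, ha1, hA, hap⟩ := T.exists_gen
  refine ⟨fun D hD => ?_, ?_, fun x hx => ?_⟩
  · rcases T.eq_of_le hD with rfl | rfl
    · rw [centralizer_bot_inf, Subgroup.card_bot, one_mul, T.card, mul_comm, T.axis]
    · exact le_rfl
  · refine Subgroup.commutator_le.2 fun x hx y hy => ?_
    rw [hA] at hx hy
    obtain ⟨i, rfl⟩ := Subgroup.mem_zpowers_iff.1 hx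
    obtain ⟨j, rfl⟩ := Subgroup.mem_zpowers_iff.1 hy
    rw [commutatorElement_eq_one_iff_mul_comm.2 ((Commute.refl a).zpow_zpow i j)]
    exact one_mem _
  · have := T.card ▸ pow_card_eq_one' (G := A) (x := ⟨x, hx⟩)
    rw [show x ^ p = 1 by simpa using congrArg Subtype.val this]
    exact one_mem _

theorem Ctx.trans_of_minimal (C : Ctx p V H Q) (hAH : A ≤ H) (hA : Cfsg.IsBestOffenderOn p V A)
    (hAV : ⁅V, A⁆ ≠ ⊥)
    (hmin : ∀ B : Subgroup G, B ≤ A → Cfsg.IsBestOffenderOn p V B → ⁅V, B⁆ ≠ ⊥ → B = A) :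
    IsTrans p V H A := by
  obtain ⟨-, A0, hle, T⟩ := C.exists_trans A hAH hA fun e => hAV (by
    rw [e, Subgroup.commutator_bot_right])
  rwa [← hmin A0 hle (T.offender C) (C.comm_ne_bot T.le T.ne_bot)]

theorem IsTrans.card_comm (C : Ctx p V H Q) (T : IsTrans p V H A) :
    Nat.card (⁅V, A⁆ : Subgroup G) = p ∧ ⁅V, A⁆ ≤ V ∧
      A ≤ Subgroup.centralizer ((⁅V, A⁆ : Subgroup G) : Set G) := by
  obtain ⟨a, ha, ha1, hA, hap⟩ := T.exists_gen
  have haV : A ≤ Subgroup.normalizer (V : Set G) := T.le.trans C.hHV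
  have hle : ⁅V, A⁆ ≤ V := commutator_le_of_le_normalizer haV
  have hconj : ∀ v ∈ V, a * v * a⁻¹ ∈ V := le_normalizer_iff_forall_conj_mem.1 haV a ha
  have hmem : ∀ v ∈ V, ⁅v, a⁆ ∈ V := fun v hv => hle (Subgroup.commutator_mem_commutator hv ha)
  let δ : V →* G := MonoidHom.mk' (fun v => ⁅(v : G), a⁆) fun u v => by
    show ⁅(u : G) * v, a⁆ = ⁅(u : G), a⁆ * ⁅(v : G), a⁆
    rw [show ⁅(u : G) * v, a⁆ = (u : G) * ⁅(v : G), a⁆ * (u : G)⁻¹ * ⁅(u : G), a⁆ by
      simp [commutatorElement_def, mul_assoc], C.comm u.2 (hmem _ v.2), mul_inv_cancel_right]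
    exact C.comm (hmem _ v.2) (hmem _ u.2)
  have hker : δ.ker = (V ⊓ Subgroup.centralizer (A : Set G)).subgroupOf V := by
    ext v
    rw [MonoidHom.mem_ker, Subgroup.mem_subgroupOf, Subgroup.mem_inf, hA, Subgroup.mem_centralizer_iff]
    refine ⟨fun h => ⟨v.2, fun x hx => ?_⟩, fun h => ?_⟩
    · obtain ⟨i, rfl⟩ := Subgroup.mem_zpowers_iff.1 hx
      exact ((show Commute (v : G) a from commutatorElement_eq_one_iff_mul_comm.1 h).zpow_right i).eq.symm
    · exact commutatorElement_eq_one_iff_mul_comm.2 (h.2 a (Subgroup.mem_zpowers a)).symm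
  have hcard : Nat.card δ.range = p := by
    rw [← Subgroup.index_ker δ, hker]
    have h1 := ((V ⊓ Subgroup.centralizer (A : Set G)).subgroupOf V).card_mul_index
    rw [Nat.card_congr (Subgroup.subgroupOfEquivOfLe inf_le_left).toEquiv] at h1
    rw [← T.axis] at h1
    exact Nat.eq_of_mul_eq_mul_left Nat.card_pos h1
  have hconjR : ∀ z ∈ δ.range, a * z * a⁻¹ ∈ δ.range := by
    rintro _ ⟨v, rfl⟩
    refine ⟨⟨a * v * a⁻¹, hconj v v.2⟩, ?_⟩
    show ⁅a * (v : G) * a⁻¹, a⁆ = a * ⁅(v : G), a⁆ * a⁻¹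
    simp [commutatorElement_def, mul_assoc]
  have hrange : δ.range = ⁅V, A⁆ := by
    refine le_antisymm ?_ (Subgroup.commutator_le.2 fun v hv x hx => ?_)
    · rintro _ ⟨v, rfl⟩; exact Subgroup.commutator_mem_commutator v.2 ha
    · obtain ⟨n, rfl⟩ : ∃ n : ℕ, a ^ n = x := by
        rw [hA, ← mem_powers_iff_mem_zpowers] at hx
        exact hx
      induction n with
      | zero => rw [pow_zero, commutatorElement_one_right]; exact one_mem _
      | succ n ih =>
        rw [pow_succ', show ⁅v, a * a ^ n⁆ = ⁅v, a⁆ * (a * ⁅v, a ^ n⁆ * a⁻¹) by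
          simp [commutatorElement_def, mul_assoc]]
        exact mul_mem ⟨⟨v, hv⟩, rfl⟩ (hconjR _ (ih (pow_mem ha n)))
  rw [hrange] at hcard
  exact ⟨hcard, hle, le_centralizer_of_card_prime T.pGroup (right_le_normalizer_commutator V A) hcard⟩

theorem pow_eq_one_of_stab (C : Ctx p V H Q) (hWV : W ≤ V) {g : G} (hg : g ∈ stab V H W)
    (hc : g ∈ Subgroup.centralizer (W : Set G)) : g ^ p = 1 := by
  obtain ⟨hgH, -, hg'⟩ := hg
  refine Subgroup.mem_bot.1 (C.hf.le (Subgroup.mem_inf.2 ⟨pow_mem hgH p, ?_⟩))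
  rw [Subgroup.mem_centralizer_iff]
  intro v hv
  have hw := hg' v hv
  set w := ⁅v, g⁆ with hwdef
  have hwd : w * g = g * w := Subgroup.mem_centralizer_iff.1 hc w hw
  have h3 : ∀ k : ℕ, v * g ^ k = w ^ k * g ^ k * v := by
    intro k
    induction k with
    | zero => simp
    | succ k ih =>
      have e : v * g = w * g * v := by rw [hwdef]; simp [commutatorElement_def, mul_assoc]
      calc v * g ^ (k + 1) = v * g ^ k * g := by rw [pow_succ]; group
        _ = w ^ k * g ^ k * (v * g) := by rw [ih]; group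
        _ = w ^ k * (g ^ k * w) * g * v := by rw [e]; group
        _ = w ^ k * (w * g ^ k) * g * v := by rw [((show Commute w g from hwd).pow_right k).eq]
        _ = w ^ (k + 1) * g ^ (k + 1) * v := by rw [pow_succ w, pow_succ g]; group
  rw [h3 p, C.hV.2 w (hWV hw), one_mul]

theorem IsTrans.le_stab (C : Ctx p V H Q) (T : IsTrans p V H A) (hWV : W ≤ V) (hZ : ⁅V, A⁆ ≤ W) :
    A ≤ stab V H W := by
  intro a ha
  refine ⟨T.le ha, le_normalizer_iff_forall_conj_mem.2 (fun x hx w hw => ?_) ha,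
    fun v hv => hZ (Subgroup.commutator_mem_commutator hv ha)⟩
  rw [show x * w * x⁻¹ = ⁅x, w⁆ * w by simp [commutatorElement_def, mul_assoc]]
  refine mul_mem ?_ hw
  rw [← commutatorElement_inv]
  exact inv_mem (hZ (Subgroup.commutator_mem_commutator (hWV hw) hx))

theorem map_conj_V (C : Ctx p V H Q) {h : G} (hh : h ∈ H) :
    V.map (MulAut.conj h).toMonoidHom = V := by
  refine le_antisymm ?_ fun v hv => ⟨h⁻¹ * v * h, ?_, by simp [mul_assoc]⟩
  · rintro _ ⟨v, hv, rfl⟩; exact le_normalizer_iff_forall_conj_mem.1 C.hHV h hh v hv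
  · simpa using le_normalizer_iff_forall_conj_mem.1 C.hHV h⁻¹ (inv_mem hh) v hv

theorem IsTrans.map_conj (C : Ctx p V H Q) (T : IsTrans p V H A) {h : G} (hh : h ∈ H) :
    IsTrans p V H (A.map (MulAut.conj h).toMonoidHom) ∧
      ⁅V, A.map (MulAut.conj h).toMonoidHom⁆ = (⁅V, A⁆).map (MulAut.conj h).toMonoidHom := by
  have hV := map_conj_V C hh
  refine ⟨⟨?_, ?_, ?_⟩, ?_⟩
  · rintro _ ⟨x, hx, rfl⟩; exact mul_mem (mul_mem hh (T.le hx)) (inv_mem hh)
  · rw [Subgroup.card_map_of_injective (MulAut.conj h).injective, T.card]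
  · have e : V ⊓ Subgroup.centralizer ((A.map (MulAut.conj h).toMonoidHom : Subgroup G) : Set G) =
        (V ⊓ Subgroup.centralizer (A : Set G)).map (MulAut.conj h).toMonoidHom := by
      refine le_antisymm (fun v hv => ?_) ?_
      · obtain ⟨v', hv', rfl⟩ := Subgroup.mem_map.1 (hV.ge hv.1)
        refine Subgroup.mem_map.2 ⟨v', ⟨hv', Subgroup.mem_centralizer_iff.2 fun a ha => ?_⟩, rfl⟩
        have := Subgroup.mem_centralizer_iff.1 hv.2 _ (Subgroup.mem_map_of_mem _ ha)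
        refine (MulAut.conj h).injective ?_
        simpa [map_mul] using this
      · rintro _ ⟨v, hv, rfl⟩
        refine ⟨hV.le (Subgroup.mem_map_of_mem _ hv.1), Subgroup.mem_centralizer_iff.2 ?_⟩
        rintro _ ⟨a, ha, rfl⟩
        rw [← map_mul, ← map_mul, Subgroup.mem_centralizer_iff.1 hv.2 a ha]
    rw [e, Subgroup.card_map_of_injective (MulAut.conj h).injective, T.axis]
  · rw [Subgroup.map_commutator, hV]

/-- Two transvection subgroups inside a group with small Sylow subgroups. -/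
theorem pair (C : Ctx p V H Q) (TA : IsTrans p V H A) (TB : IsTrans p V H B) (hne : A ≠ B)
    (hsmall : ∀ P : Subgroup G, P ≤ A ⊔ B → IsPGroup p P → Nat.card P ≤ p) :
    ¬ A ≤ Subgroup.centralizer ((⁅V, B⁆ : Subgroup G) : Set G) ∧
      ¬ B ≤ Subgroup.centralizer ((⁅V, A⁆ : Subgroup G) : Set G) ∧
      (A ⊔ B) ⊓ Subgroup.centralizer ((⁅V, A⁆ ⊔ ⁅V, B⁆ : Subgroup G) : Set G) = ⊥ := by
  obtain ⟨-, hZA, hcA⟩ := TA.card_comm C
  obtain ⟨-, hZB, hcB⟩ := TB.card_comm C
  set W' := ⁅V, A⁆ ⊔ ⁅V, B⁆ with hW'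
  have hW'V : W' ≤ V := sup_le hZA hZB
  have hKstab : A ⊔ B ≤ stab V H W' :=
    sup_le (TA.le_stab C hW'V le_sup_left) (TB.le_stab C hW'V le_sup_right)
  set N := (A ⊔ B) ⊓ Subgroup.centralizer (W' : Set G) with hN
  have hNn : A ⊔ B ≤ Subgroup.normalizer (N : Set G) :=
    le_normalizer_inf_of_le Subgroup.le_normalizer
      (le_trans (fun g hg => (hKstab hg).2.1) (normalizer_le_normalizer_cent _))
  have hNp : IsPGroup p N := fun g => ⟨1, Subtype.ext (by
    simpa using pow_eq_one_of_stab C hW'V (hKstab g.2.1) g.2.2)⟩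
  have hbot : N = ⊥ := by
    have key : ∀ D : Subgroup G, IsTrans p V H D → D ≤ A ⊔ B → N ≤ D := fun D TD hD => by
      have h1 := TD.pGroup.to_sup_of_normal_right' hNp (hD.trans hNn)
      have h2 := hsmall (D ⊔ N) (sup_le hD inf_le_left) h1
      rw [← TD.card] at h2
      exact le_sup_right.trans (Subgroup.eq_of_le_of_card_ge le_sup_left h2).ge
    have h1 : N ≤ A ⊓ B := le_inf (key A TA le_sup_left) (key B TB le_sup_right)
    rcases TA.eq_of_le (inf_le_left : A ⊓ B ≤ A) with h | h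
    · exact le_bot_iff.1 (h1.trans h.le)
    · exact absurd (Subgroup.eq_of_le_of_card_ge (h.ge.trans inf_le_right) (by rw [TA.card, TB.card])) hne
  refine ⟨fun h => TA.ne_bot ?_, fun h => TB.ne_bot ?_, hbot⟩
  · exact le_bot_iff.1 ((le_inf le_sup_left (Subgroup.le_centralizer_iff.1
      (sup_le (Subgroup.le_centralizer_iff.1 hcA) (Subgroup.le_centralizer_iff.1 h)))).trans hbot.le)
  · exact le_bot_iff.1 ((le_inf le_sup_right (Subgroup.le_centralizer_iff.1
      (sup_le (Subgroup.le_centralizer_iff.1 h) (Subgroup.le_centralizer_iff.1 hcB)))).trans hbot.le)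

theorem card_pGroup_le (C : Ctx p V H Q) (T : IsTrans p V H A) {P : Subgroup G} (hP : P ≤ Q ⊔ A)
    (hPp : IsPGroup p P) : Nat.card P ≤ p := by
  have hcop : (Nat.card A).Coprime (Nat.card Q) := by rw [T.card]; exact C.hcop.symm
  have h1 : Nat.card P ∣ Nat.card A * Nat.card Q := by
    rw [← card_sup_of_le_normalizer (T.le.trans C.hHQ) hcop]
    exact Subgroup.card_dvd_of_le (hP.trans (sup_comm _ _).le)
  obtain ⟨n, hn⟩ := hPp.exists_card_eq
  rw [hn, T.card] at h1
  rw [hn]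
  exact Nat.le_of_dvd hp.out.pos ((C.hcop.symm.pow_left n).dvd_of_dvd_mul_right h1)

theorem pair_conj (C : Ctx p V H Q) (T : IsTrans p V H A) (TA : IsTrans p V H E)
    (TB : IsTrans p V H B) (hE : E ≤ Q ⊔ A) (hB : B ≤ Q ⊔ A) (hne : E ≠ B) :
    ¬ E ≤ Subgroup.centralizer ((⁅V, B⁆ : Subgroup G) : Set G) ∧
      ¬ B ≤ Subgroup.centralizer ((⁅V, E⁆ : Subgroup G) : Set G) ∧
      (E ⊔ B) ⊓ Subgroup.centralizer ((⁅V, E⁆ ⊔ ⁅V, B⁆ : Subgroup G) : Set G) = ⊥ :=
  pair C TA TB hne fun _ hP hPp => card_pGroup_le C T (hP.trans (sup_le hE hB)) hPp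

/-- The `SL(2,p)` block of a transvection subgroup. -/
structure Block (p : ℕ) (V H Q A E W : Subgroup G) : Prop where
  eq : E = ⁅Q, A⁆ ⊔ A
  hW : W = ⁅V, E⁆
  card : Nat.card W = p ^ 2
  hWV : W ≤ V
  hEH : E ≤ H
  hp23 : p = 2 ∨ p = 3
  iso : Nonempty (E ≃* SpecialLinearGroup (Fin 2) (ZMod p))
  faith : E ⊓ Subgroup.centralizer (W : Set G) = ⊥
  stabE : E ≤ stab V H W
  trans : ∀ u ∈ W, u ≠ 1 → ∀ w ∈ W, w ≠ 1 → ∃ q ∈ Q ⊓ E, q * u * q⁻¹ = w
  fix : W ⊓ Subgroup.centralizer (E : Set G) = ⊥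
  split : W ⊔ (V ⊓ Subgroup.centralizer (E : Set G)) = V
  hQE : Q ≤ Subgroup.normalizer (E : Set G)
  hQW : Q ≤ Subgroup.normalizer (W : Set G)
  hX : ⁅Q, A⁆ = Q ⊓ E

theorem map_mem_iff {h : G} (D : Subgroup G) (d : G) :
    d ∈ D.map (MulAut.conj h).toMonoidHom ↔ h⁻¹ * d * h ∈ D := by
  rw [Subgroup.mem_map]
  refine ⟨?_, fun hd => ⟨_, hd, by simp [mul_assoc]⟩⟩
  rintro ⟨x, hx, rfl⟩
  simpa [mul_assoc] using hx

set_option maxHeartbeats 1000000 in
theorem block_of (C : Ctx p V H Q) (T : IsTrans p V H A) {x : G} (hx : x ∈ Q)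
    (hxA : x ∉ Subgroup.centralizer (A : Set G)) :
    Block p V H Q A (⁅Q, A⁆ ⊔ A) ⁅V, ⁅Q, A⁆ ⊔ A⁆ ∧
      ⁅Q, A⁆ ⊔ A = A ⊔ A.map (MulAut.conj x).toMonoidHom := by
  classical
  haveI : NeZero p := ⟨hp.out.ne_zero⟩
  have hxH := C.hQH hx
  obtain ⟨TB, hZmap⟩ := T.map_conj C hxH
  set B := A.map (MulAut.conj x).toMonoidHom with hBdef
  have hAQn : A ≤ Subgroup.normalizer (Q : Set G) := T.le.trans C.hHQ
  have hQA : A ⊓ Q = ⊥ := C.inf_Q T.pGroup
  have hne : A ≠ B := by
    intro e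
    refine hxA (mem_centralizer_of_mem_normalizer hAQn hQA hx ?_)
    rw [Subgroup.mem_normalizer_iff]
    intro n
    conv_rhs => rw [e, hBdef, map_mem_iff]
    rw [show x⁻¹ * (x * n * x⁻¹) * x = n by group]
  have hBle : B ≤ Q ⊔ A := by
    rintro _ ⟨a, ha, rfl⟩
    exact mul_mem (mul_mem (Subgroup.mem_sup_left hx) (Subgroup.mem_sup_right ha))
      (inv_mem (Subgroup.mem_sup_left hx))
  set K := A ⊔ B with hK
  have hKle : K ≤ Q ⊔ A := sup_le le_sup_right hBle
  obtain ⟨hnAB, hnBA, hKbot⟩ := pair_conj C T T TB le_sup_right hBle hne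
  obtain ⟨hcardA, hZA, hcA⟩ := T.card_comm C
  obtain ⟨hcardB, hZB, hcB⟩ := TB.card_comm C
  set W' := ⁅V, A⁆ ⊔ ⁅V, B⁆ with hW'
  have hW'V : W' ≤ V := sup_le hZA hZB
  have hKstab : K ≤ stab V H W' :=
    sup_le (T.le_stab C hW'V le_sup_left) (TB.le_stab C hW'V le_sup_right)
  have hKN : K ≤ Subgroup.normalizer (W' : Set G) := fun g hg => (hKstab hg).2.1
  have hZne : ⁅V, A⁆ ⊓ ⁅V, B⁆ = ⊥ := by
    rcases (Nat.dvd_prime hp.out).1 (hcardA ▸ Subgroup.card_dvd_of_le
      (inf_le_left : ⁅V, A⁆ ⊓ ⁅V, B⁆ ≤ ⁅V, A⁆)) with h | h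
    · exact Subgroup.eq_bot_of_card_eq _ h
    · have e1 : ⁅V, A⁆ ⊓ ⁅V, B⁆ = ⁅V, A⁆ :=
        Subgroup.eq_of_le_of_card_ge inf_le_left (by rw [h, hcardA])
      have e2 : ⁅V, A⁆ = ⁅V, B⁆ :=
        Subgroup.eq_of_le_of_card_ge (e1.ge.trans inf_le_right) (by rw [hcardA, hcardB])
      exact absurd (e2 ▸ hcA) hnAB
  have hcardW : Nat.card W' = p ^ 2 := by
    have := card_sup_in C.hV.1 hZA hZB
    rw [hZne, Subgroup.card_bot, mul_one, hcardA, hcardB] at this
    rw [pow_two]; exact this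
  -- coordinates
  letI : CommGroup W' :=
    { (inferInstance : Group W') with
      mul_comm := fun a b => Subtype.ext (C.comm (hW'V a.2) (hW'V b.2)) }
  have hexp : ∀ w : W', w ^ p = 1 := fun w => Subtype.ext (by simpa using C.hV.2 w (hW'V w.2))
  obtain ⟨e, he, he1⟩ := (⁅V, A⁆).bot_or_exists_ne_one.resolve_left (C.comm_ne_bot T.le T.ne_bot)
  obtain ⟨f, hf, hf1⟩ := (⁅V, B⁆).bot_or_exists_ne_one.resolve_left (C.comm_ne_bot TB.le TB.ne_bot)
  have hpow : ∀ (Z : Subgroup G), Nat.card Z = p → ∀ e ∈ Z, e ≠ 1 → ∀ z ∈ Z, ∃ l : ZMod p,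
      z = e ^ l.val := by
    intro Z hZ e he he1 z hz
    obtain ⟨k, hk⟩ := mem_powers_of_prime_card (G := Z) hZ (g := ⟨e, he⟩) (g' := ⟨z, hz⟩)
      (fun h => he1 (congrArg Subtype.val h))
    refine ⟨(k : ZMod p), ?_⟩
    have hk' : e ^ k = z := congrArg Subtype.val hk
    rw [ZMod.val_natCast, ← hk']
    have hep : e ^ p = 1 := by
      have := hZ ▸ pow_card_eq_one' (G := Z) (x := ⟨e, he⟩)
      simpa using congrArg Subtype.val this
    conv_lhs => rw [← Nat.mod_add_div k p, pow_add, pow_mul, hep, one_pow, mul_one]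
  set e' : W' := ⟨e, Subgroup.mem_sup_left he⟩ with he'
  set f' : W' := ⟨f, Subgroup.mem_sup_right hf⟩ with hf'
  have hfe : f' ∉ Subgroup.zpowers e' := by
    intro h
    obtain ⟨i, hi⟩ := Subgroup.mem_zpowers_iff.1 h
    have hi' : e ^ i = f := congrArg Subtype.val hi
    exact hf1 (Subgroup.mem_bot.1 (hZne.le ⟨hi' ▸ zpow_mem he i, hf⟩))
  obtain ⟨η, hη⟩ := CfsgLib.Fus.EssSquare.exists_basis (H := W') hcardW hexp
    (fun h => he1 (congrArg Subtype.val h)) hfe
  have hη10 : η (Multiplicative.ofAdd ![1, 0]) = e' := by rw [hη]; simp [ZMod.val_one]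
  have hη01 : η (Multiplicative.ofAdd ![0, 1]) = f' := by rw [hη]; simp [ZMod.val_one]
  let φ := W'.normalizerMonoidHom
  let sl := CfsgLib.Fus.EssSquare.slAct η
  have hsle : ∀ M : SpecialLinearGroup (Fin 2) (ZMod p),
      sl M e' = η (Multiplicative.ofAdd ![M.1 0 0, M.1 1 0]) := fun M => by
    rw [← hη10, CfsgLib.Fus.EssSquare.slAct_apply]
    congr 2; ext i; fin_cases i <;> simp [Matrix.mulVec, dotProduct]
  have hslf : ∀ M : SpecialLinearGroup (Fin 2) (ZMod p),
      sl M f' = η (Multiplicative.ofAdd ![M.1 0 1, M.1 1 1]) := fun M => by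
    rw [← hη01, CfsgLib.Fus.EssSquare.slAct_apply]
    congr 2; ext i; fin_cases i <;> simp [Matrix.mulVec, dotProduct]
  have act : ∀ (d : Subgroup.normalizer (W' : Set G)) (M : SpecialLinearGroup (Fin 2) (ZMod p)),
      φ d e' = e' ^ (M.1 0 0).val * f' ^ (M.1 1 0).val →
      φ d f' = e' ^ (M.1 0 1).val * f' ^ (M.1 1 1).val → φ d = sl M := by
    intro d M h1 h2
    refine MulEquiv.ext fun w => ?_
    obtain ⟨u, rfl⟩ := η.surjective w
    have hu : η u = e' ^ (u.toAdd 0).val * f' ^ (u.toAdd 1).val := by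
      rw [← hη]; congr 1
      refine Multiplicative.toAdd.injective ?_
      funext i; fin_cases i <;> rfl
    rw [hu, map_mul, map_pow, map_pow, map_mul, map_pow, map_pow, h1, h2, hsle, hslf, hη, hη]
  -- images of the two transvection groups
  have hupA : ∀ (a : G) (ha : a ∈ A), ∃ l : ZMod p,
      φ ⟨a, hKN (Subgroup.mem_sup_left ha)⟩ = sl (CfsgLib.Dickson.up l) := by
    intro a ha
    obtain ⟨l, hl⟩ := hpow _ hcardA e he he1 ⁅a, f⁆ (by
      rw [← commutatorElement_inv]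
      exact inv_mem (Subgroup.commutator_mem_commutator (hZB hf) ha))
    refine ⟨l, act _ _ (Subtype.ext ?_) (Subtype.ext ?_)⟩
    · show a * e * a⁻¹ = _
      rw [← Subgroup.mem_centralizer_iff.1 (hcA ha) e he, mul_inv_cancel_right]
      simp [CfsgLib.Dickson.up, CfsgLib.Dickson.mk, ZMod.val_one, he']
    · show a * f * a⁻¹ = _
      have : a * f * a⁻¹ = e ^ l.val * f := by
        rw [← hl]; simp [commutatorElement_def, mul_assoc]
      rw [this]
      simp [CfsgLib.Dickson.up, CfsgLib.Dickson.mk, ZMod.val_one, he', hf']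
  have hloB : ∀ (b : G) (hb : b ∈ B), ∃ l : ZMod p,
      φ ⟨b, hKN (Subgroup.mem_sup_right hb)⟩ = sl (CfsgLib.Dickson.lo l) := by
    intro b hb
    obtain ⟨l, hl⟩ := hpow _ hcardB f hf hf1 ⁅b, e⁆ (by
      rw [← commutatorElement_inv]
      exact inv_mem (Subgroup.commutator_mem_commutator (hZA he) hb))
    refine ⟨l, act _ _ (Subtype.ext ?_) (Subtype.ext ?_)⟩
    · show b * e * b⁻¹ = _
      have : b * e * b⁻¹ = e * f ^ l.val := by
        rw [C.comm (hZA he) (pow_mem (hZB hf) _), ← hl]; simp [commutatorElement_def, mul_assoc]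
      rw [this]
      simp [CfsgLib.Dickson.lo, CfsgLib.Dickson.mk, ZMod.val_one, he', hf']
    · show b * f * b⁻¹ = _
      rw [← Subgroup.mem_centralizer_iff.1 (hcB hb) f hf, mul_inv_cancel_right]
      simp [CfsgLib.Dickson.lo, CfsgLib.Dickson.mk, ZMod.val_one, hf']
  let ι : K →* MulAut W' := φ.comp (Subgroup.inclusion hKN)
  have hιinj : Function.Injective ι := by
    rw [injective_iff_map_eq_one]
    intro g hg
    refine Subtype.ext (Subgroup.mem_bot.1 (hKbot.le ⟨g.2, Subgroup.mem_centralizer_iff.2 fun w hw => ?_⟩))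
    have h2 : (g : G) * w * (g : G)⁻¹ = w :=
      congrArg Subtype.val (DFunLike.congr_fun hg ⟨w, hw⟩ : ι g ⟨w, hw⟩ = ⟨w, hw⟩)
    calc w * (g : G) = (g : G) * w * (g : G)⁻¹ * g := by rw [h2]
      _ = g * w := by group
  have hrange : ι.range = sl.range := by
    refine le_antisymm ?_ ?_
    · let S : Subgroup G := ((sl.range).comap φ).map (Subgroup.normalizer (W' : Set G)).subtype
      have hA' : A ≤ S := fun a ha => by
        obtain ⟨l, hl⟩ := hupA a ha
        exact ⟨⟨a, hKN (Subgroup.mem_sup_left ha)⟩, ⟨_, hl.symm⟩, rfl⟩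
      have hB' : B ≤ S := fun b hb => by
        obtain ⟨l, hl⟩ := hloB b hb
        exact ⟨⟨b, hKN (Subgroup.mem_sup_right hb)⟩, ⟨_, hl.symm⟩, rfl⟩
      rintro _ ⟨g, rfl⟩
      obtain ⟨d, hd, hdg⟩ := Subgroup.mem_map.1 (sup_le hA' hB' g.2)
      have : Subgroup.inclusion hKN g = d := Subtype.ext hdg.symm
      show φ (Subgroup.inclusion hKN g) ∈ sl.range
      rw [this]; exact hd
    · obtain ⟨a, ha, ha1, -, -⟩ := T.exists_gen
      obtain ⟨b, hb, hb1, -, -⟩ := TB.exists_gen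
      obtain ⟨l, hl⟩ := hupA a ha
      obtain ⟨m, hm⟩ := hloB b hb
      set R := ι.range.comap sl with hR
      have hl0 : l ≠ 0 := by
        rintro rfl
        refine ha1 (congrArg Subtype.val (hιinj (a₁ := ⟨a, Subgroup.mem_sup_left ha⟩) (a₂ := 1) ?_))
        rw [map_one, show ι ⟨a, Subgroup.mem_sup_left ha⟩ = sl (CfsgLib.Dickson.up 0) from hl]
        convert map_one sl
        apply CfsgLib.Dickson.ext4 <;> simp [CfsgLib.Dickson.up, CfsgLib.Dickson.mk]
      have hm0 : m ≠ 0 := by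
        rintro rfl
        refine hb1 (congrArg Subtype.val (hιinj (a₁ := ⟨b, Subgroup.mem_sup_right hb⟩) (a₂ := 1) ?_))
        rw [map_one, show ι ⟨b, Subgroup.mem_sup_right hb⟩ = sl (CfsgLib.Dickson.lo 0) from hm]
        convert map_one sl
        apply CfsgLib.Dickson.ext4 <;> simp [CfsgLib.Dickson.lo, CfsgLib.Dickson.mk]
      have h1 : CfsgLib.Dickson.up (1 : ZMod p) ∈ R := by
        have : CfsgLib.Dickson.up l ∈ R := ⟨⟨a, Subgroup.mem_sup_left ha⟩, hl⟩
        have h2 := pow_mem this (l⁻¹).val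
        rwa [CfsgLib.Dickson.up_pow, ZMod.natCast_zmod_val, inv_mul_cancel₀ hl0] at h2
      have h2 : CfsgLib.Dickson.lo (1 : ZMod p) ∈ R := by
        have : CfsgLib.Dickson.lo m ∈ R := ⟨⟨b, Subgroup.mem_sup_right hb⟩, hm⟩
        have h2 := pow_mem this (m⁻¹).val
        rwa [CfsgLib.Dickson.lo_pow, ZMod.natCast_zmod_val, inv_mul_cancel₀ hm0] at h2
      rintro _ ⟨M, rfl⟩
      have h3 := CfsgLib.Dickson.embed_mem p (F := ZMod p) (H := R) (k := 1) one_ne_zero
        (by simpa using h1) (by simpa using h2) M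
      have h4 : CfsgLib.Dickson.embed p (1 : ZMod p) one_ne_zero M = M := by
        apply CfsgLib.Dickson.ext4 <;> simp [CfsgLib.Dickson.embed, ZMod.castHom_apply, ZMod.cast_id]
      rw [one_mul, inv_one, mul_one, h4] at h3
      exact h3
  let iso : K ≃* SpecialLinearGroup (Fin 2) (ZMod p) :=
    (MonoidHom.ofInjective hιinj).trans ((MulEquiv.subgroupCongr hrange).trans
      (MonoidHom.ofInjective (CfsgLib.Fus.EssSquare.slAct_injective η)).symm)
  have hlift : ∀ M, ∃ k : K, ι k = sl M := fun M => hrange.ge ⟨M, rfl⟩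
  have hmove : ∀ w ∈ W', w ≠ 1 → ∃ k ∈ K, k * e * k⁻¹ = w := by
    intro w hw hw1
    obtain ⟨u, hu⟩ := η.surjective ⟨w, hw⟩
    set s := u.toAdd 0 with hs
    set t := u.toAdd 1 with ht
    have hu' : u = Multiplicative.ofAdd ![s, t] := by
      refine Multiplicative.toAdd.injective ?_
      funext i; fin_cases i <;> rfl
    have hcol : ∃ M : SpecialLinearGroup (Fin 2) (ZMod p), M.1 0 0 = s ∧ M.1 1 0 = t := by
      by_cases h : s = 0
      · have ht0 : t ≠ 0 := by
          intro h'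
          have h0 : (⟨w, hw⟩ : W') = 1 := by
            rw [← hu, hu', h, h', show (![0, 0] : Fin 2 → ZMod p) = 0 by ext i; fin_cases i <;> rfl,
              ofAdd_zero, map_one]
          exact hw1 (congrArg Subtype.val h0)
        exact ⟨CfsgLib.Dickson.mk 0 (-t⁻¹) t 0 (by field_simp; ring), by
          simp [CfsgLib.Dickson.mk, h], by simp [CfsgLib.Dickson.mk]⟩
      · exact ⟨CfsgLib.Dickson.mk s 0 t s⁻¹ (by field_simp; ring), by
          simp [CfsgLib.Dickson.mk], by simp [CfsgLib.Dickson.mk]⟩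
    obtain ⟨M, hM0, hM1⟩ := hcol
    obtain ⟨k, hk⟩ := hlift M
    refine ⟨k, k.2, ?_⟩
    have h5 : ι k e' = ⟨w, hw⟩ := by rw [hk, hsle, hM0, hM1, ← hu', hu]
    exact congrArg Subtype.val h5
  -- all conjugates of `A` under `Q` lie in `K`
  have hconj : ∀ q ∈ Q, A.map (MulAut.conj q).toMonoidHom ≤ K := by
    intro q hq
    obtain ⟨TC, -⟩ := T.map_conj C (C.hQH hq)
    set D' := A.map (MulAut.conj q).toMonoidHom with hD'
    have hD'le : D' ≤ Q ⊔ A := by
      rintro _ ⟨a, ha, rfl⟩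
      exact mul_mem (mul_mem (Subgroup.mem_sup_left hq) (Subgroup.mem_sup_right ha))
        (inv_mem (Subgroup.mem_sup_left hq))
    obtain ⟨z, hz, hz1⟩ : ∃ z ∈ (V ⊓ Subgroup.centralizer (D' : Set G)) ⊓ W', z ≠ 1 := by
      refine (Subgroup.bot_or_exists_ne_one _).resolve_left fun h => ?_
      have h1 := card_mul_inf_le (X := V ⊓ Subgroup.centralizer (D' : Set G)) (Y := W') (Z := V)
        inf_le_left hW'V
      rw [h, Subgroup.card_bot, mul_one, hcardW] at h1
      have h2 := TC.axis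
      have h3 : 0 < Nat.card (V ⊓ Subgroup.centralizer (D' : Set G) : Subgroup G) := Nat.card_pos
      have := hp.out.two_le
      nlinarith
    obtain ⟨k, hk, hke⟩ := hmove z hz.2 hz1
    obtain ⟨m, hm, a, ha, hka⟩ := exists_mul_of_mem_sup hAQn
      (show k ∈ A ⊔ Q by rw [sup_comm]; exact hKle hk)
    obtain ⟨TD, hZD⟩ := T.map_conj C (C.hQH hm)
    set D := A.map (MulAut.conj m).toMonoidHom with hD
    have hmk : m = k * a⁻¹ := by rw [hka]; group
    have hmK : m ∈ K := by rw [hmk]; exact mul_mem hk (inv_mem (Subgroup.mem_sup_left ha))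
    have hDK : D ≤ K := by
      rintro _ ⟨c, hc, rfl⟩
      exact mul_mem (mul_mem hmK (Subgroup.mem_sup_left hc)) (inv_mem hmK)
    have hzD : z ∈ ⁅V, D⁆ := by
      rw [hZD]
      refine ⟨e, he, ?_⟩
      show m * e * m⁻¹ = z
      rw [← hke, hmk]
      have h6 : a⁻¹ * e * a = e := by
        have := Subgroup.mem_centralizer_iff.1 (hcA ha) e he
        rw [mul_assoc, this, ← mul_assoc, inv_mul_cancel, one_mul]
      calc k * a⁻¹ * e * (k * a⁻¹)⁻¹ = k * (a⁻¹ * e * a) * k⁻¹ := by group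
        _ = k * e * k⁻¹ := by rw [h6]
    by_cases hDD : D' = D
    · exact hDD.le.trans hDK
    · refine absurd ?_ (pair_conj C T TC TD hD'le (hDK.trans hKle) hDD).1
      intro d hd
      refine Subgroup.mem_centralizer_iff.2 fun y hy => ?_
      obtain ⟨l, rfl⟩ := hpow _ (TD.card_comm C).1 z hzD hz1 y hy
      exact ((show Commute d z from Subgroup.mem_centralizer_iff.1 hz.1.2 d hd).pow_right _).eq.symm
  have hEK : ⁅Q, A⁆ ⊔ A = K := by
    refine le_antisymm (sup_le (Subgroup.commutator_le.2 fun q hq a ha => ?_) le_sup_left)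
      (sup_le le_sup_right ?_)
    · rw [commutatorElement_def]
      exact mul_mem (hconj q hq (Subgroup.mem_map_of_mem _ ha)) (inv_mem (Subgroup.mem_sup_left ha))
    · rintro _ ⟨a, ha, rfl⟩
      show x * a * x⁻¹ ∈ _
      rw [show x * a * x⁻¹ = ⁅x, a⁆ * a by simp [commutatorElement_def, mul_assoc]]
      exact mul_mem (Subgroup.mem_sup_left (Subgroup.commutator_mem_commutator hx ha))
        (Subgroup.mem_sup_right ha)
  have hVK : ⁅V, K⁆ = W' :=
    le_antisymm (Subgroup.commutator_le.2 fun v hv g hg => (hKstab hg).2.2 v hv)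
      (sup_le (Subgroup.commutator_mono le_rfl le_sup_left)
        (Subgroup.commutator_mono le_rfl le_sup_right))
  rw [hEK]
  refine ⟨?_, rfl⟩
  rw [hVK]
  have htr : ∀ w ∈ W', w ≠ 1 → ∃ q ∈ Q ⊓ K, q * e * q⁻¹ = w := by
    intro w hw hw1
    obtain ⟨k, hk, hke⟩ := hmove w hw hw1
    obtain ⟨m, hm, a, ha, hka⟩ := exists_mul_of_mem_sup hAQn
      (show k ∈ A ⊔ Q by rw [sup_comm]; exact hKle hk)
    refine ⟨m, Subgroup.mem_inf.2 ⟨hm, ?_⟩, ?_⟩
    · rw [show m = k * a⁻¹ by rw [hka]; group]; exact mul_mem hk (inv_mem (Subgroup.mem_sup_left ha))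
    · rw [← hke, hka]
      calc m * e * m⁻¹ = m * (e * a) * a⁻¹ * m⁻¹ := by group
        _ = m * (a * e) * a⁻¹ * m⁻¹ := by rw [Subgroup.mem_centralizer_iff.1 (hcA ha) e he]
        _ = m * a * e * (m * a)⁻¹ := by group
  have hfix : W' ⊓ Subgroup.centralizer (K : Set G) = ⊥ := by
    refine le_bot_iff.1 fun w hw => Subgroup.mem_bot.2 ?_
    by_contra hw1
    obtain ⟨k, hk, hke⟩ := htr w hw.1 hw1
    obtain ⟨k', hk', hke'⟩ := htr f (Subgroup.mem_sup_right hf) hf1
    have h7 : k⁻¹ * w * k = w := by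
      rw [mul_assoc, ← Subgroup.mem_centralizer_iff.1 hw.2 k hk.2, ← mul_assoc, inv_mul_cancel, one_mul]
    have h8 : w = e := by rw [← h7, ← hke]; group
    subst h8
    have h9 : k' * w * k'⁻¹ = w := by
      rw [Subgroup.mem_centralizer_iff.1 hw.2 k' hk'.2, mul_inv_cancel_right]
    exact hf1 (Subgroup.mem_bot.1 (hZne.le ⟨by rw [← hke', h9]; exact he, hf⟩))
  refine ⟨hEK.symm, hVK.symm, hcardW, hW'V, sup_le T.le TB.le, ?_, ⟨iso⟩, hKbot, hKstab, ?_, hfix,
    ?_, ?_, ?_, ?_⟩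
  · -- `p ≤ 3`
    by_contra hp23
    push Not at hp23
    have h5 : 5 ≤ p := by
      have := hp.out.two_le
      rcases Nat.lt_or_ge p 5 with h | h
      · rcases (by omega : p = 2 ∨ p = 3 ∨ p = 4) with h' | h' | h'
        · exact absurd h' hp23.1
        · exact absurd h' hp23.2
        · exact absurd (h' ▸ hp.out) (by norm_num)
      · exact h
    obtain ⟨a, ha, ha1, -, hap⟩ := T.exists_gen
    obtain ⟨l, hl⟩ := hupA a ha
    have h20 : (2 : ZMod p) ≠ 0 := by
      intro h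
      have : p ∣ 2 := (ZMod.natCast_eq_zero_iff 2 p).1 (by exact_mod_cast h)
      have := Nat.le_of_dvd two_pos this
      omega
    obtain ⟨d, hd⟩ := hlift (CfsgLib.Dickson.mk 2 0 0 2⁻¹ (by field_simp; ring))
    have hcomm : ⁅(d : G), a⁆ ∈ Q := by
      obtain ⟨m, hm, c, hc, hdc⟩ := exists_mul_of_mem_sup hAQn
        (show (d : G) ∈ A ⊔ Q by rw [sup_comm]; exact hKle d.2)
      have hca : c * a = a * c := C.offender_comm T.le (T.offender C) hc ha
      have : ⁅(d : G), a⁆ = m * (a * m⁻¹ * a⁻¹) := by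
        rw [commutatorElement_def, hdc]
        calc m * c * a * (m * c)⁻¹ * a⁻¹ = m * (c * a) * c⁻¹ * m⁻¹ * a⁻¹ := by group
          _ = m * (a * m⁻¹ * a⁻¹) := by rw [hca]; group
      rw [this]
      exact mul_mem hm (le_normalizer_iff_forall_conj_mem.1 hAQn a ha _ (inv_mem hm))
    let g : K := ⁅d, (⟨a, Subgroup.mem_sup_left ha⟩ : K)⁆
    set dd := CfsgLib.Dickson.mk (2 : ZMod p) 0 0 2⁻¹ (by field_simp; ring) with hdd
    have hg : ι g = sl (CfsgLib.Dickson.up (3 * l)) := by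
      show ι ⁅d, _⁆ = _
      rw [map_commutatorElement, hd, show ι ⟨a, Subgroup.mem_sup_left ha⟩ = _ from hl,
        ← map_commutatorElement]
      congr 1
      rw [commutatorElement_def, mul_inv_eq_iff_eq_mul, mul_inv_eq_iff_eq_mul]
      apply CfsgLib.Dickson.ext4 <;>
        simp only [CfsgLib.Dickson.mul00, CfsgLib.Dickson.mul01, CfsgLib.Dickson.mul10,
          CfsgLib.Dickson.mul11] <;>
        simp [hdd, CfsgLib.Dickson.up, CfsgLib.Dickson.mk]
      field_simp
      ring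
    have hg1 : g = 1 := by
      have hgp : g ^ p = 1 := hιinj (by
        rw [map_pow, map_one, hg, ← map_pow, CfsgLib.Dickson.up_pow, ZMod.natCast_self, zero_mul]
        convert map_one sl
        apply CfsgLib.Dickson.ext4 <;> simp [CfsgLib.Dickson.up, CfsgLib.Dickson.mk])
      refine Subtype.ext ?_
      have h1 : orderOf ((g : K) : G) ∣ p := orderOf_dvd_of_pow_eq_one (by
        simpa using congrArg Subtype.val hgp)
      have h2 : orderOf ((g : K) : G) ∣ Nat.card Q := by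
        rw [show ((g : K) : G) = ((⟨⁅(d : G), a⁆, hcomm⟩ : Q) : G) from rfl, Subgroup.orderOf_coe]
        exact orderOf_dvd_natCard _
      exact orderOf_eq_one_iff.1 (Nat.eq_one_of_dvd_coprimes C.hcop.symm h1 h2)
    rw [hg1, map_one] at hg
    have h31 := congrArg (fun M : SpecialLinearGroup (Fin 2) (ZMod p) => M.1 0 1)
      (CfsgLib.Fus.EssSquare.slAct_injective η ((map_one sl).trans hg))
    simp [CfsgLib.Dickson.up, CfsgLib.Dickson.mk] at h31
    rcases h31 with h3 | hl0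
    · have : p ∣ 3 := (ZMod.natCast_eq_zero_iff 3 p).1 (by exact_mod_cast h3)
      have := Nat.le_of_dvd (by norm_num) this
      omega
    · subst hl0
      refine ha1 (congrArg Subtype.val (hιinj (a₁ := ⟨a, Subgroup.mem_sup_left ha⟩) (a₂ := 1) ?_))
      rw [map_one, show ι ⟨a, Subgroup.mem_sup_left ha⟩ = sl (CfsgLib.Dickson.up 0) from hl]
      convert map_one sl
      apply CfsgLib.Dickson.ext4 <;> simp [CfsgLib.Dickson.up, CfsgLib.Dickson.mk]
  · intro u hu hu1 w hw hw1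
    obtain ⟨q, hq, hqe⟩ := htr u hu hu1
    obtain ⟨r, hr, hre⟩ := htr w hw hw1
    refine ⟨r * q⁻¹, mul_mem hr (inv_mem hq), ?_⟩
    rw [← hre, ← hqe]; group
  · refine Subgroup.eq_of_le_of_card_ge (sup_le hW'V inf_le_left) ?_
    have h1 := card_mul_inf_le (X := V ⊓ Subgroup.centralizer (A : Set G))
      (Y := V ⊓ Subgroup.centralizer (B : Set G)) (Z := V) inf_le_left inf_le_left
    have h2 : (V ⊓ Subgroup.centralizer (A : Set G)) ⊓ (V ⊓ Subgroup.centralizer (B : Set G)) ≤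
        V ⊓ Subgroup.centralizer (K : Set G) := le_inf (inf_le_left.trans inf_le_left)
      (Subgroup.le_centralizer_iff.1 (sup_le
        (Subgroup.le_centralizer_iff.1 (inf_le_left.trans inf_le_right))
        (Subgroup.le_centralizer_iff.1 (inf_le_right.trans inf_le_right))))
    have h3 := card_sup_in C.hV.1 hW'V (inf_le_left : V ⊓ Subgroup.centralizer (K : Set G) ≤ V)
    have h4 : W' ⊓ (V ⊓ Subgroup.centralizer (K : Set G)) = ⊥ :=
      le_bot_iff.1 ((inf_le_inf_left W' inf_le_right).trans hfix.le)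
    rw [h4, Subgroup.card_bot, mul_one, hcardW] at h3
    rw [h3]
    have h5 := Subgroup.card_le_of_le h2
    have h6 := T.axis
    have h7 := TB.axis
    have h8 : Nat.card V * Nat.card V ≤
        Nat.card V * (p ^ 2 * Nat.card (V ⊓ Subgroup.centralizer (K : Set G) : Subgroup G)) := by
      calc Nat.card V * Nat.card V
          = (Nat.card (V ⊓ Subgroup.centralizer (A : Set G) : Subgroup G) *
              Nat.card (V ⊓ Subgroup.centralizer (B : Set G) : Subgroup G)) * p ^ 2 := by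
            rw [← h6]; conv_lhs => arg 2; rw [h6, ← h7]
            ring
        _ ≤ (Nat.card V * Nat.card (V ⊓ Subgroup.centralizer (K : Set G) : Subgroup G)) * p ^ 2 :=
            Nat.mul_le_mul_right _ (h1.trans (Nat.mul_le_mul_left _ h5))
        _ = _ := by ring
    exact Nat.le_of_mul_le_mul_left h8 Nat.card_pos
  · refine le_normalizer_iff_forall_conj_mem.2 fun q hq g hg => ?_
    rw [← hEK] at hg ⊢
    have h : ⁅Q, A⁆ ⊔ A ≤ (⁅Q, A⁆ ⊔ A).comap (MulAut.conj q).toMonoidHom := by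
      refine sup_le (fun y hy => ?_) (fun a ha => ?_)
      · exact Subgroup.mem_sup_left
          (le_normalizer_iff_forall_conj_mem.1 (left_le_normalizer_commutator Q A) q hq y hy)
      · show q * a * q⁻¹ ∈ ⁅Q, A⁆ ⊔ A
        rw [show q * a * q⁻¹ = ⁅q, a⁆ * a by simp [commutatorElement_def, mul_assoc]]
        exact mul_mem (Subgroup.mem_sup_left (Subgroup.commutator_mem_commutator hq ha))
          (Subgroup.mem_sup_right ha)
    exact h hg
  · rw [← hVK]
    refine le_normalizer_commutator' (C.hQH.trans C.hHV) ?_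
    refine le_normalizer_iff_forall_conj_mem.2 fun q hq g hg => ?_
    have h : K ≤ K.comap (MulAut.conj q).toMonoidHom := by
      conv_lhs => rw [← hEK]
      refine sup_le (fun y hy => ?_) (fun a ha => hconj q hq (Subgroup.mem_map_of_mem _ ha))
      exact hEK.le (Subgroup.mem_sup_left
          (le_normalizer_iff_forall_conj_mem.1 (left_le_normalizer_commutator Q A) q hq y hy))
    exact h hg
  · refine le_antisymm (le_inf (commutator_le_of_le_normalizer hAQn) (le_sup_left.trans hEK.le)) ?_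
    rintro g ⟨hgQ, hgK⟩
    rw [SetLike.mem_coe, ← hEK] at hgK
    obtain ⟨m, hm, a, ha, hga⟩ := exists_mul_of_mem_sup (right_le_normalizer_commutator Q A)
      (show g ∈ A ⊔ ⁅Q, A⁆ by rw [sup_comm]; exact hgK)
    have : a ∈ A ⊓ Q := Subgroup.mem_inf.2 ⟨ha, by
      rw [show a = m⁻¹ * g by rw [hga]; group]
      exact mul_mem (inv_mem (commutator_le_of_le_normalizer hAQn hm)) hgQ⟩
    rw [hQA, Subgroup.mem_bot] at this
    rw [this, mul_one] at hga
    exact hga ▸ hm

end CfsgLib.Solv.FFP
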