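import Cfsg.Agent.Solv.TransvectionDecomp
import Mathlib.GroupTheory.NoncommPiCoprod

/-!
Coprime operators on the `SL(2,p)` blocks: each orbit has a diagonal block among the fixed points.
-/

set_option autoImplicit false
set_option linter.style.haveILetI false
set_option linter.deprecated false
set_option linter.unusedSectionVars false

open scoped commutatorElement Pointwise

namespace CfsgLib.Solv.FFP

variable {G : Type*} [Group G] [Finite G] {p : ℕ} [hp : Fact p.Prime] {V H Q A E W : Subgroup G}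

theorem map_conj_eq {D : Subgroup G} {h : G} (hh : h ∈ Subgroup.normalizer (D : Set G)) :
    D.map (MulAut.conj h).toMonoidHom = D := by
  refine le_antisymm ?_ fun v hv => ⟨h⁻¹ * v * h, ?_, by simp [mul_assoc]⟩
  · rintro _ ⟨v, hv, rfl⟩; exact (Subgroup.mem_normalizer_iff.1 hh v).1 hv
  · simpa using (Subgroup.mem_normalizer_iff.1 (inv_mem hh) v).1 hv

theorem IsTrans.map_conj' (T : IsTrans p V H A) {h : G}
    (hH : h ∈ Subgroup.normalizer (H : Set G)) (hV : h ∈ Subgroup.normalizer (V : Set G)) :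
    IsTrans p V H (A.map (MulAut.conj h).toMonoidHom) := by
  refine ⟨(Subgroup.map_mono T.le).trans (map_conj_eq hH).le, ?_, ?_⟩
  · rw [Subgroup.card_map_of_injective (MulAut.conj h).injective, T.card]
  · have e : V ⊓ Subgroup.centralizer ((A.map (MulAut.conj h).toMonoidHom : Subgroup G) : Set G) =
        (V ⊓ Subgroup.centralizer (A : Set G)).map (MulAut.conj h).toMonoidHom := by
      refine le_antisymm (fun v hv => ?_) ?_
      · obtain ⟨v', hv', rfl⟩ := Subgroup.mem_map.1 ((map_conj_eq hV).ge hv.1)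
        refine Subgroup.mem_map.2 ⟨v', ⟨hv', Subgroup.mem_centralizer_iff.2 fun a ha => ?_⟩, rfl⟩
        have := Subgroup.mem_centralizer_iff.1 hv.2 _ (Subgroup.mem_map_of_mem _ ha)
        refine (MulAut.conj h).injective ?_
        simpa [map_mul] using this
      · rintro _ ⟨v, hv, rfl⟩
        refine ⟨(map_conj_eq hV).le (Subgroup.mem_map_of_mem _ hv.1), Subgroup.mem_centralizer_iff.2 ?_⟩
        rintro _ ⟨a, ha, rfl⟩
        rw [← map_mul, ← map_mul, Subgroup.mem_centralizer_iff.1 hv.2 a ha]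
    rw [e, Subgroup.card_map_of_injective (MulAut.conj h).injective, T.axis]

theorem Block.dichotomy (C : Ctx p V H Q) (T : IsTrans p V H A) (B : Block p V H Q A E W)
    (hgen : ∀ K : Subgroup G, (∀ D : Subgroup G, IsTrans p V H D → D ≤ K) → H ≤ K)
    {A' E' W' : Subgroup G} (T' : IsTrans p V H A') (B' : Block p V H Q A' E' W') (hne : E' ≠ E) :
    E' ≤ H ⊓ Subgroup.centralizer (W : Set G) := by
  obtain ⟨hHW, hdich, -, -, hHE, -⟩ := B.global C T hgen
  have hEle : ∀ K : Subgroup G, H ≤ Subgroup.normalizer (K : Set G) → A' ≤ K → E' ≤ K := by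
    intro K hK hle
    rw [B'.eq]
    refine sup_le (Subgroup.commutator_le.2 fun q hq x hx => ?_) hle
    rw [commutatorElement_def]
    exact mul_mem (le_normalizer_iff_forall_conj_mem.1 hK q (C.hQH hq) x (hle hx))
      (inv_mem (hle hx))
  rcases hdich _ T' with h | h
  · refine absurd ?_ hne
    refine Subgroup.eq_of_le_of_card_ge (hEle _ hHE h) ?_
    obtain ⟨e1⟩ := B.iso
    obtain ⟨e2⟩ := B'.iso
    exact (Nat.card_congr (e1.trans e2.symm).toEquiv).le
  · exact le_inf B'.hEH (hEle _ (hHW.trans (normalizer_le_normalizer_cent _)) h)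

theorem Block.five_le (B : Block p V H Q A E W) {q : ℕ} [hqf : Fact q.Prime]
    (hq : ¬ q ∣ Nat.card H) : 5 ≤ q := by
  have hd := Subgroup.card_dvd_of_le B.hEH
  obtain ⟨e⟩ := B.iso
  rw [Nat.card_congr e.toEquiv] at hd
  have h2 := hqf.out.two_le
  by_contra h5
  have h4 : q ≠ 4 := fun h => absurd (h ▸ hqf.out) (by norm_num)
  rcases B.hp23 with rfl | rfl
  · have h6 : Nat.card (Matrix.SpecialLinearGroup (Fin 2) (ZMod 2)) = 6 := by
      rw [Nat.card_eq_fintype_card]; decide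
    rw [h6] at hd
    refine hq (dvd_trans ?_ hd)
    rcases (by omega : q = 2 ∨ q = 3) with rfl | rfl <;> norm_num
  · have h24 : Nat.card (Matrix.SpecialLinearGroup (Fin 2) (ZMod 3)) = 24 := by
      rw [Nat.card_eq_fintype_card]; decide
    rw [h24] at hd
    refine hq (dvd_trans ?_ hd)
    rcases (by omega : q = 2 ∨ q = 3) with rfl | rfl <;> norm_num

theorem piCoprod_mem {ι : Type*} [Fintype ι] {N : ι → Type*} [∀ i, Monoid (N i)]
    (φ : ∀ i, N i →* G) (hc : Pairwise fun i j => ∀ x y, Commute (φ i x) (φ j y))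
    (K : Subgroup G) (f : ∀ i, N i) (hf : ∀ i, φ i (f i) ∈ K) :
    MonoidHom.noncommPiCoprod φ hc f ∈ K :=
  Subgroup.noncommProd_mem K (t := Finset.univ) (fun i _ j _ h => hc h _ _) fun i _ => hf i

/-- An operator of prime order at least five fixes the plane of a block. -/
theorem Block.fixed (B : Block p V H Q A E W) {q : ℕ} [hqf : Fact q.Prime] (hq5 : 5 ≤ q) {s : G}
    (hs : s ∈ Subgroup.normalizer (W : Set G)) (hsq : s ^ q = 1) :
    s ∈ Subgroup.centralizer (W : Set G) := by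
  set S := Subgroup.zpowers s with hS
  have hSN : S ≤ Subgroup.normalizer (W : Set G) := Subgroup.zpowers_le.2 hs
  have hSq : IsPGroup q S := fun x => ⟨1, Subtype.ext (by
    obtain ⟨i, hi⟩ := Subgroup.mem_zpowers_iff.1 x.2
    rw [SubmonoidClass.coe_pow, pow_one, OneMemClass.coe_one, ← hi, ← zpow_natCast, ← zpow_mul,
      mul_comm, zpow_mul, zpow_natCast, hsq, one_zpow])⟩
  letI : MulAction S W := MulAction.compHom W (W.normalizerMonoidHom.comp (Subgroup.inclusion hSN))
  have hmod := hSq.card_modEq_card_fixedPoints W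
  have hsmul : ∀ (x : S) (w : W), ((x • w : W) : G) = x * w * (x : G)⁻¹ := fun x w => rfl
  let e : MulAction.fixedPoints S W ≃ (W ⊓ Subgroup.centralizer (S : Set G) : Subgroup G) :=
    { toFun := fun w => ⟨w.1.1, Subgroup.mem_inf.2 ⟨w.1.2, Subgroup.mem_centralizer_iff.2 fun x hx => by
        have h := congrArg Subtype.val (w.2 ⟨x, hx⟩)
        rw [hsmul] at h
        calc x * w.1.1 = x * w.1.1 * x⁻¹ * x := by group
          _ = w.1.1 * x := by rw [h]⟩⟩
      invFun := fun w => ⟨⟨w.1, w.2.1⟩, fun x => Subtype.ext (by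
        rw [hsmul]
        exact mul_inv_eq_iff_eq_mul.2 (Subgroup.mem_centralizer_iff.1 w.2.2 x.1 x.2))⟩
      left_inv := fun w => rfl
      right_inv := fun w => rfl }
  rw [Nat.card_congr e, B.card] at hmod
  have hd : Nat.card (W ⊓ Subgroup.centralizer (S : Set G) : Subgroup G) ∣ p ^ 2 :=
    B.card ▸ Subgroup.card_dvd_of_le inf_le_left
  obtain ⟨k, hk, hk'⟩ := (Nat.dvd_prime_pow hp.out).1 hd
  have hk2 : k = 2 := by
    rw [hk'] at hmod
    by_contra hne
    have hle : p ^ k ≤ p ^ 2 := Nat.pow_le_pow_right hp.out.pos (by omega)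
    have hdd := (Nat.modEq_iff_dvd' hle).1 hmod.symm
    have h48 : p ^ 2 - p ^ k ∣ 2 ^ 4 * 3 := by
      rcases B.hp23 with rfl | rfl <;> interval_cases k <;> simp_all <;> norm_num
    rcases hqf.out.dvd_mul.1 (hdd.trans h48) with h | h
    · have := Nat.le_of_dvd two_pos (hqf.out.dvd_of_dvd_pow h)
      omega
    · have := Nat.le_of_dvd (by norm_num) h
      omega
  subst hk2
  have heq := Subgroup.eq_of_le_of_card_ge (inf_le_left : W ⊓ Subgroup.centralizer (S : Set G) ≤ W)
    (by rw [hk', B.card])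
  exact Subgroup.le_centralizer_iff.1 (inf_eq_left.1 heq) (Subgroup.mem_zpowers s)

/-- The orbit of a block under coprime operators has a diagonal block among the fixed points. -/
theorem Ctx.orbit (C : Ctx p V H Q)
    (hgen : ∀ K : Subgroup G, (∀ D : Subgroup G, IsTrans p V H D → D ≤ K) → H ≤ K)
    {q : ℕ} [hqf : Fact q.Prime] (X : Subgroup G) (hXe : ∀ x ∈ X, x ^ q = 1)
    (hXH : X ≤ Subgroup.normalizer (H : Set G)) (hXV : X ≤ Subgroup.normalizer (V : Set G))
    (hXQ : X ≤ Subgroup.normalizer (Q : Set G)) (hq : ¬ q ∣ Nat.card H) (T : IsTrans p V H A) :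
    ∃ W₀ D₀ : Subgroup G, W₀ ≤ V ⊓ Subgroup.centralizer (X : Set G) ∧
      D₀ ≤ H ⊓ Subgroup.centralizer (X : Set G) ∧ Nat.card W₀ = p ^ 2 ∧
      D₀ ≤ Subgroup.normalizer (W₀ : Set G) ∧ D₀ ⊓ Subgroup.centralizer (W₀ : Set G) = ⊥ ∧
      Nonempty (D₀ ≃* Matrix.SpecialLinearGroup (Fin 2) (ZMod p)) ∧
      ∃ d ∈ D₀, ⁅Q, A⁆ ⊔ A = A ⊔ A.map (MulAut.conj d).toMonoidHom := by
  classical
  have B := C.block T
  set E := ⁅Q, A⁆ ⊔ A with hEdef
  set W := ⁅V, E⁆ with hWdef
  have hq5 := B.five_le hq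
  -- the translated blocks
  have hblock : ∀ x ∈ X, IsTrans p V H (A.map (MulAut.conj x).toMonoidHom) ∧
      Block p V H Q (A.map (MulAut.conj x).toMonoidHom) (E.map (MulAut.conj x).toMonoidHom)
        (W.map (MulAut.conj x).toMonoidHom) := by
    intro x hx
    have Tx := T.map_conj' (hXH hx) (hXV hx)
    have e1 : ⁅Q, A.map (MulAut.conj x).toMonoidHom⁆ ⊔ A.map (MulAut.conj x).toMonoidHom =
        E.map (MulAut.conj x).toMonoidHom := by
      rw [hEdef, Subgroup.map_sup, Subgroup.map_commutator, map_conj_eq (hXQ hx)]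
    have h := C.block Tx
    rw [e1] at h
    have e2 : ⁅V, E.map (MulAut.conj x).toMonoidHom⁆ = W.map (MulAut.conj x).toMonoidHom := by
      rw [hWdef, Subgroup.map_commutator, map_conj_eq (hXV hx)]
    rw [e2] at h
    exact ⟨Tx, h⟩
  -- stabilisers act trivially
  have hstab : ∀ s ∈ X, E.map (MulAut.conj s).toMonoidHom = E →
      (∀ e ∈ E, s * e * s⁻¹ = e) ∧ ∀ w ∈ W, s * w * s⁻¹ = w := by
    intro s hs hse
    have hWs : W.map (MulAut.conj s).toMonoidHom = W := by
      rw [hWdef, Subgroup.map_commutator, map_conj_eq (hXV hs), hse]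
    have hsN : s ∈ Subgroup.normalizer (W : Set G) :=
      mem_normalizer_of_conj_smul_eq (by rw [conj_smul_eq_map]; exact hWs)
    have hsW := B.fixed hq5 hsN (hXe s hs)
    have hw : ∀ w ∈ W, s * w * s⁻¹ = w := fun w hw => by
      rw [← Subgroup.mem_centralizer_iff.1 hsW w hw, mul_inv_cancel_right]
    refine ⟨fun e he => ?_, hw⟩
    have hse' : s * e * s⁻¹ ∈ E := hse.le ⟨e, he, rfl⟩
    refine mul_inv_eq_one.1 (Subgroup.mem_bot.1 (B.faith.le (Subgroup.mem_inf.2
      ⟨mul_mem hse' (inv_mem he), Subgroup.mem_centralizer_iff.2 fun w hw' => ?_⟩)))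
    have h1 : e⁻¹ * w * e ∈ W := by
      have := le_normalizer_iff_forall_conj_mem.1 (fun g hg => (B.stabE hg).2.1) e⁻¹ (inv_mem he) w hw'
      simpa using this
    have h2 : s⁻¹ * w * s = w := by
      conv_lhs => rw [← hw w hw']
      group
    have h3 : (s * e * s⁻¹ * e⁻¹) * w * (s * e * s⁻¹ * e⁻¹)⁻¹ = w := by
      calc (s * e * s⁻¹ * e⁻¹) * w * (s * e * s⁻¹ * e⁻¹)⁻¹
          = s * (e * (s⁻¹ * (e⁻¹ * w * e) * s) * e⁻¹) * s⁻¹ := by group
        _ = s * (e * (e⁻¹ * w * e) * e⁻¹) * s⁻¹ := by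
          congr 2
          congr 1
          congr 1
          conv_lhs => rw [← hw _ h1]
          group
        _ = s * w * s⁻¹ := by group
        _ = w := hw w hw'
    calc w * (s * e * s⁻¹ * e⁻¹)
        = (s * e * s⁻¹ * e⁻¹) * w * (s * e * s⁻¹ * e⁻¹)⁻¹ * (s * e * s⁻¹ * e⁻¹) := by rw [h3]
      _ = (s * e * s⁻¹ * e⁻¹) * w := by group
  -- the orbit
  let ι := {E' : Subgroup G // ∃ x ∈ X, E' = E.map (MulAut.conj x).toMonoidHom}
  haveI : Fintype ι := Fintype.ofFinite ι
  choose r hr hrE using fun i : ι => i.2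
  let φ : ι → E →* G := fun i => (MulAut.conj (r i)).toMonoidHom.comp E.subtype
  let ψ : ι → W →* G := fun i => (MulAut.conj (r i)).toMonoidHom.comp W.subtype
  have hφ : ∀ i e, φ i e ∈ i.1 := fun i e => (hrE i).ge ⟨e, e.2, rfl⟩
  have hψ : ∀ i w, ψ i w ∈ W.map (MulAut.conj (r i)).toMonoidHom := fun i w => ⟨w, w.2, rfl⟩
  have hBi : ∀ i : ι, IsTrans p V H (A.map (MulAut.conj (r i)).toMonoidHom) ∧
      Block p V H Q (A.map (MulAut.conj (r i)).toMonoidHom) i.1
        (W.map (MulAut.conj (r i)).toMonoidHom) := by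
    intro i
    obtain ⟨T', B'⟩ := hblock _ (hr i)
    rw [← hrE i] at B'
    exact ⟨T', B'⟩
  have hij : ∀ i j : ι, i ≠ j →
      j.1 ≤ H ⊓ Subgroup.centralizer ((W.map (MulAut.conj (r i)).toMonoidHom : Subgroup G) : Set G) :=
    fun i j hne => (hBi i).2.dichotomy C (hBi i).1 hgen (hBi j).1 (hBi j).2
      fun e => hne (Subtype.ext e.symm)
  have hEcomm : Pairwise fun i j => ∀ x y, Commute (φ i x) (φ j y) := by
    intro i j hne x y
    obtain ⟨-, -, hEC, -, -, -⟩ := (hBi i).2.global C (hBi i).1 hgen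
    exact (Subgroup.mem_centralizer_iff.1 (Subgroup.commutator_eq_bot_iff_le_centralizer.1 hEC
      (hφ i x)) _ (hij i j hne (hφ j y))).symm
  have hWi : ∀ i w, ψ i w ∈ V := fun i w => (hBi i).2.hWV (hψ i w)
  have hWcomm : Pairwise fun i j => ∀ x y, Commute (ψ i x) (ψ j y) :=
    fun i j _ x y => C.comm (hWi i x) (hWi j y)
  have hEW : ∀ i j : ι, i ≠ j → ∀ e w, φ j e * ψ i w * (φ j e)⁻¹ = ψ i w := fun i j hne e w => by
    rw [← Subgroup.mem_centralizer_iff.1 (hij i j hne (hφ j e)).2 _ (hψ i w), mul_inv_cancel_right]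
  let Φ := MonoidHom.noncommPiCoprod φ hEcomm
  let Ψ := MonoidHom.noncommPiCoprod ψ hWcomm
  let δ : E →* G := Φ.comp (MonoidHom.pi fun _ => MonoidHom.id E)
  let γ : W →* G := Ψ.comp (MonoidHom.pi fun _ => MonoidHom.id W)
  -- a product over the other indices
  have hrest : ∀ (i : ι) (e : E), ∃ z ∈ ⨆ (j : ι) (_ : j ≠ i), (φ j).range, δ e = φ i e * z := by
    intro i e
    refine ⟨Φ (Function.update (fun _ => e) i 1), ?_, ?_⟩
    · refine piCoprod_mem _ _ _ _ fun j => ?_
      by_cases hji : j = i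
      · subst hji; rw [Function.update_self, map_one]; exact one_mem _
      · rw [Function.update_of_ne hji]
        exact le_iSup₂ (f := fun j (_ : j ≠ i) => (φ j).range) j hji ⟨e, rfl⟩
    · show Φ (fun _ => e) = _
      rw [← MonoidHom.noncommPiCoprod_mulSingle (ϕ := φ) (hcomm := hEcomm) i e, ← map_mul]
      congr 1
      funext j
      by_cases hji : j = i
      · subst hji; simp
      · simp [Pi.mulSingle_eq_of_ne hji, Function.update_of_ne hji]
  have hact : ∀ (i : ι) (e : E) (w : W), δ e * ψ i w * (δ e)⁻¹ = φ i e * ψ i w * (φ i e)⁻¹ := by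
    intro i e w
    obtain ⟨z, hz, hzδ⟩ := hrest i e
    have hzc : z ∈ Subgroup.centralizer ({ψ i w} : Set G) := by
      refine (iSup₂_le fun j hj => ?_ : (⨆ (j : ι) (_ : j ≠ i), (φ j).range) ≤ _) hz
      rintro _ ⟨e', rfl⟩
      exact Subgroup.mem_centralizer_singleton_iff.2 (mul_inv_eq_iff_eq_mul.1 (hEW i j hj.symm e' w))
    rw [hzδ]
    calc φ i e * z * ψ i w * (φ i e * z)⁻¹ = φ i e * (z * ψ i w) * z⁻¹ * (φ i e)⁻¹ := by group
      _ = φ i e * (ψ i w * z) * z⁻¹ * (φ i e)⁻¹ := by rw [Subgroup.mem_centralizer_singleton_iff.1 hzc]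
      _ = φ i e * ψ i w * (φ i e)⁻¹ := by group
  have hEW' : ∀ (e : E) (w : W), (e : G) * w * (e : G)⁻¹ ∈ W := fun e w =>
    le_normalizer_iff_forall_conj_mem.1 (fun g hg => (B.stabE hg).2.1) _ e.2 _ w.2
  have hequi : ∀ (e : E) (w : W), δ e * γ w * (δ e)⁻¹ = γ ⟨(e : G) * w * (e : G)⁻¹, hEW' e w⟩ := by
    intro e w
    let c : W →* W := MonoidHom.mk' (fun w => ⟨(e : G) * w * (e : G)⁻¹, hEW' e w⟩)
      fun a b => Subtype.ext (show (e : G) * (a * b) * (e : G)⁻¹ = _ by simp [mul_assoc])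
    let P : (ι → W) →* (ι → W) := MonoidHom.pi fun i => c.comp (Pi.evalMonoidHom _ i)
    have h : ((MulAut.conj (δ e)).toMonoidHom.comp Ψ) = Ψ.comp P := by
      refine MonoidHom.pi_ext fun i w => ?_
      have hP : P (Pi.mulSingle i w) = Pi.mulSingle i (c w) := by
        funext j
        by_cases hji : j = i
        · subst hji; simp [P]
        · simp [P, Pi.mulSingle_eq_of_ne hji]
      show δ e * Ψ (Pi.mulSingle i w) * (δ e)⁻¹ = Ψ (P (Pi.mulSingle i w))
      rw [hP, MonoidHom.noncommPiCoprod_mulSingle, MonoidHom.noncommPiCoprod_mulSingle, hact]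
      show r i * e * (r i)⁻¹ * (r i * w * (r i)⁻¹) * (r i * e * (r i)⁻¹)⁻¹ =
        r i * ((e : G) * w * (e : G)⁻¹) * (r i)⁻¹
      group
    exact DFunLike.congr_fun h fun _ => w
  -- invariance under `X`
  have hperm : ∀ y ∈ X, ∃ σ : ι ≃ ι,
      (∀ i e, y * φ i e * y⁻¹ = φ (σ i) e) ∧ ∀ i w, y * ψ i w * y⁻¹ = ψ (σ i) w := by
    intro y hy
    have hmem : ∀ i : ι, ∃ x ∈ X, i.1.map (MulAut.conj y).toMonoidHom =
        E.map (MulAut.conj x).toMonoidHom := by
      intro i
      refine ⟨y * r i, mul_mem hy (hr i), ?_⟩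
      conv_lhs => rw [hrE i]
      rw [Subgroup.map_map]
      congr 1
      ext g
      show y * (r i * g * (r i)⁻¹) * y⁻¹ = y * r i * g * (y * r i)⁻¹
      group
    let f : ι → ι := fun i => ⟨_, hmem i⟩
    have hf : Function.Bijective f := Finite.injective_iff_bijective.1 fun i j h =>
      Subtype.ext (Subgroup.map_injective (MulAut.conj y).injective (congrArg Subtype.val h))
    have hs : ∀ i, (r (f i))⁻¹ * y * r i ∈ X ∧
        E.map (MulAut.conj ((r (f i))⁻¹ * y * r i)).toMonoidHom = E := by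
      intro i
      refine ⟨mul_mem (mul_mem (inv_mem (hr _)) hy) (hr i), ?_⟩
      have h1 : (f i).1 = E.map (MulAut.conj (r (f i))).toMonoidHom := hrE (f i)
      have h2 : (f i).1 = E.map (MulAut.conj (y * r i)).toMonoidHom := by
        show i.1.map (MulAut.conj y).toMonoidHom = _
        conv_lhs => rw [hrE i]
        rw [Subgroup.map_map]
        congr 1
        ext g
        show y * (r i * g * (r i)⁻¹) * y⁻¹ = y * r i * g * (y * r i)⁻¹
        group
      refine Subgroup.map_injective (f := (MulAut.conj (r (f i))).toMonoidHom)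
        (MulAut.conj (r (f i))).injective ?_
      show (E.map _).map (MulAut.conj (r (f i))).toMonoidHom = E.map (MulAut.conj (r (f i))).toMonoidHom
      rw [← h1, h2, Subgroup.map_map]
      congr 1
      ext g
      show r (f i) * ((r (f i))⁻¹ * y * r i * g * ((r (f i))⁻¹ * y * r i)⁻¹) * (r (f i))⁻¹ =
        y * r i * g * (y * r i)⁻¹
      group
    refine ⟨Equiv.ofBijective f hf, fun i e => ?_, fun i w => ?_⟩
    · show y * (r i * e * (r i)⁻¹) * y⁻¹ = r (f i) * e * (r (f i))⁻¹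
      conv_rhs => rw [← (hstab _ (hs i).1 (hs i).2).1 e e.2]
      group
    · show y * (r i * w * (r i)⁻¹) * y⁻¹ = r (f i) * w * (r (f i))⁻¹
      conv_rhs => rw [← (hstab _ (hs i).1 (hs i).2).2 w w.2]
      group
  have hinv : ∀ y ∈ X, (∀ e, y * δ e * y⁻¹ = δ e) ∧ ∀ w, y * γ w * y⁻¹ = γ w := by
    intro y hy
    obtain ⟨σ, h1, h2⟩ := hperm y hy
    refine ⟨fun e => ?_, fun w => ?_⟩
    · let P : (ι → E) →* (ι → E) := MonoidHom.pi fun j => Pi.evalMonoidHom _ (σ.symm j)
      have h : ((MulAut.conj y).toMonoidHom.comp Φ) = Φ.comp P := by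
        refine MonoidHom.pi_ext fun i e => ?_
        have hP : P (Pi.mulSingle i e) = Pi.mulSingle (σ i) e := by
          funext j
          by_cases hji : j = σ i
          · subst hji; simp [P]
          · have : σ.symm j ≠ i := fun h => hji (by rw [← h, Equiv.apply_symm_apply])
            simp [P, Pi.mulSingle_eq_of_ne hji, Pi.mulSingle_eq_of_ne this]
        show y * Φ (Pi.mulSingle i e) * y⁻¹ = Φ (P (Pi.mulSingle i e))
        rw [hP, MonoidHom.noncommPiCoprod_mulSingle, MonoidHom.noncommPiCoprod_mulSingle, h1]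
      exact DFunLike.congr_fun h fun _ => e
    · let P : (ι → W) →* (ι → W) := MonoidHom.pi fun j => Pi.evalMonoidHom _ (σ.symm j)
      have h : ((MulAut.conj y).toMonoidHom.comp Ψ) = Ψ.comp P := by
        refine MonoidHom.pi_ext fun i e => ?_
        have hP : P (Pi.mulSingle i e) = Pi.mulSingle (σ i) e := by
          funext j
          by_cases hji : j = σ i
          · subst hji; simp [P]
          · have : σ.symm j ≠ i := fun h => hji (by rw [← h, Equiv.apply_symm_apply])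
            simp [P, Pi.mulSingle_eq_of_ne hji, Pi.mulSingle_eq_of_ne this]
        show y * Ψ (Pi.mulSingle i e) * y⁻¹ = Ψ (P (Pi.mulSingle i e))
        rw [hP, MonoidHom.noncommPiCoprod_mulSingle, MonoidHom.noncommPiCoprod_mulSingle, h2]
      exact DFunLike.congr_fun h fun _ => w
  -- the base index
  let i₀ : ι := ⟨E, 1, one_mem X, by
    have : (MulAut.conj (1 : G)).toMonoidHom = MonoidHom.id G := by ext g; simp
    rw [this, Subgroup.map_id]⟩
  have hbase := hstab _ (hr i₀) (hrE i₀).symm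
  have hb1 : ∀ e : E, φ i₀ e = (e : G) := fun e => hbase.1 e e.2
  have hb2 : ∀ w : W, ψ i₀ w = (w : G) := fun w => hbase.2 w w.2
  -- injectivity
  have hγ : Function.Injective γ := by
    rw [injective_iff_map_eq_one]
    intro w hw
    have hd : Ψ (Function.update (fun _ => w) i₀ 1) ∈ Subgroup.centralizer (E : Set G) := by
      refine piCoprod_mem _ _ _ _ fun j => ?_
      by_cases hji : j = i₀
      · subst hji; rw [Function.update_self, map_one]; exact one_mem _
      · rw [Function.update_of_ne hji]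
        refine Subgroup.mem_centralizer_iff.2 fun e he => ?_
        have h := hEW j i₀ hji ⟨e, he⟩ w
        rw [hb1] at h
        exact mul_inv_eq_iff_eq_mul.1 h
    have hs : γ w = ψ i₀ w * Ψ (Function.update (fun _ => w) i₀ 1) := by
      show Ψ (fun _ => w) = _
      rw [← MonoidHom.noncommPiCoprod_mulSingle (ϕ := ψ) (hcomm := hWcomm) i₀ w, ← map_mul]
      congr 1
      funext j
      by_cases hji : j = i₀
      · subst hji; simp
      · simp [Pi.mulSingle_eq_of_ne hji, Function.update_of_ne hji]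
    rw [hw, hb2] at hs
    refine Subtype.ext (Subgroup.mem_bot.1 (B.fix.le (Subgroup.mem_inf.2 ⟨w.2, ?_⟩)))
    rw [show (w : G) = (Ψ (Function.update (fun _ => w) i₀ 1))⁻¹ from eq_inv_of_mul_eq_one_left hs.symm]
    exact inv_mem hd
  have hδ : Function.Injective δ := by
    rw [injective_iff_map_eq_one]
    intro e he
    refine Subtype.ext (Subgroup.mem_bot.1 (B.faith.le (Subgroup.mem_inf.2
      ⟨e.2, Subgroup.mem_centralizer_iff.2 fun w hw => ?_⟩)))
    have h := hact i₀ e ⟨w, hw⟩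
    rw [he, hb1, hb2, one_mul, inv_one, mul_one] at h
    exact (mul_inv_eq_iff_eq_mul.1 h.symm).symm
  have hδH : ∀ e, δ e ∈ H := fun e => piCoprod_mem φ hEcomm _ (fun _ => e) fun j => (hBi j).2.hEH (hφ j e)
  have hγV : ∀ w, γ w ∈ V := fun w => piCoprod_mem ψ hWcomm _ (fun _ => w) fun j => hWi j w
  have hδX : ∀ e, δ e ∈ Subgroup.centralizer (X : Set G) := fun e => Subgroup.mem_centralizer_iff.2
    fun y hy => mul_inv_eq_iff_eq_mul.1 ((hinv y hy).1 e)
  have hγX : ∀ w, γ w ∈ Subgroup.centralizer (X : Set G) := fun w => Subgroup.mem_centralizer_iff.2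
    fun y hy => mul_inv_eq_iff_eq_mul.1 ((hinv y hy).2 w)
  -- an element moving `A`
  obtain ⟨hc, hZV, hA⟩ := T.card_comm C
  obtain ⟨a, ha, ha1⟩ := (⁅V, A⁆).bot_or_exists_ne_one.resolve_left (C.comm_ne_bot T.le T.ne_bot)
  obtain ⟨w, hw, hwA⟩ : ∃ w ∈ W, w ∉ ⁅V, A⁆ := by
    by_contra h
    push Not at h
    have h1 := Subgroup.card_le_of_le (show W ≤ ⁅V, A⁆ from h)
    rw [B.card, hc] at h1
    have := hp.out.two_le
    nlinarith
  obtain ⟨x, hx, hxw⟩ := B.trans a (B.comm_le_W ha) ha1 w hw (fun e => hwA (e ▸ one_mem _))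
  have hxA : x ∉ Subgroup.centralizer (A : Set G) := by
    intro h
    have hN : x ∈ Subgroup.normalizer (A : Set G) := Subgroup.centralizer_le_normalizer _ h
    refine hwA (hxw ▸ ?_)
    exact le_normalizer_iff_forall_conj_mem.1 (le_normalizer_commutator'
      (K := Subgroup.zpowers x) ((Subgroup.zpowers_le.2 (C.hQH hx.1)).trans C.hHV)
      (Subgroup.zpowers_le.2 hN)) x (Subgroup.mem_zpowers x) a ha
  obtain ⟨hxQ, hxE⟩ := Subgroup.mem_inf.1 hx
  refine ⟨γ.range, δ.range, ?_, ?_, ?_, ?_, ?_, ⟨?_⟩, δ ⟨x, hxE⟩, ⟨_, rfl⟩, ?_⟩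
  · rintro _ ⟨w, rfl⟩; exact ⟨hγV w, hγX w⟩
  · rintro _ ⟨e, rfl⟩; exact ⟨hδH e, hδX e⟩
  · rw [← Nat.card_congr (MonoidHom.ofInjective hγ).toEquiv, B.card]
  · refine le_normalizer_iff_forall_conj_mem.2 ?_
    rintro _ ⟨e, rfl⟩ _ ⟨w, rfl⟩
    exact ⟨_, (hequi e w).symm⟩
  · refine le_bot_iff.1 fun g hg => ?_
    obtain ⟨⟨e, rfl⟩, hgc⟩ := Subgroup.mem_inf.1 hg
    rw [Subgroup.mem_bot]
    suffices e = 1 by rw [this, map_one]
    refine Subtype.ext (Subgroup.mem_bot.1 (B.faith.le (Subgroup.mem_inf.2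
      ⟨e.2, Subgroup.mem_centralizer_iff.2 fun w hw => ?_⟩)))
    have h := hequi e ⟨w, hw⟩
    rw [← Subgroup.mem_centralizer_iff.1 hgc _ ⟨⟨w, hw⟩, rfl⟩, mul_inv_cancel_right] at h
    have h' : w = (e : G) * w * (e : G)⁻¹ := congrArg Subtype.val (hγ h)
    exact (eq_mul_inv_iff_mul_eq.1 h')
  · exact (MonoidHom.ofInjective hδ).symm.trans B.iso.some
  · refine (block_of C T hxQ hxA).2.trans ?_
    congr 1
    ext g
    simp only [Subgroup.mem_map]
    have key : ∀ y ∈ A, δ ⟨x, hxE⟩ * y * (δ ⟨x, hxE⟩)⁻¹ = x * y * x⁻¹ := by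
      intro y hy
      obtain ⟨z, hz, hzδ⟩ := hrest i₀ ⟨x, hxE⟩
      have hzc : z ∈ Subgroup.centralizer ({y} : Set G) := by
        refine (iSup₂_le fun j hj => ?_ : (⨆ (j : ι) (_ : j ≠ i₀), (φ j).range) ≤ _) hz
        rintro _ ⟨e', rfl⟩
        refine Subgroup.mem_centralizer_singleton_iff.2 ?_
        have := hEcomm hj e' ⟨y, B.le_E hy⟩
        rw [hb1] at this
        exact this.eq
      rw [hzδ, hb1]
      calc x * z * y * (x * z)⁻¹ = x * (z * y) * z⁻¹ * x⁻¹ := by group
        _ = x * (y * z) * z⁻¹ * x⁻¹ := by rw [Subgroup.mem_centralizer_singleton_iff.1 hzc]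
        _ = x * y * x⁻¹ := by group
    constructor
    · rintro ⟨y, hy, rfl⟩; exact ⟨y, hy, key y hy⟩
    · rintro ⟨y, hy, rfl⟩; exact ⟨y, hy, (key y hy).symm⟩

end CfsgLib.Solv.FFP
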