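import Cfsg.Agent.Solv.WardModule

/-!
Ward's module lemma: `[R, S]` centralizes `V`.
-/

set_option autoImplicit false
set_option linter.style.haveILetI false
set_option linter.deprecated false

open scoped commutatorElement Pointwise

namespace CfsgLib.Solv

universe u

variable {p r s : ℕ}

theorem isSolvable_of_le_rGroup {X : Type*} [Group X] [Finite X] {r : ℕ} [Fact r.Prime] {R Z : Subgroup X}
    (hR : IsPGroup r R) (h : Z ≤ R) : Group.IsSolvable Z := by
  haveI := (hR.to_le h).isNilpotent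
  infer_instance

/-- A subset, regarded as a point for the conjugation action. -/
structure ConjSet (G : Type*) where
  /-- The subset. -/
  carrier : Set G

instance conjSetMulAction (G : Type*) [Group G] : MulAction G (ConjSet G) where
  smul g C := ⟨{y | g⁻¹ * y * g ∈ C.carrier}⟩
  one_smul C := by
    show ConjSet.mk {y | (1 : G)⁻¹ * y * 1 ∈ C.carrier} = C
    simp
  mul_smul g h C := by
    show ConjSet.mk {y | (g * h)⁻¹ * y * (g * h) ∈ C.carrier} =
      ConjSet.mk {y | g⁻¹ * y * g ∈ {z | h⁻¹ * z * h ∈ C.carrier}}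
    simp [mul_assoc]

set_option maxHeartbeats 1000000 in
/-- The case of an abelian `R` with no fixed points of `S`. -/
theorem ward_abelian {X : Type u} [Group X] [Finite X] [hp : Fact p.Prime] [hr : Fact r.Prime]
    {A V R S : Subgroup X} (h : WardData p r s A V R S) (hRab : ∀ x ∈ R, ∀ y ∈ R, x * y = y * x)
    (hRexp : ∀ x ∈ R, x ^ r = 1) (hfaith : R ⊓ Subgroup.centralizer (V : Set X) = ⊥)
    (hVR : V ⊓ Subgroup.centralizer (R : Set X) = ⊥) {a : X} (ha : a ∈ A) (ha1 : a ≠ 1)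
    (hSa : ∀ y ∈ S, a * y = y * a) (hRa : ∀ x ∈ R, a * x = x * a → x = 1) :
    ⁅R, S⁆ = ⊥ := by
  classical
  haveI := h.hA
  haveI hRc : IsMulCommutative R := ⟨⟨fun x y => Subtype.ext (hRab x x.2 y y.2)⟩⟩
  have hSg : ∀ g ∈ A, g ∉ Subgroup.zpowers a → ∀ y ∈ S, g * y = y * g → y = 1 := by
    intro g hg hga y hy hgy
    have h1 : y ∈ S ⊓ Subgroup.centralizer (A : Set X) :=
      Subgroup.mem_inf.2 ⟨hy, h.sup_eq ha ha1 hg hga ▸ mem_centralizer_sup (hSa y hy) hgy⟩
    rwa [h.fS, Subgroup.mem_bot] at h1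
  let Supp : Subgroup X → Prop := fun K =>
    K ≤ R ∧ K ≠ R ∧ (∃ x ∈ R, K ⊔ Subgroup.zpowers x = R) ∧ V ⊓ Subgroup.centralizer (K : Set X) ≠ ⊥
  have hRN : ∀ K : Subgroup X, K ≤ R → R ≤ Subgroup.normalizer (K : Set X) := fun K hK =>
    le_normalizer_iff_forall_conj_mem.2 fun x hx k hk => by
      rwa [hRab x hx k (hK hk), mul_inv_cancel_right]
  have hmax : ∀ K, Supp K → ∀ L : Subgroup X, K ≤ L → L ≤ R → L ≠ K → L = R := by
    intro K hK L hKL hLR hne
    obtain ⟨hKR, -, ⟨x, hx, hxR⟩, -⟩ := hK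
    obtain ⟨l, hl, hlK⟩ : ∃ l ∈ L, l ∉ K := by
      by_contra hcon
      push Not at hcon
      exact hne (le_antisymm hcon hKL)
    have hl' : l ∈ Subgroup.zpowers x ⊔ K := by rw [sup_comm, hxR]; exact hLR hl
    obtain ⟨k, hk, z, hz, rfl⟩ := exists_mul_of_mem_sup (Subgroup.zpowers_le.2 (hRN K hKR hx)) hl'
    have hzL : z ∈ L := by simpa using mul_mem (inv_mem (hKL hk)) hl
    have hz1 : z ≠ 1 := fun e => hlK (by simpa [e] using hk)
    haveI : Fact r.Prime := hr
    have hzx : Subgroup.zpowers z = Subgroup.zpowers x := by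
      refine Subgroup.eq_of_le_of_card_ge (Subgroup.zpowers_le.2 hz) ?_
      have hx1 : x ≠ 1 := fun e => hz1 (by simpa [e] using hz)
      rw [Nat.card_zpowers, Nat.card_zpowers, orderOf_eq_prime (hRexp x hx) hx1,
        orderOf_eq_prime (hRexp z (hLR hzL)) hz1]
    refine le_antisymm hLR (hxR ▸ sup_le hKL ?_)
    exact hzx ▸ Subgroup.zpowers_le.2 hzL
  have hgen : ∀ K, Supp K → ∀ x ∈ R, x ∉ K → K ⊔ Subgroup.zpowers x = R := fun K hK x hx hxK =>
    hmax K hK _ le_sup_left (sup_le hK.1 (Subgroup.zpowers_le.2 hx))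
      fun e => hxK (e ▸ Subgroup.mem_sup_right (Subgroup.mem_zpowers x))
  -- different kernels give independent components
  have hindep : ∀ K K', Supp K → Supp K' → K' ≠ K →
      V ⊓ Subgroup.centralizer (K' : Set X) ≤ ⁅V, K⁆ := by
    intro K K' hK hK' hne
    set V' := V ⊓ Subgroup.centralizer (K' : Set X)
    have hKK' : K ⊔ K' = R := hmax K hK _ le_sup_left (sup_le hK.1 hK'.1) fun e => by
      have h1 : K' ≤ K := e ▸ le_sup_right
      exact hK.2.1 (hmax K' hK' K h1 hK.1 (Ne.symm hne))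
    have hKV' : K ≤ Subgroup.normalizer (V' : Set X) :=
      le_normalizer_inf_of_le (hK.1.trans h.hRV) (le_normalizer_centralizer (hK.1.trans (hRN K' hK'.1)))
    have hV'ab : IsMulCommutative V' := ⟨⟨fun x y => Subtype.ext (show (x : X) * y = y * x from
      congrArg Subtype.val (h.hVab.is_comm.comm ⟨x, (Subgroup.mem_inf.1 x.2).1⟩ ⟨y, (Subgroup.mem_inf.1 y.2).1⟩))⟩⟩
    have h1 := abelian_fixed_sup_commutator hV'ab hKV'
      (Nat.Coprime.coprime_dvd_left (Subgroup.card_dvd_of_le hK.1)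
        (h.cRV.coprime_dvd_right (Subgroup.card_dvd_of_le inf_le_left)))
    refine h1.ge.trans (sup_le ?_ (Subgroup.commutator_mono inf_le_left le_rfl))
    refine le_trans (le_trans ?_ hVR.le) bot_le
    intro v hv
    obtain ⟨hv', hvK⟩ := Subgroup.mem_inf.1 hv
    obtain ⟨hvV, hvK'⟩ := Subgroup.mem_inf.1 hv'
    refine Subgroup.mem_inf.2 ⟨hvV, Subgroup.mem_centralizer_iff.2 fun x hx => ?_⟩
    have hle : K ⊔ K' ≤ Subgroup.centralizer {v} := sup_le
      (fun k hk => Subgroup.mem_centralizer_singleton_iff.2 (Subgroup.mem_centralizer_iff.1 hvK k hk))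
      (fun k hk => Subgroup.mem_centralizer_singleton_iff.2 (Subgroup.mem_centralizer_iff.1 hvK' k hk))
    exact Subgroup.mem_centralizer_singleton_iff.1 (hle (hKK'.symm ▸ hx))
  have hfix0 : ∀ K, Supp K → ∀ v ∈ V ⊓ Subgroup.centralizer (K : Set X), v ∈ ⁅V, K⁆ → v = 1 := by
    intro K hK v hv hvc
    have h1 : v ∈ (V ⊓ Subgroup.centralizer (K : Set X)) ⊓ ⁅V, K⁆ := Subgroup.mem_inf.2 ⟨hv, hvc⟩
    rwa [abelian_fixed_inf_commutator h.hVab (hK.1.trans h.hRV)
      (h.cRV.coprime_dvd_left (Subgroup.card_dvd_of_le hK.1)), Subgroup.mem_bot] at h1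
  have hSuppConj : ∀ g : X, g ∈ Subgroup.normalizer (R : Set X) → g ∈ Subgroup.normalizer (V : Set X) →
      ∀ K, Supp K → Supp (K.map (MulAut.conj g).toMonoidHom) := by
    intro g hgR hgV K hK
    have hR : R.map (MulAut.conj g).toMonoidHom = R := conj_smul_eq_self_of_mem_normalizer hgR
    obtain ⟨hKR, hne, ⟨x, hx, hxR⟩, hv⟩ := hK
    refine ⟨hR ▸ Subgroup.map_mono hKR, fun e => hne (Subgroup.map_injective
      (MulAut.conj g).injective (e.trans hR.symm)), ⟨g * x * g⁻¹, ?_, ?_⟩, fun e => hv ?_⟩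
    · exact hR ▸ ⟨x, hx, rfl⟩
    · rw [show g * x * g⁻¹ = (MulAut.conj g).toMonoidHom x from rfl, ← MonoidHom.map_zpowers,
        ← Subgroup.map_sup, hxR, hR]
    · rw [eq_bot_iff]
      intro v hv
      obtain ⟨hvV, hvK⟩ := Subgroup.mem_inf.1 hv
      have h1 : g * v * g⁻¹ ∈ V ⊓ Subgroup.centralizer ((K.map (MulAut.conj g).toMonoidHom : Subgroup X) : Set X) := by
        refine Subgroup.mem_inf.2 ⟨(Subgroup.mem_normalizer_iff.1 hgV v).1 hvV, ?_⟩
        rw [Subgroup.mem_centralizer_iff]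
        rintro _ ⟨k, hk, rfl⟩
        show g * k * g⁻¹ * (g * v * g⁻¹) = g * v * g⁻¹ * (g * k * g⁻¹)
        rw [conj_mul, conj_mul, Subgroup.mem_centralizer_iff.1 hvK k hk]
      rw [e, Subgroup.mem_bot, conj_eq_one_iff] at h1
      exact Subgroup.mem_bot.2 h1
  let cos : Subgroup X → X → ConjSet X := fun K x => ⟨{y | x⁻¹ * y ∈ K}⟩
  have hscos : ∀ (g : X) K x, g • cos K x = cos (K.map (MulAut.conj g).toMonoidHom) (g * x * g⁻¹) := by
    intro g K x
    refine congrArg ConjSet.mk (Set.ext fun y => ?_)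
    show x⁻¹ * (g⁻¹ * y * g) ∈ K ↔ (g * x * g⁻¹)⁻¹ * y ∈ K.map (MulAut.conj g).toMonoidHom
    rw [mem_map_conj_iff]
    constructor <;> intro hy <;> simpa [mul_assoc] using hy
  have hcoseq : ∀ K x K' x', cos K x = cos K' x' → x⁻¹ * x' ∈ K ∧ K ≤ K' ∧ K' ≤ K := by
    intro K x K' x' he
    have hiff : ∀ y, x⁻¹ * y ∈ K ↔ x'⁻¹ * y ∈ K' := fun y =>
      Set.ext_iff.1 (congrArg ConjSet.carrier he) y
    have hx' : x⁻¹ * x' ∈ K := (hiff x').2 (by simp)
    refine ⟨hx', fun k hk => ?_, fun k hk => ?_⟩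
    · have h1 := (hiff (x * k)).1 (by simpa using hk)
      have h2 := (hiff x).1 (by simp)
      simpa [mul_assoc] using mul_mem (inv_mem (show x'⁻¹ * x ∈ K' from h2)) (show x'⁻¹ * (x * k) ∈ K' from h1)
    · have h1 := (hiff (x' * k)).2 (by simpa using hk)
      simpa [mul_assoc] using mul_mem (inv_mem hx') (show x⁻¹ * (x' * k) ∈ K from h1)
  -- every coset is fixed by an element outside `⟨a⟩`
  have htype : ∀ K, Supp K → ∀ x ∈ R, x ∉ K → ∃ g ∈ A, g ∉ Subgroup.zpowers a ∧ g • cos K x = cos K x := by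
    intro K hK x hx hxK
    obtain ⟨g, hg, hg1, x', hx', hgx', hx'K⟩ : ∃ g ∈ A, g ≠ 1 ∧ ∃ x' ∈ R, g * x' = x' * g ∧ x' ∉ K := by
      by_contra hcon
      push Not at hcon
      exact hK.2.1 (le_antisymm hK.1 (le_of_noncyclic_centralizers h.not_isCyclic h.hAR
        (h.coprime_card_left h.cAR) fun g hg hg1 z hz => hcon g hg hg1 z (Subgroup.mem_inf.1 hz).1
          (Subgroup.mem_centralizer_singleton_iff.1 (Subgroup.mem_inf.1 hz).2).symm))
    have hga : g ∉ Subgroup.zpowers a := by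
      intro hga
      obtain ⟨i, rfl⟩ := Subgroup.mem_zpowers_iff.1 hga
      refine hx'K ?_
      have hzz : Subgroup.zpowers (a ^ i) = Subgroup.zpowers a := by
        refine Subgroup.eq_of_le_of_card_ge (Subgroup.zpowers_le.2 (Subgroup.zpow_mem_zpowers a i)) ?_
        rw [Nat.card_zpowers, Nat.card_zpowers, orderOf_eq_prime (h.hexp a ha) ha1,
          orderOf_eq_prime (h.hexp _ hg) hg1]
      have hax : a ∈ Subgroup.centralizer {x'} := by
        have : Subgroup.zpowers (a ^ i) ≤ Subgroup.centralizer {x'} :=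
          Subgroup.zpowers_le.2 (Subgroup.mem_centralizer_singleton_iff.2 hgx')
        exact this (hzz.symm ▸ Subgroup.mem_zpowers a)
      rw [hRa x' hx' (Subgroup.mem_centralizer_singleton_iff.1 hax)]
      exact K.one_mem
    refine ⟨g, hg, hga, ?_⟩
    have hKg : K.map (MulAut.conj g).toMonoidHom = K := by
      by_contra hne
      -- the product over the orbit of a vector is fixed by `g`, hence by `x'`
      obtain ⟨v, hv, hv1⟩ := (Subgroup.ne_bot_iff_exists_ne_one.1 hK.2.2.2) |>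
        fun ⟨⟨v, hv⟩, hv1⟩ => (⟨v, hv, fun e => hv1 (Subtype.ext e)⟩ :
          ∃ v, v ∈ V ⊓ Subgroup.centralizer (K : Set X) ∧ v ≠ 1)
      open scoped IsMulCommutative in
      haveI := h.hVab
      have hgV : ∀ i : ℕ, g ^ i ∈ Subgroup.normalizer (V : Set X) := fun i => pow_mem (h.hAV hg) i
      let c : ℕ → ↥V := fun i => ⟨g ^ i * v * (g ^ i)⁻¹,
        (Subgroup.mem_normalizer_iff.1 (hgV i) v).1 (Subgroup.mem_inf.1 hv).1⟩
      set w := ∏ i ∈ Finset.range p, c i with hw
      let gc : ↥V →* ↥V :=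
        { toFun := fun u => ⟨g * u * g⁻¹, (Subgroup.mem_normalizer_iff.1 (h.hAV hg) (u : X)).1 u.2⟩
          map_one' := Subtype.ext (by simp)
          map_mul' := fun u u' => Subtype.ext (by simp [mul_assoc]) }
      have hwg : gc w = w := by
        rw [hw, map_prod]
        have h1 : ∀ i, gc (c i) = c (i + 1) := fun i => Subtype.ext (by simp [gc, c, pow_succ', mul_assoc])
        rw [Finset.prod_congr rfl fun i _ => h1 i]
        have h2 := (Finset.prod_range_succ' c p).symm.trans (Finset.prod_range_succ c p)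
        have h3 : c p = c 0 := Subtype.ext (by simp [c, h.hexp g hg])
        rw [h3] at h2
        exact mul_right_cancel h2
      have hgw : g * (w : X) = w * g := by
        have := congrArg Subtype.val hwg
        exact mul_inv_eq_iff_eq_mul.1 this
      have hxw : x' * (w : X) = w * x' := h.comV g hg hg1 x' hx' hgx' w w.2 hgw
      let cx : ↥V →* ↥V :=
        { toFun := fun u => ⟨x' * u * x'⁻¹, (Subgroup.mem_normalizer_iff.1 (h.hRV hx') (u : X)).1 u.2⟩
          map_one' := Subtype.ext (by simp)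
          map_mul' := fun u u' => Subtype.ext (by simp [mul_assoc]) }
      let xc : ↥V →* ↥V :=
        { toFun := fun u => cx u * u⁻¹
          map_one' := by simp
          map_mul' := fun u u' => by rw [map_mul, mul_inv, mul_mul_mul_comm] }
      have h1 : ∏ i ∈ Finset.range p, xc (c i) = 1 := by
        rw [← map_prod, ← hw]
        exact Subtype.ext (show x' * (w : X) * x'⁻¹ * (w : X)⁻¹ = 1 by rw [hxw]; group)
      rw [← Finset.mul_prod_erase _ _ (Finset.mem_range.2 hp.out.pos)] at h1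
      have hmem : ∀ i, ((xc (c i) : ↥V) : X) ∈
          V ⊓ Subgroup.centralizer ((K.map (MulAut.conj (g ^ i)).toMonoidHom : Subgroup X) : Set X) := by
        intro i
        refine Subgroup.mem_inf.2 ⟨(xc (c i)).2, Subgroup.mem_centralizer_iff.2 ?_⟩
        rintro _ ⟨k, hk, rfl⟩
        have hkc : Commute (g ^ i * k * (g ^ i)⁻¹) (g ^ i * v * (g ^ i)⁻¹) := by
          show _ * _ = _ * _
          rw [conj_mul, conj_mul, Subgroup.mem_centralizer_iff.1 (Subgroup.mem_inf.1 hv).2 k hk]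
        have hkx : Commute (g ^ i * k * (g ^ i)⁻¹) x' :=
          hRab _ ((Subgroup.mem_normalizer_iff.1 (pow_mem (h.hAR hg) i) k).1 (hK.1 hk)) _ hx'
        exact (((hkx.mul_right hkc).mul_right hkx.inv_right).mul_right hkc.inv_right).eq
      have hrest : ((∏ i ∈ (Finset.range p).erase 0, xc (c i) : ↥V) : X) ∈ ⁅V, K⁆ := by
        have hsub : ∀ i ∈ (Finset.range p).erase 0, xc (c i) ∈ (⁅V, K⁆).subgroupOf V := by
          intro i hi
          obtain ⟨hi0, hip⟩ := Finset.mem_erase.1 hi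
          refine hindep K _ hK (hSuppConj (g ^ i) (pow_mem (h.hAR hg) i) (hgV i) K hK) (fun e => hne ?_) (hmem i)
          have hnd : ¬ p ∣ i := fun hd => hi0 (Nat.eq_zero_of_dvd_of_lt hd (Finset.mem_range.1 hip))
          have hco : i.Coprime (orderOf g) := (((hp.out.coprime_iff_not_dvd).2 hnd).coprime_dvd_left
            (orderOf_dvd_of_pow_eq_one (h.hexp g hg))).symm
          obtain ⟨j, hj⟩ := exists_pow_eq_self_of_coprime hco
          have hgN : g ∈ Subgroup.normalizer (K : Set X) := hj ▸ pow_mem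
            (mem_normalizer_of_conj_smul_eq (show MulAut.conj (g ^ i) • K = K from e)) j
          exact conj_smul_eq_self_of_mem_normalizer hgN
        exact prod_mem hsub
      have h0 : ((xc (c 0) : ↥V) : X) = 1 := by
        refine hfix0 K hK _ ?_ ?_
        · have := hmem 0
          simpa using this
        · have e : xc (c 0) = (∏ i ∈ (Finset.range p).erase 0, xc (c i))⁻¹ := eq_inv_of_mul_eq_one_left h1
          rw [e, Subgroup.coe_inv]
          exact inv_mem hrest
      have hxv : x' * v = v * x' := by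
        have h0' : x' * (g ^ 0 * v * (g ^ 0)⁻¹) * x'⁻¹ * (g ^ 0 * v * (g ^ 0)⁻¹)⁻¹ = 1 := h0
        simp only [pow_zero, one_mul, inv_one, mul_one] at h0'
        exact mul_inv_eq_iff_eq_mul.1 (mul_inv_eq_one.1 h0')
      refine hv1 (Subgroup.mem_bot.1 (hVR ▸ Subgroup.mem_inf.2 ⟨(Subgroup.mem_inf.1 hv).1, ?_⟩))
      refine Subgroup.mem_centralizer_iff.2 fun z hz => ?_
      have hle : K ⊔ Subgroup.zpowers x' ≤ Subgroup.centralizer {v} := sup_le
        (fun k hk => Subgroup.mem_centralizer_singleton_iff.2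
          (Subgroup.mem_centralizer_iff.1 (Subgroup.mem_inf.1 hv).2 k hk))
        (Subgroup.zpowers_le.2 (Subgroup.mem_centralizer_singleton_iff.2 hxv))
      exact Subgroup.mem_centralizer_singleton_iff.1 (hle ((hgen K hK x' hx' hx'K).symm ▸ hz))
    have hgN : g ∈ Subgroup.normalizer (K : Set X) := mem_normalizer_of_conj_smul_eq hKg
    rw [hscos, hKg]
    have hmem : x ∈ Subgroup.zpowers x' ⊔ K := by rw [sup_comm, hgen K hK x' hx' hx'K]; exact hx
    obtain ⟨k, hk, z, hz, rfl⟩ := exists_mul_of_mem_sup (Subgroup.zpowers_le.2 (hRN K hK.1 hx')) hmem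
    have hgz : g * z * g⁻¹ = z := by
      obtain ⟨i, rfl⟩ := Subgroup.mem_zpowers_iff.1 hz
      rw [((show Commute g x' from hgx').zpow_right i).eq, mul_inv_cancel_right]
    have hk' : g * k * g⁻¹ ∈ K := (Subgroup.mem_normalizer_iff.1 hgN k).1 hk
    have hzR : z ∈ R := (Subgroup.zpowers_le.2 hx') hz
    have he : g * (k * z) * g⁻¹ = (g * k * g⁻¹) * z := by
      calc g * (k * z) * g⁻¹ = (g * k * g⁻¹) * (g * z * g⁻¹) := by group
        _ = _ := by rw [hgz]
    rw [he]
    have hkk : (k * z)⁻¹ * (g * k * g⁻¹ * z) ∈ K := by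
      have hu : k⁻¹ * (g * k * g⁻¹) ∈ K := mul_mem (inv_mem hk) hk'
      have := le_normalizer_iff_forall_conj_mem.1 (hRN K hK.1) z⁻¹ (inv_mem hzR) _ hu
      simpa [mul_assoc] using this
    refine congrArg ConjSet.mk (Set.ext fun y => ?_)
    show (g * k * g⁻¹ * z)⁻¹ * y ∈ K ↔ (k * z)⁻¹ * y ∈ K
    rw [show (k * z)⁻¹ * y = ((k * z)⁻¹ * (g * k * g⁻¹ * z)) * ((g * k * g⁻¹ * z)⁻¹ * y) by group]
    exact (K.mul_mem_cancel_left hkk).symm
  -- two fixed cosets in one orbit coincide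
  have huniq : ∀ g ∈ A, g ∉ Subgroup.zpowers a → ∀ C D : ConjSet X, g • C = C → g • D = D →
      ∀ y ∈ S, y • C = D → C = D := by
    intro g hg hga C D hC hD y hy hyCD
    have hle : Subgroup.zpowers g ≤ A := Subgroup.zpowers_le.2 hg
    have hst : ∀ {C : ConjSet X}, g • C = C → ∀ b ∈ Subgroup.zpowers g, b • C = C := fun {C} hC b hb =>
      MulAction.mem_stabilizer_iff.1 (Subgroup.zpowers_le.2 (MulAction.mem_stabilizer_iff.2 hC) hb)
    obtain ⟨c, hc, hcC⟩ := exists_centralizing_smul_eq (A := Subgroup.zpowers g) (K := S) (hle.trans h.hAS)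
      ((h.coprime_card_left h.cAS).coprime_dvd_left (Subgroup.card_dvd_of_le hle))
      (Or.inl (isSolvable_zpowers g)) (hst hC) (hst hD) hy hyCD
    have hc1 := hSg g hg hga c (Subgroup.mem_inf.1 hc).1
      (Subgroup.mem_centralizer_iff.1 (Subgroup.mem_inf.1 hc).2 g (Subgroup.mem_zpowers g))
    rwa [hc1, one_smul] at hcC
  -- hence `S` fixes every coset
  have hSfix : ∀ K, Supp K → ∀ x ∈ R, x ∉ K → ∀ y ∈ S, y • cos K x = cos K x := by
    intro K hK x hx hxK y hy
    obtain ⟨g, hg, hga, hgC⟩ := htype K hK x hx hxK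
    have hyR := h.hSR hy
    obtain ⟨g', hg', hg'a, hg'C⟩ := htype _ (hSuppConj y hyR (h.hSV hy) K hK) (y * x * y⁻¹)
      ((Subgroup.mem_normalizer_iff.1 hyR x).1 hx) (fun hmem => hxK (by
        rw [mem_map_conj_iff] at hmem; simpa [mul_assoc] using hmem))
    rw [← hscos] at hg'C
    by_cases hgg : g' ∈ Subgroup.zpowers g
    · refine (huniq g' hg' hg'a _ _ ?_ hg'C y hy rfl).symm
      exact MulAction.mem_stabilizer_iff.1
        (Subgroup.zpowers_le.2 (MulAction.mem_stabilizer_iff.2 hgC) hgg)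
    exfalso
    have hg1 : g ≠ 1 := fun e => hga (e ▸ one_mem _)
    have hA' : Subgroup.zpowers g ⊔ Subgroup.zpowers g' = A := h.sup_eq hg hg1 hg' hgg
    have hgg' : g * g' = g' * g := congrArg Subtype.val (h.hA.is_comm.comm ⟨g, hg⟩ ⟨g', hg'⟩)
    have hw : g' * y⁻¹ * g'⁻¹ * y ∈ S :=
      mul_mem ((Subgroup.mem_normalizer_iff.1 (h.hAS hg') _).1 (inv_mem hy)) hy
    have hg'x : g' • cos K x = cos K x := by
      refine (huniq g hg hga _ _ hgC ?_ _ hw ?_).symm
      · rw [smul_smul, hgg', ← smul_smul, hgC]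
      · calc (g' * y⁻¹ * g'⁻¹ * y) • cos K x = (g' * y⁻¹ * g'⁻¹) • (y • cos K x) := mul_smul _ _ _
          _ = (g' * y⁻¹ * g'⁻¹) • (g' • (y • cos K x)) := by rw [hg'C]
          _ = g' • cos K x := by simp only [smul_smul]; congr 1; group
    have haC : a • cos K x = cos K x := MulAction.mem_stabilizer_iff.1 (by
      have hle : A ≤ MulAction.stabilizer X (cos K x) := hA' ▸ sup_le
        (Subgroup.zpowers_le.2 (MulAction.mem_stabilizer_iff.2 hgC))
        (Subgroup.zpowers_le.2 (MulAction.mem_stabilizer_iff.2 hg'x))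
      exact hle ha)
    rw [hscos] at haC
    obtain ⟨hax, hKa, hKa'⟩ := hcoseq _ _ _ _ haC.symm
    have haK : a ∈ Subgroup.normalizer (K : Set X) :=
      mem_normalizer_of_conj_smul_eq (le_antisymm hKa' hKa)
    have hle : Subgroup.zpowers a ≤ A := Subgroup.zpowers_le.2 ha
    have hcopA := (h.coprime_card_left h.cAR).coprime_dvd_left (Subgroup.card_dvd_of_le hle)
    obtain ⟨d, hd, hxd⟩ := exists_centralizing_in_coset (hle.trans h.hAR)
      (inf_eq_bot_of_coprime_card hcopA) hK.1 (Subgroup.zpowers_le.2 haK)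
      (hcopA.coprime_dvd_right (Subgroup.card_dvd_of_le hK.1)) (Or.inl (isSolvable_zpowers a)) hx (by
        intro b hb
        have hb' : b • cos K x = cos K x := MulAction.mem_stabilizer_iff.1
          (Subgroup.zpowers_le.2 (MulAction.mem_stabilizer_iff.2 ((hscos a K x).trans haC)) hb)
        rw [hscos] at hb'
        have := (hcoseq _ _ _ _ hb'.symm).1
        simpa [mul_assoc] using this)
    have h1 := hRa (x * d) (mul_mem hx (hK.1 hd))
      (Subgroup.mem_centralizer_iff.1 hxd a (Subgroup.mem_zpowers a))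
    exact hxK (eq_inv_of_mul_eq_one_left h1 ▸ inv_mem hd)
  rw [eq_bot_iff, Subgroup.commutator_le]
  intro x hx y hy
  have hmem : ⁅x, y⁆ ∈ R := by
    have := mul_mem hx ((Subgroup.mem_normalizer_iff.1 (h.hSR hy) _).1 (inv_mem hx))
    simpa [commutatorElement_def, mul_assoc] using this
  have hcentral : V ≤ Subgroup.centralizer {⁅x, y⁆} := by
    refine le_of_cocyclic_centralizers (A := R) h.hRV h.cRV fun K hK hKx v hv => ?_
    rw [Subgroup.mem_centralizer_singleton_iff]
    by_cases hKR : K = R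
    · subst hKR
      exact (Subgroup.mem_centralizer_iff.1 (Subgroup.mem_inf.1 hv).2 _ hmem).symm
    by_cases hv1 : V ⊓ Subgroup.centralizer (K : Set X) = ⊥
    · rw [hv1, Subgroup.mem_bot] at hv
      rw [hv, one_mul, mul_one]
    have hK' : Supp K := ⟨hK, hKR, hKx, hv1⟩
    obtain ⟨x₀, hx₀, hx₀R⟩ := hKx
    have hx₀K : x₀ ∉ K := fun hc => hKR (le_antisymm hK (hx₀R ▸ sup_le le_rfl (Subgroup.zpowers_le.2 hc)))
    have hyK : ∀ k ∈ K, y * k * y⁻¹ ∈ K := by
      intro k hk
      have := hSfix K hK' x₀ hx₀ hx₀K y hy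
      rw [hscos] at this
      exact (hcoseq _ _ _ _ this.symm).2.2 ⟨k, hk, rfl⟩
    have hcom : ⁅x, y⁆ ∈ K := by
      by_cases hxK : x ∈ K
      · have := mul_mem hxK (hyK _ (inv_mem hxK))
        simpa [commutatorElement_def, mul_assoc] using this
      · have := hSfix K hK' x hx hxK y hy
        rw [hscos] at this
        have h1 := (hcoseq _ _ _ _ this.symm).1
        -- `x⁻¹ (y x y⁻¹) ∈ K`
        have h2 : y * x⁻¹ * y⁻¹ ∈ R := (Subgroup.mem_normalizer_iff.1 (h.hSR hy) _).1 (inv_mem hx)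
        have h3 : ⁅x, y⁆ = (x⁻¹ * (y * x * y⁻¹))⁻¹ := by
          rw [commutatorElement_def, show x * y * x⁻¹ * y⁻¹ = x * (y * x⁻¹ * y⁻¹) by group,
            hRab x hx _ h2]
          group
        rw [h3]
        exact inv_mem h1
    exact (Subgroup.mem_centralizer_iff.1 (Subgroup.mem_inf.1 hv).2 _ hcom).symm
  have h1 : ⁅x, y⁆ ∈ R ⊓ Subgroup.centralizer (V : Set X) :=
    Subgroup.mem_inf.2 ⟨hmem, Subgroup.mem_centralizer_iff.2 fun v hv =>
      Subgroup.mem_centralizer_singleton_iff.1 (hcentral hv)⟩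
  rwa [hfaith] at h1

set_option maxHeartbeats 1000000 in
theorem ward_aux [hp : Fact p.Prime] [hr : Fact r.Prime] : ∀ (n : ℕ) (X : Type u) [Group X] [Finite X]
    (A V R S : Subgroup X), Nat.card V + Nat.card R + Nat.card S ≤ n → WardData p r s A V R S →
    ⁅R, S⁆ ≤ Subgroup.centralizer (V : Set X) := by
  intro n
  induction n using Nat.strong_induction_on with
  | _ n ih => ?_
  intro X _ _ A V R S hn h
  haveI := h.hA
  have hlt : ∀ {H K : Subgroup X}, H ≤ K → H ≠ K → Nat.card H < Nat.card K := fun hle hne =>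
    lt_of_le_of_ne (Subgroup.card_le_of_le hle) fun e => hne (Subgroup.eq_of_le_of_card_ge hle e.ge)
  set R₀ := R ⊓ Subgroup.centralizer (V : Set X) with hR₀
  have hN₀ : ∀ B : Subgroup X, B ≤ Subgroup.normalizer (R : Set X) → B ≤ Subgroup.normalizer (V : Set X) →
      B ≤ Subgroup.normalizer (R₀ : Set X) := fun B h1 h2 =>
    le_normalizer_inf_of_le h1 (le_normalizer_centralizer h2)
  by_cases hf : R₀ = ⊥
  swap
  · -- pass to the quotient by the kernel
    set N := Subgroup.normalizer (R₀ : Set X) with hN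
    have hAN : A ≤ N := hN₀ A h.hAR h.hAV
    have hRN : R ≤ N := hN₀ R Subgroup.le_normalizer h.hRV
    have hSN : S ≤ N := hN₀ S h.hSR h.hSV
    have hVN : V ≤ N := le_normalizer_iff_forall_conj_mem.2 fun v hv z hz => by
      rw [Subgroup.mem_centralizer_iff.1 (Subgroup.mem_inf.1 hz).2 v hv, mul_inv_cancel_right]
      exact hz
    haveI : (R₀.subgroupOf N).Normal := Subgroup.normal_in_normalizer
    let π : ↥N →* ↥N ⧸ R₀.subgroupOf N := QuotientGroup.mk' _
    have hker : A.subgroupOf N ⊓ π.ker = ⊥ := by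
      rw [QuotientGroup.ker_mk']
      refine inf_eq_bot_of_coprime_card ?_
      rw [card_subgroupOf hAN, card_subgroupOf Subgroup.le_normalizer]
      exact h.coprime_card_left (h.cAR.coprime_dvd_right (Subgroup.card_dvd_of_le inf_le_left))
    have h' := ((h.restrict hAN hVN hRN hSN).map π hker)
    have hR' : Nat.card ((R.subgroupOf N).map π) < Nat.card R := by
      have h1 : Nat.card ((R.subgroupOf N).map π) * Nat.card R₀ = Nat.card R := by
        rw [← Subgroup.relIndex_ker, QuotientGroup.ker_mk', Subgroup.relIndex_subgroupOf hRN]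
        rw [mul_comm]; exact relIndex_mul_card (inf_le_left : R₀ ≤ R)
      have h2 : 1 < Nat.card R₀ := (Subgroup.one_lt_card_iff_ne_bot _).2 hf
      calc Nat.card ((R.subgroupOf N).map π) = Nat.card ((R.subgroupOf N).map π) * 1 := (mul_one _).symm
        _ < Nat.card ((R.subgroupOf N).map π) * Nat.card R₀ := Nat.mul_lt_mul_of_pos_left h2 Nat.card_pos
        _ = _ := h1
    have hV' : Nat.card ((V.subgroupOf N).map π) ≤ Nat.card V :=
      (Nat.le_of_dvd Nat.card_pos (card_map_dvd' _ _)).trans (card_subgroupOf hVN).le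
    have hS' : Nat.card ((S.subgroupOf N).map π) ≤ Nat.card S :=
      (Nat.le_of_dvd Nat.card_pos (card_map_dvd' _ _)).trans (card_subgroupOf hSN).le
    have hc := ih _ (by omega) _ _ _ _ _ le_rfl h'
    rw [Subgroup.commutator_le]
    intro x hx y hy
    rw [Subgroup.mem_centralizer_iff]
    intro v hv
    have h2 := hc (Subgroup.commutator_mem_commutator (Subgroup.mem_map_of_mem π (show (⟨x, hRN hx⟩ : ↥N) ∈ R.subgroupOf N from hx))
      (Subgroup.mem_map_of_mem π (show (⟨y, hSN hy⟩ : ↥N) ∈ S.subgroupOf N from hy)))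
    rw [← map_commutatorElement, Subgroup.mem_centralizer_iff] at h2
    have h3 := h2 _ (Subgroup.mem_map_of_mem π (show (⟨v, hVN hv⟩ : ↥N) ∈ V.subgroupOf N from hv))
    rw [← map_mul, ← map_mul] at h3
    have h4 : ((⟨v, hVN hv⟩ : ↥N) * ⁅(⟨x, hRN hx⟩ : ↥N), ⟨y, hSN hy⟩⁆)⁻¹ *
        (⁅(⟨x, hRN hx⟩ : ↥N), ⟨y, hSN hy⟩⁆ * ⟨v, hVN hv⟩) ∈ R₀.subgroupOf N := QuotientGroup.eq.1 h3
    have h5 : (v * ⁅x, y⁆)⁻¹ * (⁅x, y⁆ * v) ∈ R₀ ⊓ V := by
      refine Subgroup.mem_inf.2 ⟨h4, ?_⟩
      have hc' : ⁅x, y⁆ ∈ Subgroup.normalizer (V : Set X) := by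
        rw [commutatorElement_def]
        exact mul_mem (mul_mem (mul_mem (h.hRV hx) (h.hSV hy)) (inv_mem (h.hRV hx))) (inv_mem (h.hSV hy))
      have := (Subgroup.mem_normalizer_iff.1 (inv_mem hc') v⁻¹).1 (inv_mem hv)
      simpa [mul_assoc] using mul_mem this hv
    rw [inf_eq_bot_of_coprime_card (h.cRV.coprime_dvd_left (Subgroup.card_dvd_of_le inf_le_left)),
      Subgroup.mem_bot, inv_mul_eq_one] at h5
    exact h5
  -- the faithful case
  suffices hgoal : ⁅R, S⁆ = ⊥ by rw [hgoal]; exact bot_le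
  by_contra hne
  have hR1 : ⁅R, S⁆ = R := by
    have hle : ⁅R, S⁆ ≤ R := commutator_le_of_le_normalizer h.hSR
    by_contra hne'
    have hd := h.sub le_rfl hle le_rfl h.hAV (hle.trans h.hRV) h.hSV (le_normalizer_commutator h.hAR h.hAS)
      (right_le_normalizer_commutator R S) h.hAS
    have h1 := ih _ (by have := hlt hle hne'; omega) _ A V ⁅R, S⁆ S le_rfl hd
    rw [commutator_commutator_right h.hSR h.cRS.symm
      (Or.inr (haveI := h.hr.isNilpotent; inferInstance))] at h1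
    exact hne (le_bot_iff.1 (hf ▸ le_inf hle h1))
  have hRne : R ≠ ⊥ := fun e => hne (by rw [e]; exact Subgroup.commutator_bot_left S)
  have hproper : ∀ Q : Subgroup X, Q < R → A ≤ Subgroup.normalizer (Q : Set X) →
      S ≤ Subgroup.normalizer (Q : Set X) → ⁅Q, S⁆ = ⊥ := by
    intro Q hQ hAQ hSQ
    have h1 := ih _ (by have := hlt hQ.le hQ.ne; omega) _ A V Q S le_rfl
      (h.sub le_rfl hQ.le le_rfl h.hAV (hQ.le.trans h.hRV) h.hSV hAQ hSQ h.hAS)
    exact le_bot_iff.1 (hf ▸ le_inf ((commutator_le_of_le_normalizer hSQ).trans hQ.le) h1)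
  -- `R` fixes nothing in `V`
  have hsmall : ∀ U : Subgroup X, U ≤ V → U ≠ V → A ≤ Subgroup.normalizer (U : Set X) →
      R ≤ Subgroup.normalizer (U : Set X) → S ≤ Subgroup.normalizer (U : Set X) →
      R ≤ Subgroup.centralizer (U : Set X) := fun U hU hUne hAU hRU hSU =>
    hR1 ▸ ih _ (by have := hlt hU hUne; omega) _ A U R S le_rfl
      (h.sub hU le_rfl le_rfl hAU hRU hSU h.hAR h.hSR h.hAS)
  have hVR : V ⊓ Subgroup.centralizer (R : Set X) = ⊥ := by
    have hW : ⁅V, R⁆ = V := by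
      have hle : ⁅V, R⁆ ≤ V := commutator_le_of_le_normalizer h.hRV
      by_contra hne'
      have h1 := hsmall _ hle hne' (le_normalizer_commutator h.hAV h.hAR) (right_le_normalizer_commutator V R)
        (le_normalizer_commutator h.hSV h.hSR)
      have hVs : Group.IsSolvable V := haveI := h.hVab; isSolvable_of_isMulCommutative V
      have h2 : ⁅V, R⁆ = ⊥ := by
        rw [← commutator_commutator_right h.hRV h.cRV (Or.inr hVs),
          Subgroup.commutator_eq_bot_iff_le_centralizer]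
        exact Subgroup.le_centralizer_iff.1 h1
      rw [Subgroup.commutator_eq_bot_iff_le_centralizer, Subgroup.le_centralizer_iff] at h2
      exact hRne (le_bot_iff.1 (hf ▸ le_inf le_rfl h2))
    rw [eq_bot_iff, ← abelian_fixed_inf_commutator h.hVab h.hRV h.cRV]
    exact le_inf le_rfl (hW.symm ▸ inf_le_left)
  -- an element centralizing `S`
  obtain ⟨a, ha, ha1, hSa⟩ : ∃ a ∈ A, a ≠ 1 ∧ ∀ y ∈ S, a * y = y * a := by
    by_contra hcon
    push Not at hcon
    refine hne ?_
    rw [Subgroup.commutator_comm, Subgroup.commutator_eq_bot_iff_le_centralizer]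
    refine le_of_noncyclic_centralizers h.not_isCyclic h.hAS (h.coprime_card_left h.cAS) fun a ha ha1 => ?_
    obtain ⟨y, hy, hay⟩ := hcon a ha ha1
    have hne' : S ⊓ Subgroup.centralizer {a} ≠ S := fun e => hay
      (Subgroup.mem_centralizer_singleton_iff.1 (Subgroup.mem_inf.1 (e.symm ▸ hy)).2).symm
    have h1 := ih _ (by have := hlt (inf_le_left : S ⊓ Subgroup.centralizer {a} ≤ S) hne'; omega) _ A V R
      (S ⊓ Subgroup.centralizer {a}) le_rfl (h.sub le_rfl le_rfl inf_le_left h.hAV h.hRV (inf_le_left.trans h.hSV)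
        h.hAR (inf_le_left.trans h.hSR) (conj_mul_mem_normalizer h.hA h.hAS a ha))
    have h2 : ⁅R, S ⊓ Subgroup.centralizer {a}⁆ = ⊥ :=
      le_bot_iff.1 (hf ▸ le_inf (commutator_le_of_le_normalizer (inf_le_left.trans h.hSR)) h1)
    rwa [Subgroup.commutator_comm, Subgroup.commutator_eq_bot_iff_le_centralizer] at h2
  have hSg : ∀ g ∈ A, g ∉ Subgroup.zpowers a → ∀ y ∈ S, g * y = y * g → y = 1 := by
    intro g hg hga y hy hgy
    have h1 : y ∈ S ⊓ Subgroup.centralizer (A : Set X) :=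
      Subgroup.mem_inf.2 ⟨hy, h.sup_eq ha ha1 hg hga ▸ mem_centralizer_sup (hSa y hy) hgy⟩
    rwa [h.fS, Subgroup.mem_bot] at h1
  set Z := R ⊓ Subgroup.centralizer (S : Set X) with hZ
  have hAZ : A ≤ Subgroup.normalizer (Z : Set X) := le_normalizer_inf_of_le h.hAR (le_normalizer_centralizer h.hAS)
  have hSZ : S ≤ Subgroup.normalizer (Z : Set X) :=
    le_normalizer_inf_of_le h.hSR (le_normalizer_centralizer Subgroup.le_normalizer)
  obtain ⟨Φ, hΦlt, hΦc, hΦp, hΦn⟩ := exists_frattini_part h.hr hRne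
  have hΦZ : Φ ≤ Z := le_inf hΦlt.le (Subgroup.commutator_eq_bot_iff_le_centralizer.1
    (hproper Φ hΦlt (h.hAR.trans hΦn) (h.hSR.trans hΦn)))
  have hRZ : R ≤ Subgroup.normalizer (Z : Set X) := le_normalizer_iff_forall_conj_mem.2 fun x hx z hz => by
    rw [show x * z * x⁻¹ = ⁅x, z⁆ * z by rw [commutatorElement_def]; group]
    exact mul_mem (hΦZ (hΦc x hx z (Subgroup.mem_inf.1 hz).1)) hz
  have hZlt : Z ≠ R := by
    intro e
    exact hne (Subgroup.commutator_eq_bot_iff_le_centralizer.2 (e ▸ inf_le_right))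
  have hZR : R ≤ Subgroup.centralizer (Z : Set X) := by
    have h1 : ⁅⁅R, Z⁆, S⁆ = ⊥ := by
      refine Subgroup.commutator_eq_bot_iff_le_centralizer.2 ?_
      rw [Subgroup.commutator_le]
      exact fun x hx z hz => (Subgroup.mem_inf.1 (hΦZ (hΦc x hx z (Subgroup.mem_inf.1 hz).1))).2
    have h2 : ⁅⁅Z, S⁆, R⁆ = ⊥ := by
      rw [Subgroup.commutator_eq_bot_iff_le_centralizer.2 (inf_le_right : Z ≤ _), Subgroup.commutator_bot_left]
    have h3 := Subgroup.commutator_commutator_eq_bot_of_rotate h1 h2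
    rw [Subgroup.commutator_comm S R, hR1] at h3
    exact Subgroup.commutator_eq_bot_iff_le_centralizer.1 h3
  have hRaZ : ∀ x ∈ R, a * x = x * a → x ∈ Z := fun x hx hax => Subgroup.mem_inf.2
    ⟨hx, Subgroup.mem_centralizer_iff.2 fun y hy => (h.comS a ha ha1 x hx hax y hy (hSa y hy)).symm⟩
  have hRg : ∀ g ∈ A, g ∉ Subgroup.zpowers a → ∃ x ∈ R, g * x = x * g ∧ x ∉ Z := by
    intro g hg hga
    by_contra hcon
    push Not at hcon
    refine hZlt (le_antisymm inf_le_left (le_of_fpf_average (K := S) (V := R) (M := Z) (W := Z) h.hSR (h.hAR hg)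
      hSZ (hAZ hg) (h.hAS hg) (h.hexp g hg) (hSg g hg hga) inf_le_left hRZ
      (fun u hu w hw => hΦZ (hΦc u hu w hw)) h.cRS.symm h.cAR ?_ le_rfl ?_))
    · intro v hv hfix
      obtain ⟨d, hd, hvd⟩ := exists_centralizing_in_coset (A := S) (K := R) (D := Z) h.hSR
        (inf_eq_bot_of_coprime_card h.cRS.symm) inf_le_left hSZ
        (h.cRS.symm.coprime_dvd_right (Subgroup.card_dvd_of_le inf_le_left))
        (Or.inr (isSolvable_of_le_rGroup h.hr inf_le_left)) hv (fun b hb => by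
          have := le_normalizer_iff_forall_conj_mem.1 hRZ v⁻¹ (inv_mem hv) _ (hfix b hb)
          simpa [mul_assoc] using this)
      have hvdZ : v * d ∈ Z := Subgroup.mem_inf.2 ⟨mul_mem hv (Subgroup.mem_inf.1 hd).1, hvd⟩
      simpa using mul_mem hvdZ (inv_mem hd)
    · intro k hk v hv hgv
      exact le_normalizer_iff_forall_conj_mem.1 hSZ k hk v (hcon v hv hgv)
  -- fixed points in `V`
  obtain ⟨g, hg, hg1, hga, v₁, hv₁, hgv₁, hv₁1⟩ : ∃ g ∈ A, g ≠ 1 ∧ g ∉ Subgroup.zpowers a ∧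
      ∃ v ∈ V, g * v = v * g ∧ v ≠ 1 := by
    by_contra hcon
    push Not at hcon
    have hVa : V ≤ Subgroup.centralizer {a} := by
      refine le_of_noncyclic_centralizers h.not_isCyclic h.hAV (h.coprime_card_left h.cAV) fun g hg hg1 v hv => ?_
      obtain ⟨hvV, hgv⟩ := Subgroup.mem_inf.1 hv
      by_cases hga : g ∈ Subgroup.zpowers a
      · have hzz : Subgroup.zpowers g = Subgroup.zpowers a := by
          refine Subgroup.eq_of_le_of_card_ge (Subgroup.zpowers_le.2 hga) ?_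
          rw [Nat.card_zpowers, Nat.card_zpowers, orderOf_eq_prime (h.hexp a ha) ha1,
            orderOf_eq_prime (h.hexp _ hg) hg1]
        have : Subgroup.zpowers g ≤ Subgroup.centralizer {v} := Subgroup.zpowers_le.2
          (Subgroup.mem_centralizer_singleton_iff.2 (Subgroup.mem_centralizer_singleton_iff.1 hgv).symm)
        exact Subgroup.mem_centralizer_singleton_iff.2
          (Subgroup.mem_centralizer_singleton_iff.1 (this (hzz.symm ▸ Subgroup.mem_zpowers a))).symm
      · rw [hcon g hg hg1 hga v hvV (Subgroup.mem_centralizer_singleton_iff.1 hgv).symm]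
        exact one_mem _
    refine hZlt (le_antisymm inf_le_left fun x hx => hRaZ x hx ?_)
    have h1 : a * x * a⁻¹ * x⁻¹ ∈ R ⊓ Subgroup.centralizer (V : Set X) := by
      refine Subgroup.mem_inf.2 ⟨mul_mem ((Subgroup.mem_normalizer_iff.1 (h.hAR ha) x).1 hx) (inv_mem hx),
        Subgroup.mem_centralizer_iff.2 fun v hv => ?_⟩
      have hav : ∀ u ∈ V, Commute a u := fun u hu =>
        (Subgroup.mem_centralizer_singleton_iff.1 (hVa hu)).symm
      have hu : x⁻¹ * v * x ∈ V := by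
        simpa using le_normalizer_iff_forall_conj_mem.1 h.hRV x⁻¹ (inv_mem hx) v hv
      calc v * (a * x * a⁻¹ * x⁻¹) = a * (a⁻¹ * v * a) * x * a⁻¹ * x⁻¹ := by group
        _ = a * v * x * a⁻¹ * x⁻¹ := by rw [mul_assoc a⁻¹ v a, ← (hav v hv).eq, inv_mul_cancel_left]
        _ = a * x * ((x⁻¹ * v * x) * a⁻¹) * x⁻¹ := by group
        _ = a * x * (a⁻¹ * (x⁻¹ * v * x)) * x⁻¹ := by rw [((hav _ hu).inv_left).eq]
        _ = a * x * a⁻¹ * x⁻¹ * v := by group
    change a * x * a⁻¹ * x⁻¹ ∈ R₀ at h1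
    rw [hf, Subgroup.mem_bot] at h1
    exact mul_inv_eq_iff_eq_mul.1 (mul_inv_eq_one.1 h1)
  have hZfix : ∀ b ∈ A, b ≠ 1 → (∃ z ∈ Z, b * z = z * b ∧ z ≠ 1) →
      (V ⊓ Subgroup.centralizer ((Z ⊓ Subgroup.centralizer {b} : Subgroup X) : Set X) = ⊥) ∧
      ∀ v ∈ V, b * v = v * b → v = 1 := by
    intro b hb hb1 ⟨z, hz, hbz, hz1⟩
    set Y := Z ⊓ Subgroup.centralizer {b}
    have hYR : Y ≤ R := inf_le_left.trans inf_le_left
    have hzY : z ∈ Y := Subgroup.mem_inf.2 ⟨hz, Subgroup.mem_centralizer_singleton_iff.2 hbz.symm⟩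
    have hAY : A ≤ Subgroup.normalizer (Y : Set X) := conj_mul_mem_normalizer h.hA hAZ b hb
    have hRY : R ≤ Subgroup.normalizer (Y : Set X) :=
      hZR.trans ((Subgroup.centralizer_le (inf_le_left : Y ≤ Z)).trans (Subgroup.centralizer_le_normalizer _))
    have hSY : S ≤ Subgroup.normalizer (Y : Set X) :=
      (Subgroup.le_centralizer_iff.1 (inf_le_left.trans inf_le_right : Y ≤ _)).trans
        (Subgroup.centralizer_le_normalizer _)
    have hbot : V ⊓ Subgroup.centralizer (Y : Set X) = ⊥ := by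
      have hYV := hYR.trans h.hRV
      have hcY := h.cRV.coprime_dvd_left (Subgroup.card_dvd_of_le hYR)
      by_contra hne'
      have hV1 : V ⊓ Subgroup.centralizer (Y : Set X) ≠ V := fun e => hz1 (Subgroup.mem_bot.1
        (hf ▸ Subgroup.mem_inf.2 ⟨hYR hzY, Subgroup.mem_centralizer_iff.2 fun v hv =>
          (Subgroup.mem_centralizer_iff.1 (Subgroup.mem_inf.1 (e.symm ▸ hv)).2 z hzY).symm⟩))
      have hV2 : ⁅V, Y⁆ ≠ V := fun e => hne' (le_bot_iff.1 (le_trans (le_inf le_rfl (by rw [e]; exact inf_le_left))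
        (abelian_fixed_inf_commutator h.hVab hYV hcY).le))
      have h1 := hsmall _ inf_le_left hV1 (le_normalizer_inf_of_le h.hAV (le_normalizer_centralizer hAY))
        (le_normalizer_inf_of_le h.hRV (le_normalizer_centralizer hRY))
        (le_normalizer_inf_of_le h.hSV (le_normalizer_centralizer hSY))
      have h2 := hsmall _ (commutator_le_of_le_normalizer hYV) hV2 (le_normalizer_commutator h.hAV hAY)
        (le_normalizer_commutator h.hRV hRY) (le_normalizer_commutator h.hSV hSY)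
      rw [Subgroup.le_centralizer_iff] at h1 h2
      have h3 := sup_le h1 h2
      rw [abelian_fixed_sup_commutator h.hVab hYV hcY, Subgroup.le_centralizer_iff] at h3
      exact hRne (le_bot_iff.1 (hf ▸ le_inf le_rfl h3))
    refine ⟨hbot, fun v hv hbv => Subgroup.mem_bot.1 (hbot ▸ Subgroup.mem_inf.2 ⟨hv, ?_⟩)⟩
    exact Subgroup.mem_centralizer_iff.2 fun y hy => h.comV b hb hb1 y (hYR hy)
      (Subgroup.mem_centralizer_singleton_iff.1 (Subgroup.mem_inf.1 hy).2).symm v hv hbv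
  by_cases hZ0 : Z = ⊥
  · have hRab : ∀ x ∈ R, ∀ y ∈ R, x * y = y * x := fun x hx y hy =>
      commutatorElement_eq_one_iff_mul_comm.1 (Subgroup.mem_bot.1 (hZ0 ▸ hΦZ (hΦc x hx y hy)))
    exact hne (ward_abelian h hRab (fun x hx => Subgroup.mem_bot.1 (hZ0 ▸ hΦZ (hΦp x hx))) hf hVR ha ha1 hSa
      fun x hx hax => Subgroup.mem_bot.1 (hZ0 ▸ hRaZ x hx hax))
  -- a nontrivial centre part
  have hgZ : ∀ z ∈ Z, g * z = z * g → z = 1 := by
    intro z hz hgz
    by_contra hz1
    exact hv₁1 ((hZfix g hg hg1 ⟨z, hz, hgz, hz1⟩).2 v₁ hv₁ hgv₁)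
  obtain ⟨x, hx, hgx, hxZ⟩ := hRg g hg hga
  obtain ⟨b, hb, hb1, z, hz, hbz, hz1⟩ : ∃ b ∈ A, b ≠ 1 ∧ ∃ z ∈ Z, b * z = z * b ∧ z ≠ 1 := by
    by_contra hcon
    push Not at hcon
    exact hZ0 (le_bot_iff.1 (le_of_noncyclic_centralizers h.not_isCyclic hAZ
      (h.coprime_card_left (h.cAR.coprime_dvd_right (Subgroup.card_dvd_of_le inf_le_left))) fun b hb hb1 z hz =>
        Subgroup.mem_bot.2 (hcon b hb hb1 z (Subgroup.mem_inf.1 hz).1
          (Subgroup.mem_centralizer_singleton_iff.1 (Subgroup.mem_inf.1 hz).2).symm)))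
  have hVZ := (hZfix b hb hb1 ⟨z, hz, hbz, hz1⟩).1
  have hVx : V ≤ V ⊓ Subgroup.centralizer {x} := by
    have hZV : Z ≤ Subgroup.normalizer (V : Set X) := inf_le_left.trans h.hRV
    refine le_of_fpf_average (K := Z) (M := ⊥) hZV (h.hAV hg) (fun _ _ => by
      rw [Subgroup.normalizer_eq_top_iff.2 inferInstance]; trivial)
      (by rw [Subgroup.normalizer_eq_top_iff.2 inferInstance]; trivial)
      (hAZ hg) (h.hexp g hg) hgZ bot_le (fun _ _ => by
        rw [Subgroup.normalizer_eq_top_iff.2 inferInstance]; trivial)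
      (fun u hu w hw => Subgroup.mem_bot.2 (commutatorElement_eq_one_iff_mul_comm.2
        (congrArg Subtype.val (h.hVab.is_comm.comm ⟨u, hu⟩ ⟨w, hw⟩))))
      (h.cRV.coprime_dvd_left (Subgroup.card_dvd_of_le inf_le_left)) h.cAV ?_ bot_le ?_
    · intro v hv hfix
      refine Subgroup.mem_bot.2 (Subgroup.mem_bot.1 (hVZ ▸ Subgroup.mem_inf.2 ⟨hv, ?_⟩))
      refine Subgroup.mem_centralizer_iff.2 fun y hy => ?_
      exact mul_inv_eq_iff_eq_mul.1 (mul_inv_eq_one.1 (Subgroup.mem_bot.1 (hfix y (Subgroup.mem_inf.1 hy).1)))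
    · intro k hk v hv hgv
      refine Subgroup.mem_inf.2 ⟨(Subgroup.mem_normalizer_iff.1 (hZV hk) v).1 hv, ?_⟩
      rw [Subgroup.mem_centralizer_singleton_iff]
      have hxk : Commute x k := (Subgroup.mem_centralizer_iff.1 (hZR hx) k hk).symm
      have hxv : Commute x v := h.comV g hg hg1 x hx hgx v hv hgv
      exact ((hxk.mul_right hxv).mul_right hxk.inv_right).eq.symm
  exact hxZ (by
    have h1 : x ∈ R ⊓ Subgroup.centralizer (V : Set X) := Subgroup.mem_inf.2 ⟨hx,
      Subgroup.mem_centralizer_iff.2 fun v hv =>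
        Subgroup.mem_centralizer_singleton_iff.1 (Subgroup.mem_inf.1 (hVx hv)).2⟩
    change x ∈ R₀ at h1
    rw [hf, Subgroup.mem_bot] at h1
    rw [h1]; exact one_mem _)

/-- Ward's module lemma. -/
theorem ward_module [Fact p.Prime] [Fact r.Prime] {X : Type u} [Group X] [Finite X] {A V R S : Subgroup X}
    (h : WardData p r s A V R S) : ⁅R, S⁆ ≤ Subgroup.centralizer (V : Set X) :=
  ward_aux _ X A V R S le_rfl h

end CfsgLib.Solv
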