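import Cfsg.Agent.Solv.WardAverage
import Cfsg.Agent.Solv.Generation
import Cfsg.Agent.Solv.FittingBasic

/-!
The module step of Ward's theorem: a fixed-point-free four group of operators of exponent `p`.
-/

set_option autoImplicit false
set_option linter.style.haveILetI false
set_option linter.deprecated false

open scoped commutatorElement Pointwise

namespace CfsgLib.Solv

universe u

variable {X : Type u} [Group X]

/-- `A` of order `p ^ 2` acts on `V`, `R`, `S` without common fixed points and fixed points of a nontrivial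
element in `R` commute with those in `V` and in `S`. -/
structure WardPre (p r s : ℕ) (A V R S : Subgroup X) : Prop where
  hr : IsPGroup r R
  hs : IsPGroup s S
  hA : IsMulCommutative A
  hexp : ∀ a ∈ A, a ^ p = 1
  hcard : Nat.card A = p ^ 2
  hAV : A ≤ Subgroup.normalizer (V : Set X)
  hRV : R ≤ Subgroup.normalizer (V : Set X)
  hSV : S ≤ Subgroup.normalizer (V : Set X)
  hAR : A ≤ Subgroup.normalizer (R : Set X)
  hSR : S ≤ Subgroup.normalizer (R : Set X)
  hAS : A ≤ Subgroup.normalizer (S : Set X)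
  cAV : p.Coprime (Nat.card V)
  cAR : p.Coprime (Nat.card R)
  cAS : p.Coprime (Nat.card S)
  cRS : (Nat.card R).Coprime (Nat.card S)
  cRV : (Nat.card R).Coprime (Nat.card V)
  fV : V ⊓ Subgroup.centralizer (A : Set X) = ⊥
  fR : R ⊓ Subgroup.centralizer (A : Set X) = ⊥
  fS : S ⊓ Subgroup.centralizer (A : Set X) = ⊥
  comV : ∀ g ∈ A, g ≠ 1 → ∀ x ∈ R, g * x = x * g → ∀ v ∈ V, g * v = v * g → x * v = v * x
  comS : ∀ g ∈ A, g ≠ 1 → ∀ x ∈ R, g * x = x * g → ∀ y ∈ S, g * y = y * g → x * y = y * x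

/-- The data of the module step, with `V` abelian. -/
structure WardData (p r s : ℕ) (A V R S : Subgroup X) : Prop extends WardPre p r s A V R S where
  hVab : IsMulCommutative V

variable {p r s : ℕ} {A V R S : Subgroup X}

theorem WardData.sub (h : WardData p r s A V R S) {V' R' S' : Subgroup X} (hV : V' ≤ V) (hR : R' ≤ R)
    (hS : S' ≤ S) (hAV' : A ≤ Subgroup.normalizer (V' : Set X)) (hRV' : R' ≤ Subgroup.normalizer (V' : Set X))
    (hSV' : S' ≤ Subgroup.normalizer (V' : Set X)) (hAR' : A ≤ Subgroup.normalizer (R' : Set X))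
    (hSR' : S' ≤ Subgroup.normalizer (R' : Set X)) (hAS' : A ≤ Subgroup.normalizer (S' : Set X)) :
    WardData p r s A V' R' S' where
  hr := h.hr.to_le hR
  hs := h.hs.to_le hS
  hA := h.hA
  hexp := h.hexp
  hcard := h.hcard
  hAV := hAV'
  hRV := hRV'
  hSV := hSV'
  hAR := hAR'
  hSR := hSR'
  hAS := hAS'
  hVab := ⟨⟨fun a b => Subtype.ext (show (a : X) * b = b * a from
    congrArg Subtype.val (h.hVab.is_comm.comm ⟨a, hV a.2⟩ ⟨b, hV b.2⟩))⟩⟩
  cAV := h.cAV.coprime_dvd_right (Subgroup.card_dvd_of_le hV)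
  cAR := h.cAR.coprime_dvd_right (Subgroup.card_dvd_of_le hR)
  cAS := h.cAS.coprime_dvd_right (Subgroup.card_dvd_of_le hS)
  cRS := Nat.Coprime.coprime_dvd_left (Subgroup.card_dvd_of_le hR)
    (h.cRS.coprime_dvd_right (Subgroup.card_dvd_of_le hS))
  cRV := Nat.Coprime.coprime_dvd_left (Subgroup.card_dvd_of_le hR)
    (h.cRV.coprime_dvd_right (Subgroup.card_dvd_of_le hV))
  fV := le_bot_iff.1 ((inf_le_inf_right _ hV).trans h.fV.le)
  fR := le_bot_iff.1 ((inf_le_inf_right _ hR).trans h.fR.le)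
  fS := le_bot_iff.1 ((inf_le_inf_right _ hS).trans h.fS.le)
  comV := fun g hg hg1 x hx hgx v hv => h.comV g hg hg1 x (hR hx) hgx v (hV hv)
  comS := fun g hg hg1 x hx hgx y hy => h.comS g hg hg1 x (hR hx) hgx y (hS hy)

theorem WardPre.coprime_card_left (h : WardPre p r s A V R S) {m : ℕ} (hm : p.Coprime m) :
    (Nat.card A).Coprime m := h.hcard ▸ hm.pow_left 2

/-- Fixed points of a coprime operator group in a homomorphic image come from fixed points. -/
theorem fixed_image [Finite X] {X' : Type*} [Group X'] (f : X →* X') {B K : Subgroup X}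
    (hBK : B ≤ Subgroup.normalizer (K : Set X)) (hcop : (Nat.card B).Coprime (Nat.card K))
    (hs : Group.IsSolvable B) {y : X'} (hy : y ∈ K.map f) (hfix : ∀ b ∈ B, f b * y = y * f b) :
    ∃ k ∈ K ⊓ Subgroup.centralizer (B : Set X), f k = y := by
  obtain ⟨k, hk, rfl⟩ := hy
  obtain ⟨d, hd, hkd⟩ := exists_centralizing_in_coset (D := K ⊓ f.ker) hBK
    (inf_eq_bot_of_coprime_card hcop) inf_le_left
    (le_normalizer_inf_of_le hBK ((Subgroup.normalizer_eq_top_iff.2 (MonoidHom.normal_ker f)).symm ▸ le_top))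
    (hcop.coprime_dvd_right (Subgroup.card_dvd_of_le inf_le_left)) (Or.inl hs) hk (fun b hb => by
      refine Subgroup.mem_inf.2 ⟨?_, ?_⟩
      · simpa [mul_assoc] using
          mul_mem (inv_mem hk) (le_normalizer_iff_forall_conj_mem.1 hBK b hb k hk)
      · rw [MonoidHom.mem_ker, map_mul, map_mul, map_mul, map_inv, map_inv, mul_assoc (f k)⁻¹ (f b),
          hfix b hb]
        group)
  refine ⟨k * d, Subgroup.mem_inf.2 ⟨mul_mem hk (Subgroup.mem_inf.1 hd).1, hkd⟩, ?_⟩
  rw [map_mul, MonoidHom.mem_ker.1 (Subgroup.mem_inf.1 hd).2, mul_one]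

theorem isSolvable_zpowers (g : X) : Group.IsSolvable (Subgroup.zpowers g) :=
  Group.isSolvable_of_comm fun a b => Subtype.ext (by
    obtain ⟨i, hi⟩ := Subgroup.mem_zpowers_iff.1 a.2
    obtain ⟨j, hj⟩ := Subgroup.mem_zpowers_iff.1 b.2
    rw [Subgroup.coe_mul, Subgroup.coe_mul, ← hi, ← hj, ← zpow_add, ← zpow_add, add_comm])

theorem card_map_dvd' {X' : Type*} [Group X'] (f : X →* X') (K : Subgroup X) :
    Nat.card (K.map f) ∣ Nat.card K := Subgroup.card_map_dvd K f

/-- The data pass to a homomorphic image that is faithful on `A`. -/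
theorem WardPre.map [Finite X] [Fact p.Prime] (h : WardPre p r s A V R S) {X' : Type u} [Group X'] (f : X →* X')
    (hf : A ⊓ f.ker = ⊥) : WardPre p r s (A.map f) (V.map f) (R.map f) (S.map f) := by
  have hAs : Group.IsSolvable A := haveI := h.hA; isSolvable_of_isMulCommutative A
  have hcA : Nat.card (A.map f) = p ^ 2 := by
    rw [← h.hcard]
    refine Nat.card_congr (Equiv.ofBijective (f.subgroupMap A) ⟨?_, f.subgroupMap_surjective A⟩).symm
    rw [injective_iff_map_eq_one]
    intro a ha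
    have h1 : (a : X) ∈ A ⊓ f.ker := Subgroup.mem_inf.2 ⟨a.2, congrArg Subtype.val ha⟩
    rw [hf, Subgroup.mem_bot] at h1
    exact Subtype.ext h1
  have hnorm : ∀ {B K : Subgroup X}, B ≤ Subgroup.normalizer (K : Set X) →
      B.map f ≤ Subgroup.normalizer (K.map f : Set X') := fun {B K} hBK => by
    rw [le_normalizer_iff_forall_conj_mem]
    rintro _ ⟨b, hb, rfl⟩ _ ⟨k, hk, rfl⟩
    exact ⟨b * k * b⁻¹, le_normalizer_iff_forall_conj_mem.1 hBK b hb k hk, by simp⟩
  have hfx : ∀ K : Subgroup X, A ≤ Subgroup.normalizer (K : Set X) → p.Coprime (Nat.card K) →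
      K ⊓ Subgroup.centralizer (A : Set X) = ⊥ →
      K.map f ⊓ Subgroup.centralizer (A.map f : Set X') = ⊥ := by
    intro K hAK hc hK
    rw [eq_bot_iff]
    intro y hy
    obtain ⟨k, hk, rfl⟩ := fixed_image f hAK (h.coprime_card_left hc) hAs (Subgroup.mem_inf.1 hy).1
      fun b hb => Subgroup.mem_centralizer_iff.1 (Subgroup.mem_inf.1 hy).2 _ ⟨b, hb, rfl⟩
    rw [hK, Subgroup.mem_bot] at hk
    rw [Subgroup.mem_bot, hk, map_one]
  have hlift : ∀ K : Subgroup X, A ≤ Subgroup.normalizer (K : Set X) → p.Coprime (Nat.card K) →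
      ∀ g ∈ A, ∀ y ∈ K.map f, f g * y = y * f g → ∃ k ∈ K, g * k = k * g ∧ f k = y := by
    intro K hAK hc g hg y hy hgy
    have hle : Subgroup.zpowers g ≤ A := Subgroup.zpowers_le.2 hg
    obtain ⟨k, hk, hky⟩ := fixed_image f (hle.trans hAK)
      ((h.coprime_card_left hc).coprime_dvd_left (Subgroup.card_dvd_of_le hle))
      (isSolvable_zpowers g) hy (fun b hb => by
        obtain ⟨i, rfl⟩ := Subgroup.mem_zpowers_iff.1 hb
        rw [map_zpow]
        exact ((show Commute (f g) y from hgy).zpow_left i).eq)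
    exact ⟨k, (Subgroup.mem_inf.1 hk).1,
      Subgroup.mem_centralizer_iff.1 (Subgroup.mem_inf.1 hk).2 g (Subgroup.mem_zpowers g), hky⟩
  exact {
    hr := h.hr.map f
    hs := h.hs.map f
    hA := ⟨⟨fun a b => by
      obtain ⟨⟨_, a, ha, rfl⟩, ⟨_, b, hb, rfl⟩⟩ := a, b
      exact Subtype.ext (by
        show f a * f b = f b * f a
        rw [← map_mul, ← map_mul]
        exact congrArg f (congrArg Subtype.val (h.hA.is_comm.comm ⟨a, ha⟩ ⟨b, hb⟩)))⟩⟩
    hexp := by rintro _ ⟨a, ha, rfl⟩; rw [← map_pow, h.hexp a ha, map_one]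
    hcard := hcA
    hAV := hnorm h.hAV
    hRV := hnorm h.hRV
    hSV := hnorm h.hSV
    hAR := hnorm h.hAR
    hSR := hnorm h.hSR
    hAS := hnorm h.hAS
    cAV := h.cAV.coprime_dvd_right (card_map_dvd' f V)
    cAR := h.cAR.coprime_dvd_right (card_map_dvd' f R)
    cAS := h.cAS.coprime_dvd_right (card_map_dvd' f S)
    cRS := Nat.Coprime.coprime_dvd_left (card_map_dvd' f R)
      (h.cRS.coprime_dvd_right (card_map_dvd' f S))
    cRV := Nat.Coprime.coprime_dvd_left (card_map_dvd' f R)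
      (h.cRV.coprime_dvd_right (card_map_dvd' f V))
    fV := hfx V h.hAV h.cAV h.fV
    fR := hfx R h.hAR h.cAR h.fR
    fS := hfx S h.hAS h.cAS h.fS
    comV := by
      rintro _ ⟨g, hg, rfl⟩ hg1 y hy hgy w hw hgw
      obtain ⟨x, hx, hgx, rfl⟩ := hlift R h.hAR h.cAR g hg y hy hgy
      obtain ⟨v, hv, hgv, rfl⟩ := hlift V h.hAV h.cAV g hg w hw hgw
      rw [← map_mul, ← map_mul, h.comV g hg (fun e => hg1 (by rw [e, map_one])) x hx hgx v hv hgv]
    comS := by
      rintro _ ⟨g, hg, rfl⟩ hg1 y hy hgy w hw hgw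
      obtain ⟨x, hx, hgx, rfl⟩ := hlift R h.hAR h.cAR g hg y hy hgy
      obtain ⟨v, hv, hgv, rfl⟩ := hlift S h.hAS h.cAS g hg w hw hgw
      rw [← map_mul, ← map_mul, h.comS g hg (fun e => hg1 (by rw [e, map_one])) x hx hgx v hv hgv] }

/-- The abelian data pass to a homomorphic image. -/
theorem WardData.map [Finite X] [Fact p.Prime] (h : WardData p r s A V R S) {X' : Type u} [Group X'] (f : X →* X')
    (hf : A ⊓ f.ker = ⊥) : WardData p r s (A.map f) (V.map f) (R.map f) (S.map f) where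
  toWardPre := h.toWardPre.map f hf
  hVab := ⟨⟨fun a b => by
      obtain ⟨⟨_, a, ha, rfl⟩, ⟨_, b, hb, rfl⟩⟩ := a, b
      exact Subtype.ext (by
        show f a * f b = f b * f a
        rw [← map_mul, ← map_mul]
        exact congrArg f (congrArg Subtype.val (h.hVab.is_comm.comm ⟨a, ha⟩ ⟨b, hb⟩)))⟩⟩

/-- A group of order `p ^ 2` and exponent `p` is generated by two independent elements. -/
theorem WardData.sup_eq [Finite X] [hp : Fact p.Prime] (h : WardData p r s A V R S) {a g : X}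
    (ha : a ∈ A) (ha1 : a ≠ 1) (hg : g ∈ A) (hga : g ∉ Subgroup.zpowers a) :
    Subgroup.zpowers a ⊔ Subgroup.zpowers g = A := by
  have hle : Subgroup.zpowers a ⊔ Subgroup.zpowers g ≤ A :=
    sup_le (Subgroup.zpowers_le.2 ha) (Subgroup.zpowers_le.2 hg)
  refine Subgroup.eq_of_le_of_card_ge hle ?_
  have hd := Subgroup.card_dvd_of_le hle
  rw [h.hcard] at hd
  obtain ⟨i, hi, he⟩ := (Nat.dvd_prime_pow hp.out).1 hd
  have hca : Nat.card (Subgroup.zpowers a) = p := by
    rw [Nat.card_zpowers]; exact orderOf_eq_prime (h.hexp a ha) ha1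
  have hlt : p < p ^ i := by
    rw [← he, ← hca]
    by_contra hge
    push Not at hge
    have := Subgroup.eq_of_le_of_card_ge (le_sup_left : _ ≤ Subgroup.zpowers a ⊔ Subgroup.zpowers g) hge
    exact hga (this ▸ Subgroup.mem_sup_right (Subgroup.mem_zpowers g))
  have h2 : i = 2 := by
    rcases i with _ | _ | i
    · simp at hlt; exact absurd hlt (by have := hp.out.two_le; omega)
    · simp at hlt
    · omega
  rw [h.hcard, he, h2]

theorem WardData.not_isCyclic [Finite X] [hp : Fact p.Prime] (h : WardData p r s A V R S) : ¬ IsCyclic A := by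
  intro hc
  obtain ⟨g, hg⟩ := hc.exists_generator
  have h1 : Nat.card A = orderOf g := (orderOf_eq_card_of_forall_mem_zpowers hg).symm
  have h2 : orderOf g ∣ p := orderOf_dvd_of_pow_eq_one (Subtype.ext (h.hexp g g.2))
  have h3 := Nat.le_of_dvd hp.out.pos h2
  rw [← h1, h.hcard] at h3
  have := hp.out.two_le
  nlinarith

theorem mem_centralizer_sup {a g y : X} (ha : a * y = y * a) (hg : g * y = y * g) :
    y ∈ Subgroup.centralizer ((Subgroup.zpowers a ⊔ Subgroup.zpowers g : Subgroup X) : Set X) := by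
  have hle : Subgroup.zpowers a ⊔ Subgroup.zpowers g ≤ Subgroup.centralizer {y} :=
    sup_le (Subgroup.zpowers_le.2 (Subgroup.mem_centralizer_singleton_iff.2 ha))
      (Subgroup.zpowers_le.2 (Subgroup.mem_centralizer_singleton_iff.2 hg))
  exact Subgroup.mem_centralizer_iff.2 fun z hz => Subgroup.mem_centralizer_singleton_iff.1 (hle hz)

theorem conj_mul_mem_normalizer {A K : Subgroup X} (hA : IsMulCommutative A)
    (hAK : A ≤ Subgroup.normalizer (K : Set X)) (g : X) (hg : g ∈ A) :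
    A ≤ Subgroup.normalizer ((K ⊓ Subgroup.centralizer {g} : Subgroup X) : Set X) := by
  rw [le_normalizer_iff_forall_conj_mem]
  intro a ha x hx
  obtain ⟨hxK, hxg⟩ := Subgroup.mem_inf.1 hx
  refine Subgroup.mem_inf.2 ⟨le_normalizer_iff_forall_conj_mem.1 hAK a ha x hxK, ?_⟩
  rw [Subgroup.mem_centralizer_singleton_iff] at hxg ⊢
  have h1 : Commute a g := congrArg Subtype.val (hA.is_comm.comm ⟨a, ha⟩ ⟨g, hg⟩)
  exact ((h1.mul_left (show Commute x g from hxg)).mul_left h1.inv_left).eq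

/-- The data restrict to a subgroup containing all four groups. -/
theorem WardData.restrict (h : WardData p r s A V R S) {N : Subgroup X} (hA : A ≤ N) (hV : V ≤ N) (hR : R ≤ N)
    (hS : S ≤ N) : WardData p r s (A.subgroupOf N) (V.subgroupOf N) (R.subgroupOf N) (S.subgroupOf N) := by
  have hn : ∀ {B K : Subgroup X}, B ≤ Subgroup.normalizer (K : Set X) →
      B.subgroupOf N ≤ Subgroup.normalizer (K.subgroupOf N : Set ↥N) := fun {B K} hBK => by
    rw [le_normalizer_iff_forall_conj_mem]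
    exact fun b hb k hk => le_normalizer_iff_forall_conj_mem.1 hBK b hb k hk
  have hc : ∀ {K : Subgroup X}, K ≤ N → Nat.card (K.subgroupOf N) = Nat.card K := fun hK => card_subgroupOf hK
  have hfx : ∀ {K : Subgroup X}, K ⊓ Subgroup.centralizer (A : Set X) = ⊥ →
      K.subgroupOf N ⊓ Subgroup.centralizer (A.subgroupOf N : Set ↥N) = ⊥ := fun {K} hK => by
    rw [eq_bot_iff]
    intro x hx
    have h1 : (x : X) ∈ K ⊓ Subgroup.centralizer (A : Set X) :=
      Subgroup.mem_inf.2 ⟨(Subgroup.mem_inf.1 hx).1, Subgroup.mem_centralizer_iff.2 fun a ha =>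
        congrArg Subtype.val (Subgroup.mem_centralizer_iff.1 (Subgroup.mem_inf.1 hx).2 ⟨a, hA ha⟩ ha)⟩
    rw [hK, Subgroup.mem_bot] at h1
    exact Subgroup.mem_bot.2 (Subtype.ext h1)
  exact {
    hr := h.hr.comap_of_injective N.subtype N.subtype_injective
    hs := h.hs.comap_of_injective N.subtype N.subtype_injective
    hA := ⟨⟨fun a b => Subtype.ext (Subtype.ext (show ((a : ↥N) : X) * (b : ↥N) = (b : ↥N) * (a : ↥N) from
      congrArg Subtype.val (h.hA.is_comm.comm ⟨_, a.2⟩ ⟨_, b.2⟩)))⟩⟩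
    hexp := fun a ha => Subtype.ext (by simpa using h.hexp a ha)
    hcard := (hc hA).trans h.hcard
    hAV := hn h.hAV
    hRV := hn h.hRV
    hSV := hn h.hSV
    hAR := hn h.hAR
    hSR := hn h.hSR
    hAS := hn h.hAS
    hVab := ⟨⟨fun a b => Subtype.ext (Subtype.ext (show ((a : ↥N) : X) * (b : ↥N) = (b : ↥N) * (a : ↥N) from
      congrArg Subtype.val (h.hVab.is_comm.comm ⟨_, a.2⟩ ⟨_, b.2⟩)))⟩⟩
    cAV := (hc hV).symm ▸ h.cAV
    cAR := (hc hR).symm ▸ h.cAR
    cAS := (hc hS).symm ▸ h.cAS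
    cRS := (hc hR).symm ▸ (hc hS).symm ▸ h.cRS
    cRV := (hc hR).symm ▸ (hc hV).symm ▸ h.cRV
    fV := hfx h.fV
    fR := hfx h.fR
    fS := hfx h.fS
    comV := fun g hg hg1 x hx hgx v hv hgv => Subtype.ext (h.comV g hg (fun e => hg1 (Subtype.ext e)) x hx
      (congrArg Subtype.val hgx) v hv (congrArg Subtype.val hgv))
    comS := fun g hg hg1 x hx hgx v hv hgv => Subtype.ext (h.comS g hg (fun e => hg1 (Subtype.ext e)) x hx
      (congrArg Subtype.val hgx) v hv (congrArg Subtype.val hgv)) }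

theorem le_normalizer_centralizer {N K : Subgroup X} (h : N ≤ Subgroup.normalizer (K : Set X)) :
    N ≤ Subgroup.normalizer (Subgroup.centralizer (K : Set X) : Set X) := by
  rw [le_normalizer_iff_forall_conj_mem]
  intro n hn c hc
  rw [Subgroup.mem_centralizer_iff]
  intro k hk
  have h1 : Commute (n⁻¹ * k * n) c := Subgroup.mem_centralizer_iff.1 hc _
    (by simpa using le_normalizer_iff_forall_conj_mem.1 h n⁻¹ (inv_mem hn) k hk)
  calc k * (n * c * n⁻¹) = n * ((n⁻¹ * k * n) * c) * n⁻¹ := by group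
    _ = n * (c * (n⁻¹ * k * n)) * n⁻¹ := by rw [h1.eq]
    _ = n * c * n⁻¹ * k := by group

theorem le_normalizer_commutator {N H K : Subgroup X} (hH : N ≤ Subgroup.normalizer (H : Set X))
    (hK : N ≤ Subgroup.normalizer (K : Set X)) : N ≤ Subgroup.normalizer ((⁅H, K⁆ : Subgroup X) : Set X) := by
  rw [le_normalizer_iff_forall_conj_mem]
  intro n hn c hc
  have hle : ⁅H, K⁆ ≤ (⁅H, K⁆).comap (MulAut.conj n).toMonoidHom := by
    rw [Subgroup.commutator_le]
    intro x hx y hy
    show n * ⁅x, y⁆ * n⁻¹ ∈ ⁅H, K⁆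
    rw [conjugate_commutatorElement]
    exact Subgroup.commutator_mem_commutator (le_normalizer_iff_forall_conj_mem.1 hH n hn x hx)
      (le_normalizer_iff_forall_conj_mem.1 hK n hn y hy)
  exact hle hc

/-- A nontrivial `r`-group is properly larger than its Frattini subgroup, which contains all commutators
and `r`-th powers and is invariant under normalizing elements. -/
theorem exists_frattini_part [Finite X] {r : ℕ} [Fact r.Prime] {R : Subgroup X} (hR : IsPGroup r R)
    (hne : R ≠ ⊥) : ∃ Φ : Subgroup X, Φ < R ∧ (∀ x ∈ R, ∀ y ∈ R, ⁅x, y⁆ ∈ Φ) ∧ (∀ x ∈ R, x ^ r ∈ Φ) ∧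
      Subgroup.normalizer (R : Set X) ≤ Subgroup.normalizer (Φ : Set X) := by
  haveI : Nontrivial R := (Subgroup.nontrivial_iff_ne_bot R).2 hne
  refine ⟨(frattini R).map R.subtype, lt_of_le_of_ne (Subgroup.map_subtype_le _) fun e => ?_,
    fun x hx y hy => ⟨⁅⟨x, hx⟩, ⟨y, hy⟩⁆, commutator_le_frattini hR
      (Subgroup.commutator_mem_commutator (Subgroup.mem_top _) (Subgroup.mem_top _)), rfl⟩,
    fun x hx => ⟨⟨x, hx⟩ ^ r, pow_mem_frattini hR _, rfl⟩, ?_⟩
  · have htop : frattini R = ⊤ := Subgroup.map_injective R.subtype_injective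
      (e.trans ((MonoidHom.range_eq_map R.subtype).symm.trans R.range_subtype).symm)
    obtain ⟨M, hM⟩ : ∃ M : Subgroup R, IsCoatom M := by
      obtain ⟨M, hM, -⟩ := (eq_top_or_exists_le_coatom (⊥ : Subgroup R)).resolve_left bot_ne_top
      exact ⟨M, hM⟩
    exact hM.1 (eq_top_iff.2 (htop ▸ frattini_le_coatom hM))
  · intro n hn
    refine Subgroup.mem_normalizer_fintype ?_
    rintro _ ⟨z, hz, rfl⟩
    let e : ↥R ≃* ↥R := (Subgroup.equivSMul (MulAut.conj n) R).trans
      (MulEquiv.subgroupCongr (conj_smul_eq_self_of_mem_normalizer hn))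
    have hc : (frattini R).map e.toMonoidHom = frattini R :=
      (Subgroup.characteristic_iff_map_eq.1 inferInstance) e
    exact ⟨e z, hc ▸ Subgroup.mem_map_of_mem _ hz, rfl⟩

end CfsgLib.Solv
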