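import Cfsg.Agent.Solv.WielandtLocal
import Cfsg.Agent.Perm.MinClass

/-!
Wielandt's theorem: no simple group is the product of two nilpotent groups of coprime orders, each
with at least two prime divisors.
-/

set_option autoImplicit false
set_option linter.style.haveILetI false
set_option linter.deprecated false
set_option linter.unusedSectionVars false

open scoped Pointwise

namespace CfsgLib.Solv

variable {G : Type*} [Group G]

theorem IsFactorized.symm {A B K : Subgroup G} (h : IsFactorized A B K) : IsFactorized B A K := by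
  intro g hg
  obtain ⟨a, ha, b, hb, e⟩ := h g⁻¹ (inv_mem hg)
  exact ⟨b⁻¹, inv_mem hb, a⁻¹, inv_mem ha, by rw [← mul_inv_rev, ← e, inv_inv]⟩

/-- The configuration of a minimal counterexample. -/
structure WHyp (A B : Subgroup G) : Prop where
  fac : IsFactorization A B
  cop : (Nat.card A).Coprime (Nat.card B)
  nilA : Group.IsNilpotent A
  nilB : Group.IsNilpotent B
  twoA : ∀ r : ℕ, ∃ s : ℕ, s.Prime ∧ s ∣ Nat.card A ∧ s ≠ r
  twoB : ∀ r : ℕ, ∃ s : ℕ, s.Prime ∧ s ∣ Nat.card B ∧ s ≠ r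
  simp_ : ∀ N : Subgroup G, N.Normal → N = ⊥ ∨ N = ⊤
  solv : ∀ K : Subgroup G, K ≠ ⊤ → IsFactorized A B K → Group.IsSolvable K

/-- A central element of prime order of `A`. -/
def Zel (A : Subgroup G) (s : ℕ) (z : G) : Prop :=
  z ∈ A ∧ s.Prime ∧ orderOf z = s ∧ ∀ a ∈ A, a * z = z * a

namespace WHyp

variable [Finite G] {A B : Subgroup G}

theorem symm (h : WHyp A B) : WHyp B A :=
  ⟨h.fac.symm, h.cop.symm, h.nilB, h.nilA, h.twoB, h.twoA, h.simp_,
    fun K hK hK' => h.solv K hK hK'.symm⟩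

theorem disj (h : WHyp A B) : A ⊓ B = ⊥ := Subgroup.inf_eq_bot_of_coprime h.cop

theorem indexA (h : WHyp A B) : A.index = Nat.card B :=
  Nat.eq_of_mul_eq_mul_left Nat.card_pos
    ((Subgroup.card_mul_index A).trans (h.fac.card_mul h.disj).symm)

theorem hallA (h : WHyp A B) : (Nat.card A).Coprime A.index := h.indexA ▸ h.cop

theorem neA (h : WHyp A B) : A ≠ ⊥ := fun e => by
  obtain ⟨s, hs, hd, -⟩ := h.twoA 0
  rw [e, Subgroup.card_bot] at hd
  exact hs.not_dvd_one hd

theorem neA_top (h : WHyp A B) : A ≠ ⊤ := fun e => by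
  have h1 := h.indexA
  rw [e, Subgroup.index_top] at h1
  exact h.symm.neA (Subgroup.eq_bot_of_card_eq B h1.symm)

theorem not_dvd (h : WHyp A B) {q : ℕ} (hq : q.Prime) (h1 : q ∣ Nat.card A) : ¬ q ∣ Nat.card B :=
  fun h2 => hq.ne_one (Nat.eq_one_of_dvd_coprimes h.cop h1 h2)

theorem false_of_conj (h : WHyp A B) {x : G} {H : Subgroup G} (hx : x ≠ 1) (hH : H ≠ ⊤)
    (hc : ∀ g : G, g * x * g⁻¹ ∈ H) : False := by
  have hle : Subgroup.normalClosure ({x} : Set G) ≤ H := by
    refine (Subgroup.closure_le _).2 fun z hz => ?_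
    obtain ⟨b, hb, hbz⟩ := Group.mem_conjugatesOfSet_iff.1 hz
    obtain ⟨g, rfl⟩ := isConj_iff.1 hbz
    rw [Set.mem_singleton_iff.1 hb]
    exact hc g
  rcases h.simp_ (Subgroup.normalClosure ({x} : Set G)) inferInstance with e | e
  · exact hx (Subgroup.mem_bot.1 (e ▸ Subgroup.subset_normalClosure (Set.mem_singleton x)))
  · exact hH (top_unique (e.ge.trans hle))

theorem normalizer_ne_top (h : WHyp A B) {W : Subgroup G} (h1 : W ≠ ⊥) (h2 : W ≠ ⊤) :
    Subgroup.normalizer (W : Set G) ≠ ⊤ := fun e =>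
  (h.simp_ W (Subgroup.normalizer_eq_top_iff.1 e)).elim h1 h2

theorem centralizer_ne_top (h : WHyp A B) {x : G} (hx : x ≠ 1) :
    Subgroup.centralizer ({x} : Set G) ≠ ⊤ := fun e =>
  h.false_of_conj hx h.neA_top fun g => absurd h.neA (fun _ => by
    have hz : x ∈ Subgroup.center G := Subgroup.mem_center_iff.2 fun y =>
      (Subgroup.mem_centralizer_iff.1 (e.ge (Subgroup.mem_top y)) x rfl).symm
    rcases h.simp_ (Subgroup.center G) inferInstance with e' | e'
    · exact hx (Subgroup.mem_bot.1 (e' ▸ hz))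
    · have hAn : A.Normal := ⟨fun a ha y => by
        rw [Subgroup.mem_center_iff.1 (e'.ge (Subgroup.mem_top a)) y, mul_inv_cancel_right]; exact ha⟩
      exact (h.simp_ A hAn).elim h.neA h.neA_top)

/-- The normal Sylow subgroup of `A`. -/
theorem exists_sylowA (h : WHyp A B) {s : ℕ} [Fact s.Prime] (hs : s ∣ Nat.card A) :
    ∃ P : Sylow s G, (P : Subgroup G) ≤ A ∧ A ≤ Subgroup.normalizer ((P : Subgroup G) : Set G) ∧
      (∀ x ∈ A, (orderOf x).Coprime s → x ∈ Subgroup.centralizer ((P : Subgroup G) : Set G)) ∧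
      ∀ x ∈ A, ∀ k : ℕ, x ^ s ^ k = 1 → x ∈ (P : Subgroup G) := by
  obtain ⟨P, hP, hPA⟩ := exists_sylow_le_nilpotent_hall h.nilA h.hallA (p := s) hs
  refine ⟨P, hP, fun x hx => (hPA x hx).1, fun x hx => (hPA x hx).2, fun x hx k hxk => ?_⟩
  set L := Subgroup.normalizer ((P : Subgroup G) : Set G)
  haveI : ((P : Subgroup G).subgroupOf L).Normal := Subgroup.normal_in_normalizer
  haveI := (P.subtype Subgroup.le_normalizer : Sylow s L).unique_of_normal
    (by rw [Sylow.coe_subtype]; infer_instance)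
  obtain ⟨i, -, hi⟩ := (Nat.dvd_prime_pow (Fact.out : s.Prime)).1 (orderOf_dvd_of_pow_eq_one hxk)
  have hX : IsPGroup s (Subgroup.zpowers (⟨x, (hPA x hx).1⟩ : L)) :=
    IsPGroup.of_card (n := i) (by rw [Nat.card_zpowers, Subgroup.orderOf_mk, hi])
  obtain ⟨Q, hQ⟩ := hX.exists_le_sylow
  rw [Subsingleton.elim Q (P.subtype Subgroup.le_normalizer)] at hQ
  exact hQ (Subgroup.mem_zpowers _)

theorem sylow_pair_false (h : WHyp A B) {s t : ℕ} [Fact s.Prime] [Fact t.Prime]
    (hs : s ∣ Nat.card A) (ht : t ∣ Nat.card B) {P : Sylow s G} {Q : Sylow t G}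
    (hP : (P : Subgroup G) ≤ A) (hPn : A ≤ Subgroup.normalizer ((P : Subgroup G) : Set G))
    (hQ : (Q : Subgroup G) ≤ B) (hQn : B ≤ Subgroup.normalizer ((Q : Subgroup G) : Set G))
    {S : Subgroup G} (hS : S ≠ ⊤) {g k : G} (hg : ∀ x ∈ (P : Subgroup G), g * x * g⁻¹ ∈ S)
    (hk : ∀ x ∈ (Q : Subgroup G), k * x * k⁻¹ ∈ S) : False := by
  obtain ⟨u, hu1, hu2⟩ := isFactorization_conj_eq h.fac
    (le_normalizer_iff_forall_conj_mem.1 hPn) (le_normalizer_iff_forall_conj_mem.1 hQn) hg hk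
  have hPb : (P : Subgroup G) ≠ ⊥ := P.ne_bot_of_dvd_card (hs.trans (Subgroup.card_subgroup_dvd_card A))
  have hQb : (Q : Subgroup G) ≠ ⊥ := Q.ne_bot_of_dvd_card (ht.trans (Subgroup.card_subgroup_dvd_card B))
  set X := (P : Subgroup G) ⊔ (Q : Subgroup G)
  have hXt : X ≠ ⊤ := by
    intro e
    have hle : X ≤ MulAut.conj u⁻¹ • S := sup_le
      (fun x hx => mem_conj_smul_iff.2 (by simpa using hu1 x hx))
      (fun x hx => mem_conj_smul_iff.2 (by simpa using hu2 x hx))
    rw [e, top_le_iff] at hle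
    refine hS (Subgroup.eq_top_of_card_eq _ ?_)
    rw [← card_conj_smul u⁻¹ S, hle, Subgroup.card_top]
  set K := Subgroup.normalizer (X : Set G)
  have hXb : X ≠ ⊥ := fun e => hPb (le_bot_iff.1 (le_sup_left.trans e.le))
  have hKt : K ≠ ⊤ := h.normalizer_ne_top hXb hXt
  have hKf := isFactorized_normalizer h.fac hPn hQn
  haveI := h.solv K hKt hKf
  have hPK : (P : Subgroup G) ≤ K := le_sup_left.trans Subgroup.le_normalizer
  have hQK : (Q : Subgroup G) ≤ K := le_sup_right.trans Subgroup.le_normalizer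
  have hsub : ∀ {r : ℕ} [Fact r.Prime] (R : Sylow r G), (R : Subgroup G) ≤ K →
      (Nat.card ((R : Subgroup G).subgroupOf K)).Coprime ((R : Subgroup G).subgroupOf K).index := by
    intro r _ R hR
    rw [card_subgroupOf hR]
    exact (abelian_sylow_coprime R).coprime_dvd_right (Subgroup.relIndex_dvd_index_of_le hR)
  have hnorm : ∀ {H N : Subgroup G}, H ≤ Subgroup.normalizer (N : Set G) →
      H.subgroupOf K ≤ Subgroup.normalizer ((N.subgroupOf K : Subgroup K) : Set K) := by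
    intro H N hHN
    refine le_normalizer_iff_forall_conj_mem.2 fun a ha x hx => ?_
    exact le_normalizer_iff_forall_conj_mem.1 hHN (a : G) ha (x : G) hx
  obtain ⟨T, -, -, hT, -⟩ := hall_factor_permutes hKf.toFactorization (hnorm hPn) (hnorm hQn)
    (hsub P hPK) (hsub Q hQK)
  have hT' : ((T.map K.subtype : Subgroup G) : Set G) =
      ((P : Subgroup G) : Set G) * ((Q : Subgroup G) : Set G) := by
    rw [Subgroup.coe_map, hT]
    ext x
    constructor
    · rintro ⟨_, ⟨a, ha, b, hb, rfl⟩, rfl⟩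
      exact ⟨(a : G), ha, (b : G), hb, rfl⟩
    · rintro ⟨a, ha, b, hb, rfl⟩
      exact ⟨_, ⟨⟨a, hPK ha⟩, ha, ⟨b, hQK hb⟩, hb, rfl⟩, rfl⟩
  obtain ⟨N, hN, hNt, hle⟩ := kegel hPb hQb fun x => by
    obtain ⟨a, ha, b, hb, rfl⟩ := h.fac x
    refine ⟨MulAut.conj a • T.map K.subtype, fun e => hKt (top_unique ?_), ?_⟩
    · have h1 : T.map K.subtype = ⊤ := Subgroup.eq_top_of_card_eq _ (by
        rw [← card_conj_smul a (T.map K.subtype), e, Subgroup.card_top])
      exact h1.ge.trans (Subgroup.map_subtype_le T)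
    · rw [Subgroup.coe_pointwise_smul, hT', smul_mul', map_mul, mul_smul,
        conj_smul_eq_self_of_mem_normalizer (hQn hb), ← Subgroup.coe_pointwise_smul,
        ← Subgroup.coe_pointwise_smul, conj_smul_eq_self_of_mem_normalizer (hPn ha)]
  rcases h.simp_ N hN with e | e
  · rcases hle with hle | hle
    · exact hPb (le_bot_iff.1 (hle.trans e.le))
    · exact hQb (le_bot_iff.1 (hle.trans e.le))
  · exact hNt e

theorem le_conj_B (h : WHyp A B) {W : Subgroup G} (hW : (Nat.card W).Coprime (Nat.card A)) :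
    ∃ g : G, ∀ x ∈ W, g * x * g⁻¹ ∈ B := by
  obtain ⟨g, hg⟩ := wielandt_nilpotent_hall_aux h.nilB h.symm.hallA _ W rfl fun p hp hd => by
    have h1 : p ∣ Nat.card A * Nat.card B :=
      (h.fac.card_mul h.disj).symm ▸ hd.trans (Subgroup.card_subgroup_dvd_card W)
    exact (hp.dvd_mul.1 h1).resolve_left fun h2 => hp.ne_one (Nat.eq_one_of_dvd_coprimes hW hd h2)
  exact ⟨g⁻¹, fun x hx => by simpa using mem_conj_smul_iff.1 (hg hx)⟩

/-- A `q`-subgroup (`q ∣ |B|`) is centralised by a conjugate of each other Sylow subgroup of `B`. -/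
theorem exists_conj_centralizing (h : WHyp A B) {q t : ℕ} [Fact q.Prime] [Fact t.Prime]
    (hqt : q ≠ t) (hqB : q ∣ Nat.card B) {W : Subgroup G} (hW : IsPGroup q W) (ht : t ∣ Nat.card B) :
    ∃ Q : Sylow t G, (Q : Subgroup G) ≤ B ∧ B ≤ Subgroup.normalizer ((Q : Subgroup G) : Set G) ∧
      ∃ k : G, ∀ x ∈ (Q : Subgroup G), k * x * k⁻¹ ∈ Subgroup.centralizer (W : Set G) := by
  obtain ⟨Q, hQ, hQn, hQc, -⟩ := h.symm.exists_sylowA (s := t) ht
  obtain ⟨n, hn⟩ := IsPGroup.iff_card.1 hW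
  obtain ⟨g, hg⟩ := h.le_conj_B (W := W) (by
    rw [hn]
    exact ((Fact.out : q.Prime).coprime_iff_not_dvd.2 (h.symm.not_dvd Fact.out hqB)).pow_left n)
  refine ⟨Q, hQ, hQn, g⁻¹, fun x hx => Subgroup.mem_centralizer_iff.2 fun w hw => ?_⟩
  obtain ⟨j, hj⟩ := hW ⟨w, hw⟩
  have hwj : w ^ q ^ j = 1 := by simpa using congrArg Subtype.val hj
  have hc := hQc _ (hg w hw) (Nat.Coprime.coprime_dvd_left
    (orderOf_dvd_of_pow_eq_one (show (g * w * g⁻¹) ^ q ^ j = 1 by rw [conj_pow, hwj, mul_one, mul_inv_cancel]))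
    (((Nat.coprime_primes (Fact.out : q.Prime) (Fact.out : t.Prime)).2 hqt).pow_left j))
  have h1 := Subgroup.mem_centralizer_iff.1 hc x hx
  calc w * (g⁻¹ * x * g⁻¹⁻¹) = g⁻¹ * ((g * w * g⁻¹) * x) * g := by group
    _ = g⁻¹ * (x * (g * w * g⁻¹)) * g := by rw [h1]
    _ = g⁻¹ * x * g⁻¹⁻¹ * w := by group

theorem le_normalizerA (h : WHyp A B) {H : Subgroup G} (hAH : A ≤ H) (hH : H ≠ ⊤) :
    H ≤ Subgroup.normalizer (A : Set G) := by
  haveI := h.solv H hH (isFactorized_of_le h.fac hAH)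
  set A' := A.subgroupOf H with hA'
  have hA'c : Nat.card A' = Nat.card A := card_subgroupOf hAH
  have hcore : ∀ q : ℕ, q.Prime → ¬ q ∣ Nat.card A' → Cfsg.pCore q H = ⊥ := by
    intro q hq hqA
    rw [hA'c] at hqA
    haveI := Fact.mk hq
    haveI := pCore_normal H q
    by_contra hne
    obtain ⟨⟨x, hxH⟩, hx, hx1⟩ := (Subgroup.bot_or_exists_ne_one _).resolve_left hne
    have hqH : q ∣ Nat.card (Cfsg.pCore q H) := by
      obtain ⟨j, hj⟩ := IsPGroup.iff_card.1 (pCore_isPGroup H q)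
      have hj0 : j ≠ 0 := fun e => hne (Subgroup.eq_bot_of_card_eq _ (by rw [hj, e, pow_zero]))
      exact (dvd_pow_self q hj0).trans hj.symm.dvd
    have hqB : q ∣ Nat.card B := by
      have h1 : q ∣ Nat.card A * Nat.card B := (h.fac.card_mul h.disj).symm ▸
        (hqH.trans (Subgroup.card_subgroup_dvd_card _)).trans (Subgroup.card_subgroup_dvd_card H)
      exact (hq.dvd_mul.1 h1).resolve_left hqA
    obtain ⟨P, hP, hPn, -, hPm⟩ := h.symm.exists_sylowA (s := q) hqB
    obtain ⟨Q, hQ⟩ := ((pCore_isPGroup H q).map H.subtype).exists_le_sylow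
    obtain ⟨k, hk⟩ := MulAction.exists_smul_eq G P Q
    obtain ⟨a, ha, b, hb, rfl⟩ := h.fac k
    -- all of `O_q(H)` lies in `P`
    have hle : ∀ y : H, y ∈ Cfsg.pCore q H → (y : G) ∈ (P : Subgroup G) := by
      intro y hy
      have h1 : (a : G) * y * a⁻¹ ∈ (Q : Subgroup G) :=
        hQ ⟨⟨a, hAH ha⟩ * y * (⟨a, hAH ha⟩ : H)⁻¹, Subgroup.Normal.conj_mem inferInstance y hy _, rfl⟩
      rw [← hk, Sylow.coe_subgroup_smul, mem_conj_smul_iff] at h1
      have h2 := le_normalizer_iff_forall_conj_mem.1 hPn b hb _ h1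
      simpa [mul_assoc] using h2
    refine h.false_of_conj (x := x) (fun e => hx1 (Subtype.ext e))
      (fun e => h.symm.neA_top (top_unique (e.ge.trans hP))) fun g => ?_
    obtain ⟨b', hb', a', ha', rfl⟩ := h.symm.fac g
    have h3 := hle _ (Subgroup.Normal.conj_mem inferInstance (⟨x, hxH⟩ : H) hx ⟨a', hAH ha'⟩)
    have h4 := le_normalizer_iff_forall_conj_mem.1 hPn b' hb' _ h3
    simpa [mul_assoc] using h4
  rcases hall_normal_or_centralized A'
      (haveI := h.nilA; Group.nilpotent_of_mulEquiv (Subgroup.subgroupOfEquivOfLe hAH).symm)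
      (hA'c ▸ h.hallA.coprime_dvd_right (Subgroup.relIndex_dvd_index_of_le hAH)) (hA'c ▸ h.twoA) hcore with
    hn | ⟨s, q, hs, hq, hsA, hqA, e, he1, ⟨j, hj⟩, hc⟩
  · exact Subgroup.normal_subgroupOf_iff_le_normalizer hAH |>.1 hn
  · exfalso
    rw [hA'c] at hsA hqA
    haveI := Fact.mk hs; haveI := Fact.mk hq
    obtain ⟨P, hP, hPn, -, -⟩ := h.exists_sylowA hsA
    have he1' : (e : G) ≠ 1 := fun h' => he1 (Subtype.ext h')
    have hej : orderOf (e : G) = q ^ j := by rw [Subgroup.orderOf_coe, hj]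
    have hW : IsPGroup q (Subgroup.zpowers (e : G)) := IsPGroup.of_card (n := j) (by rw [Nat.card_zpowers, hej])
    have hqB : q ∣ Nat.card B := by
      have hj0 : j ≠ 0 := fun h0 => he1' (orderOf_eq_one_iff.1 (by rw [hej, h0, pow_zero]))
      have h1 : q ∣ Nat.card A * Nat.card B := (h.fac.card_mul h.disj).symm ▸
        ((dvd_pow_self q hj0).trans hej.symm.dvd).trans (orderOf_dvd_natCard _)
      exact (hq.dvd_mul.1 h1).resolve_left hqA
    obtain ⟨t, ht, htB, htq⟩ := h.twoB q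
    haveI := Fact.mk ht
    obtain ⟨Q, hQ, hQn, k, hk⟩ := h.exists_conj_centralizing (Ne.symm htq) hqB hW htB
    refine h.sylow_pair_false hsA htB hP hPn hQ hQn (h.centralizer_ne_top he1') (g := 1) (k := k)
      (fun x hx => ?_) fun x hx => ?_
    · obtain ⟨i, hi⟩ := IsPGroup.iff_orderOf.1 P.2 ⟨x, hx⟩
      rw [Subgroup.orderOf_mk] at hi
      have h1 := congrArg Subtype.val (hc ⟨x, hAH (hP hx)⟩ (hP hx) ⟨i, by rw [Subgroup.orderOf_mk, hi]⟩)
      rw [one_mul, inv_one, mul_one, Subgroup.mem_centralizer_iff]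
      rintro y rfl
      exact h1
    · rw [Subgroup.mem_centralizer_iff]
      rintro y rfl
      exact Subgroup.mem_centralizer_iff.1 (hk x hx) _ (Subgroup.mem_zpowers _)

theorem normA_ne_top (h : WHyp A B) : Subgroup.normalizer (A : Set G) ≠ ⊤ :=
  h.normalizer_ne_top h.neA h.neA_top

theorem mem_of_normalizer (h : WHyp A B) {x : G} (hx : x ∈ Subgroup.normalizer (A : Set G))
    (hco : (orderOf x).Coprime (Nat.card B)) : x ∈ A := by
  set L := Subgroup.normalizer (A : Set G)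
  haveI : (A.subgroupOf L).Normal := Subgroup.normal_in_normalizer
  refine (QuotientGroup.eq_one_iff (⟨x, hx⟩ : L) (N := A.subgroupOf L)).1
    (orderOf_eq_one_iff.1 (Nat.eq_one_of_dvd_coprimes hco ?_ ?_))
  · exact (orderOf_map_dvd (QuotientGroup.mk' (A.subgroupOf L)) (⟨x, hx⟩ : L)).trans
      (dvd_of_eq (Subgroup.orderOf_mk x hx))
  · rw [← h.indexA]
    exact (orderOf_dvd_natCard _).trans (Subgroup.relIndex_dvd_index_of_le Subgroup.le_normalizer)

theorem coprime_of_memA (h : WHyp A B) {x : G} (hx : x ∈ A) : (orderOf x).Coprime (Nat.card B) :=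
  h.cop.coprime_dvd_left (Subgroup.orderOf_dvd_natCard A hx)

theorem conjA_mem (h : WHyp A B) {x g : G} (hx : x ∈ A)
    (hg : g * x * g⁻¹ ∈ Subgroup.normalizer (A : Set G)) : g * x * g⁻¹ ∈ A :=
  h.mem_of_normalizer hg (by rw [← MulAut.conj_apply, MulEquiv.orderOf_eq]; exact h.coprime_of_memA hx)

theorem exists_zel (h : WHyp A B) {s : ℕ} [hs : Fact s.Prime] (hsA : s ∣ Nat.card A) :
    ∃ z, Zel A s z := by
  obtain ⟨P, hP, -, hPc, hPm⟩ := h.exists_sylowA hsA
  have hPb : (P : Subgroup G) ≠ ⊥ := P.ne_bot_of_dvd_card (hsA.trans (Subgroup.card_subgroup_dvd_card A))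
  haveI : Nontrivial (P : Subgroup G) := (Subgroup.nontrivial_iff_ne_bot _).2 hPb
  have hZ : Subgroup.center (P : Subgroup G) ≠ ⊥ :=
    (Subgroup.nontrivial_iff_ne_bot _).1 P.2.center_nontrivial
  obtain ⟨n, hn⟩ := IsPGroup.iff_card.1 (P.2.to_subgroup (Subgroup.center (P : Subgroup G)))
  have hn0 : n ≠ 0 := fun e => hZ (Subgroup.eq_bot_of_card_eq _ (by rw [hn, e, pow_zero]))
  obtain ⟨⟨⟨z, hz⟩, hzc⟩, hzo⟩ := exists_prime_orderOf_dvd_card' s
    ((dvd_pow_self s hn0).trans hn.symm.dvd)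
  rw [Subgroup.orderOf_mk, Subgroup.orderOf_mk] at hzo
  refine ⟨z, hP hz, hs.out, hzo, fun a ha => ?_⟩
  have : A ≤ Subgroup.centralizer ({z} : Set G) := by
    refine le_of_forall_prime_power fun r hr _ y hy ⟨j, hj⟩ => ?_
    rw [Subgroup.mem_centralizer_iff]
    rintro w rfl
    by_cases e : r = s
    · subst e
      exact (congrArg Subtype.val (Subgroup.mem_center_iff.1 hzc
        ⟨y, hPm y hy j (hj ▸ pow_orderOf_eq_one y)⟩)).symm
    · exact Subgroup.mem_centralizer_iff.1 (hPc y hy (by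
        rw [hj]; exact ((Nat.coprime_primes hr hs.out).2 e).pow_left j)) w hz
  exact (Subgroup.mem_centralizer_iff.1 (this ha) z rfl).symm

theorem zel_ne_one {s : ℕ} {z : G} (hz : Zel A s z) : z ≠ 1 := fun e => by
  have := hz.2.2.1
  rw [e, orderOf_one] at this
  exact hz.2.1.ne_one this.symm

theorem zel_dvd {s : ℕ} {z : G} (hz : Zel A s z) : s ∣ Nat.card A :=
  hz.2.2.1 ▸ Subgroup.orderOf_dvd_natCard A hz.1

theorem isolation (h : WHyp A B) {s : ℕ} {z g : G} (hz : Zel A s z) (hg : g * z * g⁻¹ ∈ A) :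
    g ∈ Subgroup.normalizer (A : Set G) := by
  obtain ⟨r, hr, hrA, hrs⟩ := h.twoA s
  haveI := Fact.mk hr
  obtain ⟨P, hP, hPn, hPc, hPm⟩ := h.exists_sylowA hrA
  have hCz : Subgroup.centralizer ({z} : Set G) ≤ Subgroup.normalizer (A : Set G) :=
    h.le_normalizerA (fun a ha => Subgroup.mem_centralizer_iff.2 (by
      rintro y rfl; exact (hz.2.2.2 a ha).symm)) (h.centralizer_ne_top (zel_ne_one hz))
  have hmem : ∀ x ∈ (P : Subgroup G), g⁻¹ * x * g ∈ (P : Subgroup G) := by
    intro x hx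
    have h1 : g * z * g⁻¹ ∈ Subgroup.centralizer ((P : Subgroup G) : Set G) := hPc _ hg (by
      rw [← MulAut.conj_apply, MulEquiv.orderOf_eq, hz.2.2.1]
      exact (Nat.coprime_primes hz.2.1 hr).2 hrs.symm)
    have h2 := Subgroup.mem_centralizer_iff.1 h1 x hx
    have h3 : g⁻¹ * x * g ∈ Subgroup.centralizer ({z} : Set G) := by
      rw [Subgroup.mem_centralizer_iff]
      rintro y rfl
      calc y * (g⁻¹ * x * g) = g⁻¹ * ((g * y * g⁻¹) * x) * g := by group
        _ = g⁻¹ * (x * (g * y * g⁻¹)) * g := by rw [h2]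
        _ = g⁻¹ * x * g * y := by group
    have h4 : g⁻¹ * x * g ∈ A := by
      have := h.conjA_mem (g := g⁻¹) (hP hx) (by rw [inv_inv]; exact hCz h3)
      rwa [inv_inv] at this
    obtain ⟨k, hk⟩ := P.2 ⟨x, hx⟩
    have hxk : x ^ r ^ k = 1 := by simpa using congrArg Subtype.val hk
    refine hPm _ h4 k ?_
    have h5 := conj_pow (a := g⁻¹) (b := x) (i := r ^ k)
    rw [inv_inv, hxk, mul_one, inv_mul_cancel] at h5
    exact h5
  have hPne : (P : Subgroup G) ≠ ⊥ := P.ne_bot_of_dvd_card (hrA.trans (Subgroup.card_subgroup_dvd_card A))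
  have hPt : (P : Subgroup G) ≠ ⊤ := fun e => h.neA_top (top_unique (e.ge.trans hP))
  refine h.le_normalizerA hPn (h.normalizer_ne_top hPne hPt) ?_
  refine mem_normalizer_of_conj_smul_eq (Subgroup.eq_of_le_of_card_ge (fun x hx => ?_) ?_).symm |> fun h1 => h1
  · rw [mem_conj_smul_iff]; exact hmem x hx
  · rw [card_conj_smul]

theorem zel_not_mem (h : WHyp A B) {s : ℕ} {z : G} (hz : Zel A s z) :
    z ∉ Subgroup.normalizer (B : Set G) := fun hzB => by
  refine h.false_of_conj (zel_ne_one hz) h.symm.normA_ne_top fun g => ?_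
  obtain ⟨b, hb, a, ha, rfl⟩ := h.symm.fac g
  rw [show b * a * z * (b * a)⁻¹ = b * (a * z * a⁻¹) * b⁻¹ by group,
    show a * z * a⁻¹ = z by rw [hz.2.2.2 a ha, mul_inv_cancel_right]]
  exact mul_mem (mul_mem (Subgroup.le_normalizer hb) hzB) (inv_mem (Subgroup.le_normalizer hb))

set_option maxHeartbeats 1000000 in
/-- No nontrivial `q`-subgroup, `q ∣ |B|`, is normalised by a central element of `A`. -/
theorem not_normalizes (h : WHyp A B) {s q : ℕ} [Fact q.Prime] {z : G} (hz : Zel A s z)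
    {W : Subgroup G} (hW : IsPGroup q W) (hWb : W ≠ ⊥) (hqB : q ∣ Nat.card B)
    (hzW : z ∈ Subgroup.normalizer (W : Set G)) : False := by
  haveI := Fact.mk hz.2.1
  obtain ⟨t, ht, htB, htq⟩ := h.twoB q
  haveI := Fact.mk ht
  obtain ⟨Q, hQ, hQn, k, hk⟩ := h.exists_conj_centralizing (Ne.symm htq) hqB hW htB
  have hWt : W ≠ ⊤ := by
    intro e
    obtain ⟨r, hr, hrA, -⟩ := h.twoA 0
    obtain ⟨n, hn⟩ := IsPGroup.iff_card.1 hW
    have h1 : r ∣ q ^ n := by
      rw [← hn, e, Subgroup.card_top]; exact hrA.trans (Subgroup.card_subgroup_dvd_card A)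
    rw [(Nat.prime_dvd_prime_iff_eq hr (Fact.out : q.Prime)).1 (hr.dvd_of_dvd_pow h1)] at hrA
    exact h.symm.not_dvd Fact.out hqB hrA
  have hNW := h.normalizer_ne_top hWb hWt
  set A0 := Subgroup.zpowers z
  have hA0 : A ≤ Subgroup.normalizer (A0 : Set G) := by
    refine le_trans ?_ (Subgroup.centralizer_le_normalizer _)
    intro a ha
    rw [Subgroup.mem_centralizer_iff]
    intro y hy
    obtain ⟨i, rfl⟩ := Subgroup.mem_zpowers_iff.1 hy
    exact ((show Commute a z from hz.2.2.2 a ha).zpow_right i).eq.symm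
  obtain ⟨u, hu1, hu2⟩ := isFactorization_conj_eq h.fac (le_normalizer_iff_forall_conj_mem.1 hA0)
    (le_normalizer_iff_forall_conj_mem.1 hQn) (S := Subgroup.normalizer (W : Set G)) (g := 1) (k := k)
    (fun x hx => by
      obtain ⟨i, rfl⟩ := Subgroup.mem_zpowers_iff.1 hx
      simpa using zpow_mem hzW i)
    (fun x hx => Subgroup.centralizer_le_normalizer _ (hk x hx))
  set X := A0 ⊔ (Q : Subgroup G)
  have hXt : X ≠ ⊤ := by
    intro e
    have hle : X ≤ MulAut.conj u⁻¹ • Subgroup.normalizer (W : Set G) := sup_le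
      (fun x hx => mem_conj_smul_iff.2 (by simpa using hu1 x hx))
      (fun x hx => mem_conj_smul_iff.2 (by simpa using hu2 x hx))
    rw [e, top_le_iff] at hle
    refine hNW (Subgroup.eq_top_of_card_eq _ ?_)
    rw [← card_conj_smul u⁻¹ (Subgroup.normalizer (W : Set G)), hle, Subgroup.card_top]
  set K := Subgroup.normalizer (X : Set G) with hKd
  have hzX : z ∈ X := Subgroup.mem_sup_left (Subgroup.mem_zpowers z)
  have hKt : K ≠ ⊤ := h.normalizer_ne_top
    (fun e => zel_ne_one hz (Subgroup.mem_bot.1 (e ▸ hzX))) hXt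
  have hKf := isFactorized_normalizer h.fac hA0 hQn
  haveI := h.solv K hKt hKf
  obtain ⟨P, hP, hPn, -, hPm⟩ := h.exists_sylowA (zel_dvd hz)
  have hzP : z ∈ (P : Subgroup G) := hPm z hz.1 1 (by rw [pow_one, ← hz.2.2.1]; exact pow_orderOf_eq_one z)
  have hzK : z ∈ K := Subgroup.le_normalizer hzX
  have hQK : (Q : Subgroup G) ≤ K := le_sup_right.trans Subgroup.le_normalizer
  -- `P ∩ K` is a Sylow subgroup of `K`
  set P' := (P : Subgroup G) ⊓ K with hP'
  have hP'i : ¬ s ∣ P'.relIndex K := by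
    intro hd
    rw [← Subgroup.relIndex_mul_relIndex P' (A ⊓ K) K (inf_le_inf_right K hP) inf_le_right,
      hz.2.1.dvd_mul] at hd
    rcases hd with hd | hd
    · haveI : ((P : Subgroup G).subgroupOf A).Normal :=
        Subgroup.normal_subgroupOf_iff_le_normalizer hP |>.2 hPn
      refine P.not_dvd_index (hd.trans ?_)
      refine dvd_trans ?_ (Subgroup.relIndex_dvd_index_of_le hP)
      have h1 : P'.relIndex (A ⊓ K) = ((P : Subgroup G).subgroupOf A).relIndex (K.subgroupOf A) := by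
        rw [hP', show (P : Subgroup G) ⊓ K = (P : Subgroup G) ⊓ (A ⊓ K) by
          rw [← inf_assoc, inf_eq_left.2 hP], Subgroup.inf_relIndex_right,
          ← Subgroup.relIndex_subgroupOf (inf_le_left : A ⊓ K ≤ A), Subgroup.inf_subgroupOf_left]
      rw [h1]
      exact Subgroup.relIndex_dvd_index_of_normal _ _
    · have hcardK := hKf.toFactorization.card_mul (by
        rw [eq_bot_iff]
        intro x hx
        have := h.disj.le (Subgroup.mem_inf.2 ⟨(Subgroup.mem_inf.1 hx).1, (Subgroup.mem_inf.1 hx).2⟩ :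
          (x : G) ∈ A ⊓ B)
        rw [Subgroup.mem_bot] at this ⊢
        exact Subtype.ext this)
      rw [← Subgroup.inf_subgroupOf_right A K, ← Subgroup.inf_subgroupOf_right B K,
        card_subgroupOf inf_le_right, card_subgroupOf inf_le_right,
        ← relIndex_mul_card (inf_le_right : A ⊓ K ≤ K)] at hcardK
      rw [← Nat.eq_of_mul_eq_mul_left Nat.card_pos hcardK] at hd
      exact h.not_dvd hz.2.1 (zel_dvd hz) (hd.trans (Subgroup.card_dvd_of_le inf_le_left))
  have hnorm : ∀ {H N : Subgroup G}, H ≤ Subgroup.normalizer (N : Set G) →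
      H.subgroupOf K ≤ Subgroup.normalizer ((N.subgroupOf K : Subgroup K) : Set K) := by
    intro H N hHN
    refine le_normalizer_iff_forall_conj_mem.2 fun a ha x hx => ?_
    exact le_normalizer_iff_forall_conj_mem.1 hHN (a : G) ha (x : G) hx
  obtain ⟨n, hn⟩ := IsPGroup.iff_card.1 ((P.2.to_le (inf_le_left : P' ≤ _)) : IsPGroup s P')
  have hPK : (P : Subgroup G).subgroupOf K = P'.subgroupOf K := (Subgroup.inf_subgroupOf_right _ K).symm
  obtain ⟨S, hPS, hQS, -, hSπ⟩ := hall_factor_permutes (A := (P : Subgroup G).subgroupOf K)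
    (B := (Q : Subgroup G).subgroupOf K) hKf.toFactorization (hnorm hPn) (hnorm hQn) (by
      rw [hPK, card_subgroupOf inf_le_right, hn]
      exact (hz.2.1.coprime_iff_not_dvd.2 hP'i).pow_left n) (by
      rw [card_subgroupOf hQK]
      exact (abelian_sylow_coprime Q).coprime_dvd_right (Subgroup.relIndex_dvd_index_of_le hQK))
  haveI : Group.IsSolvable S := inferInstance
  set zK : K := ⟨z, hzK⟩
  have hzS : zK ∈ S := hPS hzP
  -- `O_t(S) = 1`
  have htbot : Cfsg.pCore t S = ⊥ := by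
    by_contra hne
    haveI := pCore_normal S t
    set ι := K.subtype.comp S.subtype with hι
    set Q' := ((Q : Subgroup G).subgroupOf K).subgroupOf S with hQ'
    obtain ⟨R, hR⟩ := ((pCore_isPGroup S t).map ι).exists_le_sylow
    have hTQ : ∀ y : S, y ∈ Cfsg.pCore t S → ι y ∈ (Q : Subgroup G) := by
      intro y hy
      have hQp : IsPGroup t Q' := (Q.2.comap_of_injective K.subtype K.subtype_injective).comap_of_injective
        S.subtype S.subtype_injective
      have hQi : ¬ t ∣ Q'.index := fun hd => Q.not_dvd_index ((hd.trans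
        (Subgroup.relIndex_dvd_index_of_le hQS)).trans (Subgroup.relIndex_dvd_index_of_le hQK))
      have h1 := pgroup_normal_le_sylow (pCore_isPGroup S t) (hQp.toSylow hQi) hy
      exact h1
    obtain ⟨y, hy, hy1⟩ := (Subgroup.bot_or_exists_ne_one _).resolve_left hne
    set T0 := ((Cfsg.pCore t S).map ι).subgroupOf (Q : Subgroup G) with hT0
    have hT0n : T0.Normal := by
      refine ⟨fun x hx c => ?_⟩
      obtain ⟨x', hx', e⟩ := hx
      refine ⟨⟨⟨c, hQK c.2⟩, hQS c.2⟩ * x' * (⟨⟨c, hQK c.2⟩, hQS c.2⟩ : S)⁻¹,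
        Subgroup.Normal.conj_mem inferInstance x' hx' _, ?_⟩
      rw [map_mul, map_mul, map_inv, e]
      rfl
    have hT0b : T0 ≠ ⊥ := fun e => hy1 (by
      have h1 : (⟨ι y, hTQ y hy⟩ : (Q : Subgroup G)) ∈ T0 := Subgroup.mem_map_of_mem ι hy
      rw [e, Subgroup.mem_bot] at h1
      exact Subtype.ext (Subtype.ext (show ((y : K) : G) = 1 from congrArg Subtype.val h1)))
    have hmeet := CfsgLib.Perm.inf_center_ne_bot Q.2 T0 hT0b
    obtain ⟨n', hn'⟩ := IsPGroup.iff_card.1 (Q.2.to_subgroup (T0 ⊓ Subgroup.center (Q : Subgroup G)))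
    have hn0 : n' ≠ 0 := fun e => hmeet (Subgroup.eq_bot_of_card_eq _ (by rw [hn', e, pow_zero]))
    obtain ⟨⟨w, hw⟩, hwo⟩ := exists_prime_orderOf_dvd_card' t ((dvd_pow_self t hn0).trans hn'.symm.dvd)
    obtain ⟨hwT, hwZ⟩ := Subgroup.mem_inf.1 hw
    obtain ⟨Q2, hQ2, -, hQ2c, hQ2m⟩ := h.symm.exists_sylowA (s := t) htB
    rw [Subgroup.orderOf_mk] at hwo
    have hwz : Zel B t (w : G) := by
      refine ⟨hQ w.2, ht, by rw [Subgroup.orderOf_coe]; exact hwo, fun b hb => ?_⟩
      have : B ≤ Subgroup.centralizer ({(w : G)} : Set G) := by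
        refine le_of_forall_prime_power fun r hr _ c hc ⟨j, hj⟩ => ?_
        rw [Subgroup.mem_centralizer_iff]
        rintro v rfl
        by_cases e : r = t
        · subst e
          -- `c` lies in `Q`
          have hcQ : c ∈ (Q : Subgroup G) := by
            have hQQ2 : (Q : Subgroup G) = (Q2 : Subgroup G) := by
              refine (Q.is_maximal' Q2.2 ?_).symm
              intro v hv
              obtain ⟨i, hi⟩ := Q.2 ⟨v, hv⟩
              exact hQ2m v (hQ hv) i (by simpa using congrArg Subtype.val hi)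
            rw [hQQ2]; exact hQ2m c hc j (hj ▸ pow_orderOf_eq_one c)
          exact (congrArg Subtype.val (Subgroup.mem_center_iff.1 hwZ ⟨c, hcQ⟩)).symm
        · have hwQ2 : (w : G) ∈ (Q2 : Subgroup G) := hQ2m _ (hQ w.2) 1 (by
            rw [pow_one]; exact orderOf_dvd_iff_pow_eq_one.1 (dvd_of_eq ((Subgroup.orderOf_coe w).trans hwo)))
          exact Subgroup.mem_centralizer_iff.1 (hQ2c c hc (by
            rw [hj]; exact ((Nat.coprime_primes hr ht).2 e).pow_left j)) _ hwQ2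
      exact (Subgroup.mem_centralizer_iff.1 (this hb) _ rfl).symm
    obtain ⟨w', hw', ew⟩ := hwT
    refine h.zel_not_mem hz (h.symm.isolation hwz ?_)
    have h2 := hTQ _ (Subgroup.Normal.conj_mem inferInstance w' hw' (⟨zK, hzS⟩ : S))
    rw [map_mul, map_mul, map_inv, ew] at h2
    exact hQ h2
  -- the Fitting subgroup of `S` lies in `A`
  have hFS : Cfsg.fittingSubgroup S ≤ ((P : Subgroup G).subgroupOf K).subgroupOf S := by
    refine fittingSubgroup_le_hall ?_ fun r hr hrd => ?_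
    · rw [card_subgroupOf hPS, hPK, card_subgroupOf inf_le_right, hn]
      refine (hz.2.1.coprime_iff_not_dvd.2 fun hd => hP'i ?_).pow_left n
      exact hd.trans (Subgroup.relIndex_dvd_index_of_le (hPK ▸ hPS))
    · haveI := Fact.mk hr
      by_cases hrt : r = t
      · subst hrt; exact htbot
      · by_contra hne
        haveI := pCore_normal S r
        obtain ⟨j, hj⟩ := IsPGroup.iff_card.1 (pCore_isPGroup S r)
        have hj0 : j ≠ 0 := fun e => hne (Subgroup.eq_bot_of_card_eq _ (by rw [hj, e, pow_zero]))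
        rcases hSπ r hr (((dvd_pow_self r hj0).trans hj.symm.dvd).trans
          (Subgroup.card_subgroup_dvd_card _)) with h1 | h1
        · rw [card_subgroupOf hPS] at hrd
          exact hrd h1
        · rw [card_subgroupOf hQK] at h1
          obtain ⟨i, hi⟩ := IsPGroup.iff_card.1 Q.2
          rw [hi] at h1
          exact hrt ((Nat.prime_dvd_prime_iff_eq hr ht).1 (hr.dvd_of_dvd_pow h1))
  have hzF : (⟨zK, hzS⟩ : S) ∈ Cfsg.fittingSubgroup S := by
    refine centralizer_fittingSubgroup_le (Subgroup.mem_centralizer_iff.2 fun y hy => ?_)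
    exact Subtype.ext (Subtype.ext (hz.2.2.2 ((y : K) : G) (hP (hFS hy))))
  -- hence `Q` normalises `A`
  refine h.sylow_pair_false (zel_dvd hz) htB hP hPn hQ hQn h.normA_ne_top (g := 1) (k := 1)
    (fun x hx => by simpa using Subgroup.le_normalizer (hP hx)) fun x hx => ?_
  have hconj : (x : G) * z * x⁻¹ ∈ A := hP (hFS
    ((fittingSubgroup_normal S).conj_mem _ hzF (⟨⟨x, hQK hx⟩, hQS hx⟩ : S)))
  simpa using h.isolation hz hconj

/-- A normal `π'`-subgroup of a subgroup containing a central element of `A` is trivial. -/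
theorem normal_coprime_eq_bot (h : WHyp A B) {s : ℕ} {z : G} (hz : Zel A s z) {H : Subgroup G}
    (hzH : z ∈ H) (N : Subgroup H) [hN : N.Normal] (hco : (Nat.card N).Coprime (Nat.card A)) :
    N = ⊥ := by
  by_contra hne
  have hc1 : Nat.card N ≠ 1 := fun e => hne (Subgroup.eq_bot_of_card_eq _ e)
  obtain ⟨q, hq, hqd⟩ := Nat.exists_prime_and_dvd hc1
  haveI := Fact.mk hq
  -- `N` lies in a conjugate of `B`, hence is nilpotent
  obtain ⟨g, hg⟩ := h.le_conj_B (W := N.map H.subtype) (by rwa [card_map_subtype])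
  let φ : N →* B :=
    { toFun := fun n => ⟨g * ((n : H) : G) * g⁻¹, hg _ (Subgroup.mem_map_of_mem _ n.2)⟩
      map_one' := Subtype.ext (by simp)
      map_mul' := fun m n => Subtype.ext (by simp [mul_assoc]) }
  have hφ : Function.Injective φ := fun m n e => by
    have h1 : g * ((m : H) : G) * g⁻¹ = g * ((n : H) : G) * g⁻¹ := congrArg Subtype.val e
    exact Subtype.ext (Subtype.ext (mul_left_cancel (mul_right_cancel h1)))
  haveI : Group.IsNilpotent N :=
    haveI := h.nilB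
    Group.nilpotent_of_mulEquiv (MonoidHom.ofInjective hφ).symm
  let R : Sylow q N := default
  haveI := R.characteristic_of_normal inferInstance
  haveI hRn : ((R : Subgroup N).map N.subtype).Normal := normal_map_subtype_of_characteristic _
  set W := ((R : Subgroup N).map N.subtype).map H.subtype
  have hqB : q ∣ Nat.card B := by
    have h1 : q ∣ Nat.card A * Nat.card B := (h.fac.card_mul h.disj).symm ▸
      (hqd.trans (Subgroup.card_subgroup_dvd_card N)).trans (Subgroup.card_subgroup_dvd_card H)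
    exact (hq.dvd_mul.1 h1).resolve_left fun h2 => hq.ne_one (Nat.eq_one_of_dvd_coprimes hco hqd h2)
  refine h.not_normalizes hz ((R.2.map N.subtype).map H.subtype) (fun e => ?_) hqB
    (Subgroup.le_normalizer_map H.subtype ⟨⟨z, hzH⟩, ?_, rfl⟩)
  · rw [Subgroup.map_eq_bot_iff_of_injective _ H.subtype_injective,
      Subgroup.map_eq_bot_iff_of_injective _ N.subtype_injective] at e
    exact R.ne_bot_of_dvd_card hqd e
  · rw [Subgroup.normalizer_eq_top_iff.2 hRn]
    trivial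

theorem centralizer_hall (h : WHyp A B) {x : G} (hx : x ∈ A) {u : ℕ} (hu : u.Prime)
    (huA : u ∣ Nat.card A) :
    ¬ u ∣ (A ⊓ Subgroup.centralizer ({x} : Set G)).relIndex (Subgroup.centralizer ({x} : Set G)) := by
  haveI := Fact.mk hu
  set C := Subgroup.centralizer ({x} : Set G)
  obtain ⟨z, hz⟩ := h.exists_zel huA
  have hzC : z ∈ C := by
    rw [Subgroup.mem_centralizer_iff]
    rintro y rfl
    exact hz.2.2.2 y hx
  have hX : IsPGroup u (Subgroup.zpowers (⟨z, hzC⟩ : C)) :=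
    IsPGroup.of_card (n := 1) (by rw [Nat.card_zpowers, Subgroup.orderOf_mk, hz.2.2.1, pow_one])
  obtain ⟨U, hU⟩ := hX.exists_le_sylow
  obtain ⟨P, hP, -, -, -⟩ := h.exists_sylowA huA
  obtain ⟨S, hS⟩ := (U.2.map C.subtype).exists_le_sylow
  obtain ⟨g, hg⟩ := MulAction.exists_smul_eq G P S
  have hmemS : ∀ y ∈ (S : Subgroup G), g⁻¹ * y * g ∈ A := fun y hy => by
    rw [← hg, Sylow.coe_subgroup_smul, mem_conj_smul_iff] at hy
    exact hP hy
  have hgM : g⁻¹ ∈ Subgroup.normalizer (A : Set G) := h.isolation hz (by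
    rw [inv_inv]
    exact hmemS z (hS ⟨⟨z, hzC⟩, hU (Subgroup.mem_zpowers _), rfl⟩))
  intro hd
  refine U.not_dvd_index (hd.trans ?_)
  refine Subgroup.index_dvd_of_le fun y hy => ?_
  rw [Subgroup.mem_subgroupOf, Subgroup.mem_inf]
  refine ⟨?_, y.2⟩
  have h1 := le_normalizer_iff_forall_conj_mem.1 le_rfl _ (inv_mem hgM) _
    (hmemS y (hS (Subgroup.mem_map_of_mem _ hy)))
  simpa [mul_assoc] using h1

theorem centralizer_hall_coprime (h : WHyp A B) {x : G} (hx : x ∈ A) :
    (Nat.card (A.subgroupOf (Subgroup.centralizer ({x} : Set G)))).Coprime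
      (A.subgroupOf (Subgroup.centralizer ({x} : Set G))).index ∧
    (A.subgroupOf (Subgroup.centralizer ({x} : Set G))).index.Coprime (Nat.card A) := by
  set C := Subgroup.centralizer ({x} : Set G)
  have h2 : (A.subgroupOf C).index.Coprime (Nat.card A) := Nat.coprime_of_dvd fun u hu h1 huA =>
    h.centralizer_hall hx hu huA (by
      rw [Subgroup.inf_relIndex_right]; exact h1)
  refine ⟨(h2.coprime_dvd_right ?_).symm, h2⟩
  rw [← Subgroup.inf_subgroupOf_right A C, card_subgroupOf inf_le_right]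
  exact Subgroup.card_dvd_of_le inf_le_left

theorem subgroupOf_nilpotent (h : WHyp A B) (C : Subgroup G) : Group.IsNilpotent (A.subgroupOf C) := by
  haveI := h.nilA
  let φ : A.subgroupOf C →* A :=
    { toFun := fun n => ⟨((n : C) : G), n.2⟩
      map_one' := rfl
      map_mul' := fun _ _ => rfl }
  exact Group.nilpotent_of_mulEquiv (MonoidHom.ofInjective (f := φ) fun m n e =>
    Subtype.ext (Subtype.ext (congrArg Subtype.val e : _))).symm

theorem centralizer_le_of_pi (h : WHyp A B) {x : G} (hx : x ∈ A)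
    (hpi : Subgroup.centralizer ({x} : Set G) ⊓ Subgroup.normalizer (A : Set G) ≤ A) :
    Subgroup.centralizer ({x} : Set G) ≤ A := by
  set C := Subgroup.centralizer ({x} : Set G)
  set H := A.subgroupOf C with hH
  haveI hHn : Group.IsNilpotent H := h.subgroupOf_nilpotent C
  have hzel : ∀ {u : ℕ} {z : G}, Zel A u z → ∃ hzC : z ∈ C, (⟨z, hzC⟩ : C) ∈ H := fun {u z} hz =>
    ⟨Subgroup.mem_centralizer_iff.2 (by rintro y rfl; exact hz.2.2.2 y hx), hz.1⟩
  obtain ⟨N, hN, hNH⟩ := exists_normal_complement_of_selfNormalizing H (fun p hp P e => by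
    haveI := Fact.mk hp
    obtain ⟨r, hr, hrA, hrp⟩ := h.twoA p
    haveI := Fact.mk hr
    obtain ⟨z, hz⟩ := h.exists_zel hrA
    obtain ⟨hzC, hzH⟩ := hzel hz
    rw [← e] at hzH
    obtain ⟨k, hk⟩ := P.2 ⟨_, hzH⟩
    have h1 : z ^ p ^ k = 1 := by
      simpa using congrArg (fun y : (P : Subgroup C) => ((y : C) : G)) hk
    refine hr.ne_one (Nat.eq_one_of_dvd_coprimes (((Nat.coprime_primes hr hp).2 hrp).pow_right k)
      dvd_rfl ?_)
    have h2 := orderOf_dvd_of_pow_eq_one h1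
    rwa [hz.2.2.1] at h2) (fun p hp hpd P => by
    haveI := Fact.mk hp
    have hpA : p ∣ Nat.card A := hpd.trans (by
      rw [hH, ← Subgroup.inf_subgroupOf_right A C, card_subgroupOf inf_le_right]
      exact Subgroup.card_dvd_of_le inf_le_left)
    obtain ⟨z, hz⟩ := h.exists_zel hpA
    obtain ⟨hzC, hzH⟩ := hzel hz
    haveI hPn : (P : Subgroup H).Normal := inferInstance
    haveI := P.unique_of_normal hPn
    have hX : IsPGroup p (Subgroup.zpowers (⟨_, hzH⟩ : H)) :=
      IsPGroup.of_card (n := 1) (by rw [Nat.card_zpowers, Subgroup.orderOf_mk, Subgroup.orderOf_mk, hz.2.2.1, pow_one])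
    obtain ⟨R, hR⟩ := hX.exists_le_sylow
    rw [Subsingleton.elim R P] at hR
    refine le_antisymm (fun c hc => ?_) fun c hc => Subgroup.le_normalizer_map H.subtype
      ⟨⟨c, hc⟩, by rw [Subgroup.normalizer_eq_top_iff.2 hPn]; trivial, rfl⟩
    obtain ⟨w, hw, e⟩ := le_normalizer_iff_forall_conj_mem.1 le_rfl c hc _
      (Subgroup.mem_map_of_mem H.subtype (hR (Subgroup.mem_zpowers _)))
    have h1 : (c : G) * z * (c : G)⁻¹ ∈ A := by
      have h2 : ((w : C) : G) = (c : G) * z * (c : G)⁻¹ := congrArg Subtype.val e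
      rw [← h2]
      exact w.2
    exact hpi (Subgroup.mem_inf.2 ⟨c.2, h.isolation hz h1⟩))
  obtain ⟨s, hs, hsA, -⟩ := h.twoA 0
  haveI := Fact.mk hs
  obtain ⟨z, hz⟩ := h.exists_zel hsA
  obtain ⟨hzC, -⟩ := hzel hz
  haveI := hN
  have hNb := h.normal_coprime_eq_bot hz hzC N (by
    rw [← hNH.index_eq_card]
    exact (h.centralizer_hall_coprime hx).2)
  have htop := hNH.sup_eq_top
  rw [hNb, bot_sup_eq] at htop
  exact fun c hc => (htop.ge (Subgroup.mem_top (⟨c, hc⟩ : C)) :)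

theorem centralizer_le_of_mem_inter (h : WHyp A B) {x : G} (hx : x ∈ A) (hx1 : x ≠ 1)
    (hxB : x ∈ Subgroup.normalizer (B : Set G)) :
    Subgroup.centralizer ({x} : Set G) ≤ Subgroup.normalizer (A : Set G) := by
  set C := Subgroup.centralizer ({x} : Set G)
  have hfac : IsFactorized A B C := by
    intro g hg
    obtain ⟨a, ha, b, hb, rfl⟩ := h.fac g
    have h0 : x * (a * b) = a * b * x := Subgroup.mem_centralizer_iff.1 hg x rfl
    have h1 : b * x * b⁻¹ = a⁻¹ * x * a := by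
      calc b * x * b⁻¹ = a⁻¹ * (a * b * x) * b⁻¹ := by group
        _ = a⁻¹ * (x * (a * b)) * b⁻¹ := by rw [h0]
        _ = a⁻¹ * x * a := by group
    have h2 : b * x * b⁻¹ * x⁻¹ = 1 := by
      have hA' : b * x * b⁻¹ * x⁻¹ ∈ A := by
        rw [h1]; exact mul_mem (mul_mem (mul_mem (inv_mem ha) hx) ha) (inv_mem hx)
      have hB' : b * x * b⁻¹ * x⁻¹ ∈ B := by
        rw [show b * x * b⁻¹ * x⁻¹ = b * (x * b⁻¹ * x⁻¹) by group]
        exact mul_mem hb (le_normalizer_iff_forall_conj_mem.1 le_rfl x hxB _ (inv_mem hb))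
      exact Subgroup.mem_bot.1 (h.disj.le (Subgroup.mem_inf.2 ⟨hA', hB'⟩))
    have h3 : b ∈ C := by
      rw [Subgroup.mem_centralizer_iff]
      rintro y rfl
      rw [mul_inv_eq_one] at h2
      calc y * b = (b * y * b⁻¹) * b := by rw [h2]
        _ = b * y := by group
    refine ⟨a, Subgroup.mem_inf.2 ⟨ha, ?_⟩, b, Subgroup.mem_inf.2 ⟨hb, h3⟩, rfl⟩
    simpa using mul_mem hg (inv_mem h3)
  haveI := h.solv C (h.centralizer_ne_top hx1) hfac
  obtain ⟨s, hs, hsA, -⟩ := h.twoA 0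
  haveI := Fact.mk hs
  obtain ⟨z, hz⟩ := h.exists_zel hsA
  have hzC : z ∈ C := Subgroup.mem_centralizer_iff.2 (by rintro y rfl; exact hz.2.2.2 y hx)
  obtain ⟨hh1, hh2⟩ := h.centralizer_hall_coprime hx
  have hF : Cfsg.fittingSubgroup C ≤ A.subgroupOf C := fittingSubgroup_le_hall hh1 fun q hq hqd => by
    haveI := Fact.mk hq
    haveI := pCore_normal C q
    obtain ⟨j, hj⟩ := IsPGroup.iff_card.1 (pCore_isPGroup C q)
    by_cases hqA : q ∣ Nat.card A
    · refine Subgroup.eq_bot_of_card_eq _ ?_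
      rw [hj]
      by_contra hne
      have hj0 : j ≠ 0 := fun e => hne (by rw [e, pow_zero])
      have h1 : q ∣ Nat.card (A.subgroupOf C) * (A.subgroupOf C).index := by
        rw [Subgroup.card_mul_index]
        exact ((dvd_pow_self q hj0).trans hj.symm.dvd).trans (Subgroup.card_subgroup_dvd_card _)
      rcases hq.dvd_mul.1 h1 with h2 | h2
      · exact hqd h2
      · exact hq.ne_one (Nat.eq_one_of_dvd_coprimes hh2 h2 hqA)
    · exact h.normal_coprime_eq_bot hz hzC _ (by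
        rw [hj]; exact (hq.coprime_iff_not_dvd.2 hqA).pow_left j)
  have hzF : (⟨z, hzC⟩ : C) ∈ Cfsg.fittingSubgroup C :=
    centralizer_fittingSubgroup_le (Subgroup.mem_centralizer_iff.2 fun y hy =>
      Subtype.ext (hz.2.2.2 (y : G) (hF hy)))
  exact fun c hc => h.isolation hz
    (hF ((fittingSubgroup_normal C).conj_mem _ hzF ⟨c, hc⟩) :)

theorem centralizer_le_normalizer (h : WHyp A B) {x : G} (hx : x ∈ A) (hx1 : x ≠ 1) :
    Subgroup.centralizer ({x} : Set G) ≤ Subgroup.normalizer (A : Set G) := by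
  by_cases hpi : Subgroup.centralizer ({x} : Set G) ⊓ Subgroup.normalizer (A : Set G) ≤ A
  · exact (h.centralizer_le_of_pi hx hpi).trans Subgroup.le_normalizer
  obtain ⟨g, hg, hgA⟩ := SetLike.not_le_iff_exists.1 hpi
  obtain ⟨hgC, hgM⟩ := Subgroup.mem_inf.1 hg
  set e := g ^ Nat.card A with he
  have he1 : e ≠ 1 := fun e1 => hgA (h.mem_of_normalizer hgM
    (h.cop.coprime_dvd_left (orderOf_dvd_of_pow_eq_one e1)))
  have heb : orderOf e ∣ Nat.card B := orderOf_dvd_of_pow_eq_one (by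
    rw [he, ← pow_mul, h.fac.card_mul h.disj, pow_card_eq_one'])
  obtain ⟨k, hk⟩ := h.le_conj_B (W := Subgroup.zpowers e) (by
    rw [Nat.card_zpowers]; exact h.cop.symm.coprime_dvd_left heb)
  obtain ⟨b, hb, a, ha, rfl⟩ := h.symm.fac k
  have heB : a * e * a⁻¹ ∈ B := by
    have h1 := mul_mem (mul_mem (inv_mem hb) (hk e (Subgroup.mem_zpowers e))) hb
    simpa [mul_assoc] using h1
  have haM : a ∈ Subgroup.normalizer (A : Set G) := Subgroup.le_normalizer ha
  have he' : a * e * a⁻¹ ≠ 1 := fun e' => he1 (by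
    rw [mul_inv_eq_one] at e'
    simpa using e')
  set x' := a * x * a⁻¹
  have hx' : x' ∈ A := mul_mem (mul_mem ha hx) (inv_mem ha)
  have hx1' : x' ≠ 1 := fun e' => hx1 (by
    have : x' = a * x * a⁻¹ := rfl
    rw [e', eq_comm, mul_inv_eq_one] at this
    simpa using this)
  have hcomm : x' ∈ Subgroup.centralizer ({a * e * a⁻¹} : Set G) := by
    rw [Subgroup.mem_centralizer_iff]
    rintro y rfl
    have h1 : Commute x g := Subgroup.mem_centralizer_iff.1 hgC x rfl
    have h2 : e * x = x * e := (h1.pow_right (Nat.card A)).eq.symm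
    calc a * e * a⁻¹ * (a * x * a⁻¹) = a * (e * x) * a⁻¹ := by group
      _ = a * (x * e) * a⁻¹ := by rw [h2]
      _ = a * x * a⁻¹ * (a * e * a⁻¹) := by group
  have hxB := h.symm.centralizer_le_of_mem_inter heB he'
    (mul_mem (mul_mem haM (pow_mem hgM _)) (inv_mem haM)) hcomm
  intro c hc
  have h4 : a * c * a⁻¹ ∈ Subgroup.centralizer ({x'} : Set G) := by
    rw [Subgroup.mem_centralizer_iff]
    rintro y rfl
    have h2 : x * c = c * x := Subgroup.mem_centralizer_iff.1 hc x rfl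
    calc a * x * a⁻¹ * (a * c * a⁻¹) = a * (x * c) * a⁻¹ := by group
      _ = a * (c * x) * a⁻¹ := by rw [h2]
      _ = a * c * a⁻¹ * (a * x * a⁻¹) := by group
  have h5 := mul_mem (mul_mem (inv_mem haM) (h.centralizer_le_of_mem_inter hx' hx1' hxB h4)) haM
  simpa [mul_assoc] using h5

/-- `A` is a TI set with normalizer `N(A)`. -/
theorem ti (h : WHyp A B) {x g : G} (hx : x ∈ A) (hx1 : x ≠ 1) (hg : g * x * g⁻¹ ∈ A) :
    g ∈ Subgroup.normalizer (A : Set G) := by
  obtain ⟨s, hs, hsA, -⟩ := h.twoA 0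
  haveI := Fact.mk hs
  obtain ⟨z, hz⟩ := h.exists_zel hsA
  refine h.isolation hz (h.conjA_mem hz.1 (h.centralizer_le_normalizer hg ?_ ?_))
  · intro e
    rw [mul_inv_eq_one] at e
    exact hx1 (by simpa using e)
  · rw [Subgroup.mem_centralizer_iff]
    rintro y rfl
    have h2 : x * z = z * x := hz.2.2.2 x hx
    calc g * x * g⁻¹ * (g * z * g⁻¹) = g * (x * z) * g⁻¹ := by group
      _ = g * (z * x) * g⁻¹ := by rw [h2]
      _ = g * z * g⁻¹ * (g * x * g⁻¹) := by group

theorem index_normalizer_mul (h : WHyp A B) :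
    (Subgroup.normalizer (A : Set G)).index * Nat.card (B ⊓ Subgroup.normalizer (A : Set G) : Subgroup G) =
      Nat.card B := by
  set M := Subgroup.normalizer (A : Set G)
  have hc := (isFactorized_of_le h.fac (Subgroup.le_normalizer : A ≤ M)).toFactorization.card_mul (by
    rw [eq_bot_iff]
    intro x hx
    have := h.disj.le (Subgroup.mem_inf.2 ⟨(Subgroup.mem_inf.1 hx).1, (Subgroup.mem_inf.1 hx).2⟩ :
      (x : G) ∈ A ⊓ B)
    rw [Subgroup.mem_bot] at this ⊢
    exact Subtype.ext this)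
  rw [card_subgroupOf Subgroup.le_normalizer, ← Subgroup.inf_subgroupOf_right B M,
    card_subgroupOf inf_le_right] at hc
  refine Nat.eq_of_mul_eq_mul_left (Nat.card_pos (α := A)) ?_
  rw [h.fac.card_mul h.disj, ← Subgroup.card_mul_index M, ← hc]
  ring

theorem commute_of_inter (h : WHyp A B) {x y : G} (hxA : x ∈ A)
    (hxB : x ∈ Subgroup.normalizer (B : Set G)) (hyB : y ∈ B)
    (hyA : y ∈ Subgroup.normalizer (A : Set G)) : Commute x y := by
  have h1 : x * y * x⁻¹ * y⁻¹ ∈ A ⊓ B := by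
    refine Subgroup.mem_inf.2 ⟨?_, mul_mem (le_normalizer_iff_forall_conj_mem.1 le_rfl x hxB y hyB) (inv_mem hyB)⟩
    rw [show x * y * x⁻¹ * y⁻¹ = x * (y * x⁻¹ * y⁻¹) by group]
    exact mul_mem hxA (le_normalizer_iff_forall_conj_mem.1 le_rfl y hyA _ (inv_mem hxA))
  rw [h.disj, Subgroup.mem_bot] at h1
  show x * y = y * x
  calc x * y = (x * y * x⁻¹ * y⁻¹) * (y * x) := by group
    _ = y * x := by rw [h1, one_mul]

theorem card_inter (h : WHyp A B) :
    (Subgroup.normalizer (A : Set G) ⊓ Subgroup.normalizer (B : Set G)).index *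
      (Nat.card (A ⊓ Subgroup.normalizer (B : Set G) : Subgroup G) *
        Nat.card (B ⊓ Subgroup.normalizer (A : Set G) : Subgroup G)) =
      Nat.card A * Nat.card B := by
  set M := Subgroup.normalizer (A : Set G)
  set M' := Subgroup.normalizer (B : Set G)
  have hf : IsFactorized A B (M ⊓ M') := by
    intro g hg
    obtain ⟨hgM, hgM'⟩ := Subgroup.mem_inf.1 hg
    obtain ⟨a, ha, b, hb, rfl⟩ := h.fac g
    have hbM : b ∈ M := by simpa using mul_mem (inv_mem (Subgroup.le_normalizer ha)) hgM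
    have haM' : a ∈ M' := by simpa using mul_mem hgM' (inv_mem (Subgroup.le_normalizer hb))
    exact ⟨a, Subgroup.mem_inf.2 ⟨ha, Subgroup.mem_inf.2 ⟨Subgroup.le_normalizer ha, haM'⟩⟩, b,
      Subgroup.mem_inf.2 ⟨hb, Subgroup.mem_inf.2 ⟨hbM, Subgroup.le_normalizer hb⟩⟩, rfl⟩
  have hc := hf.toFactorization.card_mul (by
    rw [eq_bot_iff]
    intro x hx
    have := h.disj.le (Subgroup.mem_inf.2 ⟨(Subgroup.mem_inf.1 hx).1, (Subgroup.mem_inf.1 hx).2⟩ :
      (x : G) ∈ A ⊓ B)
    rw [Subgroup.mem_bot] at this ⊢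
    exact Subtype.ext this)
  rw [← Subgroup.inf_subgroupOf_right A, ← Subgroup.inf_subgroupOf_right B,
    card_subgroupOf inf_le_right, card_subgroupOf inf_le_right,
    show A ⊓ (M ⊓ M') = A ⊓ M' by rw [← inf_assoc, inf_eq_left.2 (Subgroup.le_normalizer : A ≤ M)],
    show B ⊓ (M ⊓ M') = B ⊓ M by
      rw [inf_comm M M', ← inf_assoc, inf_eq_left.2 (Subgroup.le_normalizer : B ≤ M')]] at hc
  rw [hc, mul_comm, Subgroup.card_mul_index, h.fac.card_mul h.disj]

theorem inter_lt (h : WHyp A B) :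
    Nat.card (A ⊓ Subgroup.normalizer (B : Set G) : Subgroup G) < Nat.card A := by
  by_contra hc
  have e := Subgroup.eq_of_le_of_card_ge (inf_le_left : A ⊓ Subgroup.normalizer (B : Set G) ≤ A)
    (not_lt.1 hc)
  obtain ⟨s, hs, hsA, -⟩ := h.twoA 0
  haveI := Fact.mk hs
  obtain ⟨z, hz⟩ := h.exists_zel hsA
  exact h.zel_not_mem hz (Subgroup.mem_inf.1 (e.ge hz.1)).2

theorem card_ne_one_subtype {α : Type*} [Finite α] [One α] :
    Nat.card {x : α // x ≠ 1} = Nat.card α - 1 := by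
  classical
  haveI := Fintype.ofFinite α
  rw [Nat.card_eq_fintype_card, Nat.card_eq_fintype_card, Fintype.card_subtype_compl,
    Fintype.card_subtype_eq]

theorem false (h : WHyp A B) : False := by
  classical
  set M := Subgroup.normalizer (A : Set G) with hMd
  set M' := Subgroup.normalizer (B : Set G) with hMd'
  set X := A ⊓ M' with hXd
  set Y := B ⊓ M with hYd
  let TA := (G ⧸ M) × {a : A // a ≠ 1}
  let TB := (G ⧸ M') × {b : B // b ≠ 1}
  let TC := (G ⧸ (M ⊓ M')) × ({x : X // x ≠ 1} × {y : Y // y ≠ 1})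
  let fA : TA → G := fun p => p.1.out * (p.2.1 : G) * p.1.out⁻¹
  let fB : TB → G := fun p => p.1.out * (p.2.1 : G) * p.1.out⁻¹
  let fC : TC → G := fun p => p.1.out * ((p.2.1.1 : G) * (p.2.2.1 : G)) * p.1.out⁻¹
  have hconj : ∀ g y : G, orderOf (g * y * g⁻¹) = orderOf y := fun g y => by
    rw [← MulAut.conj_apply, MulEquiv.orderOf_eq]
  have hoA : ∀ p, orderOf (fA p) ∣ Nat.card A := fun p => by
    rw [hconj]; exact Subgroup.orderOf_dvd_natCard A p.2.1.2
  have hoB : ∀ p, orderOf (fB p) ∣ Nat.card B := fun p => by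
    rw [hconj]; exact Subgroup.orderOf_dvd_natCard B p.2.1.2
  have hXY : ∀ (x : X) (y : Y), Commute (x : G) (y : G) := fun x y =>
    h.commute_of_inter (Subgroup.mem_inf.1 x.2).1 (Subgroup.mem_inf.1 x.2).2
      (Subgroup.mem_inf.1 y.2).1 (Subgroup.mem_inf.1 y.2).2
  have hoC : ∀ (x : X) (y : Y), orderOf ((x : G) * (y : G)) = orderOf (x : G) * orderOf (y : G) :=
    fun x y => (hXY x y).orderOf_mul_eq_mul_orderOf_of_coprime
      ((h.cop.coprime_dvd_left (Subgroup.orderOf_dvd_natCard A (Subgroup.mem_inf.1 x.2).1)).coprime_dvd_right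
        (Subgroup.orderOf_dvd_natCard B (Subgroup.mem_inf.1 y.2).1))
  have hA1 : ∀ a : {a : A // a ≠ 1}, (a.1 : G) ≠ 1 := fun a e => a.2 (Subtype.ext e)
  have hB1 : ∀ b : {b : B // b ≠ 1}, (b.1 : G) ≠ 1 := fun b e => b.2 (Subtype.ext e)
  have hne : ∀ {g y : G}, y ≠ 1 → g * y * g⁻¹ ≠ 1 := fun {g y} hy e => hy (by
    rw [mul_inv_eq_one] at e; simpa using e)
  have hC1 : ∀ p, fC p ≠ 1 := fun p => hne fun e => by
    have h1 := hoC p.2.1.1 p.2.2.1
    rw [e, orderOf_one] at h1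
    exact p.2.1.2 (Subtype.ext (orderOf_eq_one_iff.1 (mul_eq_one.1 h1.symm).1))
  let f : TA ⊕ TB ⊕ TC → {g : G // g ≠ 1} := fun t => match t with
    | Sum.inl p => ⟨fA p, hne (hA1 p.2)⟩
    | Sum.inr (Sum.inl p) => ⟨fB p, hne (hB1 p.2)⟩
    | Sum.inr (Sum.inr p) => ⟨fC p, hC1 p⟩
  have hmove : ∀ {g k x x' : G}, g * x * g⁻¹ = k * x' * k⁻¹ → (k⁻¹ * g) * x * (k⁻¹ * g)⁻¹ = x' := by
    intro g k x x' e
    calc (k⁻¹ * g) * x * (k⁻¹ * g)⁻¹ = k⁻¹ * (g * x * g⁻¹) * k := by group
      _ = x' := by rw [e]; group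
  have hinjA : Function.Injective fA := by
    rintro ⟨q, a⟩ ⟨q', a'⟩ e
    have e' : q.out * (a.1 : G) * q.out⁻¹ = q'.out * (a'.1 : G) * q'.out⁻¹ := e
    have hq : q = q' := by
      rw [← QuotientGroup.out_eq' q, ← QuotientGroup.out_eq' q', QuotientGroup.eq]
      have h1 := h.ti a.1.2 (hA1 a) (g := q'.out⁻¹ * q.out) (by rw [hmove e']; exact a'.1.2)
      have := inv_mem h1
      simpa using this
    subst hq
    exact Prod.ext rfl (Subtype.ext (Subtype.ext (mul_left_cancel (mul_right_cancel e'))))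
  have hinjB : Function.Injective fB := by
    rintro ⟨q, a⟩ ⟨q', a'⟩ e
    have e' : q.out * (a.1 : G) * q.out⁻¹ = q'.out * (a'.1 : G) * q'.out⁻¹ := e
    have hq : q = q' := by
      rw [← QuotientGroup.out_eq' q, ← QuotientGroup.out_eq' q', QuotientGroup.eq]
      have h1 := h.symm.ti a.1.2 (hB1 a) (g := q'.out⁻¹ * q.out) (by rw [hmove e']; exact a'.1.2)
      have := inv_mem h1
      simpa using this
    subst hq
    exact Prod.ext rfl (Subtype.ext (Subtype.ext (mul_left_cancel (mul_right_cancel e'))))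
  have hinjC : Function.Injective fC := by
    rintro ⟨q, x, y⟩ ⟨q', x', y'⟩ e
    have e' : q.out * ((x.1 : G) * y.1) * q.out⁻¹ = q'.out * ((x'.1 : G) * y'.1) * q'.out⁻¹ := e
    have e1 := hmove e'
    set g := q'.out⁻¹ * q.out
    have hxy : g * (x.1 : G) * g⁻¹ = x'.1 ∧ g * (y.1 : G) * g⁻¹ = y'.1 := by
      have hc1 : Commute (g * (x.1 : G) * g⁻¹) (g * (y.1 : G) * g⁻¹) := (hXY x.1 y.1).map (MulAut.conj g).toMonoidHom
      have e2 : (g * (x.1 : G) * g⁻¹) * (g * (y.1 : G) * g⁻¹) = (x'.1 : G) * y'.1 := by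
        rw [← e1]; group
      -- raise to the power `|B|`
      have hpB : ∀ {w : G}, orderOf w ∣ Nat.card B → w ^ Nat.card B = 1 := fun hw =>
        orderOf_dvd_iff_pow_eq_one.1 hw
      have h1 : (g * (x.1 : G) * g⁻¹) ^ Nat.card B = (x'.1 : G) ^ Nat.card B := by
        have h2 := congrArg (· ^ Nat.card B) e2
        simp only [hc1.mul_pow, (hXY x'.1 y'.1).mul_pow] at h2
        rwa [hpB (w := g * (y.1 : G) * g⁻¹)
            (by rw [hconj]; exact Subgroup.orderOf_dvd_natCard B (Subgroup.mem_inf.1 y.1.2).1),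
          hpB (w := (y'.1 : G)) (Subgroup.orderOf_dvd_natCard B (Subgroup.mem_inf.1 y'.1.2).1),
          mul_one, mul_one] at h2
      have hpA : ∀ {w : G}, orderOf w ∣ Nat.card A → w ^ Nat.card A = 1 := fun hw =>
        orderOf_dvd_iff_pow_eq_one.1 hw
      obtain ⟨i, j, hij⟩ : ∃ i j : ℤ, (Nat.card A : ℤ) * i + (Nat.card B : ℤ) * j = 1 :=
        ⟨_, _, ((Nat.gcd_eq_gcd_ab _ _).symm.trans (by rw [h.cop]; rfl))⟩
      have key : ∀ {w : G}, orderOf w ∣ Nat.card A → w = (w ^ Nat.card B) ^ j := fun {w} hw => by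
        calc w = w ^ ((Nat.card A : ℤ) * i + (Nat.card B : ℤ) * j) := by rw [hij, zpow_one]
          _ = (w ^ Nat.card B) ^ j := by
            rw [zpow_add, zpow_mul, zpow_mul, zpow_natCast, hpA hw, one_zpow, one_mul, zpow_natCast]
      have hx : g * (x.1 : G) * g⁻¹ = x'.1 := by
        rw [key (w := g * (x.1 : G) * g⁻¹) (by rw [hconj]; exact Subgroup.orderOf_dvd_natCard A (Subgroup.mem_inf.1 x.1.2).1),
          h1, ← key (Subgroup.orderOf_dvd_natCard A (Subgroup.mem_inf.1 x'.1.2).1)]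
      rw [hx] at e2
      exact ⟨hx, mul_left_cancel e2⟩
    have hg : g ∈ M ⊓ M' := by
      refine Subgroup.mem_inf.2 ⟨h.ti (Subgroup.mem_inf.1 x.1.2).1 (fun e => x.2 (Subtype.ext e))
        (by rw [hxy.1]; exact (Subgroup.mem_inf.1 x'.1.2).1), ?_⟩
      exact h.symm.ti (Subgroup.mem_inf.1 y.1.2).1 (fun e => y.2 (Subtype.ext e))
        (by rw [hxy.2]; exact (Subgroup.mem_inf.1 y'.1.2).1)
    have hq : q = q' := by
      rw [← QuotientGroup.out_eq' q, ← QuotientGroup.out_eq' q', QuotientGroup.eq]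
      have := inv_mem hg
      simpa [g] using this
    subst hq
    have hg1 : g = 1 := inv_mul_cancel _
    rw [hg1, one_mul, inv_one, mul_one, one_mul, mul_one] at hxy
    exact Prod.ext rfl (Prod.ext (Subtype.ext (Subtype.ext hxy.1)) (Subtype.ext (Subtype.ext hxy.2)))
  have hAB : ∀ {u : G}, u ≠ 1 → orderOf u ∣ Nat.card A → orderOf u ∣ Nat.card B → False :=
    fun hu h1 h2 => hu (orderOf_eq_one_iff.1 (Nat.eq_one_of_dvd_coprimes h.cop h1 h2))
  have hCA : ∀ p, ¬ orderOf (fC p) ∣ Nat.card A := fun p hd => by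
    rw [hconj, hoC] at hd
    exact hAB (u := (p.2.2.1 : G)) (fun e => p.2.2.2 (Subtype.ext e)) ((dvd_mul_left _ _).trans hd)
      (Subgroup.orderOf_dvd_natCard B (Subgroup.mem_inf.1 p.2.2.1.2).1)
  have hCB : ∀ p, ¬ orderOf (fC p) ∣ Nat.card B := fun p hd => by
    rw [hconj, hoC] at hd
    exact hAB (u := (p.2.1.1 : G)) (fun e => p.2.1.2 (Subtype.ext e))
      (Subgroup.orderOf_dvd_natCard A (Subgroup.mem_inf.1 p.2.1.1.2).1) ((dvd_mul_right _ _).trans hd)
  have hinj : Function.Injective f := by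
    rintro (p | p | p) (p' | p' | p') e <;> have e' := congrArg Subtype.val e <;>
      simp only [f] at e'
    · rw [hinjA e']
    · exact (hAB (hne (hA1 p.2)) (hoA p) ((dvd_of_eq (congrArg orderOf (e' : fA p = fB p'))).trans (hoB p'))).elim
    · exact (hCA p' (e' ▸ hoA p)).elim
    · exact (hAB (hne (hA1 p'.2)) (hoA p') ((dvd_of_eq (congrArg orderOf (e' : fB p = fA p')).symm).trans (hoB p))).elim
    · rw [hinjB e']
    · exact (hCB p' (e' ▸ hoB p)).elim
    · exact (hCA p (e' ▸ hoA p')).elim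
    · exact (hCB p (e' ▸ hoB p')).elim
    · rw [hinjC e']
  have hcard := Nat.card_le_card_of_injective f hinj
  simp only [TA, TB, TC, Nat.card_sum, Nat.card_prod, card_ne_one_subtype,
    ← Subgroup.index_eq_card] at hcard
  rw [← h.fac.card_mul h.disj] at hcard
  have e1 := h.index_normalizer_mul
  have e2 := h.symm.index_normalizer_mul
  have e3 := h.card_inter
  have e4 := h.inter_lt
  have e5 := h.symm.inter_lt
  rw [← hMd, ← hYd] at e1
  rw [← hMd', ← hXd] at e2
  rw [← hMd, ← hMd', ← hXd, ← hYd] at e3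
  rw [← hMd', ← hXd] at e4
  rw [← hMd, ← hYd] at e5
  have p1 : 0 < Nat.card A := Nat.card_pos
  have p2 : 0 < Nat.card B := Nat.card_pos
  have p3 : 0 < Nat.card X := Nat.card_pos
  have p4 : 0 < Nat.card Y := Nat.card_pos
  have p5 : 1 ≤ Nat.card A * Nat.card B := Nat.mul_pos p1 p2
  zify [p1, p2, p3, p4, p5, Nat.one_le_iff_ne_zero] at hcard
  push_cast [Nat.cast_sub p1, Nat.cast_sub p2, Nat.cast_sub p3, Nat.cast_sub p4, Nat.cast_sub p5] at hcard
  revert hcard e1 e2 e3 e4 e5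
  generalize M.index = iA
  generalize M'.index = iB
  generalize (M ⊓ M').index = iC
  generalize Nat.card A = a
  generalize Nat.card B = b
  generalize hx : Nat.card X = x at p3 ⊢
  generalize hy : Nat.card Y = y at p4 ⊢
  intro e1 e2 e3 e4 e5 hcard
  have E1 : (iA : ℤ) * y = b := by exact_mod_cast e1
  have E2 : (iB : ℤ) * x = a := by exact_mod_cast e2
  have E3 : (iC : ℤ) * (x * y) = a * b := by exact_mod_cast e3
  have hmul := mul_le_mul_of_nonneg_right hcard (show (0 : ℤ) ≤ (x : ℤ) * y by positivity)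
  have h6 : (1 : ℤ) ≤ (a : ℤ) - x := by omega
  have h7 : (1 : ℤ) ≤ (b : ℤ) - y := by omega
  have hid : ((iA : ℤ) * (a - 1) + (iB * (b - 1) + iC * ((x - 1) * (y - 1)))) * (x * y) -
      ((a : ℤ) * b - 1) * (x * y) = ((a : ℤ) - x) * ((b : ℤ) - y) := by
    linear_combination ((x : ℤ) * (a - 1)) * E1 + ((y : ℤ) * (b - 1)) * E2 +
      (((x : ℤ) - 1) * (y - 1)) * E3
  have hpos : (0 : ℤ) < ((a : ℤ) - x) * ((b : ℤ) - y) := mul_pos (by omega) (by omega)
  omega

end WHyp

end CfsgLib.Solv
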